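import Cfsg.Agent.H18.FE8
/-! Critical pairs at distance at least three do not occur; piece `FE`. -/
set_option autoImplicit false
namespace H118
open Cfsg Subgroup H26 H4
open scoped Pointwise commutatorElement

universe u
variable {G : Type*} [Group G]

abbrev Dp (V : Subgroup G) (w x : G) : Subgroup G := Up V w ⊓ (Up V (w * x) ⊔ Up V x)

theorem conj_mem_Dp {V : Subgroup G} {w x u : G} (hu : u ∈ Dp V w x) (g : G) :
    g * u * g⁻¹ ∈ Dp V (g * w * g⁻¹) (g * x * g⁻¹) := by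
  have := conj_mem_cj g hu
  rwa [cj_inf, cj_sup, cj_Up, cj_Up, cj_Up, ← conj_mul] at this

variable [Finite G] {S V K : Subgroup G} {z : G}

namespace Ge
variable (h : Ge S V z) {x y p q a b e e' c s t u v w x1 e1 t1 c1 τ : G} {n : ℕ}
include h

theorem npc1 (P : Pr V n x y a b e e' c) (h1 : Near V (n + 1) x p) (h2 : Col V p y) (r : Tv V y e1 t1 c1)
    (hp : p ∈ Wy V y e1) : Ed V y c := by
  have M := h.mo P.nr.right
  have eH := Mo.eH P.f.tr.toIn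
  rcases M.dich P.f.tr r with k | k
  · exact h.ed_of (P.ed h1 h2).symm ((mul_mem_cancel_right Lp_right).1 (mem_sup_left (M.WZ_inf eH P.f.tr.od
      (mul_mem (mem_sup_left P.f.tr.cW) (k.1.le hp)) (h.ncp P h1 h2)))) (M.c_nZ P.f.tr.toQd)
  · exact absurd (sup_le k.2 (M.Z_le_Ce eH) hp) (h.p_nC P h1)

theorem two' (Q : Cr V n q p) (hu : u ∈ Up V q) (hu' : u ∉ 𝐂 (Up V p)) (h1 : u ∈ K) (h2 : 𝐂 (Up V p) ≤ K) :
    Up V q ≤ K := fun s hs => by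
  obtain ⟨a, _, _, _, _, P⟩ := h.pure Q
  have := (mul_mem_cancel_left h1).1 (h2 ((h.two P hu).resolve_left hu'))
  exact (h.two P hs).elim (fun k => h2 k) fun k => (mul_mem_cancel_right this).1 (h2 k)

section any
variable (P : Pr V n p q a b e e' c) (E : Ed V w x)
include P E

theorem jm (h1 : u ∈ Up V w) (h2 : u ∈ Up V (w * x)) : u ∈ Lp w x :=
  Lp_le Lp_left (mul_mem Lp_left Lp_right) (h.sol4 P (h.ed_mul E) h1 h2)

omit P in
theorem L_le : Lp w x ≤ Up V (w * x) := (h.ln_Lp E).le_Up (mul_mem Lp_left Lp_right)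

theorem dsplit (hu : u ∈ Dp V w x) : ∃ u' ∈ Up V (w * x), ∃ a ∈ Up V x, u' * a = u :=
  (mem_sup_of_le_normalizer ((P.cm1 _ _ (h.ed_cm E ▸ h.ed_mul E.symm).col.symm.near).trans
    (centralizer_le_normalizer _))).1 hu.2

theorem dz (hτ : τ ∈ Tp V x) (k : ⁅τ, w⁆ = 1) (hu : u ∈ Dp V w x) : ⁅τ, u⁆ ∈ Lp w x := by
  obtain ⟨u', h1, a, h2, rfl⟩ := h.dsplit P E hu
  have f1 := conj_eq_of_comm k
  have f2 : τ * (w * x) * τ⁻¹ = w * x := by rw [← conj_mul, f1, conj_eq_of_mem_c (Tp_le_c hτ)]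
  refine h.jm P E (mul_mem (conj_mem_of_mem_normalizer (c_le_n_Up V w (mem_c_of_conj_eq f1)) hu.1) (inv_mem hu.1)) ?_
  rw [comm_mul_right]
  exact mul_mem (mul_mem (conj_mem_of_mem_normalizer (c_le_n_Up V _ (mem_c_of_conj_eq f2)) h1) (inv_mem h1))
    (mul_mem (mul_mem h1 (h.L_le E (mem_sup_right ((mem_Tp.1 hτ).2 a h2)))) (inv_mem h1))

omit P in
theorem sw (k : ⁅τ, w⁆ = x) : τ * w * τ⁻¹ = w * x := by rw [conj_eq_comm, k, h.ed_cm E]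

theorem dq (hτ : τ ∈ Tp V x) (k : ⁅τ, w⁆ = x) (hu : u ∈ Dp V w x) : ⁅τ, u⁆ ∈ Up V x := by
  obtain ⟨u', h1, a, h2, rfl⟩ := h.dsplit P E hu
  have M := h.mo E.col.symm
  have f1 := h.sw E k
  have f2 : τ * (w * x) * τ⁻¹ = w := by
    rw [← conj_mul, f1, conj_eq_of_mem_c (Tp_le_c hτ), mul_assoc, M.sq M.yU, mul_one]
  have m1 := conj_mem_Up hu.1 τ
  have m2 := conj_mem_Up h1 τ
  rw [f1] at m1
  rw [f2] at m2
  have ζ := M.Tc hτ h2
  have e1 : u' * a * (τ * u' * τ⁻¹) = u' * (τ * (u' * a) * τ⁻¹) * ⁅τ, a⁆ := by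
    rw [← conj_mul, conj_eq_comm τ a, mul_assoc u', mul_assoc u', mul_assoc (τ * u' * τ⁻¹), mul_assoc ⁅τ, a⁆,
      M.cm h2 (M.ZU ζ), ← mul_assoc ⁅τ, a⁆, M.sq (M.ZU ζ), one_mul, P.cm1 _ _ E.col.near m2 a h2]
  have m3 := h.jm P E (mul_mem hu.1 m2) (e1 ▸ mul_mem (mul_mem h1 m1) (h.L_le E (mem_sup_right ζ)))
  rw [e1, mul_mem_cancel_right (mem_sup_right ζ)] at m3
  have M' := h.mo (h.ed_mul E).col.symm
  rw [show ⁅τ, u' * a⁆ = τ * (u' * a) * τ⁻¹ * (u' * a)⁻¹ from rfl, (h.mo E.col).inv hu.1, ← mul_assoc, M'.cm m1 h1]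
  exact mul_mem ((h.ln_Lp E).le_Up Lp_right m3) h2

omit P in
theorem dmem (k : ⁅τ, w⁆ = x) (hu : u ∈ Up V w) (h1 : ⁅τ, u⁆ ∈ Up V x) : u ∈ Dp V w x := by
  have m := conj_mem_Up hu τ
  rw [h.sw E k, conj_eq_comm] at m
  exact ⟨hu, (mul_mem_cancel_left (mem_sup_right h1)).1 (mem_sup_left m)⟩

theorem dA (hτ : τ ∈ Tp V x) (hu : u ∈ Dp V w x) : ⁅τ, u⁆ ∈ Up V x :=
  (mem_two (h.pp E.col.symm) ((mem_Tp.1 hτ).2 w E.col.symm.mem)).elim
    (fun k => (h.ln_Lp E).le_Up Lp_right (h.dz P E hτ k hu)) fun k => h.dq P E hτ k hu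

theorem diff (hτ : τ ∈ Tp V x) (hu : u ∈ Dp V w x) (hu' : u ∉ Lp w x) : ⁅τ, u⁆ ∈ Lp w x ↔ ⁅τ, w⁆ = 1 :=
  ⟨fun k => (mem_two (h.pp E.col.symm) ((mem_Tp.1 hτ).2 w E.col.symm.mem)).resolve_right fun j => hu' (h.jm P E hu.1 (by
    have m := conj_mem_Up hu.1 τ
    rwa [h.sw E j, conj_eq_comm, mul_mem_cancel_left (h.L_le E k)] at m)), fun k => h.dz P E hτ k hu⟩

end any

variable (P : Pr V (n + 1) x y a b e e' c)
include P

theorem np (E : Ed V q s) (r : Tv V q e1 t1 c1) : s ∉ Wy V q e1 := fun k => by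
  have key : ∀ {x y a b e e'}, Pr V (n + 1) x y a b e e' c → Ed V y c := fun P => by
    obtain ⟨p, a1, a2⟩ := P.nr.last
    obtain ⟨g, g1, g2⟩ := h.trans3 E (P.ed a1 a2).symm
    have r' := r.conj g
    have m := conj_mem_cj g k
    rw [cj_Wy, g1, g2] at m
    rw [g1] at r'
    exact h.npc1 P a1 a2 r' m
  exact P.nc (P.cm.mono (k := 2) (by omega) _ _ ((key P.symm).col.near.trans (key P).col.symm.near))

theorem np' (E : Ed V q s) (r : Tv V q e1 t1 c1) (hu : u ∈ We (Up V q) e1) (hu' : u ∈ Lp q s) : u = 1 := by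
  by_contra k
  exact h.np P (h.ed_of E hu' fun j => k ((h.mo E.col).WZ_one (Mo.eH r.toIn) r.od hu j)) r (mem_sup_left hu)

theorem exT' (hq : Col V q q) : ∃ e t c, Tv V q e t c := by
  obtain ⟨g, g1⟩ := h.pt hq
  obtain ⟨k, k1⟩ := h.pt P.nr.right
  have := P.f.tr.conj (g * k⁻¹)
  rw [show g * k⁻¹ * y * (g * k⁻¹)⁻¹ = q by rw [← g1, ← k1]; group] at this
  exact ⟨_, _, _, this⟩

theorem npc : False := by
  obtain ⟨p, a1, a2⟩ := P.nr.last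
  obtain ⟨x1, b1, b2⟩ := P.nr.symm.last
  have M := h.mo P.nr.left
  have My := h.mo P.nr.right
  have r := P.f'.tr
  have eH := Mo.eH r.toIn
  have E1 := P.symm.ed b1 b2
  have bC : b ∈ 𝐂 (Up V x1) := P.cm _ _ b1 P.f'.aA
  have bx1 : ⁅b, x1⁆ = 1 := comm_iff.1 bC _ b2.left.mem
  have cA := cA P
  have dA := M.conjU eH cA
  have bH := r.tH
  have bb := inv_eq_of_mul_eq_one_right r.tt
  have hγ := mem_Ce.1 (h.ncp P.symm b1 b2)
  have e1 : e' * x1 * e'⁻¹ = e' * c * e'⁻¹ * (c * x1) := by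
    rw [← hγ.2, conj_mul, ← mul_assoc c c, M.sq cA, one_mul]
  have bw : ⁅b, e' * x1 * e'⁻¹⁆ = c := by
    rw [e1, M.comm_mul bH dA hγ.1, M.comm_mul bH cA b2.symm.mem, M.t_d r.toQd, M.t_c r.toQd, bx1, mul_one, mul_one]
  have f1 : e' * b * e'⁻¹ * (e' * x1 * e'⁻¹) * (e' * b * e'⁻¹)⁻¹ = e' * x1 * e'⁻¹ := by
    rw [conj_eq_comm, ← conj_comm, bx1]; simp
  have f2 : e' * b * e'⁻¹ * (c * (e' * x1 * e'⁻¹)) * (e' * b * e'⁻¹)⁻¹ = x1 := by
    have : c * (e' * x1 * e'⁻¹) = e' * (e' * x1 * e'⁻¹) * e'⁻¹ := by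
      conv_rhs => rw [e1, ← conj_mul, M.cyc eH r.od r.cW r.c1 (M.four r.toQd), hγ.2]
      rw [e1, ← mul_assoc]
    rw [this, show e' * b * e'⁻¹ * (e' * (e' * x1 * e'⁻¹) * e'⁻¹) * (e' * b * e'⁻¹)⁻¹ =
      e' * (⁅b, e' * x1 * e'⁻¹⁆ * (e' * x1 * e'⁻¹)) * e'⁻¹ by group, bw, e1, ← mul_assoc c, ← conj_mul,
      M.cyc' eH r.od r.cW r.c1 (M.four r.toQd), hγ.2, ← mul_assoc, M.sq cA, one_mul]
  have E := E1.conj e'
  rw [conj_eq_of_mem_c eH] at E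
  have βH : e' * b * e'⁻¹ ∈ 𝐂 (zpowers x) := mul_mem (mul_mem eH bH) (inv_mem eH)
  generalize e' * b * e'⁻¹ = β at f1 f2 βH
  generalize e' * x1 * e'⁻¹ = w at bw f1 f2 E
  have f3 : b * w * b⁻¹ = c * w := by rw [conj_eq_comm, bw]
  have fx : ∀ {g}, g ∈ 𝐂 (zpowers x) → g * x * g⁻¹ = x := conj_eq_of_mem_c
  have E2 := E.conj b
  rw [f3, fx bH] at E2
  have wA := E.col.symm.mem
  have cL : ∀ {s}, Ed V s x → c ∉ Lp s x := fun E k => r.c1 (h.np' P E.symm r r.cW (Lp_le Lp_right Lp_left k))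
  have cC : c ∉ Ce (Up V x) e' := fun k => r.c1 (M.disj eH r.od r.cW k)
  obtain ⟨τ, t0, t1, t2⟩ := M.indep r.toIn (mul_mem cA wA) wA (by rwa [mul_assoc, M.sq wA, mul_one]) (h.swap' E2.symm)
  obtain ⟨σ, s0, s1, s2⟩ := M.indep r.toIn wA (mul_mem cA wA) (by rwa [M.cm cA wA, ← mul_assoc, M.sq wA, one_mul])
    (h.swap' E.symm)
  have dd : (∀ u ∈ Dp V w x, ⁅b, u⁆ ∈ Up V x) → Dp V w x ≤ Lp w x := fun hD u hu => by
    by_contra hu'
    have key : ∀ g ∈ 𝐂 (zpowers x), ⁅g, u⁆ ∈ Up V x → ∀ ρ ∈ Tp V x,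
        (⁅ρ, u⁆ ∈ Lp (g * w * g⁻¹) x ↔ ⁅ρ, g * w * g⁻¹⁆ = 1) := fun g hg k ρ hρ => by
      have Eg := E.conj g
      have m := conj_mem_Dp hu g
      rw [fx hg] at Eg m
      rw [← h.diff P Eg hρ m fun j => hu' (by
        rwa [show Lp (g * w * g⁻¹) x = cj g (Lp w x) by rw [cj_Lp, fx hg], conj_mem_cj_iff] at j), conj_eq_comm g u,
        comm_mul_right, M.fixU k (h.dA P E hρ hu), mul_mem_cancel_left (mem_sup_right (M.Tc hρ k))]
    have k1 := fun {ρ} (hρ : ρ ∈ Tp V x) => h.diff P E hρ hu hu'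
    have k2 := key b bH (hD u hu)
    have k3 := key (β * b * β⁻¹) (mul_mem (mul_mem βH bH) (inv_mem βH)) (by
      have m := conj_mem_Dp hu β⁻¹
      rw [show β⁻¹ * w * β⁻¹⁻¹ = w by conv_lhs => rw [← f1]
                                      group, fx (inv_mem βH)] at m
      rw [show ⁅β * b * β⁻¹, u⁆ = β * ⁅b, β⁻¹ * u * β⁻¹⁻¹⁆ * β⁻¹ by group]
      exact M.conjU βH (hD _ m))
    rw [show β * b * β⁻¹ * w * (β * b * β⁻¹)⁻¹ = β * (b * (β⁻¹ * w * β) * b⁻¹) * β⁻¹ by group,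
      show β⁻¹ * w * β = w by conv_lhs => rw [← f1]
                              group, f3, f2] at k3
    rw [f3] at k2
    have L1 : Lp x1 x ≤ 𝐂 (zpowers b) := Lp_le (mem_c_of_conj_eq (conj_eq_of_comm (comm_one_symm bx1)))
      (le_centralizer_iff.1 (zpowers_le.2 bH) (mem_zpowers x))
    have nw : w ∉ Lp x1 x := fun j => r.c1 (bw ▸ comm_one_symm (comm_eq_one_of_conj (conj_eq_of_mem_c (L1 j))))
    have nw2 : c * w ∉ Lp x1 x := fun j => nw (by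
      have := conj_eq_of_comm (comm_one_symm (comm_eq_one_of_conj (conj_eq_of_mem_c (L1 j))))
      rw [← f3, ← bb, inv_inv, bb, show b * (b * w * b) * b = b * b * w * (b * b) by group, r.tt, one_mul, mul_one] at this
      rwa [← f3, bb, ← this] at j)
    have step : ∀ {ρ v v'}, ρ ∈ Tp V x → v ∈ Up V x → v ∉ Lp x1 x → ⁅ρ, u⁆ ∈ Lp v x → ⁅ρ, u⁆ ∉ Lp v' x →
        v * ⁅ρ, u⁆ ∈ zpowers x ∧ ⁅ρ, x1⁆ = x := fun {ρ v v'} hρ hv n1 m1 m2 => by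
      have j := (M.mem_yc hv m1).resolve_left fun j => m2 (mem_sup_right j)
      exact ⟨j, (mem_two (M.sq M.yU) (M.Tc hρ b2.symm.mem)).resolve_left fun i =>
        n1 ((mul_mem_cancel_right ((k3 ρ hρ).2 i)).1 (mem_sup_right j))⟩
    obtain ⟨g1, g2⟩ := step t0 wA nw ((k1 t0).2 t2) fun j => M.y1 (t1 ▸ (k2 τ t0).1 j)
    obtain ⟨g3, g4⟩ := step s0 (mul_mem cA wA) nw2 ((k2 σ s0).2 s2) fun j => M.y1 (s1 ▸ (k1 s0).1 j)
    have := (k3 _ (mul_mem t0 s0)).2 (by rw [comm_mul_left, g2, g4, fx (Tp_le_c t0), M.sq M.yU])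
    rw [comm_mul_left, conj_eq_comm, mul_assoc, mul_mem_cancel_left (mem_sup_right (M.Tc t0 (h.dA P E s0 hu)))] at this
    have g5 := mul_mem (mem_sup_right (S := zpowers x1) g3) (inv_mem (mem_sup_right g1))
    rw [show c * w * ⁅σ, u⁆ * (w * ⁅τ, u⁆)⁻¹ = c * (w * (⁅σ, u⁆ * ⁅τ, u⁆⁻¹) * w⁻¹) by group, M.inv (h.dA P E t0 hu),
      M.fixU wA (mul_mem (h.dA P E s0 hu) (h.dA P E t0 hu)), mul_mem_cancel_right this] at g5
    exact cL E1 g5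
  have τH := Tp_le_c t0
  have qD : ∀ u ∈ Up V w, ⁅b, u⁆ ∈ Up V x → ⁅b, τ⁻¹ * u * τ⁆ ∈ Up V x → u ∈ Dp V w x := fun u hu k1 k2 => by
    refine h.dmem E (τ := τ * b * τ⁻¹ * b) ?_ hu ?_
    · rw [show ⁅τ * b * τ⁻¹ * b, w⁆ = τ * (b * (τ⁻¹ * ⁅τ, b * w * b⁻¹⁆⁻¹ * τ⁻¹⁻¹) * b⁻¹) * τ⁻¹ *
        (τ * (b * b) * w * (τ * (b * b))⁻¹ * w⁻¹) by group, f3, t1, r.tt, mul_one, conj_eq_of_comm t2, M.inv M.yU,
        fx (inv_mem τH), fx bH, fx τH, mul_inv_cancel, mul_one]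
    · rw [show ⁅τ * b * τ⁻¹ * b, u⁆ = τ * b * τ⁻¹ * ⁅b, u⁆ * (τ * b * τ⁻¹)⁻¹ * (τ * ⁅b, τ⁻¹ * u * τ⁆ * τ⁻¹) by group]
      exact mul_mem (M.conjU (mul_mem (mul_mem τH bH) (inv_mem τH)) k1) (M.conjU τH k2)
  have hl := h.ln_Lp E
  have τw : τ⁻¹ ∈ 𝐂 (zpowers w) := inv_mem (mem_c_of_conj_eq (conj_eq_of_comm t2))
  have τU : ∀ u ∈ Up V w, τ⁻¹ * u * τ ∈ Up V w := fun u hu =>
    conj_mem_of_mem_normalizer' (c_le_n_Up V w (inv_mem_iff.1 τw)) hu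
  have wW : Up V w ≤ Wl V (Lp w x) := Up_le_Wl Lp_left E.col.1
  have Mw := h.mo E.col
  have i2 : (∀ u ∈ Wl V (Lp w x), ∀ u' ∈ Wl V (Lp w x), ⁅b, u⁆ ∉ Up V x → ⁅b, u'⁆ ∉ Up V x → ⁅b, u * u'⁆ ∈ Up V x) →
      False := fun two => by
    have e2 : cj b (Wl V (Lp w x)) = Wl V (Lp (c * w) x) := by rw [cj_Wl, cj_Lp, f3, fx bH]
    have m2 : ∀ u ∈ Wl V (Lp w x), ⁅b, u⁆ ∈ Up V x → u ∈ Wl V (Lp (c * w) x) := fun u hu k =>
      (mul_mem_cancel_left (Up_le_Wl Lp_right M.y1 k)).1 (by rw [← conj_eq_comm, ← e2]; exact conj_mem_cj b hu)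
    obtain ⟨u0, v0, v1⟩ : ∃ u ∈ Wl V (Lp w x), u ∉ Wl V (Lp (c * w) x) := by
      refine SetLike.not_le_iff_exists.1 fun k => cL E ((mul_mem_cancel_right Lp_left).1 ?_)
      rw [← e2, le_cj_iff, bb] at k
      exact f3 ▸ conj_mem_of_mem_normalizer (h.n_Wl_le P.cm1 hl (mem_normalizer_of_cj_le k)) Lp_left
    have m3 : ∀ u ∈ Up V w, ⁅b, u⁆ ∈ Up V x → u ∈ Dp V w x := fun u hu k => qD u hu k (by
      by_contra j
      have := m2 _ (mul_mem (wW (τU u hu)) v0) (two _ (wW (τU u hu)) _ v0 j fun i => v1 (m2 _ v0 i))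
      exact v1 ((mul_mem_cancel_left (conj_mem_of_mem_normalizer' (n_le_n_Wl V _ (Tp_le_n (h.ln_Lp E2) Lp_right t0))
        (m2 u (wW hu) k))).1 this))
    obtain ⟨u1, v2, v3⟩ : ∃ u ∈ Up V w, u ∉ Dp V w x := by
      refine SetLike.not_le_iff_exists.1 fun k => cL E1 ?_
      obtain ⟨g, g1, g2⟩ := h.trans3 E E1.symm
      have m : a ∈ Dp V x x1 := by
        have := conj_mem_Dp (k (x := g⁻¹ * a * g) (by rw [← mem_cj, cj_Up, g1]; exact P.f.aA)) g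
        rwa [g1, g2, show g * (g⁻¹ * a * g) * g⁻¹ = a by group] at this
      obtain ⟨u', j1, u, j2, j3⟩ := h.dsplit P E1.symm m
      refine Lp_le Lp_right Lp_left (h.jm P E1.symm cA ?_)
      rw [← P.f'.ab, ← j3, comm_mul_right, comm_iff.1 bC u j2, mul_one, mul_inv_cancel, mul_one]
      exact mul_mem (conj_mem_of_mem_normalizer (c_le_n_Up V _ (mem_c_of_conj_eq (by
        rw [← conj_mul, fx bH, conj_eq_of_comm bx1]))) j1) (inv_mem j1)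
    have m4 := dd fun u hu => by
      by_contra j
      exact v3 ((mul_mem_cancel_left hu).1 (m3 _ (mul_mem hu.1 v2) (two _ (wW hu.1) _ (wW v2) j fun i => v3 (m3 _ v2 i))))
    obtain ⟨e1, t1, c1, r1⟩ := h.exT' P E.col.left
    have W := Mw.We_le (Mo.eH r1.toIn)
    have m5 : ∀ u ∈ We (Up V w) e1, ⁅b, u⁆ ∈ Up V x → u = 1 := fun u hu k => h.np' P E r1 hu (m4 (m3 u (W hu) k))
    have dW := Mw.dW r1.toQd
    exact Mw.ne_conj (Mo.eH r1.toIn) r1.od r1.cW r1.c1 ((eq_inv_of_mul_eq_one_left (m5 _ (mul_mem r1.cW dW)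
      (two _ (wW (W r1.cW)) _ (wW (W dW)) (fun k => r1.c1 (m5 _ r1.cW k)) fun k => conj_ne_one _ r1.c1 (m5 _ dW k)))).trans
      (Mw.inv (W dW)))
  let X : Subgroup G := ⨆ q : {q // Col V x q}, Up V q
  have eX : X ≤ 𝐂 X := elemAb_le_centralizer (elemAb_iSup (fun q => h.Up_ea q.2.symm) fun q q' =>
    P.cm.mono (k := 2) (by omega) _ _ (q.2.symm.near.trans q'.2.near))
  have le : ∀ {q}, Col V x q → Up V q ≤ X := fun {q} hq => le_iSup_of_le ⟨q, hq⟩ le_rfl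
  have WX : Wl V (Lp w x) ≤ X := Wl_le fun s hs s1 => le ⟨M.y1, s1, _, hl, Lp_right, hs⟩
  have bX : b ∈ 𝐍 X := mem_normalizer_of_cj_le (by
    rw [cj_iSup]
    refine iSup_le fun q => ?_
    have := q.2.cj b
    rw [fx bH] at this
    rw [cj_Up]; exact le this)
  have cX : ∀ u ∈ X, ⁅b, u⁆ ∈ X := fun u hu => mul_mem (conj_mem_of_mem_normalizer bX hu) (inv_mem hu)
  have cab : ∀ u ∈ X, u ∈ 𝐂 (zpowers y) → ⁅b, u⁆ ∈ Up V x ∨ y⁻¹ * ⁅b, u⁆ ∈ zpowers c := fun u hu k => by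
    have := My.cab P.f.tr k (mem_centralizer_iff'.1 (eX hu) a (le P.nr.left P.f.aA)) P.f.bW
    rw [← inv_mem_iff, commutatorElement_inv] at this
    exact (mem_or_of_sq (My.le_n (zpowers_le.2 (My.cU P.f.tr.toQd)) My.yU) (My.sq My.yU ▸ one_mem _)
      (Lp_le Lp_right Lp_left this)).imp_left fun j => zpowers_le.2 cA j
  by_cases yX : y ∈ X
  · refine i2 fun u hu u' hu' k k' => ?_
    have f := fun u hu => cab u (WX hu) (centralizer_anti (zpowers_le.2 yX) (eX (WX hu)))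
    have := mul_mem (inv_mem ((f u hu).resolve_left k)) ((f u' hu').resolve_left k')
    rw [comm_mul_right, mem_centralizer_iff'.1 (eX (WX hu)) _ (cX _ (WX hu'))]
    rw [mul_inv_rev, mul_assoc, inv_mul_cancel_left, inv_eq_of_mul_eq_one_right (show ⁅b, u⁆ * ⁅b, u⁆ = 1 by
      have := (elemAb_iSup (fun q : {q // Col V x q} => h.Up_ea q.2.symm) fun q q' =>
        P.cm.mono (k := 2) (by omega) _ _ (q.2.symm.near.trans q'.2.near)).2 _ (cX _ (WX hu))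
      rwa [pow_two] at this)] at this
    exact zpowers_le.2 cA this
  have cb : ∀ u ∈ Wl V (Lp w x), u ∈ 𝐂 (Up V p) → ⁅b, u⁆ ∈ Up V x := fun u hu k =>
    (cab u (WX hu) (centralizer_anti (zpowers_le.2 a2.mem) k)).resolve_right fun j => yX (inv_mem_iff.1
      ((mul_mem_cancel_right (cX u (WX hu))).1 (le P.nr.left (zpowers_le.2 cA j))))
  have cr : ∀ {q}, Col V q x → ¬ Up V q ≤ 𝐂 (Up V p) → Cr V (n + 1) q p := fun k j => ⟨P.cm, Near.cons k a1, j⟩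
  by_cases hD : Dp V w x ≤ 𝐂 (Up V p)
  · have m4 := dd fun u hu => cb u (wW hu.1) (hD hu)
    have m5 : ∀ {e1 t1 c1}, Tv V w e1 t1 c1 → c1 ∈ 𝐂 (Up V p) → τ⁻¹ * c1 * τ ∉ 𝐂 (Up V p) := fun r1 k j => by
      have cU := Mw.cU r1.toQd
      exact r1.c1 (h.np' P E r1 r1.cW (m4 (qD _ cU (cb _ (wW cU) k) (cb _ (wW (τU _ cU)) j))))
    by_cases k : Up V w ≤ 𝐂 (Up V p)
    · obtain ⟨e1, t1, c1, r1⟩ := h.exT' P E.col.left
      exact m5 r1 (k (Mw.cU r1.toQd)) (k (τU _ (Mw.cU r1.toQd)))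
    obtain ⟨v, t, e2, e1, c1, Q⟩ := h.pure (cr E.col k)
    have r1 := Q.f'.tr
    have cU := Mw.cU r1.toQd
    refine m5 r1 (h.Up_ab a2 (Ge.cA Q.symm)) (by_contra fun j => Mw.c_nZ r1.toQd ?_)
    rw [← h.comm_eq Q.symm Q.f'.aA (fun i => r1.c1 (Q.f'.ab ▸ comm_iff.1 i v Q.f.aA)) (τU _ cU) j, Mw.axis r1 (τU _ cU)]
    obtain ⟨r2, -, e3⟩ := Mw.cj_tr r1 τw
    rw [inv_inv] at r2 e3
    rcases Mw.dich r1 r2 with i | i
    · right
      have g1 := h.ncp Q.symm a1.symm E.col.symm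
      have g2 := conj_mem_cj τ⁻¹ g1
      rw [e3, i.2, ← conj_mul, fx (inv_mem τH), inv_inv] at g2
      have g3 := mul_mem g1 (inv_mem g2)
      rwa [mul_inv_rev, ← mul_assoc, mul_inv_cancel_right, Mw.inv (τU _ cU)] at g3
    · exact .inl (i.2 r2.cW)
  obtain ⟨u1, v1, v2⟩ := SetLike.not_le_iff_exists.1 hD
  obtain ⟨u', j1, a', j2, j3⟩ := h.dsplit P E v1
  have AC : Up V x ≤ 𝐂 (Up V p) := P.cm _ _ a1
  have v3 : u' ∉ 𝐂 (Up V p) := fun k => v2 (j3 ▸ mul_mem k (AC j2))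
  have E3 := (h.ed_cm E ▸ h.ed_mul E.symm).symm
  have Q := cr E.col fun k => v2 (k v1.1)
  have WK : Wl V (Lp w x) ≤ zpowers u1 ⊔ 𝐂 (Up V p) := Wl_le fun s hs s1 => by
    rcases h.Lp_cases E hs with k | k | k | k <;> rw [k]
    · exact absurd k s1
    · exact h.two' Q v1.1 v2 (mem_sup_left (mem_zpowers _)) le_sup_right
    · exact AC.trans le_sup_right
    · exact h.two' (cr E3.col fun k => v3 (k j1)) j1 v3 ((mul_mem_cancel_right (mem_sup_right (AC j2))).1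
        (j3 ▸ mem_sup_left (mem_zpowers _))) le_sup_right
  refine i2 fun u hu u' hu' k k' => cb _ (mul_mem hu hu') ?_
  have f : ∀ u ∈ Wl V (Lp w x), ⁅b, u⁆ ∉ Up V x → u1⁻¹ * u ∈ 𝐂 (Up V p) := fun u hu k =>
    (mem_or_of_sq (normalizer_le_normalizer_centralizer _ (c_le_n_Up V p (Q.fix v1.1))) (Mw.sq v1.1 ▸ one_mem _)
      (WK hu)).resolve_left fun j => k (cb u hu j)
  have := mul_mem (inv_mem (f u hu k)) (f u' hu' k')
  rwa [mul_inv_rev, mul_assoc, inv_mul_cancel_left, inv_eq_of_mul_eq_one_right (show u * u = 1 by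
    have := (h.Wl_ea P.cm1 hl).2 u hu
    rwa [pow_two] at this)] at this

end Ge

theorem fe : H26.FE.{u} := fun G _ _ S V h => by
  by_contra k
  push Not at k
  obtain ⟨z, g⟩ := exists_ge h
  obtain ⟨n, p, q, a, b, c⟩ := g.exists_crit (g.cm_one k)
  have P : Cr V n p q := ⟨a, b, fun j => c (j.trans (Ge.c_le_Tp b.right))⟩
  rcases n with _ | n
  · exact g.pc2 P
  obtain ⟨_, _, _, _, _, Q⟩ := g.pure P
  exact g.npc Q

end H118
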