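import Cfsg.Agent.H18.PU3
import Cfsg.Agent.H9.N3
/-! The pillar statement `H26.N3`. -/
set_option autoImplicit false
universe u

theorem H118.n3 : H26.N3.{u} := H9.n3_of H118.pul
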