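import Cfsg.Agent.H26.JC5
import Cfsg.Agent.H18.Mim
/-! Tools for the `N4` pieces: odd top sections of solvable groups, no over-offenders (also on sections), duality,
pairs at least distance. -/
set_option autoImplicit false
namespace H118
open Cfsg Subgroup H26 H4
open scoped Pointwise commutatorElement

local notation "O²" => pResidualOf 2

/-- paths of length `n + 1` -/
inductive Nr {α : Type*} (r : α → α → Prop) : ℕ → α → α → Prop
  | one {a b : α} (h : r a b) : Nr r 0 a b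
  | succ {n : ℕ} {a b c : α} (h : Nr r n a b) (h' : r b c) : Nr r (n + 1) a c

theorem Nr.cons {α : Type*} {r : α → α → Prop} {n : ℕ} {a b c : α} (h : r a b) (h' : Nr r n b c) :
    Nr r (n + 1) a c := by
  induction h' with
  | one h' => exact .succ (.one h) h'
  | succ _ h2 ih => exact .succ (ih h) h2

theorem Nr.symm {α : Type*} {r : α → α → Prop} (hr : ∀ a b, r a b → r b a) {n : ℕ} {a b : α} (h : Nr r n a b) :
    Nr r n b a := by
  induction h with
  | one h => exact .one (hr _ _ h)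
  | succ _ h' ih => exact Nr.cons (hr _ _ h') ih

theorem Nr.trans {α : Type*} {r : α → α → Prop} {n k : ℕ} {a b c : α} (h : Nr r n a b) (h' : Nr r k b c) :
    Nr r (n + k + 1) a c := by
  induction h' with
  | one h' => exact .succ h h'
  | succ _ h2 ih => exact .succ (ih h) h2

theorem exists_min_pair {α : Type*} {r c : α → α → Prop} (hr : ∀ a b, r a b → r b a) (h0 : ∀ a b, r a b → c a a)
    (h : ¬ ∀ n a b, Nr r n a b → c a b) :
    ∃ a b, ¬ c a b ∧ (∃ a', r a' b ∧ c a a') ∧ ∃ b', r b' a ∧ c b b' := by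
  classical
  have e : ∃ n, ∃ a b, Nr r n a b ∧ ¬ c a b := by
    by_contra k
    push Not at k
    exact h k
  obtain ⟨a, b, h1, h2⟩ := Nat.find_spec e
  have key : ∀ a b, Nr r (Nat.find e) a b → ∃ a', r a' b ∧ c a a' := fun a b h1 => by
    generalize hn : Nat.find e = n at h1
    cases h1 with
    | one h1 => exact ⟨a, h1, h0 _ _ h1⟩
    | succ h3 h4 =>
      refine ⟨_, h4, by_contra fun k => Nat.find_min e (by rw [hn]; exact Nat.lt_succ_self _) ⟨_, _, h3, k⟩⟩
  exact ⟨a, b, h2, key a b h1, key b a (h1.symm hr)⟩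

variable {G : Type*} [Group G] [Finite G]

/-- `O₂(X/N) = 1` -/
def RedM (X N : Subgroup G) : Prop := ∀ K ≤ X, X ≤ 𝐍 K → O² K ≤ N → K ≤ N

theorem relIndex_pos (A B : Subgroup G) : 0 < A.relIndex B :=
  Nat.pos_of_ne_zero (by rw [relIndex]; exact index_ne_zero_of_finite)

theorem odd_top {X N D : Subgroup G} (hs : Group.IsSolvable X) (hr : RedM X N) (h1 : D ≤ X) (h2 : X ≤ 𝐍 D)
    (h3 : ¬ D ≤ N) : ∃ E ≤ D, X ≤ 𝐍 E ∧ O² E = E ∧ ¬ E ≤ N ∧ ⁅E, E⁆ ≤ N ∧ ∀ P ≤ E, IsPGroup 2 P → P ≤ N := by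
  obtain ⟨E, hE, ⟨e1, e2⟩, hm⟩ := exists_minimal_le (Q := fun E => X ≤ 𝐍 E ∧ ¬ E ≤ N) D ⟨h2, h3⟩
  have o : ¬ O² E ≤ N := fun k => e2 (hr E (hE.trans h1) e1 k)
  have c : ⁅E, E⁆ ≤ N := by_contra fun k => by
    have e := hm _ (commutator_le_of_le_normalizer le_normalizer) ⟨le_normalizer_commutator e1 e1, k⟩
    haveI := hs
    haveI : Group.IsSolvable E := H18.Solv.of_le hs (hE.trans h1)
    have hne : E ≠ ⊥ := fun k => e2 (k ▸ bot_le)
    haveI := (nontrivial_iff_ne_bot E).2 hne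
    have := IsSolvable.commutator_lt_top_of_nontrivial E
    refine this.ne (map_injective E.subtype_injective ?_)
    rw [_root_.commutator_def, map_commutator, map_subtype_top, e]
  refine ⟨E, hE, e1, hm _ (pResidualOf_le 2 E) ⟨le_normalizer_pResidualOf_of_le e1, o⟩, e2, c, fun P hP hP' => ?_⟩
  refine (le_pElementClosure hP' hP).trans (by_contra fun k => o ?_)
  have e := hm _ (pElementClosure_le 2 E) ⟨e1.trans (normalizer_le_normalizer_pElementClosure 2 E), k⟩
  obtain ⟨T, hT⟩ := exists_isSyl 2 E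
  have n : E ≤ 𝐍 (T ⊔ ⁅E, E⁆) := le_normalizer_of_commutator_le' le_sup_right
    (sup_le hT.le (commutator_le_of_le_normalizer le_normalizer))
  refine (pResidualOf_mono (e.ge.trans (hT.pElementClosure_le le_sup_left n))).trans
    ((pResidualOf_sup_le hT.isP (hT.le.trans (le_normalizer_commutator_left E E))).trans c)

omit [Finite G] in
theorem elemAb_of_subgroupOf {A H : Subgroup G} (h : IsElementaryAbelian 2 A) (hA : A ≤ H) :
    IsElementaryAbelian 2 (A.subgroupOf H) := by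
  rwa [← elemAb_map_iff H.subtype_injective, map_subgroupOf_eq_of_le hA]

theorem no_over {V H B : Subgroup G} (hV : IsElementaryAbelian 2 V) (hH : H ≤ 𝐍 V) (hs : PSol 2 H) (hr : Red 2 H V)
    (hB : B ≤ H) (hB' : IsElementaryAbelian 2 B) : (𝐂 V).relIndex B ≤ (𝐂 B).relIndex V := by
  have f := ff_mF hV hH hs hr
  have n := hB.trans hH
  obtain ⟨D, hD, hm⟩ := Set.exists_max_image {D | D ≤ mF V B}
    (fun D => Nat.card D * Nat.card ↥(mI V V ⊓ 𝐂 D)) (Set.toFinite _) ⟨⊥, (bot_le : ⊥ ≤ mF V B)⟩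
  have e : IsElementaryAbelian 2 D := elemAb_mono (elemAb_map (elemAb_of_subgroupOf hB' n) _) hD
  have b : IsBestOffenderOn 2 (mI V V) D := ⟨fun E hE => hm E (hE.trans hD), by
    rw [commutator_eq_bot_iff'.2 (elemAb_le_centralizer e)]; exact bot_le, fun a ha => by
      rw [e.2 a ha]; exact one_mem _⟩
  have k := (hm _ (le_refl (mF V B))).trans (f.card_mul (hD.trans (mF_mono hB)) b).le
  rw [← mI_inf_centralizer le_rfl n, card_mI inf_le_left, card_mI le_rfl] at k
  have k1 := card_mF n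
  have k2 := card_mul_relIndex (𝐂 V) B
  have k3 := card_mul_relIndex (𝐂 B) V
  rw [inf_comm] at k2 k3
  have p1 := card_pos' (B ⊓ 𝐂 V)
  have p2 := card_pos' (V ⊓ 𝐂 B)
  have k4 : Nat.card (mF V B) = (𝐂 V).relIndex B := Nat.eq_of_mul_eq_mul_left p1 (by rw [mul_comm, k1, k2])
  rw [k4, ← k3, mul_comm] at k
  exact Nat.le_of_mul_le_mul_left k p2

open H18 in
/-- no over-offenders on the section `U/K` -/
theorem no_over_sec {U K X B : Subgroup G} (hU : IsElementaryAbelian 2 U) (hK : K ≤ U) (h1 : X ≤ 𝐍 U) (h2 : X ≤ 𝐍 K)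
    (hs : Group.IsSolvable X) (hr : RedM X (commStab (U : Set G) K)) (hB : B ≤ X) (hB' : IsElementaryAbelian 2 B) :
    (commStab (U : Set G) K).relIndex B ≤ (commStab (B : Set G) K).relIndex U := by
  have nU : U ≤ 𝐍 K := le_normalizer_of_le_centralizer ((elemAb_le_centralizer hU).trans (centralizer_anti hK))
  have key : ∀ {A D : Subgroup G}, A ≤ 𝐍 K → D ≤ 𝐍 K → (A ≤ commStab (D : Set G) K ↔ A ⫽ K ≤ 𝐂 (D ⫽ K)) :=
    fun {A D} hA hD => by rw [le_commStab_iff, and_iff_right hA]; exact comm_le_iff_quo hA hD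
  have idx : ∀ {A D : Subgroup G}, A ≤ 𝐍 K → D ≤ 𝐍 K → K ≤ commStab (D : Set G) K →
      (𝐂 (D ⫽ K)).relIndex (A ⫽ K) = (commStab (D : Set G) K).relIndex A := fun {A D} hA hD hk => by
    have n : commStab (D : Set G) K ≤ 𝐍 K := (le_commStab_iff.1 le_rfl).1
    have e : qpre K (𝐂 (D ⫽ K)) = commStab (D : Set G) K := by
      refine le_antisymm ((key qpre_le hD).2 mim_mpre_le) ?_
      exact (mim_le_iff n).1 ((key n hD).1 le_rfl)
    rw [← inf_relIndex_right, ← inf_relIndex_right (commStab _ K), ← e, inf_comm, inf_comm _ A, ← mim_inf_mpre]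
    exact relIndex_mim inf_le_left hA (le_inf inf_le_left (inf_le_right.trans mker_le_mpre))
  have kk : ∀ {D : Subgroup G}, D ≤ 𝐍 K → K ≤ commStab (D : Set G) K := fun hD =>
    le_commStab_iff.2 ⟨le_normalizer, commutator_le_of_le_normalizer hD⟩
  rw [← idx (hB.trans h2) nU (kk nU), ← idx nU (hB.trans h2) (kk (hB.trans h2))]
  refine no_over (elemAb_map (elemAb_of_subgroupOf hU nU) _) (mim_norm h1) (pSol_of_solvable (Solv.mim hs)) ?_
    (mim_mono hB) (elemAb_map (elemAb_of_subgroupOf hB' (hB.trans h2)) _)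
  intro D hD hn hO
  have e : (X ⊓ qpre K D) ⫽ K = D := mim_inf_mpre_of_le hD
  have n : X ⊓ qpre K D ≤ 𝐍 K := inf_le_left.trans h2
  rw [← e, ← key n nU]
  refine hr _ inf_le_left (le_normalizer_inf le_normalizer (norm_mpre h2 hn)) ?_
  rw [key ((pResidualOf_le _ _).trans n) nU]
  refine le_trans (le_of_eq ?_) (e ▸ hO)
  rw [mim, mim, ← pResidualOf_subgroupOf n, map_pResidualOf]

/-- duality for the pairing `U × A → I/J` with `|I : J| ≤ 2` -/
theorem dual {U A I J : Subgroup G} (hU : U ≤ 𝐂 U) (hJ : J ≤ U) (h1 : A ≤ 𝐍 J) (h2 : A ≤ 𝐍 I) (h : ⁅U, A⁆ ≤ I)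
    (two : ∀ x ∈ I, ∀ y ∈ I, x ∉ J → y ∉ J → x * y ∈ J) :
    (commStab (U : Set G) J).relIndex A ≤ (commStab (A : Set G) J).relIndex U := by
  have nU : U ≤ 𝐍 J := le_normalizer_of_le_centralizer (hU.trans (centralizer_anti hJ))
  set L := U ⊓ commStab (A : Set G) J with hL
  have := subgroup_induction (U := U) (Q := fun W => (commStab (W : Set G) J).relIndex A ≤ L.relIndex (W ⊔ L)) ?_ ?_
  · rwa [sup_eq_left.2 inf_le_left, hL, inf_comm, inf_relIndex_right] at this
  · show _ ≤ _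
    rw [relIndex_eq_one.2 (le_commStab_iff.2 ⟨h1, by simp⟩)]
    exact relIndex_pos _ _
  intro W hW u hu ih
  show _ ≤ _
  have hu' : zpowers u ≤ U := zpowers_le.2 hu
  by_cases e : u ∈ W ⊔ L
  · rw [show W ⊔ zpowers u ⊔ L = W ⊔ L from le_antisymm (sup_le (sup_le le_sup_left (zpowers_le.2 e)) le_sup_right)
      (sup_le_sup_right le_sup_left _)]
    refine le_trans ?_ ih
    rw [← inf_relIndex_right (commStab (W : Set G) J)]
    refine relIndex_le_of_le_left (le_commStab_iff.2 ⟨inf_le_right.trans h1, ?_⟩) (relIndex_pos _ _).ne'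
    refine (commutator_mono le_rfl (sup_le le_sup_left (zpowers_le.2 e))).trans (commutator_sup_le'
      (le_commStab_iff.1 inf_le_left).2 ?_ (hW.trans nU) (inf_le_left.trans nU))
    rw [commutator_comm]
    exact (commutator_mono inf_le_right inf_le_right).trans (le_commStab_iff.1 le_rfl).2
  have i1 : (commStab (zpowers u : Set G) J).relIndex A ≤ 2 := by
    by_cases k : A ≤ commStab (zpowers u : Set G) J
    · rw [relIndex_eq_one.2 k]; norm_num
    have m : ∀ a ∈ A, a ∈ commStab (zpowers u : Set G) J ↔ ⁅a, u⁆ ∈ J := fun a ha =>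
      ⟨fun k => k.2 u (mem_zpowers u), fun k => zpowers_le.1 (le_commStab_iff.2 ⟨zpowers_le.2 (h1 ha),
        commutator_zpowers_zpowers_le k (h1 ha) (nU hu)⟩)⟩
    have mI : ∀ a ∈ A, ⁅a, u⁆ ∈ I := fun a ha => h (by
      rw [commutator_comm]; exact commutator_mem_commutator ha hu)
    refine (relIndex_eq_two_of k fun x hx y hy hx' hy' => ?_).le
    rw [m _ hx] at hx'
    rw [m _ hy] at hy'
    rw [m _ (mul_mem hx hy), commutatorElement_mul_left_eq_conj_mul]
    refine two _ (conj_mem_of_mem_normalizer (h2 hx) (mI y hy)) _ (mI x hx) (fun k => hy' ?_) hx'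
    have := conj_mem_of_mem_normalizer' (h1 hx) k
    rwa [show x⁻¹ * (x * ⁅y, u⁆ * x⁻¹) * x = ⁅y, u⁆ by group] at this
  have i2 : 2 ≤ (W ⊔ L).relIndex (W ⊔ zpowers u ⊔ L) := by
    have p := relIndex_pos (W ⊔ L) (W ⊔ zpowers u ⊔ L)
    have : (W ⊔ L).relIndex (W ⊔ zpowers u ⊔ L) ≠ 1 := fun k =>
      e (relIndex_eq_one.1 k (mem_sup_left (mem_sup_right (mem_zpowers u))))
    omega
  rw [← relIndex_mul_relIndex L (W ⊔ L) _ le_sup_right (sup_le_sup_right le_sup_left _)]
  refine le_trans (relIndex_le_of_le_left (H := commStab (W : Set G) J ⊓ commStab (zpowers u : Set G) J)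
    (le_commStab_iff.2 ⟨inf_le_left.trans (le_commStab_iff.1 le_rfl).1, commutator_sup_le'
      (le_commStab_iff.1 inf_le_left).2 (le_commStab_iff.1 inf_le_right).2 (hW.trans nU) (hu'.trans nU)⟩)
    (relIndex_pos _ _).ne') (relIndex_inf_le.trans (Nat.mul_le_mul ih (i1.trans i2)))

theorem relIndex_inf_eq_mul {U A B : Subgroup G} (hU : U ≤ 𝐂 U) (h : U ≤ (U ⊓ A) ⊔ (U ⊓ B)) :
    (A ⊓ B).relIndex U = A.relIndex U * B.relIndex U := by
  rw [← relIndex_inf_mul_relIndex, ← inf_relIndex_right A U]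
  congr 1
  have n : U ⊓ B ≤ 𝐍 (U ⊓ A) :=
    le_normalizer_of_le_centralizer (inf_le_left.trans (hU.trans (centralizer_anti inf_le_left)))
  have e : U ⊓ B ⊔ U ⊓ A = U := le_antisymm (sup_le inf_le_left inf_le_left) (by rwa [sup_comm])
  have := relIndex_sup_of_le_normalizer n
  rw [e] at this
  rw [inf_comm A U, this, inf_comm B U, ← inf_relIndex_right (U ⊓ A), ← inf_relIndex_right A]
  congr 1
  exact le_antisymm (le_inf (le_inf (inf_le_right.trans inf_le_left) inf_le_left) inf_le_right)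
    (inf_le_inf_right _ inf_le_right)

end H118
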