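import Cfsg.Agent.H18.PA8
import Cfsg.Agent.H18.LC1

/-! Baumann blocks, part 1: the derived group of `SL₂`, the even-weight permutation module in unbundled form (`OM`),
the type-free core `KB` of a block and its first consequences. -/

set_option autoImplicit false
set_option linter.unusedSectionVars false
namespace H118
open Subgroup H26 H4 Cfsg Matrix H18.PU Equiv
open scoped commutatorElement MatrixGroups Pointwise

section SL
variable {F : Type*} [Field F] {p : ℕ}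

/-- the derived group of `SL₂(F)` -/
abbrev DS (F : Type*) [Field F] : Subgroup SL(2, F) := commutator SL(2, F)

theorem ds_sup : DS F ⊔ uT F = ⊤ := by
  have n : (DS F ⊔ uT F).Normal := ⟨fun a ha g => by
    rw [show g * a * g⁻¹ = ⁅g, a⁆ * a by group]
    exact mul_mem (mem_sup_left (commutator_mem_commutator (mem_top _) (mem_top _))) ha⟩
  have u : ∀ s, tvU s ∈ DS F ⊔ uT F := fun s => mem_sup_right (mem_uT.2 ⟨s, rfl⟩)
  refine eq_top_iff.2 fun m _ => H10.SL_transvection_induction (· ∈ DS F ⊔ uT F) (fun i j h c => ?_)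
    (fun _ _ => mul_mem) m
  fin_cases i <;> fin_cases j
  · exact absurd rfl h
  · exact u c
  · let w : SL(2, F) := ⟨!![0, 1; -1, 0], by simp [det_fin_two]⟩
    convert n.conj_mem _ (u (-c)) w using 1
    rw [eq_mul_inv_iff_mul_eq]
    apply Subtype.ext
    change (tvL c).1 * w.1 = w.1 * (tvU (-c)).1
    rw [tvU_val, tvL_val]; simp [w]
  · exact absurd rfl h

theorem ds_decomp (m : SL(2, F)) : ∃ c ∈ DS F, ∃ s, m = c * tvU s := by
  obtain ⟨c, hc, u, hu, e⟩ := (mem_sup_of_le_normalizer' (H := DS F) (K := uT F) le_normalizer_of_normal).1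
    (ds_sup.ge (mem_top m))
  obtain ⟨s, rfl⟩ := mem_uT.1 hu
  exact ⟨c, hc, s, e.symm⟩

theorem ds_trans {v w : Fin 2 → F} (hv : v ≠ 0) (hw : w ≠ 0) : ∃ c ∈ DS F, c • v = w := by
  have k : ∀ v : Fin 2 → F, v ≠ 0 → ∃ c ∈ DS F, c • (![1, 0] : Fin 2 → F) = v := fun v hv => by
    obtain ⟨m, rfl⟩ := exists_smul_eq hv
    obtain ⟨c, hc, s, rfl⟩ := ds_decomp m
    exact ⟨c, hc, by rw [mul_smul, show tvU s • _ = _ from mem_uT.2 ⟨s, rfl⟩]⟩
  obtain ⟨a, ha, rfl⟩ := k v hv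
  obtain ⟨b, hb, rfl⟩ := k w hw
  exact ⟨b * a⁻¹, mul_mem hb (inv_mem ha), by rw [mul_smul, inv_smul_smul]⟩

theorem res_le_ds [Fact p.Prime] [CharP F p] : pResidualOf p (⊤ : Subgroup SL(2, F)) ≤ DS F := by
  rw [← ds_sup, sup_comm]; exact pResidualOf_sup_le isPGroup_uT le_normalizer_of_normal
end SL

variable {G : Type*} [Group G] {p : ℕ} {E U U₀ W X T B Q : Subgroup G}

section NM
variable {F : Type*} [Field F] {ρ : G → SL(2, F)} {ψ : G → Fin 2 → F} (h : NM (DS F) E U U₀ ρ ψ)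
include h
theorem nm_trans {u v : G} (hu : u ∈ U) (hv : v ∈ U) (h1 : u ∉ U₀) (h2 : v ∉ U₀) :
    ∃ e ∈ E, ψ (e * u * e⁻¹) = ψ v := by
  obtain ⟨c, hc, e⟩ := ds_trans (mt (h.ker u hu).1 h1) (mt (h.ker v hv).1 h2)
  obtain ⟨g, hg, rfl⟩ := (h.ρr c).1 hc
  exact ⟨g, hg, by rw [h.act g hg u hu, e]⟩

theorem nm_irr (hX : X ≤ U) (hn : E ≤ 𝐍 X) : X ≤ U₀ ∨ U ≤ X ⊔ U₀ := by
  refine or_iff_not_imp_left.2 fun c => h.le_sup_of_ψ le_rfl hX fun x hx => ?_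
  obtain ⟨w, hw, h0⟩ := SetLike.not_le_iff_exists.1 c
  by_cases k : x ∈ U₀
  · exact ⟨1, one_mem _, by rw [h.ψ_one, (h.ker x hx).2 k]⟩
  obtain ⟨e, he, k1⟩ := nm_trans h (hX hw) hx h0 k
  exact ⟨_, conj_mem_of_mem_normalizer (hn he) hw, k1⟩
end NM

/-! ### the even-weight permutation module -/

/-- the action of a permutation on vectors -/
def pa {n : ℕ} (σ : Perm (Fin n)) (v : Fin n → ZMod 2) : Fin n → ZMod 2 := fun i => v (σ⁻¹ i)
/-- the vector `e_a + e_b` -/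
def pr {n : ℕ} (a b : Fin n) : Fin n → ZMod 2 := Pi.single a 1 + Pi.single b 1

section pa
variable {n : ℕ} (σ τ : Perm (Fin n)) (u v : Fin n → ZMod 2) (a b c : Fin n)
theorem pa_mul : pa (σ * τ) v = pa σ (pa τ v) := by funext i; simp [pa]
theorem pa_one : pa 1 v = v := rfl
theorem pa_add : pa σ (u + v) = pa σ u + pa σ v := rfl
theorem pa_single : pa σ (Pi.single a 1) = Pi.single (σ a) 1 := by
  funext i; simp only [pa, Pi.single_apply, Perm.inv_eq_iff_eq]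
theorem pa_pr : pa σ (pr a b) = pr (σ a) (σ b) := by rw [pr, pa_add, pa_single, pa_single, pr]
theorem add_self' : v + v = 0 := by funext i; exact CharTwo.add_self_eq_zero _
theorem pr_self : pr a a = 0 := add_self' _
theorem pr_comm : pr a b = pr b a := add_comm _ _
theorem pr_add : pr a b + pr b c = pr a c := by rw [pr, pr, add_assoc, ← add_assoc _ _ (Pi.single c 1), add_self', zero_add, pr]
theorem sum_pr : ∑ i, pr a b i = 0 := by
  simp only [pr, Pi.add_apply, Finset.sum_add_distrib, Finset.sum_pi_single', Finset.mem_univ, if_true]; rfl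
theorem pr_apply (i : Fin n) : pr a b i = (if i = a then 1 else 0) + if i = b then 1 else 0 := by
  simp only [pr, Pi.add_apply, Pi.single_apply]
theorem z2 (x : ZMod 2) : x = 0 ∨ x = 1 := by revert x; decide
variable {u v a b c}
theorem even_ind {P : (Fin n → ZMod 2) → Prop} (h0 : P 0) (h1 : ∀ b, P (pr a b)) (h2 : ∀ u v, P u → P v → P (u + v))
    (hv : ∑ i, v i = 0) : P v := by
  have e : v = ∑ i, v i • pr a i := by
    simp only [pr, smul_add, Finset.sum_add_distrib, ← Finset.sum_smul, hv, zero_smul, zero_add]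
    funext j; simp [Finset.sum_apply, Pi.single_apply]
  rw [e]
  refine Finset.sum_induction _ P h2 h0 fun i _ => ?_
  rcases z2 (v i) with k | k <;> rw [k]
  · rwa [zero_smul]
  · rw [one_smul]; exact h1 i
theorem alt_pair (h1 : a ≠ b) {d : Fin n} (h2 : c ≠ d) : ∃ σ ∈ alternatingGroup (Fin n), pr (σ a) (σ b) = pr c d := by
  obtain ⟨σ, e1, e2⟩ : ∃ σ : Perm (Fin n), σ a = c ∧ σ b = d :=
    ⟨swap (swap a c b) d * swap a c, by
      rw [Perm.mul_apply, swap_apply_left, swap_apply_of_ne_of_ne _ h2]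
      exact fun e => h1 ((swap a c).injective (by rw [swap_apply_left, ← e])), by rw [Perm.mul_apply, swap_apply_left]⟩
  rcases Int.units_eq_one_or (Perm.sign σ) with k | k
  · exact ⟨σ, k, by rw [e1, e2]⟩
  · exact ⟨σ * swap a b, by simp [Perm.mem_alternatingGroup, k, Perm.sign_swap h1], by
      simp only [Perm.mul_apply, swap_apply_left, swap_apply_right, e1, e2, pr_comm]⟩
theorem cyc_mem (h1 : a ≠ b) (h2 : a ≠ c) : swap a c * swap a b ∈ alternatingGroup (Fin n) := by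
  simp [Perm.mem_alternatingGroup, Perm.sign_swap h1, Perm.sign_swap h2]
/-- the three-cycle `a ↦ b ↦ c ↦ a` moves the entry at `a` to `b` when `b`, `c` carry the same entry -/
theorem pa_cyc (h1 : a ≠ b) (h2 : a ≠ c) (h3 : b ≠ c) (e1 : v b = v c) (e2 : v a ≠ v b) :
    pa (swap a c * swap a b) v = v + pr a b := by
  have k : v a = v b + 1 := by revert e2; generalize v a = x; generalize v b = y; revert x y; decide
  funext i
  rw [pa, Pi.add_apply, pr_apply, _root_.mul_inv_rev, swap_inv, swap_inv, Perm.mul_apply]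
  by_cases ia : i = a
  · subst ia; rw [swap_apply_left, swap_apply_of_ne_of_ne h2.symm h3.symm, ← e1, k]
    simp [h1, add_assoc, CharTwo.add_self_eq_zero]
  by_cases ib : i = b
  · subst ib; rw [swap_apply_of_ne_of_ne ia h3, swap_apply_right, k]; simp [ia]
  by_cases ic : i = c
  · subst ic; rw [swap_apply_right, swap_apply_left, e1]; simp [ia, ib]
  · rw [swap_apply_of_ne_of_ne ia ic, swap_apply_of_ne_of_ne ia ib]; simp [ia, ib]
theorem exists_zero (hn : Odd n) (hv : ∑ i, v i = 0) : ∃ i, v i = 0 := by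
  by_contra! k
  rw [Finset.sum_congr rfl fun i _ => (z2 (v i)).resolve_left (k i)] at hv
  obtain ⟨m, rfl⟩ := hn
  simp only [Finset.sum_const, Finset.card_univ, Fintype.card_fin, nsmul_eq_mul, mul_one, Nat.cast_add, Nat.cast_mul] at hv
  rw [show ((2 : ℕ) : ZMod 2) = 0 from rfl] at hv; simp at hv
theorem exists_two (hv : ∑ i, v i = 0) (h : v a = 1) : ∃ b, b ≠ a ∧ v b = 1 := by
  by_contra! k
  rw [Finset.sum_eq_single a (fun i _ hi => (z2 (v i)).resolve_right (k i hi)) (by simp), h] at hv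
  exact one_ne_zero hv
end pa

/-- unbundled form of `ActsAsOddPermModuleOnSection` -/
structure OM (n : ℕ) (R : Subgroup (Perm (Fin n))) (E U U₀ : Subgroup G) (ρ : G → Perm (Fin n))
    (ψ : G → Fin n → ZMod 2) : Prop where
  nm : E ≤ 𝐍 U
  le : U₀ ≤ U
  ρmul : ∀ e ∈ E, ∀ f ∈ E, ρ (e * f) = ρ e * ρ f
  ψmul : ∀ u ∈ U, ∀ v ∈ U, ψ (u * v) = ψ u + ψ v
  ρr : ∀ m, m ∈ R ↔ ∃ e ∈ E, ρ e = m
  ψe : ∀ u ∈ U, ∑ i, ψ u i = 0
  ψs : ∀ x, ∑ i, x i = 0 → ∃ u ∈ U, ψ u = x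
  ker : ∀ u ∈ U, ψ u = 0 ↔ u ∈ U₀
  act : ∀ e ∈ E, ∀ u ∈ U, ψ (e * u * e⁻¹) = pa (ρ e) (ψ u)

namespace OM
variable {n : ℕ} {R : Subgroup (Perm (Fin n))} {ρ : G → Perm (Fin n)} {ψ : G → Fin n → ZMod 2}
  (h : OM n R E U U₀ ρ ψ)
include h
/-- the permutation representation as a homomorphism -/
def ρh : E →* Perm (Fin n) := MonoidHom.mk' (fun e => ρ e) fun a b => h.ρmul a a.2 b b.2
/-- the module map as a homomorphism -/
def ψh : U →* Multiplicative (Fin n → ZMod 2) :=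
  MonoidHom.mk' (fun u => .ofAdd (ψ u)) fun a b => congrArg _ (h.ψmul a a.2 b b.2)
theorem ρh_range : h.ρh.range = R :=
  Subgroup.ext fun m => ⟨fun ⟨e, k⟩ => (h.ρr m).2 ⟨e, e.2, k⟩, fun k => ((h.ρr m).1 k).elim fun e k => ⟨⟨e, k.1⟩, k.2⟩⟩
theorem ρ_one : ρ 1 = 1 := h.ρh.map_one
theorem ψ_one : ψ 1 = 0 := h.ψh.map_one
theorem ρ_inv {e : G} (he : e ∈ E) : ρ e⁻¹ = (ρ e)⁻¹ := h.ρh.map_inv ⟨e, he⟩
theorem ρ_pow {e : G} (he : e ∈ E) (k : ℕ) : ρ (e ^ k) = ρ e ^ k := h.ρh.map_pow ⟨e, he⟩ k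
theorem ψ_inv {u : G} (hu : u ∈ U) : ψ u⁻¹ = ψ u :=
  (h.ψh.map_inv ⟨u, hu⟩).trans (neg_eq_of_add_eq_zero_left (add_self' _))
theorem conj_mem {e u : G} (he : e ∈ E) (hu : u ∈ U) : e * u * e⁻¹ ∈ U := conj_mem_of_mem_normalizer (h.nm he) hu
theorem ψ_comm {e u : G} (he : e ∈ E) (hu : u ∈ U) : ψ ⁅u, e⁆ = ψ u + pa (ρ e) (ψ u) := by
  rw [show ⁅u, e⁆ = u * (e * u⁻¹ * e⁻¹) by group, h.ψmul _ hu _ (h.conj_mem he (inv_mem hu)),
    h.act _ he _ (inv_mem hu), h.ψ_inv hu]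
theorem comm_mem {e u : G} (he : e ∈ E) (hu : u ∈ U) : ⁅u, e⁆ ∈ U := by
  rw [show ⁅u, e⁆ = u * (e * u⁻¹ * e⁻¹) by group]; exact mul_mem hu (h.conj_mem he (inv_mem hu))
theorem comm_mem_iff {e u : G} (he : e ∈ E) (hu : u ∈ U) : ⁅u, e⁆ ∈ U₀ ↔ pa (ρ e) (ψ u) = ψ u := by
  rw [← h.ker _ (h.comm_mem he hu), h.ψ_comm he hu, add_eq_zero_iff_neg_eq,
    neg_eq_of_add_eq_zero_left (add_self' _), eq_comm]
theorem ψ_eq {u v : G} (hu : u ∈ U) (hv : v ∈ U) : ψ u = ψ v ↔ u⁻¹ * v ∈ U₀ := by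
  rw [← h.ker _ (mul_mem (inv_mem hu) hv), h.ψmul _ (inv_mem hu) _ hv, h.ψ_inv hu, add_eq_zero_iff_neg_eq,
    neg_eq_of_add_eq_zero_left (add_self' _)]
theorem le_sup_of_ψ (hX : X ≤ U) (hW : W ≤ U) (h1 : ∀ x ∈ X, ∃ w ∈ W, ψ w = ψ x) : X ≤ W ⊔ U₀ := fun x hx => by
  obtain ⟨w, hw, e⟩ := h1 x hx
  rw [← mul_inv_cancel_left w x]
  exact mul_mem (mem_sup_left hw) (mem_sup_right ((h.ψ_eq (hW hw) (hX hx)).1 e))
theorem acts : ActsAsOddPermModuleOnSection n R E U U₀ :=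
  ⟨h.nm, h.le, h.ρh, h.ψh, h.ρh_range, fun u => h.ψe u u.2, fun v hv => (h.ψs v hv).elim fun u k => ⟨⟨u, k.1⟩, k.2⟩,
    fun u => h.ker u u.2, fun e u => ⟨⟨_, h.conj_mem e.2 u.2⟩, rfl, congrFun (h.act e e.2 u u.2)⟩⟩
theorem sub (hW : W ≤ U) (hn : E ≤ 𝐍 W) (h1 : U ≤ W ⊔ U₀) (h2 : U ≤ 𝐍 U₀) : OM n R E W (W ⊓ U₀) ρ ψ where
  nm := hn
  le := inf_le_left
  ρmul := h.ρmul
  ψmul u hu v hv := h.ψmul u (hW hu) v (hW hv)
  ρr := h.ρr
  ψe u hu := h.ψe u (hW hu)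
  ψs x hx := by
    obtain ⟨u, hu, rfl⟩ := h.ψs x hx
    obtain ⟨a, ha, b, hb, rfl⟩ := (mem_sup_of_le_normalizer (hW.trans h2)).1 (h1 hu)
    exact ⟨a, ha, by rw [h.ψmul a (hW ha) b (h.le hb), (h.ker b (h.le hb)).2 hb, add_zero]⟩
  ker u hu := (h.ker u (hW hu)).trans ⟨fun k => ⟨hu, k⟩, fun k => k.2⟩
  act e he u hu := h.act e he u (hW hu)
theorem ρ_eq_one (h3 : 3 ≤ n) {e : G} (he : e ∈ E) (k : ∀ u ∈ U, ⁅u, e⁆ ∈ U₀) : ρ e = 1 := by
  ext a
  by_contra c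
  obtain ⟨b, h1, h2⟩ : ∃ b, b ≠ a ∧ b ≠ ρ e a := by
    by_contra! k
    have := Finset.card_le_card (show Finset.univ ⊆ {a, ρ e a} from fun b _ => by
      by_cases c : b = a
      · simp [c]
      · simp [← k b c])
    have := Finset.card_le_two (a := a) (b := ρ e a)
    simp at *; omega
  obtain ⟨u, hu, e1⟩ := h.ψs _ (sum_pr a b)
  have := congrFun ((h.comm_mem_iff he hu).1 (k u hu)) (ρ e a)
  rw [e1, pa, show (ρ e)⁻¹ (ρ e a) = a from (ρ e).symm_apply_apply a, pr_apply, pr_apply] at this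
  have c' : ρ e a ≠ a := fun k => c (by rw [k]; rfl)
  simp [h1.symm, h2.symm, c'] at this
theorem irr (hn : Odd n) (hR : alternatingGroup (Fin n) ≤ R) (hX : X ≤ U) (hE : E ≤ 𝐍 X) : X ≤ U₀ ∨ U ≤ X ⊔ U₀ := by
  refine or_iff_not_imp_left.2 fun c => h.le_sup_of_ψ le_rfl hX fun x hx => ?_
  obtain ⟨w, hw, h0⟩ := SetLike.not_le_iff_exists.1 c
  obtain ⟨a, ha⟩ : ∃ a, ψ w a = 1 := by
    by_contra! k; exact h0 ((h.ker w (hX hw)).1 (funext fun i => (z2 _).resolve_right (k i)))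
  obtain ⟨a', h1, ha'⟩ := exists_two (h.ψe w (hX hw)) ha
  obtain ⟨b, hb⟩ := exists_zero hn (h.ψe w (hX hw))
  have n1 : b ≠ a := fun e => by rw [e, ha] at hb; exact one_ne_zero hb
  have n2 : b ≠ a' := fun e => by rw [e, ha'] at hb; exact one_ne_zero hb
  have cl : ∀ σ ∈ alternatingGroup (Fin n), ∀ w ∈ X, ∃ y ∈ X, ψ y = pa σ (ψ w) := fun σ hσ w hw => by
    obtain ⟨e, he, rfl⟩ := (h.ρr σ).1 (hR hσ)
    exact ⟨_, conj_mem_of_mem_normalizer (hE he) hw, h.act e he w (hX hw)⟩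
  have ad : ∀ u v, (∃ y ∈ X, ψ y = u) → (∃ y ∈ X, ψ y = v) → ∃ y ∈ X, ψ y = u + v := by
    rintro _ _ ⟨y, hy, rfl⟩ ⟨z, hz, rfl⟩; exact ⟨_, mul_mem hy hz, h.ψmul y (hX hy) z (hX hz)⟩
  obtain ⟨y, hy, e⟩ := ad _ _ ⟨w, hw, rfl⟩ (cl _ (cyc_mem n1 n2) w hw)
  rw [pa_cyc n1 n2 h1.symm (ha.trans ha'.symm) (by rw [ha, hb]; exact zero_ne_one), ← add_assoc, add_self',
    zero_add] at e
  refine even_ind (a := b) (P := fun v => ∃ y ∈ X, ψ y = v) ⟨1, one_mem _, h.ψ_one⟩ (fun d => ?_) ad (h.ψe x hx)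
  by_cases k : b = d
  · exact ⟨1, one_mem _, by rw [h.ψ_one, k, pr_self]⟩
  obtain ⟨σ, hσ, e1⟩ := alt_pair n1 k
  exact (cl σ hσ y hy).imp fun z hz => ⟨hz.1, by rw [hz.2, e, pa_pr, e1]⟩
end OM

theorem om_iff {n : ℕ} {R : Subgroup (Perm (Fin n))} :
    ActsAsOddPermModuleOnSection n R E U U₀ ↔ ∃ ρ ψ, OM n R E U U₀ ρ ψ := by
  classical
  refine ⟨fun ⟨h1, h2, ρ, ψ, h3, h4, h5, h6, h7⟩ => ⟨fun e => if k : e ∈ E then ρ ⟨e, k⟩ else 1,
    fun u => if k : u ∈ U then (ψ ⟨u, k⟩).toAdd else 0, h1, h2, fun e he f hf => ?_, fun e he f hf => ?_,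
    fun m => ?_, fun u hu => ?_, fun x hx => ?_, fun u hu => ?_, fun e he u hu => ?_⟩, fun ⟨_, _, h⟩ => h.acts⟩
  · rw [dif_pos he, dif_pos hf, dif_pos (mul_mem he hf), ← map_mul]; rfl
  · rw [dif_pos he, dif_pos hf, dif_pos (mul_mem he hf), ← toAdd_mul, ← map_mul]; rfl
  · rw [← h3]
    exact ⟨fun ⟨e, k⟩ => ⟨e, e.2, by rw [dif_pos e.2]; exact k⟩, fun ⟨e, he, k⟩ => ⟨⟨e, he⟩, by rwa [dif_pos he] at k⟩⟩
  · simp only [dif_pos hu]; exact h4 _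
  · obtain ⟨u, k⟩ := h5 x hx; exact ⟨u, u.2, by rw [dif_pos u.2]; exact k⟩
  · rw [dif_pos hu]; exact h6 ⟨u, hu⟩
  · obtain ⟨w, k1, k2⟩ := h7 ⟨e, he⟩ ⟨u, hu⟩
    have : e * u * e⁻¹ ∈ U := k1 ▸ w.2
    rw [dif_pos he, dif_pos hu, dif_pos this, show (⟨_, this⟩ : U) = w from Subtype.ext k1.symm]
    exact funext k2

/-! ### the type-free core of a block -/

/-- `W_E = [Ω₁Z(O_p(E)), E]` -/
abbrev WW (p : ℕ) (E : Subgroup G) : Subgroup G := ⁅VV p E, E⁆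

/-- the part of the definition of a block that refers neither to `B(T)` nor to the type -/
structure KB (p : ℕ) (E : Subgroup G) : Prop where
  res : pResidualOf p E = E
  cq : ⁅𝐎 p E, E⁆ = 𝐎 p E
  irr : ∀ X ≤ VV p E, E ≤ 𝐍 X → X ≤ 𝐂 E ∨ VV p E ≤ X ⊔ VV p E ⊓ 𝐂 E
  nt : ¬ VV p E ≤ 𝐂 E
  ker : ∀ e ∈ E, (∀ w ∈ VV p E, ⁅w, e⁆ ∈ 𝐂 E) → e ∈ 𝐎 p E

variable [Finite G] [hp : Fact p.Prime]

omit hp in
theorem mem_core_of_ker {H : Type*} [Group H] (f : E →* H) {R : Subgroup H} (h1 : f.range = R)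
    (h2 : Nonempty (E ⧸ pCore p E ≃* R)) (h3 : ∀ e : E, (e : G) ∈ 𝐎 p E → f e = 1) (e : E) (h4 : f e = 1) :
    (e : G) ∈ 𝐎 p E := by
  have l : pCore p E ≤ f.ker := fun x hx => h3 x (by rwa [pCore_eq_subgroupOf] at hx)
  have i : f.ker.index = (pCore p E).index := by
    rw [index_ker, h1, index_eq_card, Nat.card_congr h2.some.toEquiv]
  have := eq_of_le_of_card_ge l (by
    have a := f.ker.card_mul_index
    rw [i, ← (pCore p E).card_mul_index] at a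
    exact (Nat.eq_of_mul_eq_mul_right (Nat.pos_of_ne_zero index_ne_zero_of_finite) a).le)
  rw [← mem_subgroupOf, ← pCore_eq_subgroupOf, this]; exact h4

theorem nVE (E : Subgroup G) : 𝐍 E ≤ 𝐍 (VV p E) := le_n_oc (normalizer_le_normalizer_pCoreOf p E)
theorem nWE (E : Subgroup G) : 𝐍 E ≤ 𝐍 (WW p E) := le_normalizer_commutator (nVE E) le_rfl
theorem WV (E : Subgroup G) : WW p E ≤ VV p E := commutator_le_of_le_normalizer (le_normalizer.trans (nVE E))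
theorem VE (E : Subgroup G) : VV p E ≤ E := (oc_le _ _).trans (pCoreOf_le _ _)
theorem WE (E : Subgroup G) : WW p E ≤ E := (WV E).trans (VE E)
theorem QcV (E : Subgroup G) : 𝐎 p E ≤ 𝐂 (VV p E) := le_c_oc _ _
theorem QcW (E : Subgroup G) : 𝐎 p E ≤ 𝐂 (WW p E) := (QcV E).trans (centralizer_anti (WV E))
theorem Wea (E : Subgroup G) : IsElementaryAbelian p (WW p E) := elemAb_mono (oc_ea _ _) (WV E)
theorem cj_WW (g : G) (E : Subgroup G) : cj g (WW p E) = WW p (cj g E) := by rw [cj_commutator, cj_VV]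

theorem kb_of_nm {F : Type*} [Field F] {ρ : G → SL(2, F)} {ψ : G → Fin 2 → F} (h1 : pResidualOf p E = E)
    (h2 : ⁅𝐎 p E, E⁆ = 𝐎 p E) (h3 : Nonempty (E ⧸ pCore p E ≃* DS F))
    (h : NM (DS F) E (VV p E) (VV p E ⊓ 𝐂 E) ρ ψ) : KB p E :=
  ⟨h1, h2, fun X hX hn => (nm_irr h hX hn).imp_left (·.trans inf_le_right), fun k => h.ne (inf_eq_left.2 k),
    fun e he k => mem_core_of_ker h.ρh h.ρh_range h3 (fun x hx => h.ρ_eq_one_of x.2 (QcV E hx)) ⟨e, he⟩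
      ((h.ρ_eq_one he).2 fun u hu => ⟨h.comm_mem he hu, k u hu⟩)⟩

theorem three_le_of {m : ℕ} (h1 : pResidualOf p E = E) (h0 : E ≠ ⊥)
    (h3 : Nonempty (E ⧸ pCore p E ≃* alternatingGroup (Fin (2 * m + 1)))) : 3 ≤ 2 * m + 1 := by
  by_contra c
  obtain rfl : m = 0 := by omega
  have : Subsingleton (Perm (Fin (2 * 0 + 1))) := inferInstanceAs (Subsingleton (Perm (Fin 1)))
  have : Subsingleton (E ⧸ pCore p E) := h3.some.toEquiv.subsingleton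
  refine h0 (h1.symm.trans (pResidualOf_eq_bot ((isPGroup_pCoreOf p E).to_le fun x hx => ?_)))
  rw [← mem_subgroupOf (h := ⟨x, hx⟩), ← pCore_eq_subgroupOf, ← QuotientGroup.eq_one_iff]
  exact Subsingleton.elim _ _

theorem kb_of_om {n : ℕ} {ρ : G → Perm (Fin n)} {ψ : G → Fin n → ZMod 2} (h1 : pResidualOf p E = E)
    (h2 : ⁅𝐎 p E, E⁆ = 𝐎 p E) (h3 : Nonempty (E ⧸ pCore p E ≃* alternatingGroup (Fin n))) (hn : Odd n) (n3 : 3 ≤ n)
    (h : OM n (alternatingGroup (Fin n)) E (VV p E) (VV p E ⊓ 𝐂 E) ρ ψ) : KB p E := by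
  refine ⟨h1, h2, fun X hX hE => (h.irr hn le_rfl hX hE).imp_left (·.trans inf_le_right), fun k => ?_,
    fun e he k => mem_core_of_ker h.ρh h.ρh_range h3 (fun x hx => h.ρ_eq_one n3 x.2 fun u hu => ?_) ⟨e, he⟩
      (h.ρ_eq_one n3 he fun u hu => ⟨h.comm_mem he hu, k u hu⟩)⟩
  · obtain ⟨u, hu, e⟩ := h.ψs _ (sum_pr ⟨0, by omega⟩ ⟨1, by omega⟩)
    have := congrFun (e.symm.trans ((h.ker u hu).2 ⟨hu, k hu⟩)) ⟨0, by omega⟩
    simp [pr_apply] at this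
  · rw [commutatorElement_eq_one_iff_mul_comm.2 (QcV E hx u hu)]; exact one_mem _

theorem blk_ne (h : IsBaumannBlock p T E) : E ≠ ⊥ := fun e => h.2.2.2.1 (by rw [e, commutator_bot_left])

theorem blk_kb (h : IsBaumannBlock p T E) : KB p E := by
  obtain ⟨F, _, _, n, -, h3, k, -⟩ | ⟨-, m, h3, k, -⟩ := h.2.2.2.2
  · obtain ⟨ρ, ψ, k⟩ := nm_iff.1 k; exact kb_of_nm h.1 h.2.2.1 h3 k
  · obtain ⟨ρ, ψ, k⟩ := om_iff.1 k
    exact kb_of_om h.1 h.2.2.1 h3 ⟨m, rfl⟩ (three_le_of h.1 (blk_ne h) h3) k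

omit [Finite G] hp in
theorem cm_mul_cen {a b e : G} (h : e * b = b * e) : ⁅a * b, e⁆ = ⁅a, e⁆ := by
  rw [commutatorElement_def, commutatorElement_def, mul_assoc a, ← h]; group

theorem le_of_le_comm_sup {P Z : Subgroup G} (hP : IsPGroup p ↥(U ⊔ P)) (hZ : U ⊔ P ≤ 𝐍 Z) (h : U ≤ ⁅U, P⁆ ⊔ Z) :
    U ≤ Z := by
  let f := QuotientGroup.mk' (Z.subgroupOf (𝐍 Z))
  have hk : f.ker = Z.subgroupOf (𝐍 Z) := QuotientGroup.ker_mk' _
  have u := le_sup_left.trans hZ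
  have q := le_sup_right.trans hZ
  refine (iM_eq_bot hk u).1 (eq_bot_of_le_commutator (P := iM f (U ⊔ P)) (A := iM f P)
    (((isPGroup_subgroupOf_iff hZ).2 hP).map _) (iM_mono le_sup_left) (iM_mono le_sup_right) ?_)
  rw [← iM_comm u q, iM_le hk le_normalizer u ((Subgroup.commutator_le_sup _ _).trans hZ)]; exact h

namespace KB
variable (h : KB p E)
include h
theorem cc (hX : IsPGroup p ↥⁅X, E⁆) : ⁅⁅X, E⁆, E⁆ = ⁅X, E⁆ := commutator_commutator_eq_of_pResidualOf_eq hX h.res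
theorem WWE : ⁅WW p E, E⁆ = WW p E := h.cc (elemAb_isPGroup (Wea E))
theorem cen_of (hX : IsPGroup p ↥⁅X, E⁆) (h1 : ⁅X, E⁆ ≤ 𝐂 E) : X ≤ 𝐂 E := by
  rw [← commutator_eq_bot_iff_le_centralizer, ← h.cc hX, commutator_eq_bot_iff_le_centralizer]; exact h1
theorem nW : ¬ WW p E ≤ 𝐂 E := fun k => h.nt (h.cen_of (elemAb_isPGroup (Wea E)) k)
theorem V_le : VV p E ≤ WW p E ⊔ VV p E ⊓ 𝐂 E :=
  (h.irr _ (WV E) (le_normalizer.trans (nWE E))).resolve_left h.nW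
theorem W_le (hX : X ≤ VV p E) (hn : E ≤ 𝐍 X) (h1 : ¬ X ≤ 𝐂 E) : WW p E ≤ X :=
  (commutator_mono ((h.irr X hX hn).resolve_left h1) le_rfl).trans (commutator_sup_le
    (commutator_le_of_le_normalizer hn) ((commutator_eq_bot_iff_le_centralizer.2 inf_le_right).trans_le bot_le)
    (le_normalizer_of_le_comm (oc_ea _ _).1 hX hX) (le_normalizer_of_le_comm (oc_ea _ _).1 inf_le_left hX))
theorem kerW {e : G} (he : e ∈ E) (k : ∀ w ∈ WW p E, ⁅w, e⁆ ∈ 𝐂 E) : e ∈ 𝐎 p E := h.ker e he fun w hw => by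
  obtain ⟨a, ha, b, hb, rfl⟩ := (mem_sup_of_le_normalizer' (le_normalizer_of_le_comm (oc_ea _ _).1 inf_le_left
    (WV E))).1 (h.V_le hw)
  rw [cm_mul_cen (hb.2 e he)]; exact k a ha
theorem inf_cen : E ⊓ 𝐂 (WW p E) = 𝐎 p E := le_antisymm (fun e he => h.kerW he.1 fun w hw => by
  rw [commutatorElement_eq_one_iff_mul_comm.2 (he.2 w hw)]; exact one_mem _) (le_inf (pCoreOf_le _ _) (QcW E))
theorem comm_le (hn : X ≤ 𝐍 E) (h1 : ⁅WW p E, X⁆ ≤ 𝐂 E) : ⁅E, X⁆ ≤ 𝐎 p E := by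
  have n := le_normalizer_inf (nWE (p := p) E) (normalizer_le_normalizer_centralizer E)
  have c := commutator_le_of_le_normalizer (hn.trans (nWE (p := p) E))
  have := three_subgroups (H₃ := WW p E) (le_normalizer.trans n) (hn.trans n) ((WE E).trans (le_normalizer.trans n))
    ((commutator_eq_bot_iff_le_centralizer.2 ((commutator_comm _ _).le.trans h1)).trans_le bot_le)
    (by rw [h.WWE]; exact le_inf c h1)
  exact fun x hx => h.kerW (commutator_le_of_le_normalizer hn hx) fun w hw =>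
    comm_mem_symm.1 (this (commutator_mem_commutator hx hw)).2
theorem cenW (hn : X ≤ 𝐍 E) (h1 : ⁅WW p E, X⁆ ≤ 𝐂 E) : X ≤ 𝐂 (WW p E) := by
  rw [le_centralizer_iff, ← h.WWE]
  exact three_subgroups_centralizer ((h.comm_le hn h1).trans (QcW E)) ((commutator_comm _ _).le.trans h1)
theorem comm_le' (hn : X ≤ 𝐍 E) (h1 : X ≤ 𝐂 (WW p E)) : ⁅E, X⁆ ≤ 𝐎 p E :=
  h.comm_le hn ((commutator_eq_bot_iff'.2 h1).trans_le bot_le)
theorem pcen (hX : IsPGroup p X) (hn : X ≤ 𝐍 E) (h1 : ⁅E, X⁆ ≤ 𝐎 p E) : X ≤ 𝐂 (WW p E) := by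
  have nq := hn.trans (normalizer_le_normalizer_pCoreOf p E)
  have nv := sup_le (hn.trans (nVE (p := p) E)) ((pCoreOf_le p E).trans (le_normalizer.trans (nVE (p := p) E)))
  have n1 : E ≤ 𝐍 (X ⊔ 𝐎 p E) := le_normalizer_of_commutator_le (commutator_sup_le
    ((commutator_comm _ _).le.trans (h1.trans le_sup_right)) (h.cq.le.trans le_sup_right)
    (le_sup_left.trans le_normalizer) (le_sup_right.trans le_normalizer))
  refine h.cenW hn ((commutator_mono (WV E) le_sup_left).trans ((h.irr _ (commutator_le_of_le_normalizer nv)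
    (le_normalizer_commutator (le_normalizer.trans (nVE E)) n1)).resolve_right fun k => h.nt ?_))
  refine (le_of_le_comm_sup (isPGroup_sup' (elemAb_isPGroup (oc_ea _ _)) (isPGroup_sup hX (isPGroup_pCoreOf _ _) nq) nv)
    (sup_le (le_normalizer_of_le_comm (oc_ea _ _).1 le_rfl inf_le_left) (le_normalizer_inf nv
      (le_normalizer_centralizer (sup_le hn ((pCoreOf_le _ _).trans le_normalizer))))) k).trans inf_le_right
end KB

section weak
variable {H P : Subgroup G}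
theorem j_syl (hT : IsSyl p T H) (hP : IsPGroup p P) (h1 : P ≤ H) (h2 : 𝐉𝐉 p T ≤ P) : 𝐉𝐉 p P = 𝐉𝐉 p T := by
  obtain ⟨g, hg, k⟩ := hT.exists_le_cj hP h1
  have e : 𝐉𝐉 p T = 𝐉𝐉 p (cj g T) := eq_of_le_of_card_ge (thompsonOf_le_iff.2 fun A hA => MaxEA.le_thompsonOf
    (MaxEA.of_le (MaxEA.of_isSyl hT hA) ((MaxEA.le_thompsonOf hA).trans (h2.trans k)) (hT.cj_of_mem hg).le))
    (by rw [← cj_thompsonOf, card_cj])
  rw [e] at h2 ⊢; exact thompsonOf_eq_of_le h2 k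
theorem bau_syl (hT : IsSyl p T H) (hP : IsPGroup p P) (h1 : P ≤ H) (h2 : 𝐁 p T ≤ P) : 𝐁 p P = 𝐁 p T := by
  obtain ⟨g, hg, k⟩ := hT.exists_le_cj hP h1
  have e : 𝐁 p T = 𝐁 p (cj g T) := eq_of_le_of_card_ge (by
    rw [bau_def (cj g T), j_syl hT (hT.cj_of_mem hg).isP (hT.cj_of_mem hg).le ((j_le_bau T).trans (h2.trans k))]
    exact le_inf (h2.trans k) ((bau_def T).le.trans inf_le_right)) (by rw [← cj_bau, card_cj])
  rw [e] at h2 ⊢; exact bau_eq h2 k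
theorem bau_isP (hT : IsPGroup p T) : IsPGroup p (𝐁 p T) := hT.to_le (bau_le T)
theorem n_bau_of (hT : IsSyl p T H) (hP : IsPGroup p P) (h1 : P ≤ H) (h2 : 𝐁 p T ≤ 𝐍 P) : P ≤ 𝐍 (𝐁 p T) := by
  rw [← bau_syl hT (isPGroup_sup (bau_isP hT.isP) hP h2) (sup_le ((bau_le T).trans hT.le) h1) le_sup_left]
  exact n_bau (le_sup_right.trans le_normalizer)
end weak

/-- a block of the group `H` of characteristic `p` with Sylow subgroup `T`, type-free part -/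
structure BH (p : ℕ) (H T E : Subgroup G) : Prop extends KB p E where
  cp : CharPOf p H
  syl : IsSyl p T H
  le : E ≤ H
  cb : ⁅E, 𝐁 p T⁆ = E

namespace BH
variable {H : Subgroup G} (h : BH p H T E)
include h
theorem nB : 𝐁 p T ≤ 𝐍 E := le_normalizer_of_commutator_le h.cb.le
theorem BH' : 𝐁 p T ≤ H := (bau_le T).trans h.syl.le
theorem ncl_eq : ncl (𝐁 p T) E = 𝐁 p T ⊔ E := by rw [ncl_eq_sup_commutator, commutator_comm, h.cb]
theorem norm (hQ : IsPGroup p Q) (h0 : Q ≤ H) (h1 : 𝐁 p T ≤ 𝐍 Q) (h2 : E ≤ 𝐍 Q) : Q ≤ 𝐍 E := by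
  have k := n_bau_of h.syl hQ h0 h1
  have : Q ≤ 𝐍 (ncl (𝐁 p T) E) := le_normalizer_iSup fun e => by
    rw [← cj_normalizer, ← cj_eq_of_mem_normalizer (h2 e.2)]; exact cj_mono _ k
  rw [← h.res, ← pResidualOf_sup_eq (bau_isP h.syl.isP) h.nB, ← h.ncl_eq]
  exact le_normalizer_pResidualOf_of_le this
theorem nO : 𝐎 p H ≤ 𝐍 E := h.norm (isPGroup_pCoreOf _ _) (pCoreOf_le _ _) (h.BH'.trans (le_normalizer_pCoreOf _ _))
  (h.le.trans (le_normalizer_pCoreOf _ _))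
theorem EO : ⁅E, 𝐎 p H⁆ ≤ 𝐎 p E ⊓ 𝐎 p H := by
  have := commutator_le_inf_of_le_normalizer (h.le.trans (le_normalizer_pCoreOf p H)) h.nO
  exact le_inf (this.trans (inf_pCoreOf_le' h.le)) (this.trans inf_le_right)
theorem OE : ⁅𝐎 p H, E⁆ ≤ 𝐎 p E ⊓ 𝐎 p H := (commutator_comm _ _).le.trans h.EO
theorem OW : 𝐎 p H ≤ 𝐂 (WW p E) := h.pcen (isPGroup_pCoreOf _ _) h.nO (h.EO.trans inf_le_left)
theorem WO : WW p E ≤ 𝐎 p H := (le_inf ((WE E).trans h.le) (le_centralizer_iff.1 h.OW)).trans h.cp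
theorem WVH : WW p E ≤ VV p H := le_oc (Wea E) h.WO (le_centralizer_iff.1 h.OW)
theorem WT : WW p E ≤ T := h.WO.trans h.syl.pCoreOf_le
theorem nJ : ¬ 𝐉𝐉 p T ≤ 𝐂 (WW p E) := fun k => h.nW <| by
  have : 𝐁 p T ≤ 𝐂 (WW p E) := ((bau_def T).le.trans inf_le_right).trans (centralizer_anti
    (le_y (Wea E) h.WT (le_centralizer_iff.1 k)))
  rw [le_centralizer_iff]
  exact (le_sup_right.trans h.ncl_eq.ge).trans (ncl_le_centralizer this (le_normalizer.trans (nWE E)))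
theorem res_eq (hQ : IsPGroup p Q) (hn : Q ≤ 𝐍 E) : pResidualOf p (E ⊔ Q) = E := by
  rw [sup_comm, pResidualOf_sup_eq hQ hn, h.res]
/-- a subgroup whose commutator with `E` is a `B(T)`-invariant `p`-group normalizes `E` -/
theorem norm_of (h0 : X ≤ H) (h1 : IsPGroup p Q) (h2 : ⁅E, X⁆ ≤ Q) (h3 : Q ≤ 𝐍 E) : X ≤ 𝐍 E := by
  have e : pResidualOf p (ncl E X) = E := by
    rw [ncl_eq_sup_commutator, h.res_eq (h1.to_le h2) (h2.trans h3)]
  rw [← e]; exact le_normalizer_pResidualOf_of_le (le_normalizer_ncl _ _)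
end BH

theorem blk_bh {H : Subgroup G} (cp : CharPOf p H) (hT : IsSyl p T H) (hE : E ≤ H) (h : IsBaumannBlock p T E) :
    BH p H T E := ⟨blk_kb h, cp, hT, hE, h.2.1⟩

end H118
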