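import Cfsg.Agent.H18.BK9
import Cfsg.Agent.H28.Sym
import Cfsg.Agent.H10.SL

/-! Baumann blocks, part 10: facts on symmetric groups and on `SL₂`. -/

set_option autoImplicit false
set_option linter.unusedSectionVars false
namespace H118
open Subgroup H26 H4 Cfsg Matrix H18.PU Equiv NMx
open scoped commutatorElement MatrixGroups Pointwise

section perm
variable {α : Type*} [Fintype α] [DecidableEq α] {i j k l u v : α}

theorem fix_ind {P : Perm α → Prop} (h1 : P 1)
    (h2 : ∀ σ k l, k ≠ l → k ≠ i → k ≠ j → l ≠ i → l ≠ j → P σ → P (swap k l * σ)) (σ : Perm α) (a : σ i = i)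
    (b : σ j = j) : P σ := by
  induction e : σ.support.card using Nat.strong_induction_on generalizing σ with | _ n ih
  by_cases c : σ = 1
  · exact c ▸ h1
  obtain ⟨x, hx⟩ := not_forall.1 (mt Equiv.ext c)
  have k1 : x ≠ i := fun e => hx (e ▸ a)
  have k2 : x ≠ j := fun e => hx (e ▸ b)
  have k3 : σ x ≠ i := fun e => k1 (σ.injective (e.trans a.symm))
  have k4 : σ x ≠ j := fun e => k2 (σ.injective (e.trans b.symm))
  rw [← swap_mul_self_mul x (σ x) σ]
  refine h2 _ _ _ (Ne.symm hx) k1 k2 k3 k4 (ih _ (e ▸ Perm.card_support_swap_mul hx) _ ?_ ?_ rfl)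
  · rw [Perm.mul_apply, a, swap_apply_of_ne_of_ne k1.symm k3.symm]
  · rw [Perm.mul_apply, b, swap_apply_of_ne_of_ne k2.symm k4.symm]

theorem swap_eq_cases (h : i ≠ j) (e : swap k l = swap i j) : k = i ∧ l = j ∨ k = j ∧ l = i := by
  have a := congrArg (· i) e
  simp only [swap_apply_left, swap_apply_def] at a
  grind

theorem comm_swap {σ : Perm α} (h : i ≠ j) (e : Commute σ (swap i j)) : σ i = i ∧ σ j = j ∨ σ i = j ∧ σ j = i :=
  swap_eq_cases h (by rw [swap_apply_apply, e.eq, mul_inv_cancel_right])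

theorem exists_fix (a : k ≠ l) (b : u ≠ v) (k1 : k ≠ i) (k2 : k ≠ j) (l1 : l ≠ i) (l2 : l ≠ j) (u1 : u ≠ i) (u2 : u ≠ j)
    (v1 : v ≠ i) (v2 : v ≠ j) : ∃ σ : Perm α, σ i = i ∧ σ j = j ∧ σ k = u ∧ σ l = v := by
  refine ⟨swap (swap k u l) v * swap k u, ?_⟩
  simp only [Perm.mul_apply, swap_apply_def]
  grind

theorem lift_ker {H K : Type*} [Group H] [Group K] (θ : H →* Perm α) (π : H →* K) (hs : Function.Surjective θ)
    (hc : ∀ z, θ z = 1 → ∀ g, Commute (π z) (π g)) {a g : H} (ij : i ≠ j) (ha : θ a = swap i j) (a2 : a * a = 1)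
    (h1 : ¬ Commute (θ g) (swap i j)) (h2 : Commute (θ a) (θ (g * a * g⁻¹))) (h3 : Commute (π a) (π (g * a * g⁻¹))) :
    ∀ y ∈ normalClosure {a}, θ y = 1 → π y = 1 := by
  have cc : ∀ x : H, θ (x * a * x⁻¹) = swap (θ x i) (θ x j) := fun x => by
    rw [map_mul, map_mul, map_inv, ha, swap_apply_apply]
  have md : ∀ x y, θ x = θ y → Commute (π x) (π a) → Commute (π y) (π a) := fun x y e c => by
    rw [← mul_inv_cancel_left x y, map_mul]
    exact c.mul_left (hc _ (by rw [map_mul, map_inv, e, inv_mul_cancel]) a)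
  have ne : θ g i ≠ θ g j := (θ g).injective.ne ij
  have d : θ g i ≠ i ∧ θ g i ≠ j ∧ θ g j ≠ i ∧ θ g j ≠ j := by
    rw [ha, cc] at h2
    have n : swap (θ g i) (θ g j) ≠ swap i j := fun e => h1 (by
      rw [swap_apply_apply, mul_inv_eq_iff_eq_mul] at e; exact e)
    have := comm_swap ne h2
    have c := swap_comm i j
    simp only [swap_apply_def] at this
    grind
  have ds : ∀ k l, k ≠ l → k ≠ i → k ≠ j → l ≠ i → l ≠ j → ∀ b, θ b = swap k l → Commute (π b) (π a) :=
    fun k l e k1 k2 l1 l2 b hb => by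
    obtain ⟨σ, s1, s2, s3, s4⟩ := exists_fix ne e d.1 d.2.1 d.2.2.1 d.2.2.2 k1 k2 l1 l2
    obtain ⟨x, rfl⟩ := hs σ
    have z := hc (x⁻¹ * a * x * a⁻¹) (by
      have := cc x
      rw [s1, s2, ← ha, map_mul, map_mul, map_inv, mul_inv_eq_iff_eq_mul] at this
      simp only [map_mul, map_inv]
      rw [mul_assoc _ (θ a), ← this]; group) (g * a * g⁻¹)
    refine md (x * (g * a * g⁻¹) * x⁻¹) b (by rw [hb, map_mul, map_mul _ x, cc, map_inv, ← swap_apply_apply, s3, s4]) ?_
    have := ((z.mul_left h3).symm.map (MulAut.conj (π x)))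
    simp only [MulAut.conj_apply, ← map_mul, ← map_inv] at this
    rwa [show x * (x⁻¹ * a * x * a⁻¹ * a) * x⁻¹ = a by group] at this
  have un : ∀ x, Commute (θ x) (swap i j) → Commute (π x) (π a) := by
    have : ∀ σ : Perm α, σ i = i → σ j = j → ∀ x, θ x = σ → Commute (π x) (π a) := fun σ =>
      fix_ind (P := fun σ => ∀ x, θ x = σ → Commute (π x) (π a)) (fun x e => hc x e a) (fun σ k l e k1 k2 l1 l2 ih x hx => by
        obtain ⟨b, hb⟩ := hs (swap k l)
        rw [← mul_inv_cancel_left b x, map_mul]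
        exact (ds k l e k1 k2 l1 l2 b hb).mul_left (ih _ (by rw [map_mul, map_inv, hb, hx, inv_mul_cancel_left]))) σ
    intro x c
    rcases comm_swap ij c with c | c
    · exact this _ c.1 c.2 x rfl
    rw [← mul_inv_cancel_left a x, map_mul]
    refine (Commute.refl _).mul_left (this _ ?_ ?_ _ rfl) <;> simp [ha, c.1, c.2]
  have un' : ∀ x y, swap (θ x i) (θ x j) = swap (θ y i) (θ y j) → π (x * a * x⁻¹) = π (y * a * y⁻¹) := fun x y e => by
    have := un (y⁻¹ * x) (by
      rw [swap_apply_apply, swap_apply_apply] at e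
      rw [map_mul, map_inv, Commute, SemiconjBy, mul_assoc, mul_inv_eq_iff_eq_mul.1 e]; group)
    rw [show x * a * x⁻¹ = y * (y⁻¹ * x * a * (y⁻¹ * x)⁻¹) * y⁻¹ by group, map_mul, map_mul, map_mul _ (_ * a), map_mul _ _ a,
      this.eq, map_inv _ (y⁻¹ * x), mul_inv_cancel_right, ← map_mul, ← map_mul]
  have ex : ∀ k l, ∃ t : K, (k = l → t = 1) ∧ (k ≠ l → ∀ x, swap (θ x i) (θ x j) = swap k l → t = π (x * a * x⁻¹)) :=
    fun k l => by
    by_cases e : k = l
    · exact ⟨1, fun _ => rfl, fun c => absurd e c⟩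
    obtain ⟨s, hs'⟩ := isConj_iff.1 (Perm.isConj_swap ij e)
    obtain ⟨x, rfl⟩ := hs s
    exact ⟨_, fun c => absurd c e, fun _ y hy => un' x y (by rw [hy, swap_apply_apply, hs'])⟩
  choose t t0 t1 using ex
  have ex : ∀ k l, k ≠ l → ∃ x, swap (θ x i) (θ x j) = swap k l := fun k l e => by
    obtain ⟨s, hs'⟩ := isConj_iff.1 (Perm.isConj_swap ij e)
    obtain ⟨x, rfl⟩ := hs s
    exact ⟨x, by rw [swap_apply_apply, hs']⟩
  have t2 : ∀ k l, t k l * t k l = 1 := fun k l => by
    by_cases e : k = l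
    · rw [t0 k l e, one_mul]
    obtain ⟨x, hx⟩ := ex k l e
    rw [t1 k l e x hx, ← map_mul, conj_mul, a2, mul_one, mul_inv_cancel, map_one]
  have t3 : ∀ k l u v, k ≠ l → u ≠ v → t k l * t u v * t k l = t (swap k l u) (swap k l v) := fun k l u v e e' => by
    obtain ⟨x, hx⟩ := ex k l e
    obtain ⟨y, hy⟩ := ex u v e'
    rw [t1 _ _ ((swap k l).injective.ne e') (x * a * x⁻¹ * y) (by
      rw [map_mul, cc, hx, Perm.mul_apply, Perm.mul_apply, swap_apply_apply, hy, ← swap_apply_apply])]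
    nth_rw 2 [← inv_eq_of_mul_eq_one_right (t2 k l)]
    rw [t1 k l e x hx, t1 u v e' y hy, ← map_inv, ← map_mul, ← map_mul]
    congr 1; group
  obtain ⟨φ, hφ⟩ := H28.exists_hom_swap t (fun k => t0 k k rfl) (fun k l => by
      by_cases e : k = l
      · rw [e]
      obtain ⟨x, hx⟩ := ex k l e
      rw [t1 k l e x hx, t1 l k (Ne.symm e) x (hx.trans (swap_comm _ _))]) t2
    (fun k l m a b c => by rw [t3 k l l m a b, swap_apply_right, swap_apply_of_ne_of_ne c.symm b.symm])
    fun k l u v a b c d => by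
      by_cases e : k = l
      · rw [t0 k l e]; exact Commute.one_left _
      by_cases e' : u = v
      · rw [t0 u v e']; exact Commute.one_right _
      have := t3 k l u v e e'
      rw [swap_apply_of_ne_of_ne a.symm c.symm, swap_apply_of_ne_of_ne b.symm d.symm] at this
      rw [Commute, SemiconjBy]
      nth_rw 2 [← this]
      rw [mul_assoc, t2, mul_one]
  intro y hy e
  have : normalClosure {a} ≤ (φ.comp θ).eqLocus π := (closure_le _).2 fun z hz => by
    obtain ⟨_, rfl, c⟩ := Group.mem_conjugatesOfSet_iff.1 hz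
    obtain ⟨x, rfl⟩ := isConj_iff.1 c
    show φ (θ _) = _
    rw [cc, hφ, t1 _ _ ((θ x).injective.ne ij) x rfl]
  rw [← show φ (θ y) = π y from this hy, e, map_one]

theorem syl_swap {n : ℕ} (hn : 2 ≤ n) {S : Subgroup (Perm (Fin (2 ^ n + 1)))} (hS : IsSyl 2 S ⊤) {i j : Fin (2 ^ n + 1)}
    (ij : i ≠ j) : ∃ s ∈ S, ¬ Commute s (swap i j) := by
  have := Nat.fact_prime_two
  have l : 4 ≤ 2 ^ n := Nat.pow_le_pow_right two_pos hn
  let z : Fin (2 ^ n + 1) := ⟨2 ^ n - 1, by omega⟩
  have z0 : z ≠ 0 := fun e => by have := congrArg Fin.val e; simp [z] at this; omega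
  have c := Fin.isCycle_cycleRange z0
  have s : z.cycleRange.support.card = 2 ^ n := by
    have := Fin.cycleType_cycleRange z0
    rw [c.cycleType, Multiset.singleton_inj] at this
    rw [this]; show 2 ^ n - 1 + 1 = _; omega
  obtain ⟨g, -, hg⟩ := hS.exists_cj_le (Q := zpowers z.cycleRange) (IsPGroup.of_card (n := n)
    (by rw [Nat.card_zpowers, c.orderOf, s])) le_top
  refine ⟨_, hg (conj_mem_cj g (mem_zpowers _)), fun e => ?_⟩
  have c' := c.conj (g := g)
  rw [← Perm.card_support_conj (σ := g)] at s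
  generalize g * z.cycleRange * g⁻¹ = σ at *
  have k : ∀ x, σ x ≠ x → (σ ^ 2) x ≠ x := fun x hx e => by
    have := Nat.le_of_dvd two_pos (orderOf_dvd_of_pow_eq_one ((c'.pow_eq_one_iff' hx).2 e))
    rw [c'.orderOf, s] at this; omega
  rcases comm_swap ij e with e | e
  · have := Finset.card_le_card (show {i, j} ⊆ σ.supportᶜ from fun x hx => by
      rcases Finset.mem_insert.1 hx with rfl | hx
      · simp [e.1]
      · simp [Finset.mem_singleton.1 hx, e.2])
    rw [Finset.card_pair ij, Finset.card_compl, s, Fintype.card_fin] at this; omega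
  · exact k i (e.1 ▸ ij.symm) (by rw [pow_two, Perm.mul_apply, e.1, e.2])

theorem res_le_alt (Y : Subgroup (Perm α)) : pResidualOf 2 Y ≤ alternatingGroup α :=
  pResidualOf_le_iff.2 fun x _ h => mem_of_pow_mem_coprime h (pow_orderOf_eq_one x ▸ one_mem _)
    (Perm.mem_alternatingGroup.2 (by rw [map_pow, Int.units_sq]))

theorem alt_le {Y : Subgroup (Perm α)} (h : 5 ≤ Nat.card α) (h1 : ⊤ ≤ 𝐍 Y) (h2 : Y ≠ ⊥) : alternatingGroup α ≤ Y :=
  have := normal_of_top_le_normalizer h1
  Perm.alternatingGroup_le_of_normal h ((nontrivial_iff_ne_bot Y).2 h2)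

theorem alt_sup (ij : i ≠ j) : alternatingGroup α ⊔ zpowers (swap i j) = ⊤ := eq_top_iff.2 fun σ _ => by
  rcases Int.units_eq_one_or (Perm.sign σ) with e | e
  · exact mem_sup_left e
  rw [← mul_swap_mul_self i j σ]
  exact mul_mem_sup (Perm.mem_alternatingGroup.2 (by simp [e, ij])) (mem_zpowers _)

theorem stab_equiv {m : ℕ} (i : Fin (m + 1)) :
    Nonempty (↥(alternatingGroup (Fin (m + 1)) ⊓ MulAction.stabilizer _ i) ≃* alternatingGroup (Fin m)) := by
  have e : alternatingGroup (Fin (m + 1)) ⊓ MulAction.stabilizer _ i =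
      (alternatingGroup ({i}ᶜ : Finset _)).map Perm.ofSubtype := by
    rw [alternatingGroup.map_ofSubtype, inf_comm]
    congr 1; ext σ
    rw [Perm.mem_range_ofSubtype_iff]
    exact ⟨fun a x hx => by simp at hx ⊢; rintro rfl; exact hx a, fun a => by_contra fun c => by simpa using a (Perm.mem_support.2 c)⟩
  exact ⟨((MulEquiv.subgroupCongr e).trans (equivMapOfInjective _ _ Perm.ofSubtype_injective).symm).trans
    (Fintype.equivFinOfCardEq (by simp [Finset.card_compl])).altCongrHom⟩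

theorem stab_max (h : 3 ≤ Nat.card α) {Y : Subgroup (Perm α)} (h1 : alternatingGroup α ⊓ MulAction.stabilizer _ i ≤ Y)
    {σ : Perm α} (h2 : σ ∈ Y) (h3 : σ ∈ alternatingGroup α) (h4 : σ i ≠ i) : alternatingGroup α ≤ Y := by
  have := alternatingGroup.isPreprimitive_of_three_le_card α h
  have : Nontrivial α := Finite.one_lt_card_iff_nontrivial.1 (by omega)
  exact subgroupOf_eq_top.1 ((MulAction.IsPreprimitive.isCoatom_stabilizer_of_isPreprimitive (alternatingGroup α) i).2
    (Y.subgroupOf _) (lt_of_le_of_ne (fun x hx => h1 ⟨x.2, hx⟩) fun e => h4 (e.ge (show ⟨σ, h3⟩ ∈ Y.subgroupOf _ from h2))))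

theorem exists_mv {n : ℕ} (h : 5 ≤ n) {v : Fin n → ZMod 2} {i j : Fin n} (ij : j ≠ i) (e : v j = v i) :
    ∃ σ ∈ alternatingGroup (Fin n), σ i ≠ i ∧ pa σ v = v := by
  obtain ⟨k, hk, l, hl, kl, e'⟩ := Finset.exists_ne_map_eq_of_card_lt_of_maps_to (s := {i, j}ᶜ) (t := Finset.univ)
    (by rw [Finset.card_compl, Finset.card_pair ij.symm, Finset.card_univ, ZMod.card, Fintype.card_fin]; omega) (f := v)
    fun _ _ => Finset.mem_univ _
  simp only [Finset.mem_compl, Finset.mem_insert, Finset.mem_singleton, not_or] at hk hl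
  refine ⟨swap i j * swap k l, Perm.mem_alternatingGroup.2 (by simp [ij.symm, kl]), ?_, ?_⟩
  · rwa [Perm.mul_apply, swap_apply_of_ne_of_ne (Ne.symm hk.1) (Ne.symm hl.1), swap_apply_left]
  · have : ∀ a b, v a = v b → pa (swap a b) v = v := fun a b e => funext fun x => by
      simp only [pa, swap_inv, swap_apply_def]; split_ifs <;> simp [*]
    rw [pa_mul, this _ _ e', this _ _ e.symm]
end perm

section sl
variable {F F' : Type*} [Field F] [Field F']

theorem sl_ch (m : SL(2, F)) : m.1 * m.1 = m.1.trace • m.1 - 1 := by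
  have := m.2
  rw [det_fin_two] at this
  ext i j; fin_cases i <;> fin_cases j <;> simp [mul_apply, Fin.sum_univ_two, trace_fin_two] <;> grind

theorem sl_scal {m : SL(2, F)} {c d : F} (hc : c ≠ 0) (h : c • m.1 = d • 1) (n : SL(2, F)) : Commute m n :=
  Subtype.ext (smul_right_injective _ hc (by
    show c • (m.1 * n.1) = c • (n.1 * m.1)
    rw [← smul_mul_assoc, ← mul_smul_comm, h]; simp))

theorem sl_23 {x y : SL(2, F)} (hx : x * x = 1) (hy : y * y * y = 1) (c : Commute x y) :
    (∀ n, Commute x n) ∨ ∀ n, Commute y n := by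
  have a : x.1 * x.1 = 1 := congrArg Subtype.val hx
  have b : y.1 * y.1 * y.1 = 1 := congrArg Subtype.val hy
  have d : x.1 * y.1 = y.1 * x.1 := congrArg Subtype.val c.eq
  have e := sl_ch y
  by_cases t : y.1.trace = 0
  · rw [e, t, zero_smul, zero_sub, neg_one_mul] at b
    exact .inr (sl_scal (c := -1) (d := 1) (by simp) (by simpa using b))
  have k : x.1 * y.1 * (x.1 * y.1) = _ := sl_ch (x * y)
  rw [mul_assoc, ← mul_assoc y.1, ← d, mul_assoc, ← mul_assoc, a, one_mul, e, sub_left_inj] at k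
  have k' : (x * y).1.trace • x.1 = y.1.trace • 1 := by
    have := congrArg (· * (y.1 * y.1)) k
    simp only [smul_mul_assoc] at this
    rw [← mul_assoc, b, show (x * y).1 = x.1 * y.1 from rfl, mul_assoc, ← mul_assoc y.1, b, mul_one] at this
    exact this.symm
  exact .inl (sl_scal (fun z => t (by rw [z] at k'; simpa using (congrFun (congrFun k' 0) 0).symm)) k')

theorem not_alt {n : ℕ} (h : 7 ≤ n) (R : Subgroup SL(2, F)) : IsEmpty (alternatingGroup (Fin n) ≃* R) := ⟨fun e => by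
  obtain ⟨s, -, hs⟩ := Finset.exists_subset_card_eq (s := (Finset.univ : Finset (Fin n))) (n := 7) (by simpa)
  let k : alternatingGroup s ≃* alternatingGroup (Fin 7) := (Fintype.equivFinOfCardEq (by simpa)).altCongrHom
  let f := R.subtype.comp (e.toMonoidHom.comp ((alternatingGroup.ofSubtype s).comp k.symm.toMonoidHom))
  have hf : Function.Injective f :=
    R.subtype_injective.comp (e.injective.comp (alternatingGroup.ofSubtype_injective.comp k.symm.injective))
  rcases sl_23 (x := f ⟨swap 0 1 * swap 2 3, Perm.mem_alternatingGroup.2 (by decide)⟩)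
    (y := f ⟨swap 4 5 * swap 4 6, Perm.mem_alternatingGroup.2 (by decide)⟩)
    (by rw [← map_mul, map_eq_one_iff f hf]; decide) (by rw [← map_mul, ← map_mul, map_eq_one_iff f hf]; decide)
    (Commute.map (show _ = _ by decide) f) with c | c
  · exact absurd ((c (f ⟨swap 0 1 * swap 0 2, Perm.mem_alternatingGroup.2 (by decide)⟩)).of_map hf).eq (by decide)
  · exact absurd ((c (f ⟨swap 0 1 * swap 4 5, Perm.mem_alternatingGroup.2 (by decide)⟩)).of_map hf).eq (by decide)⟩

theorem ds_congr (e : F ≃+* F') : Nonempty (DS F ≃* DS F') := by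
  let g : SL(2, F) ≃* SL(2, F') := MonoidHom.toMulEquiv (SpecialLinearGroup.map (e : F →+* F'))
    (SpecialLinearGroup.map (e.symm : F' →+* F)) (by ext; simp) (by ext; simp)
  refine ⟨(g.subgroupMap _).trans (MulEquiv.subgroupCongr ?_)⟩
  rw [DS, DS, _root_.commutator_def, map_commutator, map_top_of_surjective (g : SL(2, F) →* SL(2, F')) g.surjective, _root_.commutator_def]

theorem ds_dvd {p : ℕ} [Fact p.Prime] (χ : SL(2, F) → ZMod p) (h1 : ∀ m n, χ (m * n) = χ m + χ n) (h2 : ∃ m, χ m = 1) :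
    Nat.card (DS F) * p ∣ Nat.card SL(2, F) := by
  let f : SL(2, F) →* Multiplicative (ZMod p) := MonoidHom.mk' (fun m => .ofAdd (χ m)) h1
  have : Fact (Nat.card (Multiplicative (ZMod p))).Prime := ⟨by simpa using Fact.out⟩
  obtain ⟨m, hm⟩ := h2
  have r := f.range.eq_bot_or_eq_top_of_prime_card.resolve_left fun e => one_ne_zero (hm.symm.trans (e.le ⟨m, rfl⟩))
  rw [← f.ker.card_mul_index, index_ker, r, card_top, Nat.card_congr Multiplicative.toAdd, Nat.card_zmod]
  exact Nat.mul_dvd_mul_right (card_dvd_of_le (Abelianization.commutator_subset_ker f)) _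

theorem ds_two : Nat.card (DS (ZMod 2)) ∣ 3 := by
  have := ds_dvd (p := 2) (fun m : SL(2, ZMod 2) => (m.1 0 0 + m.1 1 1 + 1) * (m.1 0 1 + m.1 1 0 + m.1 0 1 * m.1 1 0))
    (by decide +kernel) (by decide +kernel)
  rw [H10.card_SL2, ZMod.card] at this
  exact Nat.dvd_of_mul_dvd_mul_right two_pos this

theorem ds_three : Nat.card (DS (ZMod 3)) ∣ 8 := by
  have := ds_dvd (p := 3) (fun m : SL(2, ZMod 3) => (m.1 0 0 + m.1 1 1) * m.1 1 0 - m.1 0 1 * m.1 1 1 * (m.1 1 0 ^ 2 - 1))
    (by decide +kernel) (by decide +kernel)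
  rw [H10.card_SL2, ZMod.card] at this
  exact Nat.dvd_of_mul_dvd_mul_right three_pos this
end sl

end H118
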