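import Cfsg.Agent.H18.BK10

/-! Baumann blocks, part 11: a minimal parabolic group `PH` has a subnormal block outside `M` (`PH.exists_ex`). -/

set_option autoImplicit false
set_option linter.unusedSectionVars false
namespace H118
open Subgroup H26 H4 Cfsg Matrix H18.PU Equiv NMx
open H2 (SubnIn)
open scoped commutatorElement MatrixGroups Pointwise

variable {G : Type*} [Group G] [Finite G] {p q : ℕ} [hp : Fact p.Prime]
  {V P A B C D E F S T M X Y K R Z H L N U γ : Subgroup G} {𝒟 Ω : Set (Subgroup G)}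

omit [Finite G] in
theorem two_cases {t x : G} (t2 : t * t = 1) (h : x ∈ zpowers t) : x = 1 ∨ x = t := by
  obtain ⟨n, rfl⟩ := mem_zpowers_iff.1 h
  have e : t ^ (2 : ℤ) = 1 := by rw [zpow_two, t2]
  rcases Int.even_or_odd' n with ⟨k, rfl | rfl⟩
  · rw [_root_.zpow_mul, e, _root_.one_zpow]; exact .inl rfl
  · rw [_root_.zpow_add, _root_.zpow_mul, e, _root_.one_zpow, one_mul, zpow_one]; exact .inr rfl

omit [Finite G] in
theorem iM_top {G' : Type*} [Group G'] (f : H →* G') : iM f H = f.range := by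
  rw [iM, subgroupOf_self, MonoidHom.range_eq_map]

omit [Finite G] in
theorem iM_range {G' : Type*} [Group G'] (f : H →* G') (h : A ≤ H) : (f.comp (inclusion h)).range = iM f A := by
  rw [MonoidHom.range_comp, inclusion_range]; rfl

theorem iM_alt {α : Type*} [Fintype α] [DecidableEq α] (h5 : 5 ≤ Nat.card α) {f : H →* Perm α} (hf : f.range = ⊤)
    (h1 : F ≤ H) (h2 : H ≤ 𝐍 F) (h3 : pResidualOf 2 F = F) (h4 : iM f F ≠ ⊥) : iM f F = alternatingGroup α :=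
  have := Nat.fact_prime_two
  le_antisymm (by rw [← h3, iM_res h1]; exact res_le_alt _) (alt_le h5 ((iM_top f).trans hf ▸ iM_n h2) h4)

theorem root_swap {α : Type*} [Fintype α] [DecidableEq α] (k : Geo p V P 𝒟 q Ω) (hγ : γ ∈ Ω) (hq : q = 2) (hD : D ∈ 𝒟)
    (h1 : ¬ D ≤ γ) (h0 : EE 𝒟 γ D ⊓ 𝐂 ⁅V, EE 𝒟 γ D⁆ = ⊥) (σ : EE 𝒟 γ D ≃* Perm α)
    (hσ : ∀ i j, i ≠ j → zpowers (σ.symm (swap i j) : G) ∈ 𝒟) (hA : A ∈ 𝒟) (h2 : A ⊔ D ≤ EE 𝒟 γ D)
    (g : Good V (A ⊔ D) q) : ∃ i j, i ≠ j ∧ zpowers (σ.symm (swap i j) : G) = A := by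
  obtain ⟨i, j, ij, n⟩ : ∃ i j, i ≠ j ∧ ¬ zpowers (σ.symm (swap i j) : G) ≤ γ := by
    by_contra! c
    have : ∀ s : Perm α, (σ.symm s : G) ∈ γ := fun s => by
      induction s using Perm.swap_induction_on with
      | one => rw [map_one]; exact one_mem _
      | swap_mul s i j e k => rw [map_mul]; exact mul_mem (c i j e (mem_zpowers _)) k
    exact h1 fun d hd => by simpa using this (σ ⟨d, self_le_EE hD h1 hd⟩)
  have l : zpowers (σ.symm (swap i j) : G) ≤ EE 𝒟 γ D := zpowers_le.2 (σ.symm _).2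
  obtain ⟨x, hx, e⟩ : ∃ x ∈ EE 𝒟 γ D, cj x (zpowers (σ.symm (swap i j) : G)) = D := by
    by_cases c : zpowers (σ.symm (swap i j) : G) = D
    · exact ⟨1, one_mem _, (cj_one _).trans c⟩
    obtain ⟨x, hx, e⟩ := (k.pair_two hγ hq hD h1 (k.mem_cls hγ hD h1 h0 (hσ i j ij) n l) c).1.exists_cj k.toFam (hσ i j ij)
      le_sup_left hD le_sup_right
    exact ⟨x, sup_le l (le_sup_right.trans h2) hx, e⟩
  obtain ⟨y, hy, e'⟩ := g.exists_cj k.toFam hD le_sup_right hA le_sup_left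
  let z : EE 𝒟 γ D := ⟨y * x, mul_mem (h2 hy) hx⟩
  refine ⟨σ z i, σ z j, (σ z).injective.ne ij, ?_⟩
  rw [← e', ← congrArg (fun X => cj y X) e, ← cj_mul, cj_zpowers, swap_apply_apply, map_mul, map_mul, map_inv, σ.symm_apply_apply]; rfl

/-- a subnormal block outside the maximal subgroup `M` -/
structure EX (p : ℕ) (P T M E : Subgroup G) : Prop extends SB p P T E where
  nM : ¬ E ≤ M
  ty : (∃ (F : Type) (_ : Field F), Nonempty (E ⧸ pCore p E ≃* DS F)) ∨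
    ∃ c k, c = 2 ^ k + 1 ∧ Nonempty (E ⧸ pCore p E ≃* alternatingGroup (Fin c))
  ex : ∃ A ≤ 𝐁 p T, ⁅VV p P, A⁆ ≤ WW p E ∧ ¬ A ≤ 𝐎 p P

namespace PH

theorem sym (h : PH 2 P T M) {m k : ℕ} (e : 2 * m = 2 ^ k) (k2 : 2 ≤ k) (sn : SubnIn H P) (hC : P ⊓ 𝐂 (VV 2 P) ≤ H)
    (θ : H →* Perm (Fin (2 * m + 1))) (hs : θ.range = ⊤) (hk : θ.ker = (P ⊓ 𝐂 (VV 2 P)).subgroupOf H)
    (hm : ActsAsOddPermModuleOnSection (2 * m + 1) ⊤ H ⁅VV 2 P, H⁆ (⁅VV 2 P, H⁆ ⊓ 𝐂 H)) (hB : 𝐁 2 T ≤ 𝐍 H)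
    (h1 : E ≤ H) (h2 : pResidualOf 2 E = E) (h3 : 𝐁 2 T ≤ 𝐍 E) (h4 : ¬ E ≤ M) (h5 : ⁅𝐎 2 P, E⁆ ≤ VV 2 P) {a : H}
    (ha : (a : G) ∈ 𝐁 2 T) (a2 : (a : G) * a = 1) {i j : Fin (2 * m + 1)} (ij : i ≠ j) (h6 : θ a = swap i j)
    (h7 : ⁅𝐁 2 T, zpowers (a : G)⁆ ≤ ⁅VV 2 P, E⁆) : EX 2 P T M (ncl E H) := by
  have hV := h.Vea
  have nV := h.nV
  have VB := h.VB
  have HP := sn.le
  have EF := le_ncl E H
  have FH : ncl E H ≤ H := ncl_le_self h1
  have nF := le_normalizer_ncl E H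
  have QF : ⁅𝐎 2 P, ncl E H⁆ ≤ VV 2 P := (commutator_comm _ _).le.trans (commutator_ncl_le ((commutator_comm _ _).le.trans h5)
    (HP.trans h.nQ) (HP.trans nV) (h1.trans (HP.trans nV)))
  have rF : pResidualOf 2 (ncl E H) = ncl E H := le_antisymm (pResidualOf_le _ _)
    (ncl_le (h2.ge.trans (pResidualOf_mono EF)) (le_normalizer_pResidualOf_of_le nF))
  have bF := le_normalizer_ncl_of_le h3 hB
  generalize ncl E H = F at *
  have n5 : 5 ≤ Nat.card (Fin (2 * m + 1)) := by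
    have : 2 ^ 2 ≤ 2 ^ k := Nat.pow_le_pow_right two_pos k2
    rw [Nat.card_eq_fintype_card, Fintype.card_fin]; omega
  have FP := FH.trans HP
  have sF := (SubnIn.of_normal FH nF).trans sn
  have VC : VV 2 P ≤ P ⊓ 𝐂 (VV 2 P) := le_inf (h.VT.trans h.syl.le) (elemAb_le_centralizer hV)
  have pV := elemAb_isPGroup hV
  set W := ⁅VV 2 P, F⁆
  set Z := F ⊓ 𝐂 (VV 2 P)
  have WV : W ≤ VV 2 P := commutator_le_of_le_normalizer (FP.trans nV)
  have WZ : W ≤ Z := le_inf (commutator_le_of_le_normalizer' (VC.trans (hC.trans nF))) (WV.trans (VC.trans inf_le_right))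
  have nW : H ≤ 𝐍 W := le_normalizer_commutator (HP.trans nV) nF
  have WW' : ⁅W, F⁆ = W := commutator_commutator_eq_of_pResidualOf_eq (pV.to_le WV) rF
  have QW : ⁅𝐎 2 P, F⁆ ≤ W := (commutator_commutator_eq_of_pResidualOf_eq (pV.to_le QF) rF).ge.trans
    (commutator_mono QF le_rfl)
  have ZQ : Z ≤ 𝐎 2 P := h.le_Q (inf_le_inf_right _ FP) (pResidualOf_le_centralizer_of_stab pV
    ((commutator_mono le_rfl inf_le_left).trans QF) inf_le_right)
  have pZ := (isPGroup_pCoreOf 2 P).to_le ZQ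
  have FM : ¬ F ≤ M := fun c => h4 (EF.trans c)
  have FC : ¬ F ≤ P ⊓ 𝐂 (VV 2 P) := fun c => FM (c.trans h.CM)
  have nWC : ¬ W ≤ 𝐂 F := fun c => FC (le_inf FP (le_centralizer_of_stab rF (pV.to_le WV) le_rfl (le_centralizer_iff.1 c)))
  have θF := iM_alt n5 hs FH nF rF (mt (iM_eq_bot hk FH).1 FC)
  have aH : zpowers (a : G) ≤ H := zpowers_le.2 a.2
  have aT : zpowers (a : G) ≤ T := zpowers_le.2 (bau_le T ha)
  have XH : zpowers (a : G) ⊔ F ≤ H := sup_le aH FH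
  have θX : iM θ (zpowers (a : G) ⊔ F) = ⊤ := by
    rw [iM_sup aH FH, θF, eq_top_iff, ← alt_sup ij, sup_comm]
    exact sup_le_sup_right (zpowers_le.2 (h6 ▸ mem_iM (mem_zpowers _))) _
  have s := iM_syl (f := θ) ((isSyl_self (h.syl.isP.to_le aT)).sup (h.syl.inf_of_subnIn sF) (aH.trans nF)
    (h.syl.isP.to_le (sup_le aT inf_le_left))) XH
  rw [θX] at s
  obtain ⟨_, ⟨t, ht, rfl⟩, t1⟩ : ∃ s ∈ iM θ (zpowers (a : G) ⊔ T ⊓ F), ¬ Commute s (swap i j) := by
    clear * - s e k2 ij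
    generalize iM θ _ = S at s
    generalize 2 * m = c at *
    subst e
    exact syl_swap k2 s ij
  have tX : (t : G) ∈ zpowers (a : G) ⊔ F := sup_le_sup_left (inf_le_right : T ⊓ F ≤ F) _ ht
  have tT : (t : G) ∈ T := sup_le aT inf_le_left ht
  have kr : ∀ x : H, θ x = 1 ↔ (x : G) ∈ P ⊓ 𝐂 (VV 2 P) := fun x => SetLike.ext_iff.1 hk x
  have nY : zpowers (a : G) ⊔ F ≤ 𝐍 ⁅F, zpowers (a : G)⁆ :=
    sup_le (le_normalizer_commutator_right _ _) (le_normalizer_commutator_left _ _)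
  have YF : ⁅F, zpowers (a : G)⁆ ≤ F := commutator_le_of_le_normalizer (aH.trans nF)
  have Fa : F ≤ ⁅F, zpowers (a : G)⁆ := by
    have := le_inf ((iM_le hk hC FH (YF.trans FH)).1 (θF.le.trans (alt_le n5 (θX ▸ iM_n nY) fun c => t1 ?_))) le_rfl
    · rw [dedekind_left YF (YF.trans (FP.trans h.nC)), inf_right_comm, inf_eq_right.2 FP] at this
      exact rF.ge.trans ((pResidualOf_mono this).trans (pResidualOf_sup_le' pZ (inf_le_left.trans (le_sup_right.trans nY))))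
    rw [← h6, ← commutatorElement_eq_one_iff_commute, ← map_commutatorElement, kr]
    exact commutator_sup_le ((commutator_eq_bot_iff'.2 (comm_le_centralizer inferInstance)).trans_le bot_le)
      ((iM_eq_bot hk (YF.trans FH)).1 c) (aH.trans (HP.trans h.nC)) (FP.trans h.nC)
      (commutator_mem_commutator tX (mem_zpowers _))
  have ZW : Z ≤ W := by
    have nZ : H ≤ 𝐍 Z := le_normalizer_inf nF (le_normalizer_centralizer (HP.trans nV))
    have ZF : ⁅Z, F⁆ ≤ W := (commutator_mono ZQ le_rfl).trans QW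
    refine le_of_le_comm_sup (P := zpowers (a : G)) (h.syl.isP.to_le (sup_le (ZQ.trans h.QT) aT))
      ((sup_le (inf_le_left.trans FH) aH).trans nW) fun z hz => ?_
    set N := ⁅Z, zpowers (a : G)⁆ ⊔ W
    have NZ : N ≤ Z := sup_le (commutator_le_of_le_normalizer (aH.trans nZ)) WZ
    have n1 : zpowers (a : G) ≤ 𝐍 N := le_normalizer_sup (le_normalizer_commutator_right _ _) (aH.trans nW)
    have n2 : F ≤ 𝐍 N := le_normalizer_of_commutator_le ((commutator_mono NZ le_rfl).trans (le_sup_of_le_right ZF))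
    obtain ⟨_, hπ⟩ := exists_quot (sup_le n1 n2)
    generalize QuotientGroup.mk' (N.subgroupOf (zpowers (a : G) ⊔ F)) = π at hπ
    have kπ : ∀ x, π x = 1 ↔ (x : G) ∈ N := fun x => SetLike.ext_iff.1 hπ x
    have cm : ∀ x y : ↥(zpowers (a : G) ⊔ F), ⁅(x : G), (y : G)⁆ ∈ N → Commute (π x) (π y) := fun x y c => by
      rwa [← commutatorElement_eq_one_iff_commute, ← map_commutatorElement, kπ]
    have b : ⁅(a : G), t * a * (t : G)⁻¹⁆ ∈ W := commutator_mono le_rfl EF (comm_mem_symm.1 (h7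
      (commutator_mem_commutator (conj_mem_of_mem_normalizer (n_bau le_normalizer tT) ha) (mem_zpowers _))))
    let a' : ↥(zpowers (a : G) ⊔ F) := ⟨a, mem_sup_left (mem_zpowers _)⟩
    have l : F ≤ (normalClosure {a'}).map (Subgroup.subtype _) := Fa.trans ((commutator_mono le_rfl (zpowers_le.2
      (mem_map_of_mem (Subgroup.subtype _) (subset_normalClosure (Set.mem_singleton a'))))).trans (commutator_le_of_le_normalizer' (le_sup_right.trans
        (normal_iff_le_normalizer_map_subtype.1 inferInstance))))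
    obtain ⟨y, hy, rfl⟩ := l hz.1
    refine (kπ y).1 (lift_ker (θ.comp (inclusion XH)) π (MonoidHom.range_eq_top.1 ((iM_range θ XH).trans θX))
      (fun x hx g => ?_) (a := a') (g := ⟨t, tX⟩) ij h6 (Subtype.ext a2) t1 ?_
      (cm _ _ (mem_sup_right b)) y hy ((kr _).2 ⟨FP hz.1, hz.2⟩))
    · refine cm _ _ (commutator_sup_le' le_sup_left (le_sup_of_le_right ZF) n1 n2 (commutator_mem_commutator
        (mem_inf.2 ⟨?_, ((kr _).1 hx).2⟩) g.2))
      obtain ⟨u, hu, f, hf, c⟩ := (mem_sup_of_le_normalizer (aH.trans nF)).1 x.2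
      rcases two_cases a2 hu with rfl | rfl
      · rwa [← c, one_mul]
      have : θ ⟨f, FH hf⟩ ∈ alternatingGroup _ := θF.le (mem_iM hf)
      rw [show θ.comp (inclusion XH) x = θ (a * ⟨f, FH hf⟩) from congrArg θ (Subtype.ext c.symm), map_mul, h6,
        mul_eq_one_iff_inv_eq, swap_inv] at hx
      rw [← hx, Perm.mem_alternatingGroup, Perm.sign_swap ij] at this
      cases this
    · rw [← commutatorElement_eq_one_iff_commute, ← map_commutatorElement]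
      exact (kr _).2 (VC (WV b))
  have oF : 𝐎 2 F = W := le_antisymm ((pCoreOf_eq_inf_of_subnIn sF).le.trans ((inf_le_inf_left _ h.QV).trans ZW))
    (le_pCoreOf (pV.to_le WV) (WZ.trans inf_le_left) (FH.trans nW))
  have vF : VV 2 F = W := by
    rw [show VV 2 F = 𝛀 2 _ from congrArg (𝛀 2) oF]
    exact le_antisymm (oc_le _ _) (le_oc (elemAb_mono hV WV) le_rfl (elemAb_le_centralizer (elemAb_mono hV WV)))
  have qt : Nonempty (F ⧸ pCore 2 F ≃* alternatingGroup (Fin (2 * m + 1))) :=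
    quot_of_ker (θ.comp (inclusion FH)) ((iM_range θ FH).trans θF) fun x => (kr _).trans
      ⟨fun c => oF.ge (ZW ⟨x.2, c.2⟩), fun c => VC (WV (oF.le c))⟩
  obtain ⟨ρ, ψ, o⟩ := om_iff.1 hm
  have WU : W ≤ ⁅VV 2 P, H⁆ := commutator_mono le_rfl FH
  have UV : ⁅VV 2 P, H⁆ ≤ VV 2 P := commutator_le_of_le_normalizer (HP.trans nV)
  have cF : ⁅VV 2 P, H⁆ ⊓ 𝐂 H ≤ 𝐂 F := inf_le_right.trans (centralizer_anti FH)
  have ρF := iM_alt n5 o.ρh_range FH nF rF fun c => nWC (WW'.ge.trans (commutator_le.2 fun w hw f hf =>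
    cF ((o.comm_mem_iff (FH hf) (WU hw)).2 (by rw [show ρ f = 1 from c.le (mem_iM (a := ⟨f, FH hf⟩) hf), pa_one]))))
  have o' : OM (2 * m + 1) (alternatingGroup _) F _ _ ρ ψ := ⟨FH.trans o.nm, o.le, fun x hx y hy => o.ρmul x (FH hx) y (FH hy),
    o.ψmul, fun σ => ⟨fun c => let ⟨x, a, b⟩ := ρF.ge c; ⟨x, a, b⟩, fun ⟨x, a, b⟩ => ρF.le ⟨⟨x, FH a⟩, a, b⟩⟩, o.ψe, o.ψs,
    o.ker, fun x hx => o.act x (FH hx)⟩
  have od : Odd (2 * m + 1) := odd_two_mul_add_one m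
  have o2 := o'.sub WU (FH.trans nW) ((o'.irr od le_rfl WU (FH.trans nW)).resolve_left fun c => nWC (c.trans cF))
    (le_normalizer_of_le_comm hV.1 UV (inf_le_left.trans UV))
  rw [le_antisymm (inf_le_inf_left W cF) (le_inf inf_le_left ((o'.irr od le_rfl (inf_le_left.trans WU)
    (le_normalizer_of_le_centralizer (le_centralizer_iff.1 inf_le_right))).resolve_right fun c =>
      nWC (WU.trans (c.trans (sup_le inf_le_right cF))))), ← vF] at o2
  refine ⟨sb_of h.cp h.syl sF ⟨rF, le_antisymm (commutator_le_of_le_normalizer bF) (Fa.trans (commutator_mono le_rfl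
    (zpowers_le.2 ha))), oF.symm ▸ WW', fun c => FM ((le_inf FP (le_centralizer_iff.1 (commutator_eq_bot_iff'.1 c))).trans
      h.cz), .inr ⟨rfl, m, qt, o2.acts, oF.trans vF.symm⟩⟩, FM, .inr ⟨_, k, e ▸ rfl, qt⟩, _, zpowers_le.2 ha, ?_, fun c => ?_⟩
  · rw [WW, vF, WW']
    exact (commutator_mono VB le_rfl).trans (h7.trans (commutator_mono le_rfl EF))
  · exact ij (swap_eq_one_iff.1 (h6.symm.trans ((kr a).2 ⟨HP a.2, h.QV (c (mem_zpowers _))⟩)))

set_option hygiene false in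
local notation "𝕍" => VV p P

theorem exists_ex (h : PH p P T M) : ∃ E, EX p P T M E := by
  obtain ⟨A, h1, hA⟩ := h.root
  have pm := h.hyp.1
  have k := pm.geo hA
  obtain ⟨D, hD, h2, h3⟩ := pm.exists_not_comm k hA
  obtain ⟨L, N, l1, lb, l2, l3, l4, l5, l6, l7, l8, l9⟩ := h.rank1 k (fun _ h => h) hA h1 hD h2 h3
  replace hA : A ∈ {A | MO p (mI 𝕍 𝕍) (mF 𝕍 P) A} := hA
  generalize {A | MO p (mI 𝕍 𝕍) (mF 𝕍 P) A} = 𝒟 at k hA hD
  generalize Nat.card A = q at k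
  have nV := h.nV
  have eP := lb.EG.trans l1
  obtain ⟨blk, F, _, _, _, ty⟩ := lb.blk rfl fun e => l2 ((le_inf eP e).trans h.cz)
  have tb := blk_tb h.cp h.syl eP blk
  have bM : mF 𝕍 (𝐁 p T) ≤ mF 𝕍 M := mF_mono ((bau_le T).trans h.um.le)
  have aB := h1.trans (mF_mono (j_le_bau T))
  have g := k.good PM.mem_pts hA (aB.trans bM) hD h2 h3
  have le := (k.le_EE PM.mem_pts hA (aB.trans bM) hD h2 h3).1
  have eP' : EE 𝒟 (mF 𝕍 M) D ≤ mF 𝕍 P := k.EE_le
  have mE := mF_pbk eP'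
  have oP : sSup (outs 𝒟 (mF 𝕍 M)) ≤ mF 𝕍 P := sSup_le fun B hB => k.le B hB.1
  have sn : SubnIn (pbk 𝕍 P (EE 𝒟 (mF 𝕍 M) D)) P := by
    refine (SubnIn.of_normal ((le_pbk pbk_leN).2 ⟨pbk_le, mE.le.trans (sSup_le fun C hC => PM.le_outs_of hC.1 hC.2.1)⟩)
      (n_pbk nV pbk_le eP' ((mF_pbk oP).le.trans (sSup_le fun C hC => ?_)))).trans
      (SubnIn.of_normal pbk_le (n_pbk nV le_rfl oP (pm.outs_spec k hD).2.1))
    have := self_le_EE hC.1 hC.2
    by_cases e : EE 𝒟 (mF 𝕍 M) C = EE 𝒟 (mF 𝕍 M) D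
    · exact (e ▸ this).trans le_normalizer
    exact le_normalizer_of_le_centralizer (this.trans (k.comm_of_ne PM.mem_pts hC.1 hC.2 hD h2 e).1)
  have eH := (le_pbk (eP.trans nV)).2 ⟨eP, l4.trans le⟩
  have cV : ⁅𝕍, pResidualOf p L⁆ ≤ 𝕍 := commutator_le_of_le_normalizer (eP.trans nV)
  have nC : ¬ ⁅𝕍, pResidualOf p L⁆ ≤ 𝐂 (pResidualOf p L) := fun c => l2 ((le_inf eP (le_centralizer_of_stab tb.res
    ((elemAb_isPGroup h.Vea).to_le cV) le_rfl (le_centralizer_iff.1 c))).trans h.CM)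
  have ne : A ≠ D := fun e => h2 (e ▸ aB.trans bM)
  by_cases c : EE 𝒟 (mF 𝕍 M) D ≤ A ⊔ D
  · have n := (le_of_mF_le pbk_le nV l1 (mE.le.trans (c.trans l3))).trans (sup_le lb.nE
      (h.cnorm tb ((phi_mono l9).trans lb.ph)))
    have sb := sb_of h.cp h.syl ((SubnIn.of_normal eH n).trans sn) blk
    obtain ⟨A₀, a1, a2, -, a3⟩ := exists_mF h1
    refine ⟨_, sb, l2, .inl ⟨F, inferInstance, ty⟩, A₀, a1.trans (j_le_bau T), le_trans ?_ sb.VW, fun e =>
      k.ne_bot hA (a3 ▸ (mF_eq_bot a2).2 (e.trans h.QV))⟩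
    have n' := le.trans (mE.ge.trans ((mF_le_normalizer cV pbk_leN).2 (le_normalizer_commutator pbk_leN n)))
    rw [← mI_le_mI (commutator_le_of_le_normalizer a2), mI_commutator le_rfl a2, a3]
    exact (commutator_mono le_rfl le_sup_left).trans (commutator_le_of_le_sup_centralizer' ((g.irred (mI_mono cV)
      n').resolve_left fun e => nC (le_centralizer_iff.1 ((mF_le_centralizer cV (eP.trans nV)).1 (l4.trans
        (le_centralizer_iff.1 e))))) inf_le_right (le_normalizer_of_le_comm k.ea.1 inf_le_left (mI_mono cV)) n')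
  have hq : q = 2 := by_contra fun hq => c ((k.good_EE PM.mem_pts hq hD h2).sup_eq k.toFam hA (le_sup_left.trans le) hD
    (le_sup_right.trans le) ne).ge
  obtain rfl : 2 = p := by
    obtain ⟨n, hn⟩ := IsPGroup.iff_card.1 (k.isP hD)
    rw [k.card D hD, hq] at hn
    exact ((Nat.prime_dvd_prime_iff_eq hp.out Nat.prime_two).1 (hn ▸ dvd_pow_self p (by rintro rfl; simp at hn))).symm
  have h0 := pm.EE_inf k hD h2
  obtain ⟨σ, hσ⟩ := k.exists_perm PM.mem_pts hq hD h2 h0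
  obtain ⟨n, n1, e⟩ := pm.card_cls k hq hD h2
  have n2 : 2 ≤ n := by_contra fun n2 => c (sSup_le fun C hC => by
    obtain ⟨a, ha, a1⟩ := k.exists_ne hA
    have l := cj_le_of_mem (le_sup_right : D ≤ A ⊔ D) (mem_sup_left ha)
    have m := k.cj_mem_cls PM.mem_pts ((aB.trans bM) ha) (B := D) ⟨hD, h2, .inl rfl⟩
    rw [show n = 1 by omega, pow_one] at e
    obtain ⟨y, -, hy⟩ := (Nat.card_eq_two_iff' (⟨D, hD, h2, .inl rfl⟩ : cls 𝒟 _ D)).1 e
    by_cases c : C = D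
    · exact c ▸ le_sup_right
    exact (congrArg Subtype.val ((hy ⟨C, hC⟩ fun e => c (congrArg Subtype.val e)).trans (hy ⟨_, k.mem_cls PM.mem_pts hD h2
      h0 m.1 m.2.1 (l.trans le)⟩ fun e => a1 (g.reg k.toFam hA le_sup_left hD le_sup_right ne ha
        (congrArg Subtype.val e))).symm)).le.trans l)
  obtain ⟨m, hm⟩ : ∃ m, Nat.card (cls 𝒟 (mF (VV 2 P) M) D) = 2 * m := e ▸ dvd_pow_self 2 (by omega)
  generalize Nat.card (cls 𝒟 (mF (VV 2 P) M) D) = c at e σ hσ hm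
  subst hm hq
  obtain ⟨i, j, ij, eA⟩ := root_swap k PM.mem_pts rfl hD h2 h0 σ hσ hA le g
  have op := (k.oddPerm (odd_two_mul_add_one m) σ eP' hσ).1
  have bE : mF (VV 2 P) (𝐁 2 T) ≤ 𝐍 (EE 𝒟 (mF (VV 2 P) M) D) := l5.trans (sup_le (le_sup_left.trans (le.trans le_normalizer))
    fun x hx => cj_eq_iff.1 (by
      rw [k.cj_EE PM.mem_pts (bM (l8 hx)), cj_eq_of_mem_centralizer (centralizer_anti le_sup_right (l6 hx))]))
  have bH := n_pbk nV h.BP eP' bE
  have cH := cen_le_pbk (V := VV 2 P) (P := P) (X := EE 𝒟 (mF (VV 2 P) M) D)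
  have lp := fun A (k : A ≤ P) => le_pbk (P := P) (X := EE 𝒟 (mF (VV 2 P) M) D) (k.trans nV)
  generalize pbk (VV 2 P) P (EE 𝒟 (mF (VV 2 P) M) D) = H at *
  generalize EE 𝒟 (mF (VV 2 P) M) D = E' at *
  subst mE
  have hN := sn.le.trans nV
  have hV : ⁅VV 2 P, H⁆ ≤ VV 2 P := commutator_le_of_le_normalizer hN
  rw [← mI_commutator le_rfl hN, ← mI_inf_centralizer hV hN] at op
  let θ := σ.toMonoidHom.comp (rF hN)
  have sw : ∀ x : H, (rF hN x : Hol (VV 2 P)) ∈ A → (x : G) ∈ 𝐂 (VV 2 P) ∨ θ x = swap i j := fun x hx => by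
    refine (two_cases (by rw [← coe_mul, ← map_mul, Equiv.swap_mul_self, map_one, coe_one]) (eA.ge hx)).imp (fun e => ?_) fun e => ?_
    · exact (rF_ker hN).le (Subtype.ext e)
    · exact σ.eq_symm_apply.1 (Subtype.ext e)
  obtain ⟨A', ci⟩ := lb.ty.resolve_right fun e => by cases e.1
  obtain ⟨a, ha, a1⟩ := SetLike.not_le_iff_exists.1 ci.nAQ
  have aB' := ci.AS ha
  have aP := zpowers_le.2 (h.BP aB')
  have vL := (le_inf h.VB h.VQ).trans l9
  have w : 𝐎 2 (pResidualOf 2 L) ≤ ⁅VV 2 P, pResidualOf 2 L⁆ := tb.cq.ge.trans ((commutator_mono (ci.coreE.le.trans lb.W1)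
    le_rfl).trans (tb.W_le ((commutator_mono vL le_rfl).trans (ci.QE_eq.le.trans lb.W1))
      (le_normalizer_commutator_right _ _) nC))
  have w1 : ⁅𝐁 2 T, zpowers a⁆ ≤ ⁅VV 2 P, pResidualOf 2 L⁆ := (commutator_comm _ _).le.trans ((commutator_mono
    (zpowers_le.2 ha) le_rfl).trans (ci.RA.trans ((commutator_mono le_rfl lb.syl.le).trans
      (lb.VG_le.trans (ci.coreE.ge.trans w)))))
  have w2 := cop_mod (Z := ⊥) (elemAb_isPGroup h.Vea) (commutator_eq_bot_iff'.2 (elemAb_le_centralizer h.Vea)).le bot_le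
    (h.VT.trans h.syl.le) eP (by rw [normalizer_bot']; exact le_top) (eP.trans nV) (lb.syl.inf_of_normal lb.nE lb.EG)
    (commutator_eq_bot_iff'.2 fun s (hs : s ∈ 𝐁 2 T ⊓ pResidualOf 2 L) => (sw ⟨s, eH hs.2⟩ (((g.std k.toFam hA le_sup_left).1.eq_of_le
      ((pm.syl.isP.to_le (mF_mono (bau_le T))).to_le inf_le_left) (le_inf aB le_sup_left) inf_le_right).le
        ⟨aF_mem_mF hs.1, l4 (aF_mem_mF hs.2)⟩)).resolve_right fun e => by
      have : θ ⟨s, eH hs.2⟩ ∈ alternatingGroup _ := res_le_alt _ ((iM_res eH).le (mem_iM (tb.res.ge hs.2)))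
      rw [e, Perm.mem_alternatingGroup, Perm.sign_swap ij] at this
      cases this).le
  have a3 : mF (VV 2 P) (zpowers a) ≤ A := fun x hx => by
    obtain ⟨u, hu, v, hv, rfl⟩ := (mem_sup_of_le_normalizer' (le_normalizer_of_le_centralizer (l6.trans
      (centralizer_anti le_sup_left)))).1 (l5 (mF_mono (zpowers_le.2 aB') hx))
    obtain ⟨Y, y1, y2⟩ := exists_mI (inf_le_left : mI (VV 2 P) (VV 2 P) ⊓ 𝐂 (A ⊔ D) ≤ _)
    have y3 : 𝐁 2 T ≤ 𝐍 Y := (mF_le_normalizer y1 (h.BP.trans nV)).1 (y2 ▸ le_normalizer_inf ((mF_mono h.BP).trans k.nm)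
      (le_normalizer_centralizer (l5.trans (sup_le (le_sup_left.trans le_normalizer) (le_normalizer_of_le_centralizer l6)))))
    have y4 : Y ≤ 𝐂 (pResidualOf 2 L) := le_centralizer_iff.1 ((mF_le_centralizer y1 (eP.trans nV)).1
      (l4.trans (le_centralizer_iff.1 (y2.le.trans inf_le_right))))
    have y5 := (mF_le_centralizer y1 (aP.trans nV)).2 (commutator_eq_bot_iff'.1 (le_bot_iff.1 ((le_inf (le_sup_of_le_left
      ((commutator_mono (y1.trans h.VB) le_rfl).trans w1)) ((commutator_le_of_le_normalizer ((zpowers_le.2 aB').trans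
        y3)).trans y4)).trans w2))) hx
    rw [y2] at y5
    have := k.fa.le ⟨mF_mono h.BP (l8 hv), centralizer_anti g.le_comm ((centralizer_sup' _ _).ge ⟨l7 hv,
      (Subgroup.mul_mem_cancel_left _ (le_centralizer_iff.1 (inf_le_right.trans (centralizer_anti le_sup_left)) hu)).1 y5⟩)⟩
    rwa [mem_bot.1 this, mul_one]
  have aH : a ∈ H := (lp _ aP).2 ⟨aP, a3.trans (le_sup_left.trans le)⟩ (mem_zpowers a)
  exact ⟨_, h.sym e n2 sn cH θ (MonoidHom.range_eq_top.2 (σ.surjective.comp (rF_surj hN))) (Subgroup.ext fun x =>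
    (map_eq_one_iff σ σ.injective).trans ((SetLike.ext_iff.1 (rF_ker hN) x).trans ⟨fun c => ⟨sn.le x.2, c⟩, fun c => c.2⟩))
    (perm_of_mF hN hV (inf_le_left.trans hV) op) bH eH tb.res tb.nB l2 (tb.OE.trans (inf_le_left.trans (w.trans cV)))
    (a := ⟨a, aH⟩) aB' ((pow_two a).symm.trans (ci.Aea.2 a ha)) ij ((sw ⟨a, aH⟩ (a3 (aF_mem_mF (mem_zpowers a)))).resolve_left
      fun c => a1 (l9 ⟨aB', h.cV.le ⟨bau_le T aB', c⟩⟩)) w1⟩

end PH

end H118
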