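import Cfsg.Agent.H18.BK11

/-! Baumann blocks, part 12: the intersection of a subnormal block with the maximal subgroup of a minimal parabolic group. -/

set_option autoImplicit false
set_option linter.unusedSectionVars false
namespace H118
open Subgroup H26 H4 Cfsg Matrix H18.PU Equiv NMx
open H2 (SubnIn)
open scoped commutatorElement MatrixGroups Pointwise

variable {G : Type*} [Group G] [Finite G] {p : ℕ} [hp : Fact p.Prime] {P T M E X Y K : Subgroup G}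

theorem t_cs (T : Subgroup G) : T ≤ cStarOf p T := (le_centralizer_iff.1 (oc_le_c p T)).trans le_sup_left
theorem n_cs (h : 𝐁 p T ≠ ⊥) : 𝐍 (𝐁 p T) ≤ cStarOf p T :=
  le_sup_of_le_right (le_iSup_of_le ⟨_, le_rfl, h, by rw [subgroupOf_self]; infer_instance⟩ le_rfl)
theorem n_B (h1 : 𝐁 p T ≤ Y) (h2 : Y ≤ T) : 𝐍 Y ≤ 𝐍 (𝐁 p T) := bau_eq h1 h2 ▸ n_bau le_rfl
theorem mk_ker (E : Subgroup G) : (QuotientGroup.mk' (pCore p E)).ker = (𝐎 p E).subgroupOf E :=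
  (QuotientGroup.ker_mk' _).trans (pCore_eq_subgroupOf E)
theorem mk_top (E : Subgroup G) : iM (QuotientGroup.mk' (pCore p E)) E = ⊤ :=
  (iM_top _).trans (QuotientGroup.range_mk' _)

theorem img_equiv {H : Type*} [Group H] (f : E →* H) (hf : ∀ e : E, f e = 1 ↔ (e : G) ∈ 𝐎 p E) (X : Subgroup G) :
    Nonempty (iM (QuotientGroup.mk' (pCore p E)) X ≃* iM f X) := by
  have e : pCore p E = f.ker := Subgroup.ext fun x => by rw [pCore_eq_subgroupOf, mem_subgroupOf, ← hf]; rfl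
  exact ⟨(equivMapOfInjective _ _ ((QuotientGroup.injective_lift_iff _ f fun x hx => e.le hx).2 e)).trans
    (MulEquiv.subgroupCongr (by rw [iM, Subgroup.map_map, QuotientGroup.lift_comp_mk']; rfl))⟩

/-- the last clause of `HasBaumannBlockStructure`, with `K` for `C* ⊓ E` -/
def TY (p : ℕ) (T K E : Subgroup G) : Prop :=
  (∃ (F : Type) (_ : Field F) (_ : Fintype F) (m : ℕ), 3 < p ^ m ∧ Fintype.card F = p ^ m ∧
    Nonempty (E ⧸ pCore p E ≃* SL(2, F)) ∧ K = E ⊓ 𝐍 (T ⊓ E)) ∨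
  (p = 2 ∧ ∃ m : ℕ, Nonempty (E ⧸ pCore p E ≃* alternatingGroup (Fin (2 * m + 1))) ∧
    Nonempty (iM (QuotientGroup.mk' (pCore p E)) K ≃* alternatingGroup (Fin (2 * m)))) ∨
  (p = 3 ∧ Nonempty (E ⧸ pCore p E ≃* DS (ZMod 3)) ∧ iM (QuotientGroup.mk' (pCore p E)) K = center (E ⧸ pCore p E))

namespace EX
variable (h : PH p P T M) (a : EX p P T M E)
include h a
theorem QQ : 𝐎 p E ≤ 𝐎 p P := pCoreOf_le_pCoreOf_of_subnIn a.sn
theorem QT : 𝐎 p E ≤ T := (a.QQ h).trans h.QT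
theorem QM : 𝐎 p E ≤ M ⊓ E := le_inf ((a.QT h).trans h.um.le) (pCoreOf_le p E)
theorem B0 : 𝐁 p T ≠ ⊥ := fun c => h.J0 (le_bot_iff.1 ((j_le_bau T).trans c.le))
theorem nle (h1 : X ≤ M) : ¬ E ≤ X ⊔ 𝐎 p E := fun c => a.nM (c.trans (sup_le h1 ((a.QM h).trans inf_le_left)))
theorem ne : iM (QuotientGroup.mk' (pCore p E)) (M ⊓ E) ≠ ⊤ := fun c =>
  a.nle h inf_le_left ((iM_le (mk_ker E) (pCoreOf_le p E) le_rfl inf_le_right).1 (le_top.trans c.ge))

theorem mx (h1 : X ≤ E) (h2 : T ⊓ 𝐍 E ≤ 𝐍 X) (h3 : ¬ X ≤ M) : E ≤ X ⊔ 𝐎 p E := by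
  have l : ncl X T ≤ X ⊔ 𝐂 E := ncl_le_iff.2 fun t ht => (a.dich (h.syl.le ht)).elim
    (fun k => le_sup_of_le_left (cj_eq_iff.2 (h2 ⟨ht, k⟩)).le) fun k => le_sup_of_le_right ((cj_mono t h1).trans k)
  have e := h.um.eq_of_not_le (le_sup_right : T ≤ ncl X T ⊔ T) (sup_le (ncl_le_of_le (h1.trans a.le) h.syl.le) h.syl.le)
    fun c => h3 ((le_ncl X T).trans (le_sup_left.trans c))
  have := le_inf (a.res.ge.trans ((pResidualOf_mono (a.le.trans e.ge)).trans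
    ((pResidualOf_sup_le' h.syl.isP (le_normalizer_ncl X T)).trans l))) le_rfl
  rw [dedekind_left h1 (le_normalizer_centralizer (h1.trans le_normalizer))] at this
  exact this.trans (sup_le_sup_left ((le_inf inf_le_right (inf_le_left.trans (centralizer_anti (WE E)))).trans
    a.inf_cen.le) _)

theorem conj' {t : G} (ht : t ∈ T) : EX p P T M (cj t E) := by
  have s := a.toSB.conj (h.syl.le ht)
  rw [cj_eq_of_mem ht] at s
  obtain ⟨A, a1, a2, a3⟩ := a.ex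
  refine ⟨s, fun c => a.nM ((cj_le_iff.1 c).trans (cj_eq_of_mem (inv_mem (h.um.le ht))).le),
    a.ty.imp (fun ⟨F, i, k⟩ => ⟨F, i, quot_cj t k⟩) fun ⟨c, k, e, l⟩ => ⟨c, k, e, quot_cj t l⟩,
    cj t A, cj_le_of_mem_normalizer a1 (n_bau le_normalizer ht), ?_,
    fun c => a3 ((cj_le_iff.1 c).trans (cj_eq_iff.2 (h.nQ (inv_mem (h.syl.le ht)))).le)⟩
  rw [← cj_WW, ← cj_eq_iff.2 (h.nV (h.syl.le ht)), ← cj_commutator]
  exact cj_mono t a2

theorem ty3 (p2 : p = 2) (c : Nat.card (E ⧸ pCore p E) = 3) : M ⊓ E ≤ cStarOf p T ∧ TY p T (M ⊓ E) E := by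
  have : Fact (Nat.card (E ⧸ pCore p E)).Prime := ⟨c ▸ Nat.prime_three⟩
  have e := (eq_bot_or_eq_top_of_prime_card _).resolve_right (a.ne h)
  have : Fact (Nat.Prime 3) := ⟨Nat.prime_three⟩
  refine ⟨((iM_eq_bot (mk_ker E) inf_le_right).1 e).trans ((a.QT h).trans (t_cs T)), .inr (.inl ⟨p2, 1,
    ⟨mulEquivOfPrimeCardEq c (by rw [nat_card_alternatingGroup]; simp [Nat.factorial])⟩, ?_⟩)⟩
  rw [e, alternatingGroup.eq_bot_of_card_le_two (by simp)]
  exact ⟨MulEquiv.ofUnique⟩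

variable {F : Type} [Field F] [Fintype F] [CharP F p] {ρ : G → SL(2, F)} {ψ : G → Fin 2 → F}
  (k : NM (DS F) E (WW p E) (WW p E ⊓ 𝐂 E) ρ ψ)
include k

theorem big (d : DS F = ⊤) : M ⊓ E ≤ cStarOf p T ∧ M ⊓ E = E ⊓ 𝐍 (T ⊓ E) := by
  have s := h.syl.inf_of_subnIn a.sn
  have b := sup_cW a.toKB k a.nB ((b_SS a.toKB k h.syl.isP a.WT a.nB).trans (SS_le k d))
  have n : E ⊔ 𝐁 p T ≤ 𝐍 E := sup_le le_normalizer a.nB
  have e : E ⊔ 𝐁 p T = E ⊔ 𝐂 (WW p E) ⊓ (E ⊔ 𝐁 p T) := by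
    rw [← dedekind_left le_sup_left (le_normalizer_centralizer (le_normalizer.trans (nWE E))),
      inf_eq_right.2 (sup_le le_sup_left b)]
  have nO : E ⊔ 𝐁 p T ≤ 𝐍 (𝐂 (WW p E) ⊓ (E ⊔ 𝐁 p T)) :=
    le_normalizer_inf (le_normalizer_centralizer (n.trans (nWE E))) le_normalizer
  have pO : IsPGroup p ↥(𝐂 (WW p E) ⊓ (E ⊔ 𝐁 p T)) := isPGroup_of_pResidualOf_le (isPGroup_pCoreOf p E) ((le_inf
    ((pResidualOf_mono inf_le_right).trans (a.res_eq (bau_isP h.syl.isP) a.nB).le) ((pResidualOf_le _ _).trans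
      inf_le_left)).trans a.inf_cen.le)
  have OE : 𝐂 (WW p E) ⊓ (E ⊔ 𝐁 p T) ≤ E ⊔ 𝐁 p T := inf_le_right
  generalize 𝐂 (WW p E) ⊓ (E ⊔ 𝐁 p T) = O at *
  have l : 𝐁 p T ⊔ T ⊓ E ≤ T := sup_le (bau_le T) inf_le_left
  have s1 := (isSyl_self (bau_isP h.syl.isP)).sup s a.nB (h.syl.isP.to_le l)
  rw [sup_comm _ E] at s1
  have OT := s1.le_of_le_normalizer pO OE (s1.le.trans nO)
  have l' : T ⊓ E ⊔ O ≤ 𝐁 p T ⊔ T ⊓ E := sup_le le_sup_right OT
  have s2 := s.sup (isSyl_self pO) (le_sup_left.trans nO) (s1.isP.to_le l')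
  have m : E ⊓ 𝐍 (T ⊓ E) ≤ 𝐍 (𝐁 p T) := (le_normalizer_sup inf_le_right (inf_le_left.trans (le_sup_left.trans nO))).trans
    (n_B (le_sup_left.trans (s2.max _ s1.isP l' (s1.le.trans e.le))) (l'.trans l))
  suffices e' : M ⊓ E = E ⊓ 𝐍 (T ⊓ E) from ⟨e'.le.trans (m.trans (n_cs (a.B0 h))), e'⟩
  refine le_antisymm (fun g hg => mem_inf.2 ⟨hg.2, ?_⟩) (le_inf ((le_inf (inf_le_left.trans a.le) m).trans h.nBM) inf_le_left)
  have kQ : k.K ≤ 𝐎 p E := fun x hx => (nm_one a.toKB k (k.mem_K.1 hx).1).1 (k.mem_K.1 hx).2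
  have sM : T ⊓ E ≤ M := inf_le_left.trans h.um.le
  revert k
  rw [d]
  intro k kQ
  by_contra c
  exact a.nle h (sup_le (cj_le_of_mem sM hg.1) sM) ((k.sup_eq (s.cj_of_mem hg.2) s fun l => c (mem_normalizer_of_cj_le
    (l.trans (sup_le le_rfl (kQ.trans (le_inf (a.QT h) (pCoreOf_le p E))))))).trans (sup_le_sup_left kQ _))

theorem q8 (p3 : p = 3) (d : ∀ c : F, c = 0 ∨ c = 1 ∨ c = -1) (c : Nat.card (E ⧸ pCore p E) ∣ 8) :
    M ⊓ E ≤ cStarOf p T ∧ iM (QuotientGroup.mk' (pCore p E)) (M ⊓ E) = center (E ⧸ pCore p E) := by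
  have kr : ∀ x : E, QuotientGroup.mk' (pCore p E) x = 1 ↔ (x : G) ∈ 𝐎 p E := fun x => SetLike.ext_iff.1 (mk_ker E) x
  have nn : 𝐍 E ≤ 𝐍 (WW p E) ⊓ 𝐍 (WW p E ⊓ 𝐂 E) := le_inf (nWE E) (nZW E)
  have z : ∀ x : E, QuotientGroup.mk' (pCore p E) x ∈ center _ → (x : G) ∈ 𝐍 (𝐁 p T) := fun x hx => by
    have x1 := le_normalizer x.2
    obtain ⟨c, hc⟩ := scal3 k rfl p3 (nn x1) x1 fun e he => by
      have m : ⁅(x : G), e⁆ ∈ E := (⁅x, ⟨e, he⟩⁆ : E).2
      have : ρ ⁅(x : G), e⁆ = 1 := (nm_one a.toKB k m).2 ((kr ⁅x, ⟨e, he⟩⁆).1 (by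
        rw [map_commutatorElement, commutatorElement_eq_one_iff_mul_comm, mem_center_iff.1 hx]))
      rw [show x * e * (x : G)⁻¹ = ⁅(x : G), e⁆ * e by group, k.ρmul _ m _ he, this, one_mul]
    refine n_B (Y := 𝐎 p E ⊔ 𝐁 p T) le_sup_right (sup_le (a.QT h) (bau_le T)) (mem_normalizer_of_cj_le ?_)
    rw [cj_sup]
    refine sup_le (le_sup_of_le_left (cj_eq_iff.2 (le_normalizer_pCoreOf p E x.2)).le) fun _ hy => ?_
    obtain ⟨b, hb, rfl⟩ := mem_cj'.1 hy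
    have b1 := a.nB hb
    have m : x * (b * (x : G)⁻¹ * b⁻¹) ∈ E := mul_mem x.2 (conj_mem_of_mem_normalizer b1 (inv_mem x.2))
    rw [show x * b * (x : G)⁻¹ = x * (b * (x : G)⁻¹ * b⁻¹) * b by group]
    refine mul_mem (mem_sup_left ((nm_one a.toKB k m).1 (sl_ext fun v => ?_))) (mem_sup_right hb)
    rw [← al_E k m, one_smul, ← mul_assoc, ← mul_assoc, al_mul k (mul_mem (mul_mem (nn x1) (nn b1)) (inv_mem (nn x1)))
      (inv_mem (nn b1)), al_mul k (mul_mem (nn x1) (nn b1)) (inv_mem (nn x1)), al_mul k (nn x1) (nn b1), hc,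
      ← (small k d (nn b1)).2, ← hc, al_inv k (nn x1), al_inv k (nn b1)]
  have e : iM (QuotientGroup.mk' (pCore p E)) (M ⊓ E) = center (E ⧸ pCore p E) := by
    have l : center _ ≤ iM (QuotientGroup.mk' (pCore p E)) (M ⊓ E) := fun y hy => by
      obtain ⟨x, rfl⟩ := QuotientGroup.mk'_surjective _ y
      exact mem_iM ⟨h.nBM ⟨a.le x.2, z x hy⟩, x.2⟩
    by_contra c1
    have n := a.ne h
    have r := iM_rel (mk_ker (p := p) E) (pCoreOf_le p E) (a.QM h) (pCoreOf_le p E) le_rfl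
    rw [mk_top, relIndex_top_right] at r
    generalize iM (QuotientGroup.mk' (pCore p E)) (M ⊓ E) = Y at *
    have : Nontrivial (E ⧸ pCore p E) := by
      by_contra! c
      exact n (Subsingleton.elim _ _)
    have := Nat.fact_prime_two
    have := (IsPGroup.of_card_dvd_pow (p := 2) (n := 3) c).center_nontrivial
    have c2 : 1 < Nat.card (center (E ⧸ pCore p E)) := Finite.one_lt_card
    have c3 := card_lt_of_lt (lt_of_le_of_ne l (Ne.symm c1))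
    have c4 := (Y.index_mul_card.le).trans (Nat.le_of_dvd (by decide) c)
    have c5 : Y.index ≠ 1 := mt index_eq_one.1 n
    have c6 : Y.index ≠ 0 := index_ne_zero_of_finite
    have c7 : ((M ⊓ E).subgroupOf E).index = 2 := by
      rw [← relIndex, ← r]
      by_contra c
      nlinarith [show 3 ≤ Y.index by omega]
    refine a.nM (a.cb.ge.trans (commutator_le.2 fun e he b hb => ?_))
    have m := conj_mem_of_mem_normalizer (a.nB hb) (inv_mem he)
    rw [show ⁅e, b⁆ = e * (b * e⁻¹ * b⁻¹) by group]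
    exact ((mul_mem_iff_of_index_two c7 (a := ⟨e, he⟩) (b := ⟨_, m⟩)).2 (inv_mem_iff.symm.trans (mem_normalizer_iff.1
      (le_normalizer_inf ((bau_le T).trans (h.um.le.trans le_normalizer)) a.nB hb) _))).1
  exact ⟨fun x hx => n_cs (a.B0 h) (z ⟨x, hx.2⟩ (e.le (mem_iM hx))), e⟩

end EX

theorem EX.alt (h : PH 2 P T M) (a : EX 2 P T M E) {m : ℕ} (hn : Odd (m + 1)) (n5 : 5 ≤ m + 1) {ρ : G → Perm (Fin (m + 1))}
    {ψ : G → Fin (m + 1) → ZMod 2} (o : OM (m + 1) (alternatingGroup _) E (WW 2 E) (WW 2 E ⊓ 𝐂 E) ρ ψ) :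
    M ⊓ E ≤ cStarOf 2 T ∧ Nonempty (iM (QuotientGroup.mk' (pCore 2 E)) (M ⊓ E) ≃* alternatingGroup (Fin m)) := by
  have n3 : 3 ≤ m + 1 := by omega
  have kr : ∀ x : E, o.ρh x = 1 ↔ (x : G) ∈ 𝐎 2 E := fun x => om_one a.toKB o hn n3 x.2
  have hk : o.ρh.ker = (𝐎 2 E).subgroupOf E := Subgroup.ext kr
  obtain ⟨θ, R, k, e⟩ := o.ext hn n3 (nWE E) (nZW E) le_rfl le_normalizer
  let _ := MulAction.compHom (Fin (m + 1)) (k.ρh.comp (inclusion (inf_le_right : T ⊓ 𝐍 E ≤ _)))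
  obtain ⟨i, hi⟩ := (h.syl.isP.to_le (inf_le_left : T ⊓ 𝐍 E ≤ T)).nonempty_fixed_point_of_prime_not_dvd_card (Fin (m + 1)) (by
    rw [Nat.card_eq_fintype_card, Fintype.card_fin]; exact hn.not_two_dvd_nat)
  obtain ⟨S, s1, s2⟩ : ∃ S : Subgroup G, T ⊓ 𝐍 E ≤ S ∧ ∀ x ∈ E, x ∈ S ↔ ρ x i = i :=
    ⟨((MulAction.stabilizer _ i).comap k.ρh).map (Subgroup.subtype _), fun t ht => ⟨⟨t, ht.2⟩, hi ⟨t, ht⟩, rfl⟩, fun x hx =>
      ⟨fun ⟨y, hy, c⟩ => by subst c; exact e _ hx ▸ hy, fun c => ⟨⟨x, le_normalizer hx⟩, (show θ x i = i from (e x hx).symm ▸ c), rfl⟩⟩⟩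
  have im : iM o.ρh (S ⊓ E) = alternatingGroup _ ⊓ MulAction.stabilizer _ i := le_antisymm
    (fun _ ⟨x, hx, c⟩ => c ▸ ⟨(o.ρr _).2 ⟨x, x.2, rfl⟩, (s2 x x.2).1 hx.1⟩) fun σ hσ => by
      obtain ⟨x, hx, rfl⟩ := (o.ρr σ).1 hσ.1
      exact mem_iM (a := ⟨x, hx⟩) ⟨(s2 x hx).2 hσ.2, hx⟩
  have SM : S ⊓ E ≤ M := by_contra fun c => by
    have : Nontrivial (Fin (m + 1)) := Fin.nontrivial_iff_two_le.2 (by omega)
    obtain ⟨σ, h1, h2, -⟩ := exists_mv n5 (v := 0) (exists_ne i).choose_spec rfl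
    obtain ⟨x, hx, rfl⟩ := (o.ρr σ).1 h1
    exact h2 ((s2 x hx).1 ((a.mx h inf_le_right (le_normalizer_inf (s1.trans le_normalizer) inf_le_right) c).trans
      (sup_le inf_le_left fun q hq => (s2 q (pCoreOf_le 2 E hq)).2 (by
        rw [(om_one a.toKB o hn n3 (pCoreOf_le 2 E hq)).2 hq]; rfl)) hx))
  have mv : ∀ x ∈ E, ρ x i ≠ i → x ∉ M := fun x hx c hM => a.nle h inf_le_left ((iM_le hk (pCoreOf_le 2 E) le_rfl
    (inf_le_right : M ⊓ E ≤ E)).1 (((iM_top _).trans o.ρh_range).le.trans (stab_max (by simpa using n3)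
      (im.ge.trans (iM_mono (le_inf SM inf_le_right))) (mem_iM (a := ⟨x, hx⟩) ⟨hM, hx⟩) ((o.ρr _).2 ⟨x, hx, rfl⟩) c)))
  have e1 : M ⊓ E = S ⊓ E := le_antisymm (fun x hx => ⟨(s2 x hx.2).2 (by_contra fun c => mv x hx.2 c hx.1), hx.2⟩)
    (le_inf SM inf_le_right)
  refine ⟨le_sup_of_le_left (le_centralizer_iff.1 fun y hy => ?_), ⟨(img_equiv o.ρh kr _).some.trans
    ((MulEquiv.subgroupCongr (e1 ▸ im)).trans (stab_equiv i).some)⟩⟩
  have yV := h.zV hy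
  have nV := a.le.trans h.nV
  have := gaschutz (elemAb_le_centralizer h.Vea) (elemAb_isPGroup h.Vea) nV (h.syl.inf_of_subnIn a.sn)
    ⟨yV, centralizer_anti inf_le_left (oc_le_c 2 T hy)⟩
  rw [a.res] at this
  obtain ⟨w, hw, c, hc, rfl⟩ := (mem_sup_of_le_normalizer' (le_normalizer_of_le_centralizer (inf_le_right.trans
    (centralizer_anti (WE E))))).1 (sup_le_sup_right a.VW _ this)
  by_cases d : ψ w = uu i
  · exact mul_mem (fun x hx => mem_centralizer_singleton_iff.1 ((om_stab a.toKB o hn n3 hw d hx.2).2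
      ((s2 x hx.2).1 (e1.le hx).1))) (centralizer_anti inf_le_right hc.2)
  obtain ⟨j, j1, j2⟩ : ∃ j, j ≠ i ∧ ψ w j = ψ w i := by
    rcases z2 (ψ w i) with c | c
    · by_contra! l
      exact d (eq_uu c fun b hb => by_contra fun n => l b n (hb.trans c.symm))
    · exact c ▸ exists_two (o.ψe w hw) c
  obtain ⟨σ, h1, h2, h3⟩ := exists_mv n5 j1 j2
  obtain ⟨x, hx, rfl⟩ := (o.ρr σ).1 h1
  have zV := zpowers_le.2 yV
  have nC : 𝐍 E ≤ 𝐍 (𝐂 E) := normalizer_le_normalizer_centralizer E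
  have := a.mx h (X := commStab (zpowers (w * c) : Set G) (𝐂 E) ⊓ E) inf_le_right (le_normalizer_inf (le_normalizer_commStab
    (le_normalizer_of_le_centralizer (inf_le_left.trans (le_centralizer_iff.1 ((zpowers_le.2 hy).trans (oc_le_c 2 T)))))
    (inf_le_right.trans nC)) inf_le_right) fun l => mv x hx h2 (l ⟨⟨nC (le_normalizer hx), fun u hu => ?_⟩, hx⟩)
  · have l := (le_commStab_iff.1 (this.trans (sup_le inf_le_left (le_commStab_iff.2 ⟨(pCoreOf_le 2 E).trans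
      (le_normalizer.trans nC), (commutator_eq_bot_iff_le_centralizer.2 ((a.QQ h).trans (h.QV.trans
        (centralizer_anti zV)))).trans_le bot_le⟩)))).2
    exact centralizer_anti inf_le_right (a.cen_of ((elemAb_isPGroup h.Vea).to_le ((commutator_mono zV le_rfl).trans
      (commutator_le_of_le_normalizer nV))) ((commutator_comm _ _).le.trans l) (mem_zpowers _))
  rcases two_cases ((pow_two _).symm.trans (h.Vea.2 _ yV)) hu with rfl | rfl
  · rw [commutatorElement_one_right]; exact one_mem _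
  · rw [comm_mem_symm, cm_mul_cen (hc.2 x hx)]
    exact ((o.comm_mem_iff hx hw).2 h3).2

theorem EX.typ (h : PH p P T M) (a : EX p P T M E) : M ⊓ E ≤ cStarOf p T ∧ TY p T (M ⊓ E) E := by
  have n := le_normalizer.trans (nWE (p := p) E)
  obtain ⟨F, _, _, m, c, q, k, -⟩ | ⟨rfl, m, q, k, -⟩ := a.blk.2.2.2.2
  · have := charP_of_card (p := p) (Nat.card_eq_fintype_card.trans c)
    obtain ⟨ρ, ψ, k⟩ := nm_iff.1 k
    have k := WZ (p := p) E ▸ k.sub (WV E) n a.V_le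
    have dv : ∀ q : ℕ, q.Prime → Fintype.card F = q → p = q := fun q hq e => (Nat.prime_eq_prime_of_dvd_pow hq hp.out
      (c ▸ e.symm.dvd)).symm
    have c1 : 1 < Fintype.card F := Fintype.one_lt_card
    rcases (show 3 < Fintype.card F ∨ Fintype.card F = 2 ∨ Fintype.card F = 3 by omega) with l | l | l
    · have d : DS F = ⊤ := ds_or.resolve_right fun d => l.not_ge (by
        classical
        rw [← Finset.card_univ, show (Finset.univ : Finset F) = {0, 1, -1} from Finset.ext (by simpa using d)]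
        exact Finset.card_le_three)
      exact (a.big h k d).imp id fun e => .inl ⟨F, inferInstance, inferInstance, m, c ▸ l, c,
        ⟨q.some.trans ((MulEquiv.subgroupCongr d).trans topEquiv)⟩, e⟩
    · refine a.ty3 h (dv 2 Nat.prime_two l) (((Nat.dvd_prime Nat.prime_three).1 ((Nat.card_congr (q.some.trans (ds_congr
        (ZMod.ringEquivOfPrime F Nat.prime_two l).symm).some).toEquiv).dvd.trans ds_two)).resolve_left fun e => a.ne h ?_)
      have := (Nat.card_eq_one_iff_unique.1 e).1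
      exact Subsingleton.elim _ _
    · have r := ZMod.ringEquivOfPrime F Nat.prime_three l
      have q' := q.some.trans (ds_congr r.symm).some
      refine (a.q8 h k (dv 3 Nat.prime_three l) (fun c => ?_) ((Nat.card_congr q'.toEquiv).dvd.trans ds_three)).imp id
        fun e => .inr (.inr ⟨dv 3 Nat.prime_three l, ⟨q'⟩, e⟩)
      obtain ⟨c, rfl⟩ := r.surjective c
      rcases (by decide : ∀ c : ZMod 3, c = 0 ∨ c = 1 ∨ c = -1) c with rfl | rfl | rfl <;> simp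
  obtain ⟨ρ, ψ, k⟩ := om_iff.1 k
  have k := WZ (p := 2) E ▸ k.sub (WV E) n a.V_le (le_normalizer_of_le_comm (oc_ea _ _).1 le_rfl inf_le_left)
  have n3 := three_le_of a.res (blk_ne a.blk) q
  by_cases c : m = 1
  · subst c
    exact a.ty3 h rfl ((Nat.card_congr q.some.toEquiv).trans (by rw [nat_card_alternatingGroup]; simp [Nat.factorial]))
  exact (a.alt h ⟨m, rfl⟩ (by omega) k).imp id fun e => .inr (.inl ⟨rfl, m, q, e⟩)

theorem EX.deg (a : EX p P T M E) {m : ℕ} (q : Nonempty (E ⧸ pCore p E ≃* alternatingGroup (Fin (2 * m + 1)))) :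
    ∃ n, 2 * m + 1 = 2 ^ n + 1 := by
  have n3 := three_le_of a.res (blk_ne a.blk) q
  obtain ⟨F, _, ⟨r⟩⟩ | ⟨c, k, rfl, ⟨r⟩⟩ := a.ty
  · by_cases c : m ≤ 2
    · exact ⟨m, by interval_cases m <;> simp at n3 ⊢⟩
    exact ((not_alt (by omega) _).false (q.some.symm.trans r)).elim
  have : Nontrivial (Fin (2 * m + 1)) := Fin.nontrivial_iff_two_le.2 (by omega)
  have : Nontrivial (Fin (2 ^ k + 1)) := Fin.nontrivial_iff_two_le.2 (Nat.succ_le_succ Nat.one_le_two_pow)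
  have := congrArg (2 * ·) (Nat.card_congr (q.some.symm.trans r).toEquiv)
  simp only [two_mul_nat_card_alternatingGroup, Nat.card_perm, Nat.card_fin] at this
  exact ⟨k, (Nat.factorial_inj (by omega)).1 this⟩

end H118
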