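import Cfsg.Agent.H18.BK12

/-! Baumann blocks, part 13: the block structure of a minimal parabolic group (pushing up theorem, `PH.main`). -/

set_option autoImplicit false
set_option linter.unusedSectionVars false
namespace H118
open Subgroup H26 H4 Cfsg Matrix H18.PU Equiv NMx
open H2 (SubnIn)
open scoped commutatorElement MatrixGroups Pointwise

variable {G : Type*} [Group G] [Finite G] {p : ℕ} [hp : Fact p.Prime] {P T M E X Y K : Subgroup G} {s : Set (Subgroup G)}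

omit hp in
theorem n_sSup (h : ∀ g ∈ X, ∀ A ∈ s, cj g A ∈ s) : X ≤ 𝐍 (sSup s) :=
  le_normalizer_iff_cj.2 fun g hg => cj_le_iff.2 (sSup_le fun A hA => cj_le_iff.1 (le_sSup (h g hg A hA)))

omit hp in
theorem prod_proj (hc : ∀ A ∈ s, ∀ B ∈ s, A ≠ B → A ≤ 𝐂 B) (hK : K ≤ sSup s) : K ≤ ⨆ F ∈ s, F ⊓ (K ⊔ sSup (s \ {F})) := by
  induction s, Set.toFinite s using Set.Finite.induction_on generalizing K with
  | empty => simpa using hK
  | @insert F s hF _ ih =>
    intro x hx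
    rw [sSup_insert] at hK
    obtain ⟨f, hf, y, hy, rfl⟩ := (mem_sup_of_le_normalizer (le_normalizer_of_le_centralizer (le_centralizer_iff.1 (sSup_le
      fun A hA => hc A (.inr hA) F (.inl rfl) fun e => hF (e ▸ hA))))).1 (hK hx)
    have s1 : s ⊆ insert F s \ {F} := fun A hA => ⟨.inr hA, fun e => hF (e ▸ hA)⟩
    have s2 : ∀ A ∈ s, F ∈ insert F s \ {A} := fun A hA => ⟨.inl rfl, fun e => hF (e ▸ hA)⟩
    refine mul_mem (le_iSup₂_of_le (f := fun A (_ : A ∈ insert F s) => A ⊓ (K ⊔ sSup (insert F s \ {A}))) F (.inl rfl) le_rfl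
      ⟨hf, (Subgroup.mul_mem_cancel_right _ (mem_sup_right (sSup_le_sSup s1 hy))).1 (mem_sup_left hx)⟩)
      ((ih (fun A hA B hB => hc A (.inr hA) B (.inr hB)) (inf_le_right : (F ⊔ K) ⊓ _ ≤ _)).trans
      (iSup₂_le fun A hA => le_iSup₂_of_le A (Set.mem_insert_of_mem F hA) (inf_le_inf_left _ (sup_le (inf_le_left.trans (sup_le
        (le_sup_of_le_right (le_sSup (s2 A hA))) le_sup_left)) (le_sup_of_le_right (sSup_le_sSup (Set.diff_subset_diff_left
          (Set.subset_insert _ _))))))) ⟨(Subgroup.mul_mem_cancel_left _ (mem_sup_left hf)).1 (mem_sup_right hx), hy⟩)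

theorem PH.main (h : PH p ⊤ T M) : ∃ 𝓑 : Set (Subgroup G), HasBaumannBlockStructure p T 𝓑 ∧ (∀ E ∈ 𝓑, ∀ m : ℕ,
    Nonempty (E ⧸ pCore p E ≃* alternatingGroup (Fin (2 * m + 1))) → ∃ n : ℕ, 2 * m + 1 = 2 ^ n + 1) ∧
    cStarOf p T = cStarOf p T ⊓ sSup 𝓑 ⊔ T := by
  obtain ⟨E, a⟩ := h.exists_ex
  obtain ⟨s, hs⟩ : ∃ s : Set (Subgroup G), ∀ F, F ∈ s ↔ ∃ g, cj g E = F := ⟨_, fun _ => Iff.rfl⟩
  have cl : ∀ F ∈ s, ∀ g, cj g F ∈ s := fun F hF g => by
    obtain ⟨x, rfl⟩ := (hs F).1 hF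
    exact (hs _).2 ⟨_, cj_mul g x E⟩
  have nL : ⊤ ≤ 𝐍 (sSup s) := n_sSup fun g _ A hA => cl A hA g
  have LT : T ⊔ sSup s = ⊤ := h.um.eq_of_not_le le_sup_left le_top fun c =>
    a.nM ((le_sSup ((hs E).2 ⟨1, cj_one E⟩)).trans (le_sup_right.trans c))
  have dc : ∀ {F}, EX p ⊤ T M F → ∀ g, cj g F = F ∨ cj g F ≤ 𝐂 F := fun b g => (b.dich (mem_top g)).imp_left cj_eq_iff.2
  have ex : ∀ F ∈ s, EX p ⊤ T M F := fun F hF => by
    obtain ⟨g, rfl⟩ := (hs F).1 hF
    obtain ⟨t, ht, l, hl, rfl⟩ := (mem_sup_of_le_normalizer (le_top.trans nL)).1 (LT.ge (mem_top g))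
    rw [cj_mul, cj_eq_iff.2 (sSup_le (a := 𝐍 E) (fun A hA => ?_) hl)]
    · exact a.conj' h ht
    obtain ⟨x, rfl⟩ := (hs A).1 hA
    exact (dc a x).elim (fun e => e.le.trans le_normalizer) le_normalizer_of_le_centralizer
  have cm : ∀ A ∈ s, ∀ B ∈ s, A ≠ B → A ≤ 𝐂 B := fun A hA B hB n => by
    obtain ⟨x, rfl⟩ := (hs A).1 hA
    have := dc (ex B hB)
    obtain ⟨y, rfl⟩ := (hs B).1 hB
    have := this (x * y⁻¹)
    rw [← cj_mul, inv_mul_cancel_right] at this
    exact this.resolve_left n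
  have CM : cStarOf p T ≤ M := sup_le ((le_inf le_top le_rfl).trans h.cz) (iSup_le fun C =>
    (le_inf le_top le_rfl).trans (h.nM C.2.1 C.2.2.2 C.2.2.1))
  have CF : ∀ F ∈ s, cStarOf p T ⊓ F = M ⊓ F := fun F hF =>
    le_antisymm (inf_le_inf_right _ CM) (le_inf ((ex F hF).typ h).1 inf_le_right)
  refine ⟨s, ⟨fun F hF => (ex F hF).blk, cl, fun A hA B hB n => commutator_eq_bot_iff_le_centralizer.2 (cm A hA B hB n),
    eq_top_iff.2 (LT.ge.trans (sup_le_sup_right (t_cs T) _)), fun F hF _ => by_contra fun c => ?_, le_antisymm ?_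
      (iSup₂_le fun F hF => inf_le_inf_left _ (le_sSup hF)), fun F hF => CF F hF ▸ ((ex F hF).typ h).2⟩,
    fun F hF m => (ex F hF).deg, by rw [sup_comm, inf_comm, ← dedekind_left (t_cs T) (le_top.trans nL), LT, top_inf_eq]⟩
  · have b := blk_tb h.cp h.syl le_top hF
    refine b.nt ((VE F).trans ((le_centralizer_iff.1 (sSup_le fun A hA => le_centralizer_iff.1 (((ex A hA).le_or
      b).resolve_left fun e => c ⟨A, hA, e⟩))).trans (centralizer_anti (b.res.ge.trans ((pResidualOf_mono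
        (le_top.trans LT.ge)).trans (pResidualOf_sup_le h.syl.isP (le_top.trans nL)))))))
  refine (inf_le_inf_right _ CM).trans ((prod_proj cm inf_le_right).trans (iSup₂_mono fun F hF =>
    (le_inf (by_contra fun c => ?_) inf_le_left).trans (CF F hF).ge))
  have b := ex F hF
  obtain ⟨A, a1, a2, a3⟩ := b.ex
  have AT := a1.trans (bau_le T)
  have nM : T ≤ 𝐍 (M ⊓ sSup s) := le_normalizer_inf (h.um.le.trans le_normalizer) (le_top.trans nL)
  have l := (b.mx h inf_le_left (le_normalizer_inf inf_le_right (le_normalizer_sup (inf_le_left.trans nM) (n_sSup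
    fun g hg B hB => Set.mem_sdiff_singleton.2 ⟨cl B hB.1 g, fun e => hB.2 (cj_inj.1 (Eq.trans e (cj_eq_iff.2 hg.2).symm))⟩))) c).trans (sup_le
      inf_le_right (le_sup_of_le_left ((b.QM h).trans (inf_le_inf_left _ (le_sSup hF)))))
  have n1 : sSup s ≤ 𝐍 (sSup (s \ {F})) := sSup_le fun B hB => by
    by_cases e : B = F
    · exact le_normalizer_of_le_centralizer (le_centralizer_iff.1 (sSup_le fun C hC => cm C hC.1 B hB (e ▸ hC.2)))
    · exact (le_sSup (Set.mem_sdiff_singleton.2 ⟨hB, e⟩)).trans le_normalizer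
  have n2 : sSup (s \ {F}) ≤ 𝐍 (A ⊔ 𝐎 p ⊤) := sSup_le fun B hB => by
    have d := ex B hB.1
    exact le_normalizer_of_commutator_le (le_sup_of_le_right (commutator_sup_le ((commutator_comm _ _).le.trans
      ((d.comm_le (a1.trans d.nB) ((commutator_mono d.WVH le_rfl).trans (a2.trans ((WE F).trans (cm F hF B hB.1
        (Ne.symm hB.2)))))).trans (d.QQ h))) (commutator_le_of_le_normalizer (le_top.trans h.nQ)) (le_top.trans h.nQ)
          le_normalizer))
  refine a3 (h.um.le_pCoreOf h.syl (h.syl.isP.to_le AT) fun g hg => ?_)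
  obtain ⟨t, ht, x, hl, rfl⟩ := (mem_sup_of_le_normalizer (le_top.trans nL)).1 (LT.ge hg)
  obtain ⟨k, hk, r, hr, rfl⟩ := (mem_sup_of_le_normalizer (inf_le_right.trans n1)).1 (sSup_le (a := M ⊓ sSup s ⊔ sSup (s \ {F}))
    (fun B hB => (em (B = F)).elim (fun e => e.le.trans l) fun e => le_sup_of_le_right (le_sSup (Set.mem_sdiff_singleton.2
      ⟨hB, e⟩))) hl)
  rw [← mul_assoc, cj_mul]
  exact cj_le_of_mem ((cj_le_of_mem_normalizer le_sup_left (n2 hr)).trans ((sup_le AT h.QT).trans h.um.le))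
    (mul_mem (h.um.le ht) hk.1)

end H118
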