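import Cfsg.Agent.H18.BK1
import Cfsg.Agent.H26.Transfer

/-! Baumann blocks, part 2: lifting fixed points (`fix_lift`), the normalizer of an alternating group on its even-weight
module (`OM.ext`), fixed points of `p`-subgroups of the normalizer of a symmetric block. -/

set_option autoImplicit false
set_option linter.unusedSectionVars false
namespace H118
open Subgroup H26 H4 Cfsg Matrix H18.PU Equiv
open scoped commutatorElement MatrixGroups Pointwise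

theorem fix_add {L W : Type*} [Group L] [AddCommGroup W] [Finite W] [DistribMulAction L W] (E : Subgroup L) (w : W) :
    ∃ s : W, (∀ e ∈ E, e • s = s) ∧ ∀ t ∈ 𝐍 E, (∀ e ∈ E, e • (t • w - w) = t • w - w) →
      t • s = s + (MulAction.stabilizer L w).relIndex E • (t • w - w) := by
  classical
  have := Fintype.ofFinite W
  have k : ∀ f : W → W, Function.Injective f → (∀ d ∈ orb E w, f d ∈ orb E w) →
      ∑ d ∈ orb E w, f d = ∑ d ∈ orb E w, d := fun f h1 h2 =>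
    Finset.sum_nbij f h2 h1.injOn (Finset.surjOn_of_injOn_of_card_le f h2 h1.injOn le_rfl) fun _ _ => rfl
  refine ⟨∑ d ∈ orb E w, d, fun e he => ?_, fun t ht h => ?_⟩
  · rw [Finset.smul_sum]; exact k _ (MulAction.injective e) fun d => smul_mem_orb he
  · rw [Finset.smul_sum, ← k (fun d => t • d - (t • w - w)) (sub_left_injective.comp (MulAction.injective t))
      fun d hd => ?_, Finset.sum_sub_distrib, Finset.sum_const, card_orb, sub_add_cancel]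
    obtain ⟨e, he, rfl⟩ := mem_orb.1 hd
    have m := conj_mem_of_mem_normalizer ht he
    refine mem_orb.2 ⟨_, m, ?_⟩
    rw [← h _ m, smul_sub, smul_smul t e, smul_smul _ t, inv_mul_cancel_right, sub_sub_cancel]

variable {G : Type*} [Group G] [Finite G] {p : ℕ} [hp : Fact p.Prime] {E U U₀ W X T B P L : Subgroup G}

theorem fix_lift (hW : IsElementaryAbelian p W) (h1 : E ≤ 𝐍 W) (h2 : P ≤ 𝐍 W) (h3 : P ≤ 𝐍 E) {w : G} (hw : w ∈ W)
    (h4 : ∀ t ∈ P, ⁅t, w⁆ ∈ 𝐂 E) (h5 : ¬ p ∣ (centralizer {w}).relIndex E) (h6 : w ∉ 𝐂 E) : ¬ W ⊓ 𝐂 P ≤ 𝐂 E := by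
  have n := sup_le h1 h2
  obtain ⟨M, _, _, π, k⟩ := exists_sec_action (V := W) (Z := ⊥) (E := E ⊔ P)
    (commutator_eq_bot_iff_le_centralizer.2 (elemAb_le_centralizer hW)).le (by rw [normalizer_bot']; exact le_top) n
    (by rw [normalizer_bot']; exact le_top)
  have := k.finite
  have fx : ∀ (g : ↥(E ⊔ P)) {u : G}, u ∈ W → (g • π u = π u ↔ (g : G) * u = u * g) := fun g u hu => by
    rw [← sub_eq_zero, ← k.comm n g hu, k.ker _ (commutator_le_of_le_normalizer' n (commutator_mem_commutator g.2 hu)),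
      mem_bot, commutatorElement_eq_one_iff_mul_comm]
  obtain ⟨s, s1, s2⟩ := fix_add (E.subgroupOf (E ⊔ P)) (π w)
  obtain ⟨y, hy, rfl⟩ := k.sur s
  have e : (MulAction.stabilizer ↥(E ⊔ P) (π w)).relIndex (E.subgroupOf (E ⊔ P)) = (centralizer {w}).relIndex E := by
    rw [← relIndex_subgroupOf (le_sup_left (b := P))]
    congr 1; ext g
    rw [MulAction.mem_stabilizer_iff, fx g hw, mem_subgroupOf, mem_centralizer_singleton_iff]
  rw [e] at s2
  generalize (centralizer {w}).relIndex E = m at s2 h5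
  have hu := mul_mem (Subgroup.pow_mem _ hw m) (inv_mem hy)
  intro c
  have yc : y ∈ 𝐂 E := fun g hg => (fx ⟨g, mem_sup_left hg⟩ hy).1 (s1 _ hg)
  refine h6 (mem_of_pow_mem_coprime ((Nat.coprime_comm.1 (hp.out.coprime_iff_not_dvd.2 h5)))
    ((Subgroup.mul_mem_cancel_right _ (inv_mem yc)).1 (c ⟨hu, fun t ht => (fx ⟨t, mem_sup_right ht⟩ hu).1 ?_⟩))
    (by rw [hW.2 w hw]; exact one_mem _))
  have := s2 ⟨t, mem_sup_right ht⟩ (le_normalizer_comap _ (h3 ht)) fun g hg => by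
    rw [← k.comm n _ hw]
    exact (fx g (commutator_le_of_le_normalizer' h2 (commutator_mem_commutator ht hw))).2 (h4 t ht g hg)
  rw [k.mul _ (Subgroup.pow_mem _ hw m) _ (inv_mem hy), k.pow hw, k.inv hy, smul_add, smul_neg, this, smul_comm, smul_sub]
  abel

/-- the vector with a single zero entry -/
def uu {n : ℕ} (i : Fin n) : Fin n → ZMod 2 := 1 + Pi.single i 1
section uu
variable {n : ℕ} (σ : Perm (Fin n)) (a b : Fin n)
theorem pa_uu : pa σ (uu a) = uu (σ a) := by rw [uu, pa_add, pa_single]; rfl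
theorem uu_add : uu a + uu b = pr a b := by rw [uu, uu, add_add_add_comm, add_self', zero_add, pr]
theorem sum_uu (hn : Odd n) : ∑ i, uu a i = 0 := by
  obtain ⟨m, rfl⟩ := hn
  simp only [uu, Pi.add_apply, Finset.sum_add_distrib, Finset.sum_pi_single', Finset.mem_univ, if_true, Pi.one_apply,
    Finset.sum_const, Finset.card_univ, Fintype.card_fin, nsmul_eq_mul, Nat.cast_add, Nat.cast_mul]
  rw [show ((2 : ℕ) : ZMod 2) = 0 from rfl]; simp; rfl
theorem uu_apply : uu a b = if b = a then 0 else 1 := by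
  rw [uu, Pi.add_apply, Pi.single_apply]; split_ifs <;> rfl
variable {a b}
theorem uu_inj (h : uu a = uu b) : a = b := by
  by_contra c; have := congrFun h a; simp [uu_apply, c] at this
theorem pr_ne (h : a ≠ b) : pr a b ≠ 0 := fun e => by have := congrFun e a; simp [pr_apply, h] at this
theorem eq_uu {v : Fin n → ZMod 2} (h1 : v a = 0) (h2 : ∀ b, v b = 0 → b = a) : v = uu a := funext fun i => by
  rw [uu_apply]; split_ifs with c
  · rw [c, h1]
  · exact (z2 _).resolve_left fun e => c (h2 i e)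
end uu

namespace OM
variable {n : ℕ} {ρ : G → Perm (Fin n)} {ψ : G → Fin n → ZMod 2}
section
variable {R : Subgroup (Perm (Fin n))} (h : OM n R E U U₀ ρ ψ) {g : G} (h1 : g ∈ 𝐍 U) (h2 : g ∈ 𝐍 U₀)
include h h1 h2
theorem cong {x y : G} (hx : x ∈ U) (hy : y ∈ U) : ψ (g * x * g⁻¹) = ψ (g * y * g⁻¹) ↔ ψ x = ψ y := by
  rw [h.ψ_eq hx hy, h.ψ_eq (conj_mem_of_mem_normalizer h1 hx) (conj_mem_of_mem_normalizer h1 hy),
    mem_normalizer_iff.1 h2 (x⁻¹ * y)]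
  congr! 1; group
omit h2 in
theorem cmul {x y : G} (hx : x ∈ U) (hy : y ∈ U) : ψ (g * (x * y) * g⁻¹) = ψ (g * x * g⁻¹) + ψ (g * y * g⁻¹) := by
  rw [← h.ψmul _ (conj_mem_of_mem_normalizer h1 hx) _ (conj_mem_of_mem_normalizer h1 hy)]; congr 1; group
omit h2 in
theorem cact (h3 : g ∈ 𝐍 E) {e x : G} (he : e ∈ E) (hx : x ∈ U) :
    ψ (g * (e * x * e⁻¹) * g⁻¹) = pa (ρ (g * e * g⁻¹)) (ψ (g * x * g⁻¹)) := by
  rw [← h.act _ (conj_mem_of_mem_normalizer h3 he) _ (conj_mem_of_mem_normalizer h1 hx)]; congr 1; group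
end

variable (h : OM n (alternatingGroup (Fin n)) E U U₀ ρ ψ) (hn : Odd n) (n3 : 3 ≤ n)
include h hn n3
theorem exists_uu {g : G} (h1 : g ∈ 𝐍 U) (h2 : g ∈ 𝐍 U₀) (h3 : g ∈ 𝐍 E) {x : G} (hx : x ∈ U) {i : Fin n}
    (e : ψ x = uu i) : ∃ k, ψ (g * x * g⁻¹) = uu k := by
  have gx := conj_mem_of_mem_normalizer h1 hx
  obtain ⟨b, hb⟩ := exists_zero hn (h.ψe _ gx)
  refine ⟨b, eq_uu hb fun b' hb' => by_contra fun n1 => ?_⟩
  obtain ⟨a, ha⟩ : ∃ a, ψ (g * x * g⁻¹) a = 1 := by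
    by_contra! k
    have := (h.cong h1 h2 hx (one_mem _)).1 (by
      rw [mul_one, mul_inv_cancel, h.ψ_one]; exact funext fun i => (z2 _).resolve_right (k i))
    have _ : Nontrivial (Fin n) := Fin.nontrivial_iff_two_le.2 (by omega)
    obtain ⟨j, hj⟩ := exists_ne i
    have := congrFun (e.symm.trans (this.trans h.ψ_one)) j
    simp [uu_apply, hj] at this
  obtain ⟨a', n2, ha'⟩ := exists_two (h.ψe _ gx) ha
  have nn : ∀ {a b}, ψ (g * x * g⁻¹) a = 1 → ψ (g * x * g⁻¹) b = 0 → a ≠ b := fun h1 h2 e => by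
    rw [e, h2] at h1; exact zero_ne_one h1
  have ob : ∀ σ ∈ alternatingGroup (Fin n), ∃ y ∈ U, ∃ j, ψ y = uu j ∧ ψ (g * y * g⁻¹) = pa σ (ψ (g * x * g⁻¹)) :=
    fun σ hσ => by
      obtain ⟨f, hf, rfl⟩ := (h.ρr σ).1 hσ
      have m := conj_mem_of_mem_normalizer' h3 hf
      exact ⟨_, h.conj_mem m hx, _, by rw [h.act _ m _ hx, e, pa_uu], by rw [h.cact h1 h3 m hx]; congr 2; group⟩
  obtain ⟨y, hy, j, e1, e2⟩ := ob _ (cyc_mem (nn ha hb) (nn ha hb'))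
  obtain ⟨z, hz, l, e3, e4⟩ := ob _ (cyc_mem (nn ha' hb') (nn ha' hb))
  rw [pa_cyc (nn ha hb) (nn ha hb') (Ne.symm n1) (hb.trans hb'.symm) (by rw [ha, hb]; exact one_ne_zero)] at e2
  rw [pa_cyc (nn ha' hb') (nn ha' hb) n1 (hb'.trans hb.symm) (by rw [ha', hb']; exact one_ne_zero)] at e4
  have f1 : ψ (g * (x * y) * g⁻¹) = pr a b := by rw [h.cmul h1 hx hy, e2, ← add_assoc, add_self', zero_add]
  have f2 : ψ (g * (y * z) * g⁻¹) = pr a b + pr a' b' := by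
    rw [h.cmul h1 hy hz, e2, e4, add_add_add_comm, add_self', zero_add]
  have v1 : (pr a b + pr a' b') a = 1 := by simp [pr_apply, nn ha hb, nn ha hb', n2.symm]
  have v2 : (pr a b + pr a' b') a' = 1 := by simp [pr_apply, nn ha' hb, nn ha' hb', n2]
  have v3 : (pr a b + pr a' b') b = 1 := by simp [pr_apply, (nn ha hb).symm, (nn ha' hb).symm, Ne.symm n1]
  have z0 : ∀ {u v : G} {c d : Fin n}, u ∈ U → v ∈ U → ψ u = uu c → ψ v = uu d → ψ (g * (u * v) * g⁻¹) ≠ 0 → c ≠ d :=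
    fun hu hv k1 k2 k3 k4 => k3 (by
      rw [(h.cong h1 h2 (mul_mem hu hv) (one_mem _)).2 (by rw [h.ψmul _ hu _ hv, k1, k2, k4, add_self', h.ψ_one]),
        mul_one, mul_inv_cancel, h.ψ_one])
  obtain ⟨τ, hτ, e5⟩ := alt_pair (z0 hx hy e e1 (f1 ▸ pr_ne (nn ha hb)))
    (z0 hy hz e1 e3 (f2 ▸ fun k => by rw [k] at v1; exact zero_ne_one v1))
  obtain ⟨f, hf, rfl⟩ := (h.ρr τ).1 hτ
  have := h.cact h1 h3 hf (mul_mem hx hy)
  rw [(h.cong h1 h2 (h.conj_mem hf (mul_mem hx hy)) (mul_mem hy hz)).2 (by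
    rw [h.act _ hf _ (mul_mem hx hy), h.ψmul _ hx _ hy, h.ψmul _ hy _ hz, e, e1, e3, uu_add, uu_add, pa_pr, e5]),
    f1, f2, pa_pr] at this
  rw [this, pr_apply] at v1 v2 v3
  generalize ρ (g * f * g⁻¹) a = c at v1 v2 v3
  generalize ρ (g * f * g⁻¹) b = d at v1 v2 v3
  have q1 := nn ha hb
  have q2 := nn ha' hb
  by_cases c1 : a = c <;> by_cases c2 : a' = c <;> by_cases c3 : b = c <;> simp_all

theorem exists_perm {g : G} (h1 : g ∈ 𝐍 U) (h2 : g ∈ 𝐍 U₀) (h3 : g ∈ 𝐍 E) :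
    ∃ σ, ∀ x ∈ U, ψ (g * x * g⁻¹) = pa σ (ψ x) := by
  choose x hx e using fun i => h.ψs _ (sum_uu i hn)
  choose f hf using fun i => h.exists_uu hn n3 h1 h2 h3 (hx i) (e i)
  have fi : Function.Injective f := fun i j k => uu_inj (by
    rw [← e, ← e, ← h.cong h1 h2 (hx i) (hx j), hf, hf, k])
  refine ⟨Equiv.ofBijective f fi.bijective_of_finite, fun y hy => ?_⟩
  obtain ⟨z, hz, k1, k2⟩ := even_ind (a := ⟨0, by omega⟩) (P := fun v => ∃ y ∈ U, ψ y = v ∧ ψ (g * y * g⁻¹) =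
    pa (Equiv.ofBijective f fi.bijective_of_finite) v) ⟨1, one_mem _, h.ψ_one, by rw [mul_one, mul_inv_cancel, h.ψ_one]; rfl⟩
    (fun b => ⟨_, mul_mem (hx ⟨0, by omega⟩) (hx b), by rw [h.ψmul _ (hx _) _ (hx b), e, e, uu_add],
      by rw [h.cmul h1 (hx _) (hx b), hf, hf, uu_add, pa_pr]; rfl⟩)
    (fun u v ⟨a, ha, k1, k2⟩ ⟨b, hb, k3, k4⟩ => ⟨_, mul_mem ha hb, by rw [h.ψmul _ ha _ hb, k1, k3],
      by rw [h.cmul h1 ha hb, k2, k4, pa_add]⟩) (h.ψe y hy)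
  rw [← k2, h.cong h1 h2 hy hz, k1]

omit n3 in
theorem perm_ext {σ τ : Perm (Fin n)} (k : ∀ x ∈ U, pa σ (ψ x) = pa τ (ψ x)) : σ = τ := Perm.ext fun i => by
  obtain ⟨x, hx, e⟩ := h.ψs _ (sum_uu i hn)
  have := k x hx
  rw [e, pa_uu, pa_uu] at this; exact uu_inj this

theorem ext (h1 : L ≤ 𝐍 U) (h2 : L ≤ 𝐍 U₀) (h3 : L ≤ 𝐍 E) (h4 : E ≤ L) :
    ∃ θ R, OM n R L U U₀ θ ψ ∧ ∀ e ∈ E, θ e = ρ e := by
  classical
  choose θ hθ using fun g : L => h.exists_perm hn n3 (h1 g.2) (h2 g.2) (h3 g.2)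
  have m : ∀ a b, θ (a * b) = θ a * θ b := fun a b => h.perm_ext hn fun x hx => by
    rw [pa_mul, ← hθ _ x hx, ← hθ _ x hx, ← hθ _ _ (conj_mem_of_mem_normalizer (h1 b.2) hx)]
    congr 1; simp only [coe_mul]; group
  refine ⟨fun g => if k : g ∈ L then θ ⟨g, k⟩ else 1, (MonoidHom.mk' θ m).range, ⟨h1, h.le, fun a ha b hb => ?_, h.ψmul,
    fun σ => ⟨fun ⟨a, k⟩ => ⟨a, a.2, by rw [dif_pos a.2]; exact k⟩, fun ⟨a, ha, k⟩ => ⟨⟨a, ha⟩, by rwa [dif_pos ha] at k⟩⟩,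
    h.ψe, h.ψs, h.ker, fun a ha x hx => ?_⟩, fun e he => ?_⟩
  · rw [dif_pos ha, dif_pos hb, dif_pos (mul_mem ha hb), ← m]; rfl
  · rw [dif_pos ha]; exact hθ ⟨a, ha⟩ x hx
  · beta_reduce; rw [dif_pos (h4 he)]; exact h.perm_ext hn fun x hx => by rw [← hθ _ x hx, h.act e he x hx]
end OM

theorem stab_cyc {n : ℕ} {i : Fin n} {σ : Perm (Fin n)} (h1 : σ ∈ alternatingGroup (Fin n)) (h2 : σ i = i) :
    σ ∈ closure {τ : Perm (Fin n) | τ ∈ alternatingGroup (Fin n) ∧ τ ^ 3 = 1 ∧ τ i = i} := by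
  have k : ∀ x, σ x ≠ i ↔ x ≠ i := fun x => not_congr ⟨fun e => σ.injective (e.trans h2.symm), fun e => e ▸ h2⟩
  have e := Perm.ofSubtype_subtypePerm (p := fun x => x ≠ i) k fun x hx e => hx (by rw [e, h2])
  have m : σ.subtypePerm k ∈ closure {τ : Perm {x // x ≠ i} | τ.IsThreeCycle} := by
    rw [Perm.closure_three_cycles_eq_alternating, Perm.mem_alternatingGroup, ← Perm.sign_ofSubtype, e]; exact h1
  rw [← e]
  generalize σ.subtypePerm (p := fun x => x ≠ i) k = τ at m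
  induction m using closure_induction with
  | one => rw [map_one]; exact one_mem _
  | mul _ _ _ _ a b => rw [map_mul]; exact mul_mem a b
  | inv _ _ a => rw [map_inv]; exact inv_mem a
  | mem τ hτ => ?_
  apply Subgroup.subset_closure
  refine ⟨?_, ?_, ?_⟩
  · rw [Perm.mem_alternatingGroup, Perm.sign_ofSubtype]; exact hτ.sign
  · rw [← map_pow, ← hτ.orderOf, pow_orderOf_eq_one, map_one]
  · exact Perm.ofSubtype_apply_of_not_mem _ (not_not.2 rfl)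

theorem nZW (E : Subgroup G) : 𝐍 E ≤ 𝐍 (WW p E ⊓ 𝐂 E) := le_normalizer_inf (nWE E) (normalizer_le_normalizer_centralizer E)

/-- `x ↦ [x, w]` has trivial cube when `x ^ 3` centralizes `w` -/
theorem comm_eq_one_of_pow {x w : G} {k l : ℕ} (h0 : k.Coprime l) (h1 : x * ⁅x, w⁆ = ⁅x, w⁆ * x) (h2 : x ^ k * w = w * x ^ k)
    (h3 : ⁅x, w⁆ ^ l = 1) : x * w = w * x := by
  rw [← commutatorElement_eq_one_iff_mul_comm] at h2 ⊢
  exact eq_one_of_pow_coprime h0 (by rwa [commutatorElement_pow_left' h1] at h2) h3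

section sym
variable {n : ℕ} {ρ : G → Perm (Fin n)} {ψ : G → Fin n → ZMod 2} (b : KB 2 E)
  (h : OM n (alternatingGroup (Fin n)) E (WW 2 E) (WW 2 E ⊓ 𝐂 E) ρ ψ) (hn : Odd n) (n3 : 3 ≤ n)
include b h hn n3
theorem om_one {e : G} (he : e ∈ E) : ρ e = 1 ↔ e ∈ 𝐎 2 E :=
  ⟨fun k => b.kerW he fun w hw => ((h.comm_mem_iff he hw).2 (by rw [k, pa_one])).2, fun k => h.ρ_eq_one n3 he fun u hu => by
    rw [commutatorElement_eq_one_iff_mul_comm.2 (QcW E k u hu)]; exact one_mem _⟩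

theorem om_stab {w e : G} {i : Fin n} (hw : w ∈ WW 2 E) (e1 : ψ w = uu i) (he : e ∈ E) : e ∈ centralizer {w} ↔ ρ e i = i := by
  refine ⟨fun k => uu_inj (by rw [← pa_uu, ← e1, ← h.act e he w hw, mem_centralizer_singleton_iff.1 k, mul_inv_cancel_right]),
    fun k => ?_⟩
  have q : ∀ x ∈ E, ρ x = 1 → x ∈ centralizer {w} := fun x hx k =>
    mem_centralizer_singleton_iff.2 (QcW E ((om_one b h hn n3 hx).1 k) w hw).symm
  have := (closure_le (((centralizer {w}).subgroupOf E).map h.ρh)).2 (fun τ hτ => by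
    obtain ⟨h1, h2, h3⟩ : τ ∈ alternatingGroup (Fin n) ∧ τ ^ 3 = 1 ∧ τ i = i := hτ
    obtain ⟨x, hx, rfl⟩ := (h.ρr τ).1 h1
    have c := comm_mem_symm.1 ((h.comm_mem_iff hx hw).2 (by rw [e1, pa_uu, h3]))
    exact ⟨⟨x, hx⟩, mem_centralizer_singleton_iff.2 (comm_eq_one_of_pow (k := 3) (l := 2) (by decide) (c.2 x hx)
      (mem_centralizer_singleton_iff.1 (q _ (Subgroup.pow_mem _ hx 3) ((h.ρ_pow hx 3).trans h2))) ((Wea E).2 _ c.1)), rfl⟩)
    (stab_cyc ((h.ρr _).2 ⟨e, he, rfl⟩) k)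
  obtain ⟨x, hx, k1⟩ := this
  rw [← mul_inv_cancel_left (x : G) e]
  exact mul_mem hx (q _ (mul_mem (inv_mem x.2) he) (by
    rw [h.ρmul _ (inv_mem x.2) _ he, h.ρ_inv x.2, ← k1]; exact inv_mul_cancel _))

theorem om_fix (hP : IsPGroup 2 P) (h1 : P ≤ 𝐍 E) : ¬ WW 2 E ⊓ 𝐂 P ≤ 𝐂 E := by
  obtain ⟨S, s1, -, s2, s3⟩ := exists_isSyl_normalized hP h1 (Q := ⊥) IsPGroup.of_bot bot_le
    (by rw [normalizer_bot']; exact le_top)
  have l := sup_le h1 (s1.le.trans le_normalizer)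
  obtain ⟨θ, R, k, e⟩ := h.ext hn n3 (nWE E) (nZW E) le_rfl le_normalizer
  let _ := MulAction.compHom (Fin n) (k.ρh.comp (inclusion l))
  obtain ⟨i, hi⟩ := s3.isP.nonempty_fixed_point_of_prime_not_dvd_card (Fin n) (by
    rw [Nat.card_eq_fintype_card, Fintype.card_fin]; exact hn.not_two_dvd_nat)
  have fi : ∀ t ∈ P ⊔ S, θ t i = i := fun t ht => hi ⟨t, ht⟩
  obtain ⟨w, hw, e1⟩ := h.ψs _ (sum_uu i hn)
  refine fix_lift (Wea E) h.nm (h1.trans (nWE E)) h1 hw (fun t ht => (comm_mem_symm.1 ((k.comm_mem_iff (h1 ht) hw).2 ?_)).2)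
    (s1.not_dvd_relIndex_of_le fun s hs => (om_stab b h hn n3 hw e1 (s1.le hs)).2 ?_) fun c => ?_
  · rw [e1, pa_uu, fi t (mem_sup_left ht)]
  · rw [← e s (s1.le hs), fi s (mem_sup_right hs)]
  · have _ : Nontrivial (Fin n) := Fin.nontrivial_iff_two_le.2 (by omega)
    obtain ⟨j, hj⟩ := exists_ne i
    have := congrFun (e1.symm.trans ((h.ker w hw).2 ⟨hw, c⟩)) j
    simp [uu_apply, hj] at this

theorem om_inn (h1 : X ≤ 𝐍 E) (h2 : pResidualOf 2 X = X) : X ≤ E ⊔ 𝐂 (WW 2 E) := by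
  obtain ⟨θ, R, k, e⟩ := h.ext hn n3 (nWE E) (nZW E) le_rfl le_normalizer
  rw [← h2, pResidualOf_le_iff]
  intro x hx o
  obtain ⟨y, hy, e1⟩ := (h.ρr (θ x)).1 (by
    rw [Perm.mem_alternatingGroup]
    refine eq_one_of_pow_coprime o ?_ (Int.units_sq _)
    rw [← map_pow, ← k.ρ_pow (h1 hx), pow_orderOf_eq_one, k.ρ_one, map_one])
  have m := mul_mem (inv_mem (le_normalizer hy)) (h1 hx)
  rw [← mul_inv_cancel_left y x]
  refine mul_mem (mem_sup_left hy) (mem_sup_right (b.cenW (zpowers_le.2 m) ((commutator_zpowers_le' (fun w hw => ?_)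
    (nZW (p := 2) E m)).trans inf_le_right) (mem_zpowers _)))
  rw [k.comm_mem_iff m hw, k.ρmul _ (inv_mem (le_normalizer hy)) _ (h1 hx), k.ρ_inv (le_normalizer hy), e y hy, e1,
    inv_mul_cancel, pa_one]
end sym

end H118
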