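import Cfsg.Agent.H18.BK2

/-! Baumann blocks, part 3: the normalizer of `SL₂(F)'` on its natural module acts semilinearly (`semi`); linear
elements (`LL`), elements acting inside `SL₂(F)` (`SS`), quadratic elements and offenders are linear. -/

set_option autoImplicit false
set_option linter.unusedSectionVars false
namespace H118
open Subgroup H26 H4 Cfsg Matrix H18.PU Equiv
open scoped commutatorElement MatrixGroups Pointwise

variable {G : Type*} [Group G] {p : ℕ} {E U U₀ W X T B P L A : Subgroup G}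

theorem rel_le_card {Y : Type*} [Finite Y] (f : G → Y) (h : ∀ a ∈ A, ∀ b ∈ A, f a = f b → a⁻¹ * b ∈ X) :
    X.relIndex A ≤ Nat.card Y :=
  Nat.card_le_card_of_injective (fun c : A ⧸ X.subgroupOf A => f c.out) fun c d e => by
    rw [← c.out_eq', ← d.out_eq', QuotientGroup.eq]; exact h _ c.out.2 _ d.out.2 e

theorem exists_fix_mod [Finite G] [Fact p.Prime] (hU : IsPGroup p U) (hP : IsPGroup p P) (h1 : P ≤ 𝐍 U) (h2 : P ≤ 𝐍 U₀)
    (h3 : U ≤ 𝐍 U₀) (h4 : ¬ U ≤ U₀) : ∃ w ∈ U, w ∉ U₀ ∧ ∀ t ∈ P, ⁅w, t⁆ ∈ U₀ := by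
  let f := QuotientGroup.mk' (U₀.subgroupOf (𝐍 U₀))
  have hk : f.ker = U₀.subgroupOf (𝐍 U₀) := QuotientGroup.ker_mk' _
  obtain ⟨⟨_, ⟨w, hw, rfl⟩, k⟩, n⟩ := ne_bot_iff_exists_ne_one.1 (inf_centralizer_ne_bot (N := iM f U) (P := iM f P)
    (((isPGroup_subgroupOf_iff h3).2 hU).map _) (((isPGroup_subgroupOf_iff h2).2 hP).map _) (iM_n h1)
    (mt (iM_eq_bot hk h3).1 h4))
  refine ⟨w, hw, fun c => n (Subtype.ext (hk.ge c)), fun t ht => ?_⟩
  refine (hk.le : _ ≤ _) (show ⁅w, (⟨t, h2 ht⟩ : 𝐍 U₀)⁆ ∈ f.ker from ?_)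
  rw [MonoidHom.mem_ker, map_commutatorElement, commutatorElement_eq_one_iff_mul_comm]
  exact (k _ (mem_iM (a := ⟨t, h2 ht⟩) ht)).symm

variable {F : Type*} [Field F]

theorem ds_or : DS F = ⊤ ∨ ∀ c : F, c = 0 ∨ c = 1 ∨ c = -1 := by
  by_cases k : ∃ a : F, a ≠ 0 ∧ a ^ 2 ≠ 1
  · obtain ⟨a, h1, h2⟩ := k; exact Or.inl (SL2.commutator_eq_top h1 h2)
  · push Not at k
    exact Or.inr fun c => or_iff_not_imp_left.2 fun e => sq_eq_one_iff.1 (k c e)

theorem sl_lin (m : SL(2, F)) (c : F) (x : Fin 2 → F) : m • c • x = c • m • x := by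
  rw [sl_smul, sl_smul, mulVec_smul]

theorem sl_ext {m n : SL(2, F)} (h : ∀ x : Fin 2 → F, m • x = n • x) : m = n := by
  have a := h ![1, 0]
  have b := h ![0, 1]
  ext i j; fin_cases i <;> fin_cases j
  · simpa [sl_smul_zero] using congrFun a 0
  · simpa [sl_smul_zero] using congrFun b 0
  · simpa [sl_smul_one] using congrFun a 1
  · simpa [sl_smul_one] using congrFun b 1

theorem scal_of_comm {f : (Fin 2 → F) →ₗ[F] Fin 2 → F} (h : ∀ (m : SL(2, F)) x, f (m • x) = m • f x) :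
    ∃ c : F, ∀ x, f x = c • x := by
  have e : ∀ x : Fin 2 → F, x = x 0 • ![1, 0] + x 1 • ![0, 1] := fun x => vec_ext (by simp) (by simp)
  have a := h (tvU 1) ![1, 0]
  have b := h (tvU 1) ![0, 1]
  have c := h (tvL 1) ![0, 1]
  rw [tvU_smul, tvU_smul] at a b
  rw [tvL_smul, tvL_smul] at c
  rw [e ![_, _], map_add, map_smul, map_smul] at b
  have a0 := congrFun a 0
  have b0 := congrFun b 0
  have c1 := congrFun c 1
  simp at a0 b0 c1
  refine ⟨f ![1, 0] 0, fun x => ?_⟩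
  rw [e x, map_add, map_smul, map_smul]
  refine vec_ext ?_ ?_ <;> simp [a0, c1, mul_comm]
  rw [c1] at b0; simp at b0; rw [b0]; simp

namespace NMx
variable {R : Subgroup SL(2, F)} {ρ : G → SL(2, F)} {ψ : G → Fin 2 → F} (h : NM R E U U₀ ρ ψ) {g k : G}
include h
/-- the additive map induced by an element normalizing the section -/
noncomputable def al (g : G) (x : Fin 2 → F) : Fin 2 → F := ψ (g * (h.ψs x).choose * g⁻¹)
theorem al_ψ (hg : g ∈ 𝐍 U ⊓ 𝐍 U₀) {u : G} (hu : u ∈ U) : al h g (ψ u) = ψ (g * u * g⁻¹) := by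
  obtain ⟨h1, h2⟩ := (h.ψs (ψ u)).choose_spec
  rw [al, h.ψ_eq (conj_mem_of_mem_normalizer hg.1 h1) (conj_mem_of_mem_normalizer hg.1 hu)]
  convert conj_mem_of_mem_normalizer hg.2 ((h.ψ_eq h1 hu).1 h2) using 1; group
theorem al_add (hg : g ∈ 𝐍 U ⊓ 𝐍 U₀) (x y : Fin 2 → F) : al h g (x + y) = al h g x + al h g y := by
  obtain ⟨u, hu, rfl⟩ := h.ψs x
  obtain ⟨v, hv, rfl⟩ := h.ψs y
  rw [← h.ψmul u hu v hv, al_ψ h hg hu, al_ψ h hg hv, al_ψ h hg (mul_mem hu hv), ← h.ψmul _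
    (conj_mem_of_mem_normalizer hg.1 hu) _ (conj_mem_of_mem_normalizer hg.1 hv)]
  congr 1; group
/-- `al` as an additive map -/
noncomputable def alh (hg : g ∈ 𝐍 U ⊓ 𝐍 U₀) : (Fin 2 → F) →+ Fin 2 → F := AddMonoidHom.mk' _ (al_add h hg)
theorem al_zero (hg : g ∈ 𝐍 U ⊓ 𝐍 U₀) : al h g 0 = 0 := (alh h hg).map_zero
theorem al_neg (hg : g ∈ 𝐍 U ⊓ 𝐍 U₀) (x : Fin 2 → F) : al h g (-x) = -al h g x := (alh h hg).map_neg x
theorem al_sub (hg : g ∈ 𝐍 U ⊓ 𝐍 U₀) (x y : Fin 2 → F) : al h g (x - y) = al h g x - al h g y := (alh h hg).map_sub x y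
theorem al_mul (hg : g ∈ 𝐍 U ⊓ 𝐍 U₀) (hk : k ∈ 𝐍 U ⊓ 𝐍 U₀) (x : Fin 2 → F) : al h (g * k) x = al h g (al h k x) := by
  obtain ⟨u, hu, rfl⟩ := h.ψs x
  rw [al_ψ h hk hu, al_ψ h (mul_mem hg hk) hu, al_ψ h hg (conj_mem_of_mem_normalizer hk.1 hu)]; congr 1; group
theorem al_one (x : Fin 2 → F) : al h 1 x = x := by
  obtain ⟨u, hu, rfl⟩ := h.ψs x
  rw [al_ψ h (one_mem _) hu]; simp
theorem al_inv (hg : g ∈ 𝐍 U ⊓ 𝐍 U₀) (x : Fin 2 → F) : al h g (al h g⁻¹ x) = x := by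
  rw [← al_mul h hg (inv_mem hg), mul_inv_cancel, al_one]
theorem inv_al (hg : g ∈ 𝐍 U ⊓ 𝐍 U₀) (x : Fin 2 → F) : al h g⁻¹ (al h g x) = x := by
  rw [← al_mul h (inv_mem hg) hg, inv_mul_cancel, al_one]
theorem nE : E ≤ 𝐍 U ⊓ 𝐍 U₀ := le_inf h.nm h.nm₀
theorem al_E {e : G} (he : e ∈ E) (x : Fin 2 → F) : al h e x = ρ e • x := by
  obtain ⟨u, hu, rfl⟩ := h.ψs x
  rw [al_ψ h (nE h he) hu, h.act e he u hu]
theorem al_act (hg : g ∈ 𝐍 U ⊓ 𝐍 U₀) (h3 : g ∈ 𝐍 E) {e : G} (he : e ∈ E) (x : Fin 2 → F) :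
    al h g (ρ e • x) = ρ (g * e * g⁻¹) • al h g x := by
  have m := conj_mem_of_mem_normalizer h3 he
  rw [← al_E h he, ← al_E h m, ← al_mul h hg (nE h he), ← al_mul h (nE h m) hg, inv_mul_cancel_right]
theorem al_fix (hg : g ∈ 𝐍 U ⊓ 𝐍 U₀) {u : G} (hu : u ∈ U) : al h g (ψ u) = ψ u ↔ ⁅u, g⁆ ∈ U₀ := by
  have m := conj_mem_of_mem_normalizer hg.1 (inv_mem hu)
  rw [al_ψ h hg hu, show ⁅u, g⁆ = u * (g * u⁻¹ * g⁻¹) by group, ← h.ker _ (mul_mem hu m), h.ψmul _ hu _ m,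
    show g * u⁻¹ * g⁻¹ = (g * u * g⁻¹)⁻¹ by group, h.ψ_inv (conj_mem_of_mem_normalizer hg.1 hu), add_neg_eq_zero, eq_comm]
theorem al_comm (hg : g ∈ 𝐍 U ⊓ 𝐍 U₀) {u : G} (hu : u ∈ U) : ψ ⁅u, g⁆ = ψ u - al h g (ψ u) := by
  have m := conj_mem_of_mem_normalizer hg.1 (inv_mem hu)
  rw [al_ψ h hg hu, show ⁅u, g⁆ = u * (g * u⁻¹ * g⁻¹) by group, h.ψmul _ hu _ m,
    show g * u⁻¹ * g⁻¹ = (g * u * g⁻¹)⁻¹ by group, h.ψ_inv (conj_mem_of_mem_normalizer hg.1 hu), sub_eq_add_neg]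
theorem al_triv (hg : g ∈ 𝐍 U ⊓ 𝐍 U₀) : (∀ x, al h g x = x) ↔ g ∈ commStab (U : Set G) U₀ :=
  ⟨fun k => ⟨hg.2, fun u hu => comm_mem_symm.1 ((al_fix h hg hu).1 (k _))⟩, fun k x => by
    obtain ⟨u, hu, rfl⟩ := h.ψs x; exact (al_fix h hg hu).2 (comm_mem_symm.1 (k.2 u hu))⟩

/-- the elements acting linearly -/
def LL : Subgroup G where
  carrier := {g | g ∈ 𝐍 U ⊓ 𝐍 U₀ ∧ ∀ (c : F) x, al h g (c • x) = c • al h g x}
  one_mem' := ⟨one_mem _, fun c x => by rw [al_one, al_one]⟩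
  mul_mem' := fun {a b} ha hb => ⟨mul_mem ha.1 hb.1, fun c x => by rw [al_mul h ha.1 hb.1, al_mul h ha.1 hb.1, hb.2, ha.2]⟩
  inv_mem' := fun {a} ha => ⟨inv_mem ha.1, fun c x => by
    rw [← al_inv h ha.1 x, ← ha.2, inv_al h ha.1, inv_al h ha.1]⟩
/-- the elements acting as elements of `SL₂(F)` -/
def SS : Subgroup G where
  carrier := {g | g ∈ 𝐍 U ⊓ 𝐍 U₀ ∧ ∃ m : SL(2, F), ∀ x, al h g x = m • x}
  one_mem' := ⟨one_mem _, 1, fun x => by rw [al_one, one_smul]⟩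
  mul_mem' := fun {a b} ⟨ha, m, e⟩ ⟨hb, n, f⟩ => ⟨mul_mem ha hb, m * n, fun x => by rw [al_mul h ha hb, e, f, mul_smul]⟩
  inv_mem' := fun {a} ⟨ha, m, e⟩ => ⟨inv_mem ha, m⁻¹, fun x => by rw [eq_inv_smul_iff, ← e, al_inv h ha]⟩
/-- the determinant on linear elements -/
noncomputable def dt : LL h →* F := LinearMap.det.comp
  { toFun := fun g => ⟨⟨al h g, al_add h g.2.1⟩, g.2.2⟩
    map_one' := LinearMap.ext (al_one h)
    map_mul' := fun a b => LinearMap.ext (al_mul h a.2.1 b.2.1) }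
theorem mem_SS (g : LL h) (e : dt h g = 1) : (g : G) ∈ SS h :=
  ⟨g.2.1, ⟨LinearMap.toMatrix' ⟨⟨al h g, al_add h g.2.1⟩, g.2.2⟩, (LinearMap.det_toMatrix' _).trans e⟩, fun x =>
    ((sl_smul _ _).trans (LinearMap.toMatrix'_mulVec _ _)).symm⟩
theorem comm_LL : ⁅LL h, LL h⁆ ≤ SS h := commutator_le.2 fun a ha b hb => mem_SS h ⁅(⟨a, ha⟩ : LL h), (⟨b, hb⟩ : LL h)⁆ (by
  have := congrArg Units.val (show (dt h).toHomUnits ⁅(⟨a, ha⟩ : LL h), (⟨b, hb⟩ : LL h)⁆ = 1 by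
    rw [map_commutatorElement, commutatorElement_eq_one_iff_mul_comm, mul_comm])
  exact this)
theorem mem_SS_pow [hp : Fact p.Prime] [CharP F p] (hg : g ∈ LL h) {n : ℕ} (e : g ^ p ^ n ∈ commStab (U : Set G) U₀) :
    g ∈ SS h := mem_SS h ⟨g, hg⟩ (by
  have : dt h (⟨g, hg⟩ ^ p ^ n) = 1 := by
    rw [← LinearMap.det_id (M := Fin 2 → F)]
    exact congrArg _ (LinearMap.ext ((al_triv h (Subgroup.pow_mem _ hg.1 _)).2 e))
  rw [map_pow] at this
  exact sub_eq_zero.1 (pow_eq_zero_iff (pow_ne_zero n hp.out.ne_zero) |>.1 (by rw [sub_pow_char_pow, this, one_pow, sub_self])))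
theorem small (k : ∀ c : F, c = 0 ∨ c = 1 ∨ c = -1) : 𝐍 U ⊓ 𝐍 U₀ ≤ LL h := fun g hg => ⟨hg, fun c x => by
  rcases k c with rfl | rfl | rfl
  · rw [zero_smul, zero_smul, al_zero h hg]
  · rw [one_smul, one_smul]
  · rw [neg_one_smul, neg_one_smul, al_neg h hg]⟩
theorem mem_sup_of {m : SL(2, F)} (hg : g ∈ 𝐍 U ⊓ 𝐍 U₀) (e : ∀ x, al h g x = m • x) (hm : m ∈ R) :
    g ∈ E ⊔ 𝐍 U ⊓ commStab (U : Set G) U₀ := by
  obtain ⟨y, hy, rfl⟩ := (h.ρr m).1 hm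
  have n := mul_mem (inv_mem (nE h hy)) hg
  rw [← mul_inv_cancel_left y g]
  exact mul_mem (mem_sup_left hy) (mem_sup_right ⟨n.1, (al_triv h n).1 fun x => by
    rw [al_mul h (inv_mem (nE h hy)) hg, e, ← al_E h hy, inv_al h (nE h hy)]⟩)
theorem al_pow {m : SL(2, F)} (hg : g ∈ 𝐍 U ⊓ 𝐍 U₀) (e : ∀ x, al h g x = m • x) (n : ℕ) (x : Fin 2 → F) :
    al h (g ^ n) x = m ^ n • x := by
  induction n with
  | zero => rw [pow_zero, pow_zero, al_one, one_smul]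
  | succ n ih => rw [pow_succ', pow_succ', al_mul h hg (Subgroup.pow_mem _ hg n), ih, e, mul_smul]
theorem res_SS [Fact p.Prime] [CharP F p] [Finite G] (hR : DS F ≤ R) (h1 : X ≤ SS h) :
    pResidualOf p X ≤ E ⊔ 𝐍 U ⊓ commStab (U : Set G) U₀ := pResidualOf_le_iff.2 fun x hx o => by
  obtain ⟨hg, m, e⟩ := h1 hx
  refine mem_sup_of h hg e (hR (res_le_ds (p := p) (mem_pResidualOf (mem_top _) (o.coprime_dvd_left
    (orderOf_dvd_of_pow_eq_one (sl_ext fun y => ?_))))))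
  rw [← al_pow h hg e, pow_orderOf_eq_one, al_one, one_smul]
theorem SS_le (hR : R = ⊤) : SS h ≤ E ⊔ 𝐍 U ⊓ commStab (U : Set G) U₀ := fun _ ⟨hg, _, e⟩ =>
  mem_sup_of h hg e (hR ▸ mem_top _)

theorem semi (hR : R = DS F) (hg : g ∈ 𝐍 U ⊓ 𝐍 U₀) (h3 : g ∈ 𝐍 E) (c : F) : ∃ d : F, ∀ x, al h g (c • x) = d • al h g x := by
  rcases ds_or (F := F) with k | k
  swap
  · exact ⟨c, (small h k hg).2 c⟩
  have s : ∀ m, ∃ e ∈ E, ρ e = m := fun m => (h.ρr m).1 (by rw [hR, k]; trivial)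
  obtain ⟨a, ha, e1⟩ := s (tvU c)
  obtain ⟨b, hb, e2⟩ := s (tvL 1)
  have e : ∀ x : Fin 2 → F, c • x = (ρ a • (ρ b • x - x) - (ρ b • x - x)) + (ρ b • (ρ a • x - x) - (ρ a • x - x)) :=
    fun x => by rw [e1, e2]; simp only [tvU_smul, tvL_smul]; exact vec_ext (by simp [vecHead]) (by simp [vecHead, vecTail])
  have l : ∀ (d : F) y, al h g (c • al h g⁻¹ (d • y)) = d • al h g (c • al h g⁻¹ y) := fun d y => by
    rw [e, e (al h g⁻¹ y)]
    simp only [al_add h hg, al_sub h hg, al_act h hg h3 ha, al_act h hg h3 hb, al_inv h hg, smul_add, smul_sub,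
      sl_lin]
  obtain ⟨d, hd⟩ := scal_of_comm (f := ⟨⟨fun y => al h g (c • al h g⁻¹ y), fun x y => by
    rw [al_add h (inv_mem hg), smul_add, al_add h hg]⟩, l⟩) fun m x => by
      obtain ⟨f, hf, rfl⟩ := s m
      have n := conj_mem_of_mem_normalizer (inv_mem h3) hf
      change al h g (c • al h g⁻¹ _) = _ • al h g (c • al h g⁻¹ _)
      rw [al_act h (inv_mem hg) (inv_mem h3) hf, ← sl_lin, al_act h hg h3 n]; congr 2; group
  exact ⟨d, fun x => by rw [← hd]; change _ = al h g (c • al h g⁻¹ _); rw [inv_al h hg]⟩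

theorem al_ne (hg : g ∈ 𝐍 U ⊓ 𝐍 U₀) {x : Fin 2 → F} (hx : x ≠ 0) : al h g x ≠ 0 := fun e => hx (by
  rw [← inv_al h hg x, e, al_zero h (inv_mem hg)])

/-- the field automorphism induced by an element normalizing `E` -/
theorem exists_sg (hR : R = DS F) (hg : g ∈ 𝐍 U ⊓ 𝐍 U₀) (h3 : g ∈ 𝐍 E) :
    ∃ σ : F →+* F, ∀ c x, al h g (c • x) = σ c • al h g x := by
  choose σ hσ using semi h hR hg h3
  have n : al h g 1 ≠ 0 := al_ne h hg one_ne_zero
  have i := smul_left_injective F n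
  exact ⟨⟨⟨⟨σ, i (by simp only [← hσ, one_smul])⟩, fun a b => i (by simp only [← hσ, mul_smul])⟩,
    i (by simp only [← hσ, zero_smul, al_zero h hg]), fun a b => i (by simp only [← hσ, add_smul, al_add h hg])⟩, hσ⟩

theorem lin_of_quad (hR : R = DS F) (h2 : (2 : F) ≠ 0) (hg : g ∈ 𝐍 U ⊓ 𝐍 U₀) (h3 : g ∈ 𝐍 E)
    (hq : ∀ x, al h g (al h g x - x) = al h g x - x) : g ∈ LL h := by
  obtain ⟨σ, hσ⟩ := exists_sg h hR hg h3
  refine ⟨hg, fun c x => by_contra fun n => ?_⟩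
  have n1 : σ c - c ≠ 0 := fun e => n (by rw [hσ, sub_eq_zero.1 e])
  have k : ∀ y, (2 * σ (σ c - c)) • al h g y = (σ (σ c) - c) • y := fun y => by
    have a := hq (c • y)
    have b := hq y
    rw [al_sub h hg] at a b
    rw [hσ, hσ, sub_eq_iff_eq_add.1 b] at a
    rw [map_sub]; linear_combination (norm := module) a
  have n2 := mul_ne_zero h2 ((map_ne_zero σ).2 n1)
  refine n (smul_right_injective _ n2 ?_)
  simp only [k, smul_comm _ c]

theorem off_lin [Finite G] [Finite F] [hp : Fact p.Prime] [CharP F p] (hR : R = DS F) (hU : IsPGroup p U)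
    (h1 : A ≤ 𝐍 U ⊓ 𝐍 U₀) (h3 : A ≤ 𝐍 E) (hA : IsElementaryAbelian p A)
    (ho : U₀.relIndex U ≤ (commStab (U : Set G) U₀).relIndex A * U₀.relIndex (cmod U A U₀)) : A ≤ LL h := by
  classical
  obtain ⟨v, hv, v0, v1⟩ := exists_fix_mod hU (elemAb_isPGroup hA) (h1.trans inf_le_left) (h1.trans inf_le_right) h.nmU
    fun e => h.ne (le_antisymm h.le e)
  obtain ⟨m, hm⟩ := exists_smul_eq (mt (h.ker v hv).1 v0)
  intro a ha
  by_contra n
  obtain ⟨σ, hσ⟩ := exists_sg h hR (h1 ha) (h3 ha)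
  obtain ⟨c, hc⟩ : ∃ c, σ c ≠ c := by
    by_contra! k; exact n ⟨h1 ha, fun c x => by rw [hσ, k]⟩
  let K := σ.eqLocusField (RingHom.id F)
  have c1 : Nat.card K * Nat.card K ≤ Nat.card F := by
    rw [← Nat.card_prod]
    refine Nat.card_le_card_of_injective (fun x => x.1.1 + x.2.1 * c) fun x y e => ?_
    by_cases k : x.2 = y.2
    · exact Prod.ext (Subtype.ext (by simpa [k] using e)) k
    · refine absurd (show c ∈ K from ?_) hc
      rw [show c = (y.1.1 - x.1.1) / (x.2.1 - y.2.1) by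
        rw [eq_div_iff (sub_ne_zero.2 fun e => k (Subtype.ext e))]; linear_combination e]
      exact div_mem (sub_mem y.1.2 x.1.2) (sub_mem x.2.2 y.2.2)
  obtain ⟨γ, hγ⟩ := IsCyclic.exists_generator (α := Fˣ)
  have c2 : (LL h).relIndex A ≤ Nat.card Fˣ := by
    choose τ hτ using fun g : A => exists_sg h hR (h1 g.2) (h3 g.2)
    refine rel_le_card (fun g => if k : g ∈ A then Units.map (τ ⟨g, k⟩).toMonoidHom γ else 1) fun x hx y hy e => ?_
    simp only [dif_pos hx, dif_pos hy] at e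
    refine ⟨h1 (mul_mem (inv_mem hx) hy), fun d z => ?_⟩
    have : τ ⟨x, hx⟩ d = τ ⟨y, hy⟩ d := by
      by_cases d0 : d = 0
      · rw [d0, map_zero, map_zero]
      obtain ⟨i, hi⟩ := hγ (Units.mk0 d d0)
      have := congrArg (fun u => ((u ^ i : Fˣ) : F)) e
      simp only [← map_zpow, hi] at this
      exact this
    rw [al_mul h (inv_mem (h1 hx)) (h1 hy), al_mul h (inv_mem (h1 hx)) (h1 hy), hτ ⟨y, hy⟩, ← this,
      ← al_inv h (h1 hx) (al h y z), ← hτ ⟨x, hx⟩, inv_al h (h1 hx), inv_al h (h1 hx)]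
  have fx : ∀ u ∈ cmod U A U₀, ∀ b ∈ A, al h b (ψ u) = ψ u := fun u hu b hb => (al_fix h (h1 hb) hu.1).2 (hu.2.2 b hb)
  have fv : ∀ b ∈ A, al h b (m • ![1, 0]) = m • ![1, 0] := fun b hb => by rw [hm]; exact (al_fix h (h1 hb) hv).2 (v1 b hb)
  have dc : ∀ x : Fin 2 → F, x = (m⁻¹ • x) 0 • m • ![1, 0] + (m⁻¹ • x) 1 • m • ![0, 1] := fun x => by
    rw [← sl_lin, ← sl_lin, ← smul_add, eq_comm, ← eq_inv_smul_iff]; exact vec_ext (by simp) (by simp)
  have c3 : (commStab (U : Set G) U₀).relIndex (A ⊓ LL h) * U₀.relIndex (cmod U A U₀) ≤ Nat.card K * Nat.card K := by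
    by_cases k : ∃ w ∈ cmod U A U₀, (m⁻¹ • ψ w) 1 ≠ 0
    · obtain ⟨w, hw, w1⟩ := k
      have d2 : ∀ x : Fin 2 → F, x = ((m⁻¹ • x) 0 - (m⁻¹ • x) 1 / (m⁻¹ • ψ w) 1 * (m⁻¹ • ψ w) 0) • m • ![1, 0] +
          ((m⁻¹ • x) 1 / (m⁻¹ • ψ w) 1) • ψ w := fun x => by
        rw [← smul_left_cancel_iff m⁻¹, smul_add, sl_lin, sl_lin, inv_smul_smul]
        exact vec_ext (by simp) (by simp [w1])
      rw [relIndex_eq_one.2 (show A ⊓ LL h ≤ _ from fun b hb => (al_triv h hb.2.1).1 fun x => by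
        rw [d2 x, al_add h hb.2.1, hb.2.2, hb.2.2, fv b hb.1, fx w hw b hb.1]), one_mul, ← Nat.card_prod]
      have mk : ∀ u ∈ cmod U A U₀, ∃ y : K × K, ψ u = y.1.1 • m • ![1, 0] + y.2.1 • ψ w := fun u hu => by
        have e := fx u hu a ha
        rw [d2 (ψ u), al_add h (h1 ha), hσ, hσ, fv a ha, fx w hw a ha, ← smul_left_cancel_iff m⁻¹] at e
        simp only [smul_add, sl_lin, inv_smul_smul] at e
        have e1 := congrFun e 1
        simp only [Pi.add_apply, Pi.smul_apply, smul_eq_mul, cons_val_one, cons_val_zero, mul_zero, zero_add] at e1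
        have e2 := mul_right_cancel₀ w1 e1
        have e0 := congrFun e 0
        simp only [Pi.add_apply, Pi.smul_apply, smul_eq_mul, cons_val_zero, mul_one, e2, add_left_inj] at e0
        exact ⟨(⟨_, e0⟩, ⟨_, e2⟩), d2 _⟩
      choose! f hf using mk
      exact rel_le_card f fun x hx y hy e => (h.ψ_eq hx.1 hy.1).1 (by rw [hf x hx, hf y hy, e])
    push Not at k
    refine Nat.mul_le_mul ?_ ?_
    · have mk : ∀ b ∈ A ⊓ LL h, ∃ s, ∀ x, al h b x = m • tvU s • m⁻¹ • x := fun b hb => by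
        obtain ⟨-, r, e⟩ := mem_SS_pow h hb.2 (n := 1) (by rw [pow_one, hA.2 b hb.1]; exact one_mem _)
        refine ⟨(m⁻¹ * r * m).1 0 1, fun x => ?_⟩
        rw [← eq_tvU_of_fix (m := m⁻¹ * r * m) (by rw [mul_smul, mul_smul, ← e, fv b hb.1, inv_smul_smul]), e,
          smul_smul, smul_smul]
        congr 1; group
      choose! s hs using mk
      have e : ∀ b ∈ A ⊓ LL h, σ (s b) = (m⁻¹ • al h a (m • ![0, 1])) 1 * s b := fun b hb => by
        have e := congrFun (congrArg (m⁻¹ • ·) (show al h a (al h b (m • ![0, 1])) = al h b (al h a (m • ![0, 1])) by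
          rw [← al_mul h (h1 ha) hb.2.1, ← al_mul h hb.2.1 (h1 ha), comm_of hA.1 ha hb.1])) 0
        rw [hs b hb, hs b hb, inv_smul_smul, inv_smul_smul, show tvU (s b) • (![0, 1] : Fin 2 → F) =
          s b • ![1, 0] + ![0, 1] by rw [tvU_smul]; exact vec_ext (by simp) (by simp), smul_add, sl_lin,
          al_add h (h1 ha), hσ, fv a ha, tvU_smul] at e
        simp only [smul_add, sl_lin, inv_smul_smul] at e
        simp at e; linear_combination e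
      have tr : ∀ x ∈ A ⊓ LL h, ∀ y ∈ A ⊓ LL h, s x = s y → x⁻¹ * y ∈ commStab (U : Set G) U₀ := fun x hx y hy e =>
        (al_triv h (mul_mem (inv_mem hx.2.1) hy.2.1)).1 fun z => by
          rw [al_mul h (inv_mem hx.2.1) hy.2.1, hs y hy, ← e, ← hs x hx, inv_al h hx.2.1]
      by_cases k0 : ∃ b ∈ A ⊓ LL h, s b ≠ 0
      · obtain ⟨b, hb, b0⟩ := k0
        have mk : ∀ x ∈ A ⊓ LL h, ∃ y : K, s x = y * s b := fun x hx => ⟨⟨s x / s b, by
          change σ _ = _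
          rw [map_div₀, e x hx, e b hb, mul_div_mul_left]; rfl
          exact fun z => (map_ne_zero σ).2 b0 (by rw [e b hb, z, zero_mul])⟩, by simp [b0]⟩
        choose! f hf using mk
        exact rel_le_card f fun x hx y hy e => tr x hx y hy (by rw [hf x hx, hf y hy, e])
      · push Not at k0
        exact rel_le_card (fun _ => (0 : K)) fun x hx y hy _ => tr x hx y hy (by rw [k0 x hx, k0 y hy])
    · have mk : ∀ u ∈ cmod U A U₀, ∃ y : K, ψ u = y.1 • m • ![1, 0] := fun u hu => by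
        have d := dc (ψ u)
        rw [k u hu, zero_smul, add_zero] at d
        have e := fx u hu a ha
        rw [d, hσ, fv a ha] at e
        exact ⟨⟨_, smul_left_injective F (by rw [hm]; exact mt (h.ker v hv).1 v0) e⟩, d⟩
      choose! f hf using mk
      exact rel_le_card f fun x hx y hy e => (h.ψ_eq hx.1 hy.1).1 (by rw [hf x hx, hf y hy, e])
  have c4 : U₀.relIndex U = Nat.card F ^ 2 :=
    Nat.eq_of_mul_eq_mul_left (card_pos' U₀) ((card_mul_relIndex_of_le h.le).trans h.card)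
  have c5 := relIndex_mul_relIndex (commStab (U : Set G) U₀ ⊓ (A ⊓ LL h)) (A ⊓ LL h) A inf_le_right inf_le_left
  have c6 : commStab (U : Set G) U₀ ⊓ (A ⊓ LL h) = commStab (U : Set G) U₀ ⊓ A :=
    le_antisymm (inf_le_inf_left _ inf_le_left) fun x hx => ⟨hx.1, hx.2, h1 hx.2, fun c y => by
      rw [(al_triv h (h1 hx.2)).2 hx.1, (al_triv h (h1 hx.2)).2 hx.1]⟩
  rw [inf_relIndex_right, c6, inf_relIndex_right, inf_relIndex_left] at c5
  have c7 := Nat.card_eq_card_units_add_one F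
  rw [c4, ← c5] at ho
  nlinarith [Nat.mul_le_mul c2 (c3.trans c1)]
end NMx

end H118
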