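import Cfsg.Agent.H18.BK3
import Cfsg.Agent.H10.PSL2Max
import Cfsg.Agent.H17.Coprime

/-! Baumann blocks, part 4: linear blocks (stabilizers, fixed points, the Baumann subgroup acts inside `SL₂`). -/

set_option autoImplicit false
set_option linter.unusedSectionVars false
namespace H118
open Subgroup H26 H4 Cfsg Matrix H18.PU Equiv NMx
open scoped commutatorElement MatrixGroups Pointwise

variable {G : Type*} [Group G] [Finite G] {p : ℕ} [hp : Fact p.Prime] {E U U₀ W X T B P L A D H : Subgroup G}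

theorem fix_lift' (hW : IsElementaryAbelian p W) (h1 : E ≤ 𝐍 W) (h2 : P ≤ 𝐍 W) (h3 : P ≤ 𝐍 E) {w : G} (hw : w ∈ W)
    (h4 : ∀ t ∈ P, ⁅t, w⁆ ∈ 𝐂 E) (h5 : ¬ p ∣ (centralizer {w}).relIndex E) : w ∈ W ⊓ 𝐂 P ⊔ W ⊓ 𝐂 E := by
  have n := sup_le h1 h2
  obtain ⟨M, _, _, π, k⟩ := exists_sec_action (V := W) (Z := ⊥) (E := E ⊔ P)
    (commutator_eq_bot_iff_le_centralizer.2 (elemAb_le_centralizer hW)).le (by rw [normalizer_bot']; exact le_top) n
    (by rw [normalizer_bot']; exact le_top)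
  have := k.finite
  have fx : ∀ (g : ↥(E ⊔ P)) {u : G}, u ∈ W → (g • π u = π u ↔ (g : G) * u = u * g) := fun g u hu => by
    rw [← sub_eq_zero, ← k.comm n g hu, k.ker _ (commutator_le_of_le_normalizer' n (commutator_mem_commutator g.2 hu)),
      mem_bot, commutatorElement_eq_one_iff_mul_comm]
  obtain ⟨s, s1, s2⟩ := fix_add (E.subgroupOf (E ⊔ P)) (π w)
  obtain ⟨y, hy, rfl⟩ := k.sur s
  have e : (MulAction.stabilizer ↥(E ⊔ P) (π w)).relIndex (E.subgroupOf (E ⊔ P)) = (centralizer {w}).relIndex E := by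
    rw [← relIndex_subgroupOf (le_sup_left (b := P))]
    congr 1; ext g
    rw [MulAction.mem_stabilizer_iff, fx g hw, mem_subgroupOf, mem_centralizer_singleton_iff]
  rw [e] at s2
  generalize (centralizer {w}).relIndex E = m at s2 h5
  have hu := mul_mem (Subgroup.pow_mem _ hw m) (inv_mem hy)
  have yc : y ∈ 𝐂 E := fun g hg => (fx ⟨g, mem_sup_left hg⟩ hy).1 (s1 _ hg)
  refine (mem_of_pow_mem_coprime ((Nat.coprime_comm.1 (hp.out.coprime_iff_not_dvd.2 h5)))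
    ((Subgroup.mul_mem_cancel_right _ (inv_mem (mem_sup_right (mem_inf.2 ⟨hy, yc⟩)))).1
      (mem_sup_left ⟨hu, fun t ht => (fx ⟨t, mem_sup_right ht⟩ hu).1 ?_⟩))
    (by rw [hW.2 w hw]; exact one_mem _))
  have := s2 ⟨t, mem_sup_right ht⟩ (le_normalizer_comap _ (h3 ht)) fun g hg => by
    rw [← k.comm n _ hw]
    exact (fx g (commutator_le_of_le_normalizer' h2 (commutator_mem_commutator ht hw))).2 (h4 t ht g hg)
  rw [k.mul _ (Subgroup.pow_mem _ hw m) _ (inv_mem hy), k.pow hw, k.inv hy, smul_add, smul_neg, this, smul_comm, smul_sub]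
  abel

variable {F : Type*} [Field F] [Finite F] [CharP F p] {ρ : G → SL(2, F)} {ψ : G → Fin 2 → F} {g : G}

omit [Finite F] in
theorem mem_ds {m : SL(2, F)} {k : ℕ} (h1 : k.Coprime p) (h2 : m ^ k = 1) : m ∈ DS F :=
  res_le_ds (p := p) (mem_pResidualOf (mem_top _) (h1.coprime_dvd_left (orderOf_dvd_of_pow_eq_one h2)))

omit [Finite F] hp in
theorem two_eq (h : (2 : F) = 0) (hp : p.Prime) : p = 2 :=
  (Nat.prime_dvd_prime_iff_eq hp Nat.prime_two).1 ((CharP.cast_eq_zero_iff F p 2).1 (by exact_mod_cast h))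

section gen
variable {R : Subgroup SL(2, F)} (h : NM R E U U₀ ρ ψ)
include h

theorem quad_SS (hU : IsPGroup p U) (hP : IsPGroup p P) (h1 : P ≤ SS h) : ⁅⁅U, P⁆, P⁆ ≤ U₀ := by
  have n : P ≤ 𝐍 U ⊓ 𝐍 U₀ := fun g hg => (h1 hg).1
  obtain ⟨v, hv, v0, v1⟩ := exists_fix_mod hU hP (n.trans inf_le_left) (n.trans inf_le_right) h.nmU
    fun e => h.ne (le_antisymm h.le e)
  obtain ⟨m, hm⟩ := exists_smul_eq (mt (h.ker v hv).1 v0)
  have k : ∀ g ∈ P, ∃ s, ∀ x, m⁻¹ • al h g x = tvU s • m⁻¹ • x := fun g hg => by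
    obtain ⟨-, r, e⟩ := h1 hg
    refine ⟨(m⁻¹ * r * m).1 0 1, fun x => ?_⟩
    rw [← eq_tvU_of_fix (m := m⁻¹ * r * m) (by
      rw [mul_smul, mul_smul, ← e, hm, (al_fix h (n hg) hv).2 (v1 g hg), ← hm, inv_smul_smul]), e, smul_smul, smul_smul]
    congr 1; group
  refine (commutator_mono (show _ ≤ (h.conj m⁻¹).ln from commutator_le.2 fun u hu g hg => ?_) le_rfl).trans
    (commutator_le.2 fun u hu g hg => ?_)
  · obtain ⟨s, hs⟩ := k g hg
    refine ⟨commutator_le_of_le_normalizer (n.trans inf_le_left) (commutator_mem_commutator hu hg), ?_⟩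
    change (m⁻¹ • ψ ⁅u, g⁆) 1 = 0
    rw [al_comm h (n hg) hu, smul_sub, hs, tvU_smul]; simp
  · obtain ⟨s, hs⟩ := k g hg
    rw [← al_fix h (n hg) hu.1, ← smul_left_cancel_iff m⁻¹, hs, tvU_smul]
    have : (m⁻¹ • ψ u) 1 = 0 := hu.2
    exact vec_ext (by simp [this]) (by simp)

theorem lin_of_comm (hR : R = DS F) (hg : g ∈ 𝐍 U ⊓ 𝐍 U₀) (h3 : g ∈ 𝐍 E) (k : ∀ e ∈ E, ρ (g * e * g⁻¹) = ρ e) : g ∈ LL h := by
  rcases ds_or (F := F) with d | d
  swap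
  · exact small h d hg
  obtain ⟨σ, hσ⟩ := exists_sg h hR hg h3
  have a : ∀ s x, al h g (tvU s • x - x) = tvU s • al h g x - al h g x := fun s x => by
    obtain ⟨e, he, e1⟩ := (h.ρr (tvU s)).1 (by rw [hR, d]; trivial)
    rw [al_sub h hg, ← e1, al_act h hg h3 he, k e he]
  refine ⟨hg, fun c x => ?_⟩
  have a1 := a c (al h g⁻¹ ![0, 1])
  have a2 := a 1 (al h g⁻¹ ![0, 1])
  rw [show tvU c • al h g⁻¹ ![0, 1] - al h g⁻¹ ![0, 1] = c • (tvU (1 : F) • al h g⁻¹ ![0, 1] - al h g⁻¹ ![0, 1]) by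
    rw [tvU_smul, tvU_smul]; exact vec_ext (by simp [vecHead]) (by simp [vecHead, vecTail]), hσ, a2, al_inv h hg, tvU_smul, tvU_smul] at a1
  rw [hσ, show σ c = c by simpa using congrFun a1 0]

theorem scal3 (hR : R = DS F) (p3 : p = 3) (hg : g ∈ 𝐍 U ⊓ 𝐍 U₀) (h3 : g ∈ 𝐍 E) (k : ∀ e ∈ E, ρ (g * e * g⁻¹) = ρ e) :
    ∃ c : F, ∀ x, al h g x = c • x := by
  subst p3
  have l := (lin_of_comm h hR hg h3 k).2
  have t : (3 : F) = 0 := by exact_mod_cast CharP.cast_eq_zero F 3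
  have a : ∀ m : SL(2, F), m ^ 2 = -1 → ∀ x, al h g (m • x) = m • al h g x := fun m hm x => by
    obtain ⟨e, he, rfl⟩ := (h.ρr m).1 (hR ▸ mem_ds (p := 3) (k := 4) (by norm_num) (by
      rw [show 4 = 2 * 2 from rfl, pow_mul, hm]; simp))
    rw [al_act h hg h3 he, k e he]
  let i : SL(2, F) := ⟨!![0, -1; 1, 0], by simp [det_fin_two]⟩
  let j : SL(2, F) := ⟨!![-1, 1; 1, 1], by rw [det_fin_two]; simp; linear_combination -t⟩
  have a1 := a i (Subtype.ext (by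
    change i.1 ^ 2 = -1
    ext a b; fin_cases a <;> fin_cases b <;> simp [i, pow_two])) ![1, 0]
  have a2 := a j (Subtype.ext (by
    change j.1 ^ 2 = -1
    ext a b; fin_cases a <;> fin_cases b <;> simp [j, pow_two] <;> linear_combination t)) ![1, 0]
  have e : ∀ x : Fin 2 → F, al h g x = x 0 • al h g ![1, 0] + x 1 • al h g ![0, 1] := fun x => by
    rw [← l, ← l, ← al_add h hg]; congr 1; exact vec_ext (by simp) (by simp)
  rw [e (_ • _)] at a1 a2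
  have b0 := congrFun a1 0
  have b1 := congrFun a1 1
  have c0 := congrFun a2 0
  simp only [sl_smul_zero, sl_smul_one, Pi.add_apply, Pi.smul_apply] at b0 b1 c0
  simp [i, j] at b0 b1 c0
  refine ⟨al h g ![1, 0] 0, fun x => ?_⟩
  have d : al h g ![1, 0] 1 = 0 := by linear_combination c0 - b0 + al h g ![1, 0] 1 * t
  rw [e x]
  exact vec_ext (by simp [b0, d, mul_comm]) (by simp [b1, d, mul_comm])
end gen

section lin
variable (b : KB p E) (h : NM (DS F) E (WW p E) (WW p E ⊓ 𝐂 E) ρ ψ)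
include b h

theorem nm_one {e : G} (he : e ∈ E) : ρ e = 1 ↔ e ∈ 𝐎 p E :=
  ⟨fun k => b.kerW he fun w hw => ((h.ρ_eq_one he).1 k w hw).2, fun k => h.ρ_eq_one_of he (QcW E k)⟩

theorem nm_stab {w e : G} (hw : w ∈ WW p E) (he : e ∈ E) (k : ⁅w, e⁆ ∈ 𝐂 E) : e * w = w * e := by
  have k' : ⁅w, e⁆ ∈ WW p E ⊓ 𝐂 E := ⟨h.comm_mem he hw, k⟩
  by_cases c2 : (2 : F) = 0
  · obtain rfl := two_eq c2 hp.out
    by_cases w0 : w ∈ WW 2 E ⊓ 𝐂 E
    · exact w0.2 e he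
    by_cases e1 : ρ e = 1
    · exact (QcW E ((nm_one b h he).1 e1) w hw).symm
    obtain ⟨m, hm⟩ := exists_smul_eq (mt (h.ker w hw).1 w0)
    have e2 := eq_tvU_of_fix (m := m⁻¹ * ρ e * m) (by
      rw [mul_smul, mul_smul, hm, (h.comm_mem_iff he hw).1 k', ← hm, inv_smul_smul])
    generalize (m⁻¹ * ρ e * m).1 0 1 = s at e2
    have s0 : s ≠ 0 := fun c => e1 (by rw [c, tvU_zero, mul_assoc, inv_mul_eq_one, right_eq_mul] at e2; exact e2)
    obtain ⟨u, hu, e3⟩ := h.ψs (m • ![0, -s⁻¹])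
    have e4 : ψ ⁅u, e⁆ = ψ w := by
      rw [h.ψ_comm he hu, e3, ← hm, ← smul_left_cancel_iff m⁻¹, smul_sub, inv_smul_smul, inv_smul_smul, smul_smul, smul_smul,
        e2, tvU_smul]
      exact vec_ext (by simp [s0]) (by simp)
    have e5 := QcW E ((nm_one b h (Subgroup.pow_mem _ he 2)).1 (h.pow_mem_of_fix he hw w0 k')) u hu
    have e6 := (Wea (p := 2) E).2 _ (h.comm_mem he hu)
    have e7 : e * ⁅u, e⁆ = ⁅u, e⁆ * e := by
      rw [pow_two, ← eq_inv_iff_mul_eq_one] at e6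
      calc e * ⁅u, e⁆ = e * u * e⁻¹ * u⁻¹ * (u * e ^ 2) * u⁻¹ * e⁻¹ := by group
        _ = ⁅u, e⁆⁻¹ * e := by rw [e5]; group
        _ = _ := by rw [← e6]
    have e8 := ((h.ψ_eq (h.comm_mem he hu) hw).1 e4).2 e he
    calc e * w = e * ⁅u, e⁆ * (⁅u, e⁆⁻¹ * w) := by group
      _ = w * e := by rw [e7, mul_assoc, e8]; group
  have p2 : Nat.Coprime 2 p := (Nat.coprime_primes Nat.prime_two hp.out).2 fun e => c2 (by
    subst e; exact_mod_cast CharP.cast_eq_zero F 2)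
  obtain ⟨z, hz, z1⟩ := (h.ρr (-1)).1 (mem_ds p2 (by simp))
  have d1 : w * (z * w * z⁻¹) ∈ WW p E ⊓ 𝐂 E := (h.ker _ (mul_mem hw (h.conj_mem hz hw))).1 (by
    rw [h.ψmul _ hw _ (h.conj_mem hz hw), h.act z hz w hw, z1, sl_smul]; simp [neg_mulVec])
  have d2 := QcW E ((nm_one b h (mul_mem (mul_mem (mul_mem he hz) (inv_mem he)) (inv_mem hz))).1 (by
    rw [h.ρmul _ (mul_mem (mul_mem he hz) (inv_mem he)) _ (inv_mem hz), h.ρ_conj he hz, h.ρ_inv hz, z1]; simp)) _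
    (h.conj_mem hz (h.conj_mem he hw))
  have d3 := d1.2 e he
  have d4 := k z hz
  have d5 := elemAb_le_centralizer (Wea (p := p) E) k'.1 w hw
  rw [eq_comm, ← commutatorElement_eq_one_iff_mul_comm]
  refine eq_one_of_pow_coprime p2 ?_ ((Wea E).2 _ k'.1)
  have d6 : e * w * e⁻¹ = ⁅w, e⁆⁻¹ * w := by group
  generalize ⁅w, e⁆ = c at *
  have d7 : e * (z * w * z⁻¹) * e⁻¹ = c⁻¹ * (z * w * z⁻¹) := by
    calc _ = e * z * e⁻¹ * z⁻¹ * (z * (e * w * e⁻¹) * z⁻¹) * (e * z * e⁻¹ * z⁻¹)⁻¹ := by group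
      _ = z * c⁻¹ * w * z⁻¹ := by rw [← d2, d6]; group
      _ = _ := by rw [(show Commute z c from d4).inv_right.eq]; group
  have d8 : c⁻¹ * w * (c⁻¹ * (z * w * z⁻¹)) = w * (z * w * z⁻¹) := by
    rw [← d6, ← d7, ← mul_inv_eq_iff_eq_mul.2 d3]; group
  rw [← mul_assoc, mul_assoc c⁻¹, (show Commute w c from d5).inv_right.eq, mul_left_inj, ← mul_assoc, mul_eq_right,
    ← _root_.mul_inv_rev, inv_eq_one] at d8
  rw [pow_two, d8]

theorem nm_idx {w : G} (hw : w ∈ WW p E) : ¬ p ∣ (centralizer {w}).relIndex E := by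
  obtain ⟨S, hS⟩ := exists_isSyl p E
  by_cases w0 : w ∈ WW p E ⊓ 𝐂 E
  · exact hS.not_dvd_relIndex_of_le fun s hs => mem_centralizer_singleton_iff.2 (w0.2 s (hS.le hs))
  obtain ⟨v, hv, v0, v1⟩ := exists_fix_mod (elemAb_isPGroup (Wea E)) hS.isP (hS.le.trans h.nm) (hS.le.trans h.nm₀) h.nmU
    fun e => h.ne (le_antisymm h.le e)
  obtain ⟨e, he, e1⟩ := nm_trans h hv hw v0 w0
  refine (hS.cj_of_mem he).not_dvd_relIndex_of_le fun s hs => ?_
  obtain ⟨t, ht, rfl⟩ := mem_cj'.1 hs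
  have m := mul_mem (mul_mem he (hS.le ht)) (inv_mem he)
  refine mem_centralizer_singleton_iff.2 (nm_stab b h hw m ((h.comm_mem_iff m hw).2 ?_).2)
  rw [← e1, h.act e he v hv, h.ρ_conj he (hS.le ht), mul_smul, inv_smul_smul, mul_smul,
    (h.comm_mem_iff (hS.le ht) hv).1 (v1 t ht)]

theorem nm_fix (hP : IsPGroup p P) (h1 : P ≤ 𝐍 E) : ¬ WW p E ⊓ 𝐂 P ≤ 𝐂 E := by
  obtain ⟨v, hv, v0, v1⟩ := exists_fix_mod (elemAb_isPGroup (Wea E)) hP (h1.trans (nWE E)) (h1.trans (nZW E)) h.nmU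
    fun e => h.ne (le_antisymm h.le e)
  exact fix_lift (Wea E) h.nm (h1.trans (nWE E)) h1 hv (fun t ht => (comm_mem_symm.1 (v1 t ht)).2) (nm_idx b h hv)
    fun c => v0 ⟨hv, c⟩

theorem j_SS (h1 : WW p E ≤ T) (h2 : 𝐉𝐉 p T ≤ 𝐍 E) : 𝐉𝐉 p T ≤ SS h := thompsonOf_le_iff.2 fun A hA a ha => by
  have n := (MaxEA.le_thompsonOf hA).trans h2
  refine mem_SS_pow h (off_lin h rfl (elemAb_isPGroup (Wea E)) (le_inf (n.trans (nWE E)) (n.trans (nZW E))) n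
    (MaxEA.elemAb hA) ?_ ha) (n := 1) (by rw [pow_one, MaxEA.pow_eq hA ha]; exact one_mem _)
  have k1 : A ⊓ commStab (WW p E : Set G) (WW p E ⊓ 𝐂 E) ≤ 𝐂 (WW p E) := b.cenW (inf_le_left.trans n)
    (((le_commStab_iff' inf_le_left).1 inf_le_right).trans inf_le_right)
  have k2 := MaxEA.card_le hA (sup_le (inf_le_left.trans (MaxEA.le hA)) h1)
    (elemAb_sup (elemAb_mono (MaxEA.elemAb hA) inf_le_left) (Wea E) k1)
  have k3 := card_sup_mul_card_inf (le_normalizer_of_le_centralizer k1)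
  have k4 : A ⊓ commStab (WW p E : Set G) (WW p E ⊓ 𝐂 E) ⊓ WW p E ≤ cmod (WW p E) A (WW p E ⊓ 𝐂 E) :=
    (le_cmod h.nmU).2 ⟨inf_le_right, (commutator_eq_bot_iff'.2 (le_centralizer_iff.1 ((inf_le_left.trans inf_le_left).trans
      (elemAb_le_centralizer (MaxEA.elemAb hA))))).le.trans bot_le⟩
  have k5 : WW p E ⊓ 𝐂 E ≤ cmod (WW p E) A (WW p E ⊓ 𝐂 E) :=
    (le_cmod h.nmU).2 ⟨inf_le_left, commutator_le_of_le_normalizer (n.trans (nZW E))⟩
  have k6 := card_le_of_le k4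
  rw [← card_mul_relIndex_of_le k5] at k6
  rw [← card_mul_relIndex (commStab (WW p E : Set G) (WW p E ⊓ 𝐂 E)) A, inf_comm _ A] at k2
  rw [← card_mul_relIndex_of_le (inf_le_left : WW p E ⊓ 𝐂 E ≤ _)] at k3
  refine Nat.le_of_mul_le_mul_left ?_ (Nat.mul_pos (Nat.card_pos (α := ↥(A ⊓ commStab (WW p E : Set G) (WW p E ⊓ 𝐂 E))))
    (Nat.card_pos (α := ↥(WW p E ⊓ 𝐂 E))))
  rw [mul_assoc, ← k3]
  exact (Nat.mul_le_mul k2 k6).trans_eq (by ring)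

theorem b_SS (hT : IsPGroup p T) (h1 : WW p E ≤ T) (h2 : 𝐁 p T ≤ 𝐍 E) : 𝐁 p T ≤ SS h := fun g hg => by
  have n := (j_le_bau (p := p) T).trans h2
  have hJ := j_SS b h h1 n
  have ng : g ∈ 𝐍 (WW p E) ⊓ 𝐍 (WW p E ⊓ 𝐂 E) := ⟨nWE E (h2 hg), nZW E (h2 hg)⟩
  obtain ⟨v, hv, v0, v1⟩ := exists_fix_mod (elemAb_isPGroup (Wea E)) (hT.to_le (thompsonOf_le p T)) (n.trans (nWE E))
    (n.trans (nZW E)) h.nmU fun e => h.ne (le_antisymm h.le e)
  have k : ∀ c : F, al h g (c • ψ v) = c • ψ v := fun c => by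
    obtain ⟨w, hw, e⟩ := h.ψs (c • ψ v)
    have := fix_lift' (Wea E) h.nm (n.trans (nWE E)) n hw (fun t ht => by
      obtain ⟨t1, m, t2⟩ := hJ ht
      refine (comm_mem_symm.1 ((al_fix h t1 hw).1 ?_)).2
      rw [e, t2, sl_lin, ← t2, (al_fix h t1 hv).2 (v1 t ht)]) (nm_idx b h hw)
    rw [← e, al_fix h ng hw]
    refine (show WW p E ⊓ 𝐂 (𝐉𝐉 p T) ⊔ WW p E ⊓ 𝐂 E ≤ commStab {g} (WW p E ⊓ 𝐂 E) from sup_le (fun x hx => ⟨h.nmU hx.1, ?_⟩)
      (fun x hx => ⟨h.nmU hx.1, ?_⟩)) this |>.2 g rfl <;> rintro _ rfl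
    · rw [commutatorElement_eq_one_iff_mul_comm.2 (hg.2 x (le_y (elemAb_mono (Wea E) inf_le_left) (inf_le_left.trans h1)
        inf_le_right hx))]
      exact one_mem _
    · exact commutator_le_of_le_normalizer (zpowers_le.2 ng.2) (commutator_mem_commutator hx (mem_zpowers _))
  obtain ⟨σ, hσ⟩ := exists_sg h rfl ng (h2 hg)
  obtain ⟨r, hr⟩ := hT ⟨g, hg.1⟩
  refine mem_SS_pow h ⟨ng, fun c x => ?_⟩ (n := r) (by rw [show g ^ p ^ r = 1 from congrArg Subtype.val hr]; exact one_mem _)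
  have k1 := k c
  rw [hσ, ← one_smul F (ψ v), k 1] at k1
  rw [hσ, smul_left_injective F (by rw [one_smul]; exact mt (h.ker v hv).1 v0) k1]

theorem sup_cW (h1 : X ≤ 𝐍 E) (h2 : X ≤ E ⊔ 𝐍 (WW p E) ⊓ commStab (WW p E : Set G) (WW p E ⊓ 𝐂 E)) : X ≤ E ⊔ 𝐂 (WW p E) :=
  fun x hx => by
    obtain ⟨e, he, c, hc, rfl⟩ := (mem_sup_of_le_normalizer (le_normalizer_inf (le_normalizer_normalizer h.nm)
      (le_normalizer_commStab h.nm h.nm₀))).1 (h2 hx)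
    have m : c ∈ 𝐍 E := (Subgroup.mul_mem_cancel_left _ (le_normalizer he)).1 (h1 hx)
    exact mul_mem (mem_sup_left he) (mem_sup_right (b.cenW (zpowers_le.2 m) ((commutator_zpowers_le'
      (fun w hw => comm_mem_symm.1 (hc.2.2 w hw)) hc.2.1).trans inf_le_right) (mem_zpowers _)))
end lin

theorem exists_ppart (x : G) : ∃ k : ℕ, (orderOf (x ^ p ^ k)).Coprime p := by
  obtain ⟨k, m, hm, e⟩ := Nat.exists_eq_pow_mul_and_not_dvd (orderOf_pos x).ne' p hp.out.ne_one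
  exact ⟨k, ((Nat.coprime_comm.1 (hp.out.coprime_iff_not_dvd.2 hm))).coprime_dvd_left
    (orderOf_dvd_of_pow_eq_one (by rw [← pow_mul, ← e, pow_orderOf_eq_one]))⟩

section exc
variable {ρ' : G → SL(2, F)} {ψ' : G → Fin 2 → F} (b : BH p H T E) (h : NM (DS F) E (WW p E) (WW p E ⊓ 𝐂 E) ρ ψ)
  (k : NM (DS F) E (𝐎 p E) (VV p E) ρ' ψ') (p3 : p = 3) (q1 : ⁅𝐎 p E, 𝐎 p E⁆ ≤ VV p E ⊓ 𝐂 E)
  (q2 : ∀ g ∈ 𝐁 p T, g ∉ 𝐂 (WW p E) → ¬ ⁅⁅𝐎 p E, zpowers g⁆, zpowers g⁆ ≤ VV p E ⊓ 𝐂 E)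
include k

theorem nk : 𝐍 E ≤ 𝐍 (𝐎 p E) ⊓ 𝐍 (VV p E) := le_inf (normalizer_le_normalizer_pCoreOf p E) (nVE E)

include b
theorem ex_rho (h1 : g ∈ 𝐍 E) (h2 : g ∈ 𝐂 (WW p E)) : ∀ e ∈ E, ρ' (g * e * g⁻¹) = ρ' e := fun e he => by
  have m : ⁅g, e⁆ ∈ 𝐎 p E := comm_mem_symm.1 (b.comm_le' (zpowers_le.2 h1) (zpowers_le.2 h2)
    (commutator_mem_commutator he (mem_zpowers g)))
  have m1 := pCoreOf_le p E m
  rw [show g * e * g⁻¹ = ⁅g, e⁆ * e by group, k.ρmul _ m1 _ he, (k.ρ_eq_one m1).2 fun u hu => k.comm_le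
    (commutator_mem_commutator hu m), one_mul]

include h
theorem ex_SS : 𝐁 p T ≤ SS k := fun g hg => by
  obtain ⟨r, hr⟩ := b.syl.isP ⟨g, hg.1⟩
  refine mem_SS_pow k ?_ (n := r) (by rw [show g ^ p ^ r = 1 from congrArg Subtype.val hr]; exact one_mem _)
  rcases ds_or (F := F) with d | d
  swap
  · exact small k d (nk k (b.nB hg))
  obtain ⟨e, he, c, hc, rfl⟩ := (mem_sup_of_le_normalizer (le_normalizer_centralizer h.nm)).1
    (sup_cW b.toKB h b.nB ((b_SS b.toKB h b.syl.isP b.WT b.nB).trans (SS_le h d)) hg)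
  have m : c ∈ 𝐍 E := (Subgroup.mul_mem_cancel_left _ (le_normalizer he)).1 (b.nB hg)
  exact mul_mem ⟨nE k he, fun a x => by rw [al_E k he, al_E k he, sl_lin]⟩ (lin_of_comm k rfl (nk k m) m (ex_rho b k m hc))

include q1 q2
theorem ex_nq (hg : g ∈ 𝐁 p T) (g1 : g ∉ 𝐂 (WW p E)) (d1 : D ≤ 𝐎 p E) (d2 : g ∈ 𝐍 D) (d3 : 𝐎 p E ≤ D ⊔ VV p E)
    (d4 : D ⊓ VV p E ≤ 𝐂 E) : False := by
  have n := zpowers_le.2 (b.nB hg)
  have hP := b.syl.isP.to_le (zpowers_le.2 hg.1)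
  have nZ : zpowers g ≤ 𝐍 (VV p E ⊓ 𝐂 E) := le_normalizer_inf (n.trans (nVE E)) (le_normalizer_centralizer n)
  have WQ := (WV E).trans k.le
  have nQ : ∀ Y ≤ 𝐎 p E, VV p E ⊓ 𝐂 E ≤ Y → 𝐎 p E ≤ 𝐍 Y := fun Y a c =>
    le_normalizer_of_commutator_le ((commutator_mono a le_rfl).trans (q1.trans c))
  have D1 : ⁅D, zpowers g⁆ ≤ D := commutator_le_of_le_normalizer (zpowers_le.2 d2)
  have W1 : ⁅WW p E, zpowers g⁆ ≤ WW p E := commutator_le_of_le_normalizer (n.trans (nWE E))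
  have Z1 := commutator_le_of_le_normalizer nZ
  have N1 : ⁅D, zpowers g⁆ ⊔ ⁅WW p E, zpowers g⁆ ⊔ VV p E ⊓ 𝐂 E ≤ 𝐎 p E :=
    sup_le (sup_le (D1.trans d1) (W1.trans WQ)) (inf_le_left.trans k.le)
  have N2 := nQ _ N1 le_sup_right
  have N3 := nQ _ (inf_le_left.trans k.le) le_rfl
  refine q2 g hg g1 ((commutator_mono (le_commStab_iff.1 (d3.trans (sup_le (le_commStab_iff.2 ⟨d1.trans N2,
    le_sup_of_le_left le_sup_left⟩) (b.V_le.trans (sup_le (le_commStab_iff.2 ⟨WQ.trans N2, le_sup_of_le_left le_sup_right⟩)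
      (le_commStab_iff.2 ⟨(inf_le_left.trans k.le).trans N2, le_sup_of_le_right Z1⟩)))))).2 le_rfl).trans
    (le_commStab_iff.1 (sup_le (sup_le (le_commStab_iff.2 ⟨(D1.trans d1).trans N3, ?_⟩)
      (le_commStab_iff.2 ⟨(W1.trans WQ).trans N3, ?_⟩)) (le_commStab_iff.2 ⟨(inf_le_left.trans k.le).trans N3, Z1⟩))).2)
  · have := (commutator_mono (commutator_mono d1 le_rfl) le_rfl).trans
      (quad_SS k (isPGroup_pCoreOf p E) hP (zpowers_le.2 (ex_SS b h k hg)))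
    exact le_inf this ((le_inf ((commutator_mono D1 le_rfl).trans D1) this).trans d4)
  · exact (quad_SS h (elemAb_isPGroup (Wea E)) hP (zpowers_le.2 (b_SS b.toKB h b.syl.isP b.WT b.nB hg))).trans
      (inf_le_inf_right _ (WV E))

include p3
theorem ex_M : H ⊓ 𝐍 E ⊓ 𝐂 (WW p E) ≤ commStab (𝐎 p E : Set G) (VV p E) := fun m hm => by_contra fun m0 => by
  set M := H ⊓ 𝐍 E ⊓ 𝐂 (WW p E)
  set C := commStab (𝐎 p E : Set G) (VV p E)
  have sc : ∀ y ∈ M, ∃ c : F, ∀ x, al k y x = c • x := fun y hy => scal3 k rfl p3 (nk k hy.1.2) hy.1.2 (ex_rho b k hy.1.2 hy.2)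
  have pe : ∀ y ∈ M, ∀ r : ℕ, y ^ p ^ r ∈ C → y ∈ C := fun y hy r e => by
    obtain ⟨c, hc⟩ := sc y hy
    have n := nk k hy.1.2
    have e1 : ∀ (j : ℕ) x, al k (y ^ j) x = c ^ j • x := fun j x => by
      induction j with
      | zero => rw [pow_zero, pow_zero, al_one, one_smul]
      | succ j ih => rw [pow_succ', pow_succ', al_mul k n (Subgroup.pow_mem _ n j), ih, hc, mul_smul]
    have e2 := congrFun ((e1 _ 1).symm.trans ((al_triv k (Subgroup.pow_mem _ n _)).2 e 1)) 0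
    have e3 : c = 1 := sub_eq_zero.1 (pow_eq_zero_iff (pow_ne_zero r hp.out.ne_zero) |>.1 (by
      rw [sub_pow_char_pow, one_pow, sub_eq_zero]; simpa using e2))
    exact (al_triv k n).1 fun x => by rw [hc, e3, one_smul]
  have nM : 𝐁 p T ≤ 𝐍 M := le_normalizer_inf (le_normalizer_inf (b.BH'.trans le_normalizer) (le_normalizer_normalizer b.nB))
    (le_normalizer_centralizer (b.nB.trans (nWE E)))
  have nC : 𝐍 E ≤ 𝐍 C := le_normalizer_commStab (normalizer_le_normalizer_pCoreOf p E) (nVE E)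
  have nN : M ≤ 𝐍 (M ⊓ C ⊔ 𝐁 p T) := by
    refine le_normalizer_iff_cj.2 fun y hy => ?_
    rw [cj_sup, cj_eq_of_mem_normalizer (le_normalizer_inf le_normalizer ((inf_le_left.trans inf_le_right).trans nC) hy)]
    refine sup_le le_sup_left fun z hz => ?_
    obtain ⟨g, hg, rfl⟩ := mem_cj'.1 hz
    rw [show y * g * y⁻¹ = ⁅y, g⁆ * g by group]
    refine mul_mem (mem_sup_left ⟨commutator_le_of_le_normalizer nM (commutator_mem_commutator hy hg), ?_⟩) (mem_sup_right hg)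
    obtain ⟨c, hc⟩ := sc y hy
    obtain ⟨d, hd⟩ := sc y⁻¹ (inv_mem hy)
    obtain ⟨n2, r, hr⟩ := ex_SS b h k hg
    have n1 := nk k hy.1.2
    refine (al_triv k (mul_mem (mul_mem (mul_mem n1 n2) (inv_mem n1)) (inv_mem n2))).1 fun x => ?_
    rw [al_mul k (mul_mem (mul_mem n1 n2) (inv_mem n1)) (inv_mem n2), al_mul k (mul_mem n1 n2) (inv_mem n1), al_mul k n1 n2,
      hd, hr, sl_lin, ← hr, al_inv k n2, ← hd, al_inv k n1]
  have NH : M ⊓ C ⊔ 𝐁 p T ≤ H := sup_le (inf_le_left.trans (inf_le_left.trans inf_le_left)) b.BH'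
  obtain ⟨S, hS, s1⟩ := exists_isSyl_ge (bau_isP b.syl.isP) (le_sup_right : 𝐁 p T ≤ M ⊓ C ⊔ 𝐁 p T)
  obtain ⟨n, hn, n1⟩ := hS.frattini_mem (nN hm)
  obtain ⟨g, hg, y, hy, rfl⟩ := (mem_sup_of_le_normalizer (le_normalizer_inf nM (b.nB.trans nC))).1 (sup_comm (M ⊓ C) _ ▸ hn)
  have n2 : y * m ∈ 𝐍 (𝐁 p T) := by
    have := n_bau (p := p) le_rfl n1
    rw [bau_syl b.syl hS.isP (hS.le.trans NH) s1, mul_assoc] at this
    exact (Subgroup.mul_mem_cancel_left _ (le_normalizer hg)).1 this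
  obtain ⟨r, hr⟩ := exists_ppart (p := p) (y * m)
  have x1 := Subgroup.pow_mem _ (mul_mem hy.1 hm) (p ^ r)
  have x2 := Subgroup.pow_mem _ n2 (p ^ r)
  have x3 : (y * m) ^ p ^ r ∉ C := fun e => m0 ((Subgroup.mul_mem_cancel_left _ hy.2).1 (pe _ (mul_mem hy.1 hm) r e))
  generalize (y * m) ^ p ^ r = x at hr x1 x2 x3
  have cop : ¬ p ∣ Nat.card (zpowers x) := by rw [Nat.card_zpowers]; exact hp.out.coprime_iff_not_dvd.1 hr.symm
  obtain ⟨g, hg, g1⟩ : ∃ g ∈ 𝐁 p T ⊓ 𝐂 (zpowers x), g ∉ 𝐂 (WW p E) := SetLike.not_le_iff_exists.1 fun e =>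
    b.nJ ((j_le_bau T).trans ((H17.Cop.of_pgroup' cop (bau_isP b.syl.isP) (zpowers_le.2 x2)).eq_centralizer_sup_commutator.le.trans
      (sup_le e ((commutator_mono le_rfl (zpowers_le.2 x1.2)).trans (commutator_le_of_le_normalizer'
        (le_normalizer_centralizer (b.nB.trans (nWE E))))))))
  have nx := nk k x1.1.2
  have D1 : ⁅𝐎 p E, zpowers x⁆ ≤ 𝐎 p E := commutator_le_of_le_normalizer (zpowers_le.2 nx.1)
  refine ex_nq b h k q1 q2 hg.1 g1 D1 (zpowers_le.1 (le_normalizer_commutator (zpowers_le.2 (nk k (b.nB hg.1)).1)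
    (le_normalizer_of_le_centralizer (zpowers_le.2 hg.2)))) ?_ ?_
  · obtain ⟨c, hc⟩ := sc x x1
    have c1 : 1 - c ≠ 0 := fun e => x3 ((al_triv k nx).1 fun v => by rw [hc, ← sub_eq_zero.1 e, one_smul])
    refine k.le_sup_of_ψ le_rfl D1 fun u hu => ?_
    obtain ⟨v, hv, e⟩ := k.ψs ((1 - c)⁻¹ • ψ' u)
    exact ⟨_, commutator_mem_commutator hv (mem_zpowers x), by
      rw [al_comm k nx hv, hc, e, smul_smul, ← sub_smul, ← one_sub_mul, mul_inv_cancel₀ c1, one_smul]⟩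
  · have nZ : 𝐍 E ≤ 𝐍 (VV p E ⊓ 𝐂 E) := le_normalizer_inf (nVE E) (normalizer_le_normalizer_centralizer E)
    have QZ := (pCoreOf_le p E).trans (le_normalizer.trans nZ)
    have xZ := zpowers_le.2 (nZ x1.1.2)
    obtain ⟨_, hk⟩ := exists_quot (le_refl (𝐍 (VV p E ⊓ 𝐂 E)))
    generalize QuotientGroup.mk' ((VV p E ⊓ 𝐂 E).subgroupOf (𝐍 (VV p E ⊓ 𝐂 E))) = f at hk
    have c := (H17.Cop.of_pgroup' (p := p) (A := iM f (zpowers x)) (K := iM f (𝐎 p E))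
      (fun e => cop (e.trans ((card_map_dvd _ _).trans (card_comap_dvd_of_injective _ _ (subtype_injective _)))))
      (((isPGroup_subgroupOf_iff QZ).2 (isPGroup_pCoreOf p E)).map _) (iM_n (zpowers_le.2 nx.1))).centralizer_inf_commutator
      (by rw [← iM_comm QZ QZ, iM_eq_bot hk ((commutator_le_of_le_normalizer le_normalizer).trans QZ)]; exact q1)
    have V1 : ⁅zpowers x, VV p E⁆ ≤ VV p E ⊓ 𝐂 E := by
      rw [commutator_comm]
      exact (le_commStab_iff.1 (b.V_le.trans (sup_le (le_commStab_iff.2 ⟨(WV E).trans (k.le.trans QZ),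
        (commutator_eq_bot_iff'.2 (zpowers_le.2 x1.2)).le.trans bot_le⟩)
        (le_commStab_iff.2 ⟨le_normalizer, commutator_le_of_le_normalizer xZ⟩)))).2
    refine ((iM_eq_bot hk (inf_le_right.trans (k.le.trans QZ))).1 (eq_bot_iff.2 (c ▸ le_inf
      ((iM_mono inf_le_right).trans ((iM_cen hk (k.le.trans QZ) xZ).2 V1)) ?_))).trans inf_le_right
    rw [← iM_comm QZ xZ]; exact iM_mono inf_le_left

theorem ex_c63 (q3 : VV p E ⊓ 𝐂 E ≤ ⁅𝐎 p E, 𝐎 p E⁆) (h1 : X ≤ H ⊓ 𝐍 E ⊓ 𝐂 (WW p E)) (h2 : pResidualOf p X = X) : X ≤ 𝐂 E := by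
  have k1 : ⁅𝐎 p E, X⁆ ≤ VV p E := (le_commStab_iff' k.le).1 (h1.trans (ex_M b h k p3 q1 q2))
  have k2 : X ≤ 𝐂 ⁅𝐎 p E, 𝐎 p E⁆ := le_centralizer_iff.1 (three_subgroups_centralizer (k1.trans (oc_le_c _ _))
    (commutator_comm (𝐎 p E) X ▸ k1.trans (oc_le_c _ _)))
  have k3 : X ≤ 𝐂 (VV p E) := le_centralizer_iff.1 (b.V_le.trans (sup_le (le_centralizer_iff.1 (h1.trans inf_le_right))
    (q3.trans (le_centralizer_iff.1 k2))))
  have k4 : X ≤ 𝐂 (𝐎 p E) := h2 ▸ pResidualOf_le_centralizer_of_stab (elemAb_isPGroup (oc_ea _ _)) k1 k3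
  exact h2 ▸ pResidualOf_le_centralizer_of_stab (isPGroup_pCoreOf p E)
    (b.comm_le' (h1.trans (inf_le_left.trans inf_le_right)) (h1.trans inf_le_right)) k4
end exc

end H118
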