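import Cfsg.Agent.H18.BK4
import Cfsg.Agent.H4.Frattini

/-! Baumann blocks, part 5: conjugation of blocks and the type-free list `TB` of their properties. -/

set_option autoImplicit false
set_option linter.unusedSectionVars false
namespace H118
open Subgroup H26 H4 Cfsg Matrix H18.PU Equiv NMx
open scoped commutatorElement MatrixGroups Pointwise

variable {G : Type*} [Group G] [Finite G] {p : ℕ} [hp : Fact p.Prime] {E U U₀ W X T B P L A D H : Subgroup G}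

omit [Finite G] hp in
theorem sl2_cj {F : Type*} [Field F] {R : Subgroup SL(2, F)} (g : G) (h : ActsAsSL2OnSection F R E U U₀) :
    ActsAsSL2OnSection F R (cj g E) (cj g U) (cj g U₀) := by
  obtain ⟨ρ, ψ, h⟩ := nm_iff.1 h
  obtain ⟨ρ, ψ, h, -⟩ := h.map (MulAut.conj g).toMonoidHom (by
    rw [(MonoidHom.ker_eq_bot_iff _).2 (conj_injective' g), inf_bot_eq]; exact bot_le)
  exact h.acts

omit [Finite G] hp in
theorem om_cj {n : ℕ} {R : Subgroup (Perm (Fin n))} (g : G) (h : ActsAsOddPermModuleOnSection n R E U U₀) :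
    ActsAsOddPermModuleOnSection n R (cj g E) (cj g U) (cj g U₀) := by
  obtain ⟨ρ, ψ, h⟩ := om_iff.1 h
  refine om_iff.2 ⟨fun x => ρ (g⁻¹ * x * g), fun x => ψ (g⁻¹ * x * g), cj_normalizer g U ▸ cj_mono g h.nm, cj_mono g h.le,
    fun a ha b hb => ?_, fun a ha b hb => ?_, fun m => (h.ρr m).trans ⟨fun ⟨e, he, k⟩ => ⟨_, conj_mem_cj g he, ?_⟩,
      fun ⟨e, he, k⟩ => ⟨_, mem_cj.1 he, k⟩⟩, fun u hu => h.ψe _ (mem_cj.1 hu), fun x hx => ?_,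
    fun u hu => (h.ker _ (mem_cj.1 hu)).trans mem_cj.symm, fun a ha b hb => ?_⟩
  · rw [← h.ρmul _ (mem_cj.1 ha) _ (mem_cj.1 hb)]; congr 1; group
  · rw [← h.ψmul _ (mem_cj.1 ha) _ (mem_cj.1 hb)]; congr 1; group
  · rw [← k]; congr 1; group
  · obtain ⟨u, hu, e⟩ := h.ψs x hx
    exact ⟨_, conj_mem_cj g hu, by rw [← e]; congr 1; group⟩
  · rw [← h.act _ (mem_cj.1 ha) _ (mem_cj.1 hb)]; congr 1; group

omit [Finite G] hp in
theorem quot_cj (g : G) {Y : Type*} [Group Y] (h : Nonempty (E ⧸ pCore p E ≃* Y)) :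
    Nonempty (cj g E ⧸ pCore p (cj g E) ≃* Y) := by
  let e := E.equivMapOfInjective _ (conj_injective' g)
  refine ⟨(QuotientGroup.congr _ _ e ?_).symm.trans h.some⟩
  rw [← pCoreOf_top, ← pCoreOf_top, map_pCoreOf e.injective, map_top_of_surjective _ e.surjective]

theorem blk_cj (h : IsBaumannBlock p T E) (g : G) : IsBaumannBlock p (cj g T) (cj g E) := by
  obtain ⟨h1, h2, h3, h4, h5⟩ := h
  refine ⟨by rw [← cj_pResidualOf, h1], by rw [← cj_bau, ← cj_commutator, h2], by rw [← cj_pCoreOf, ← cj_commutator, h3],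
    by rwa [← cj_oc, ← cj_commutator, Ne, cj_eq_bot_iff], ?_⟩
  simp only [← phi_eq_frattini (isPGroup_pCoreOf p _)] at h5 ⊢
  rw [← cj_pCoreOf, ← cj_oc, ← cj_centralizer, ← cj_inf, ← cj_inf, ← cj_commutator, ← map_phi, ← cj_bau, ← cj_centralizer]
  simp only [cj_inj, card_cj]
  refine h5.imp (fun ⟨F, _, _, n, a, b, c, d⟩ => ⟨F, _, _, n, a, quot_cj g b, sl2_cj g c, d.imp_right
    fun ⟨d1, d2, d3, d4, d5, d6, d7⟩ => ⟨d1, sl2_cj g d2, d3, d4, d5, d6, fun x hx k => ?_⟩⟩)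
    fun ⟨a, m, b, c, d⟩ => ⟨a, m, quot_cj g b, om_cj g c, d⟩
  obtain ⟨y, hy, rfl⟩ := mem_cj'.1 hx
  rw [← cj_zpowers, ← cj_commutator, ← cj_commutator, cj_le_cj_iff]
  exact d7 y hy fun e => k (conj_mem_cj g e)

/-- the subgroup generated by the Baumann subgroups of `p`-subgroups over `W_E` that normalize `E` -/
def BB (p : ℕ) (E : Subgroup G) : Subgroup G := sSup {B | ∃ P : Subgroup G, IsPGroup p P ∧ WW p E ≤ P ∧ 𝐁 p P ≤ 𝐍 E ∧ 𝐁 p P = B}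

/-- the type-free properties of a block -/
structure TB (p : ℕ) (H T E : Subgroup G) : Prop extends BH p H T E where
  fix : ∀ P : Subgroup G, IsPGroup p P → P ≤ 𝐍 E → ¬ WW p E ⊓ 𝐂 P ≤ 𝐂 E
  inn0 : ∀ X ≤ 𝐍 E, pResidualOf p X = X → (⁅E, E⁆ = E → ⁅X, X⁆ = X) →
    X ≤ ⁅𝐍 (WW p E) ⊓ 𝐍 (WW p E ⊓ 𝐂 E), 𝐍 (WW p E) ⊓ 𝐍 (WW p E ⊓ 𝐂 E)⁆ → X ≤ E ⊔ 𝐂 (WW p E)
  inn1 : ∀ X ≤ 𝐍 E, pResidualOf p X = X → X ≤ BB p E → X ≤ E ⊔ 𝐂 (WW p E)
  c63 : ∀ X ≤ H ⊓ 𝐍 E ⊓ 𝐂 (WW p E), pResidualOf p X = X → X ≤ 𝐂 E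
  qa : ∀ D ≤ 𝐎 p E, E ≤ 𝐍 D → D ≤ 𝐂 D ∨ 𝐁 p T ≤ 𝐍 D ∧ D ⊓ VV p E ≤ 𝐂 E → D ≤ VV p E

omit [Finite G] hp in
theorem hom_comm {F : Type*} [Field F] [Finite F] (σ τ : F →+* F) (c : F) : σ (τ c) = τ (σ c) := by
  obtain ⟨u, hu⟩ := IsCyclic.exists_monoid_generator (α := Fˣ)
  have k : ∀ c : F, c ≠ 0 → ∃ n : ℕ, (u : F) ^ n = c := fun c hc =>
    (hu (Units.mk0 c hc)).imp fun n e => congrArg Units.val e
  by_cases c0 : c = 0
  · simp [c0]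
  obtain ⟨n, rfl⟩ := k c c0
  obtain ⟨a, ha⟩ := k (σ u) ((map_ne_zero σ).2 u.ne_zero)
  obtain ⟨b, hb⟩ := k (τ u) ((map_ne_zero τ).2 u.ne_zero)
  rw [map_pow, map_pow, map_pow, map_pow, ← ha, ← hb, map_pow, map_pow, ← ha, ← hb, ← pow_mul _ a, ← pow_mul _ b, mul_comm]

section lin
variable {F : Type*} [Field F] [Finite F] [CharP F p] {ρ : G → SL(2, F)} {ψ : G → Fin 2 → F}

theorem comm_semi (h : NM (DS F) E U U₀ ρ ψ) (h1 : X ≤ 𝐍 U ⊓ 𝐍 U₀) (h2 : X ≤ 𝐍 E) : ⁅X, X⁆ ≤ LL h :=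
  commutator_le.2 fun a ha b hb => by
    obtain ⟨σ, hσ⟩ := exists_sg h rfl (h1 ha) (h2 ha)
    obtain ⟨τ, hτ⟩ := exists_sg h rfl (h1 hb) (h2 hb)
    have n := mul_mem (h1 ha) (h1 hb)
    have m := mul_mem (h1 hb) (h1 ha)
    obtain ⟨θ, hθ⟩ := exists_sg h rfl (inv_mem m) (inv_mem (mul_mem (h2 hb) (h2 ha)))
    rw [show ⁅a, b⁆ = a * b * (b * a)⁻¹ by group]
    refine ⟨mul_mem n (inv_mem m), fun c x => ?_⟩
    have e : τ (σ (θ c)) = c := by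
      have := al_inv h m (c • (1 : Fin 2 → F))
      rw [hθ, al_mul h (h1 hb) (h1 ha), hσ, hτ, ← al_mul h (h1 hb) (h1 ha), al_inv h m] at this
      simpa using congrFun this 0
    rw [al_mul h n (inv_mem m), al_mul h n (inv_mem m), hθ, al_mul h (h1 ha) (h1 hb), hτ, hσ, hom_comm, e,
      al_mul h (h1 ha) (h1 hb)]

theorem nm_perf (b : KB p E) (h : NM (DS F) E (WW p E) (WW p E ⊓ 𝐂 E) ρ ψ) (d : DS F = ⊤) : ⁅E, E⁆ = E := by
  refine le_antisymm (commutator_le_of_le_normalizer le_normalizer) fun e he => ?_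
  have : h.ρh ⟨e, he⟩ ∈ (commutator E).map h.ρh := by
    rw [_root_.commutator_def, map_commutator, ← MonoidHom.range_eq_map, h.ρh_range.trans d]; exact d.ge (mem_top _)
  obtain ⟨x, hx, k⟩ := this
  have m : (x : G) ∈ ⁅E, E⁆ := by
    have := mem_map_of_mem E.subtype hx
    rwa [_root_.commutator_def, map_commutator, ← MonoidHom.range_eq_map, range_subtype] at this
  rw [← mul_inv_cancel_left (x : G) e]
  refine mul_mem m ((b.cq.ge.trans (commutator_mono (pCoreOf_le p E) le_rfl)) ((nm_one b h (mul_mem (inv_mem x.2) he)).1 ?_))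
  rw [h.ρmul _ (inv_mem x.2) _ he, h.ρ_inv x.2, inv_mul_eq_one]; exact k

theorem tb_lin (b : BH p H T E) (h : NM (DS F) E (WW p E) (WW p E ⊓ 𝐂 E) ρ ψ)
    (c63 : ∀ X ≤ H ⊓ 𝐍 E ⊓ 𝐂 (WW p E), pResidualOf p X = X → X ≤ 𝐂 E)
    (qa : ∀ D ≤ 𝐎 p E, E ≤ 𝐍 D → D ≤ 𝐂 D ∨ 𝐁 p T ≤ 𝐍 D ∧ D ⊓ VV p E ≤ 𝐂 E → D ≤ VV p E) : TB p H T E := by
  refine ⟨b, fun P => nm_fix b.toKB h, fun X h1 h2 h3 h4 => sup_cW b.toKB h h1 (h2.ge.trans (res_SS h le_rfl ?_)),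
    fun X h1 h2 h3 => sup_cW b.toKB h h1 (h2.ge.trans (res_SS h le_rfl (h3.trans (sSup_le ?_)))), c63, qa⟩
  · rcases ds_or (F := F) with d | d
    · have e := h3 (nm_perf b.toKB h d)
      have := e.ge.trans (comm_semi h (le_inf (h1.trans (nWE E)) (h1.trans (nZW E))) h1)
      exact e.ge.trans ((commutator_mono this this).trans (comm_LL h))
    · exact h4.trans ((commutator_mono (small h d) (small h d)).trans (comm_LL h))
  · rintro _ ⟨P, a, c, d, rfl⟩; exact b_SS b.toKB h a c d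
end lin

theorem WZ (E : Subgroup G) : WW p E ⊓ (VV p E ⊓ 𝐂 E) = WW p E ⊓ 𝐂 E := by rw [← inf_assoc, inf_eq_left.2 (WV E)]

theorem c63_of (b : KB p E) (q : 𝐎 p E = VV p E) (h1 : X ≤ H ⊓ 𝐍 E ⊓ 𝐂 (WW p E)) (h2 : pResidualOf p X = X) : X ≤ 𝐂 E :=
  h2 ▸ pResidualOf_le_centralizer_of_stab (isPGroup_pCoreOf p E)
    (b.comm_le' (h1.trans (inf_le_left.trans inf_le_right)) (h1.trans inf_le_right))
    (by rw [← b.cq, q]; exact h1.trans inf_le_right)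

theorem blk_tb (cp : CharPOf p H) (hT : IsSyl p T H) (hE : E ≤ H) (h : IsBaumannBlock p T E) : TB p H T E := by
  have b := blk_bh cp hT hE h
  have n := le_normalizer.trans (nWE (p := p) E)
  obtain ⟨F, _, _, m, c, -, k, d⟩ | ⟨rfl, m, h3, k, q⟩ := h.2.2.2.2
  · have := charP_of_card (p := p) (Nat.card_eq_fintype_card.trans c)
    obtain ⟨ρ, ψ, k⟩ := nm_iff.1 k
    have k := WZ (p := p) E ▸ k.sub (WV E) n b.V_le
    obtain q | ⟨p3, l, q1, -, q2, q3, q4⟩ := d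
    · exact tb_lin b k (fun X => c63_of b.toKB q) fun D hD _ _ => hD.trans q.le
    obtain ⟨ρ', ψ', l⟩ := nm_iff.1 l
    have q5 : ∀ g ∈ 𝐁 p T, g ∉ 𝐂 (WW p E) → ¬ ⁅⁅𝐎 p E, zpowers g⁆, zpowers g⁆ ≤ VV p E ⊓ 𝐂 E := fun g hg e =>
      q2 ▸ q4 g hg fun e' => e (centralizer_anti (WV E) e')
    refine tb_lin b k (fun X => ex_c63 b k l p3 q1.le q5 q1.ge) fun D hD nD e => (nm_irr l hD nD).resolve_right fun a => ?_
    rcases e with e | ⟨e1, e2⟩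
    · have e1 : D ⊔ VV p E ≤ 𝐂 (D ⊔ VV p E) := by
        rw [centralizer_sup']
        exact le_inf (sup_le e ((oc_le_c _ _).trans (centralizer_anti hD))) (sup_le (hD.trans (QcV E)) (l.le.trans (QcV E)))
      rw [q2, ← q1, commutator_eq_bot_iff'.2 (a.trans (e1.trans (centralizer_anti a))), card_bot, eq_comm,
        Nat.pow_eq_one] at q3
      rw [q3.resolve_left (by decide), pow_zero] at c
      exact Fintype.one_lt_card.ne' c
    · obtain ⟨g, hg, g1⟩ := SetLike.not_le_iff_exists.1 (mt (j_le_bau T).trans b.nJ)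
      exact ex_nq b k l q1.le q5 hg g1 hD (e1 hg) a e2
  · obtain ⟨ρ, ψ, k⟩ := om_iff.1 k
    have k := WZ (p := 2) E ▸ k.sub (WV E) n b.V_le (le_normalizer_of_le_comm (oc_ea _ _).1 le_rfl inf_le_left)
    have n3 := three_le_of h.1 (blk_ne h) h3
    exact ⟨b, fun P => om_fix b.toKB k ⟨m, rfl⟩ n3, fun X h1 h2 _ _ => om_inn b.toKB k ⟨m, rfl⟩ n3 h1 h2,
      fun X h1 h2 _ => om_inn b.toKB k ⟨m, rfl⟩ n3 h1 h2, fun X => c63_of b.toKB q, fun D hD _ _ => hD.trans q.le⟩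

end H118
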