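import Cfsg.Agent.H18.BK5

/-! Baumann blocks, part 6: conjugates of a subnormal block are equal or commute. -/

set_option autoImplicit false
set_option linter.unusedSectionVars false
namespace H118
open Subgroup H26 H4 Cfsg Matrix H18.PU Equiv NMx
open H2 (SubnIn)
open scoped commutatorElement MatrixGroups Pointwise

variable {G : Type*} [Group G] [Finite G] {p : ℕ} [hp : Fact p.Prime] {E F W X T T' B P A D H N : Subgroup G} {g : G}

theorem TB.core (a : TB p H T E) (b : BH p H T' F) (h1 : F ≤ 𝐍 E) (h2 : F ≤ E ⊔ 𝐂 (WW p E))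
    (h3 : ∀ D ≤ 𝐎 p F ⊓ 𝐂 E, D ≤ pResidualOf p ((E ⊔ F) ⊓ 𝐂 (WW p E)) → D ≤ ⁅D, F⁆ →
      H ⊓ 𝐍 E ⊓ 𝐍 F ≤ 𝐍 D → D = ⊥) : F ≤ E := by
  set C := (E ⊔ F) ⊓ 𝐂 (WW p E)
  have nE : E ⊔ F ≤ 𝐍 E := sup_le le_normalizer h1
  have CH : C ≤ H := inf_le_left.trans (sup_le a.le b.le)
  have nK : ∀ X ≤ 𝐍 E, X ≤ 𝐍 (E ⊔ F) → X ≤ 𝐍 (pResidualOf p C) := fun X x y => le_normalizer_pResidualOf_of_le
    (le_normalizer_inf y (le_normalizer_centralizer (x.trans (nWE E))))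
  have e := pResidualOf_pResidualOf p C
  have KC := pResidualOf_le p C
  generalize hK : pResidualOf p C = K at *
  have KE : K ≤ 𝐂 E := a.c63 K (le_inf (le_inf (KC.trans CH) (KC.trans (inf_le_left.trans nE))) (KC.trans inf_le_right)) e
  have nO := le_normalizer_pCoreOf p H
  have d1 : ⁅𝐎 p H, K⁆ ≤ 𝐎 p H ⊓ K := commutator_le_inf_of_le_normalizer (nK _ a.nO (le_normalizer_sup a.nO b.nO))
    (KC.trans (CH.trans nO))
  have d2 := commutator_commutator_eq_of_pResidualOf_eq ((isPGroup_pCoreOf p H).to_le (d1.trans inf_le_left)) e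
  have d3 : E ⊔ F ≤ 𝐍 ⁅𝐎 p H, K⁆ := le_normalizer_commutator ((sup_le a.le b.le).trans nO) (nK _ nE le_normalizer)
  have d4 : ⁅𝐎 p H, K⁆ ≤ 𝐂 E := d1.trans (inf_le_right.trans KE)
  have d5 : ⁅𝐎 p H, K⁆ ≤ ⁅⁅𝐎 p H, K⁆, F⁆ := d2.ge.trans ((commutator_mono le_rfl (KC.trans inf_le_left)).trans
    (commutator_sup_le' ((commutator_eq_bot_iff_le_centralizer.2 d4).trans_le bot_le) le_rfl
      (le_normalizer_of_le_centralizer (le_centralizer_iff.1 ((commutator_le_of_le_normalizer (le_sup_right.trans d3)).trans d4)))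
      (le_normalizer_commutator_right _ _)))
  have d6 := h3 _ (le_inf (d5.trans ((commutator_mono (d1.trans inf_le_left) le_rfl).trans (b.OE.trans inf_le_left))) d4)
    (d1.trans inf_le_right) d5 (le_normalizer_commutator (inf_le_left.trans (inf_le_left.trans nO)) (nK _
      (inf_le_left.trans inf_le_right) (le_normalizer_sup (inf_le_left.trans inf_le_right) inf_le_right)))
  have cP : IsPGroup p C := isPGroup_of_pResidualOf_le (isPGroup_pCoreOf p H)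
    (hK ▸ (le_inf (KC.trans CH) (commutator_eq_bot_iff'.1 d6)).trans a.cp)
  rw [← b.res, ← a.res_eq cP (inf_le_left.trans nE)]
  refine pResidualOf_mono ((le_inf h2 (le_sup_right (a := E))).trans ?_)
  rw [dedekind_left le_sup_left (le_normalizer_centralizer (le_normalizer.trans (nWE E))), inf_comm]

/-- a subnormal block -/
structure SB (p : ℕ) (H T E : Subgroup G) : Prop extends TB p H T E where
  sn : SubnIn E H
  blk : IsBaumannBlock p T E

theorem sb_of (cp : CharPOf p H) (hT : IsSyl p T H) (sn : SubnIn E H) (h : IsBaumannBlock p T E) : SB p H T E :=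
  ⟨blk_tb cp hT sn.le h, sn, h⟩

theorem KB.cen1 (b : KB p E) (h1 : g ∈ 𝐍 E) (k : ∀ w ∈ WW p E, ⁅w, g⁆ ∈ 𝐂 E) : g ∈ 𝐂 (WW p E) :=
  b.cenW (zpowers_le.2 h1) ((commutator_zpowers_le' (fun w hw => mem_inf.2 ⟨commutator_le_of_le_normalizer (nWE E)
    (commutator_mem_commutator hw h1), k w hw⟩) (nZW E h1)).trans inf_le_right) (mem_zpowers _)
theorem KB.nmv (b : KB p E) (h1 : g ∈ 𝐍 E) : ¬ cj g E ≤ 𝐂 E := fun k =>
  b.nW ((WE E).trans ((cj_eq_of_mem_normalizer h1).ge.trans k))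

namespace SB
variable (a : SB p H T E)
include a
theorem conj (hg : g ∈ H) : SB p H (cj g T) (cj g E) :=
  sb_of a.cp (a.syl.cj_of_mem hg) (subnIn_cj_of_mem_normalizer a.sn (le_normalizer hg)) (blk_cj a.blk g)
theorem VW : ⁅VV p H, E⁆ ≤ WW p E := by
  have k : ⁅VV p H, E⁆ ≤ VV p H := commutator_le_of_le_normalizer (a.le.trans (le_normalizer.trans (nVE H)))
  rw [← a.cc (elemAb_isPGroup (elemAb_mono (oc_ea _ _) k))]
  exact commutator_mono (le_oc (elemAb_mono (oc_ea _ _) k) ((commutator_mono (oc_le _ _) le_rfl).trans (a.OE.trans inf_le_left))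
    (k.trans ((oc_le_c _ _).trans (centralizer_anti (pCoreOf_le_pCoreOf_of_subnIn a.sn))))) le_rfl

variable (b : SB p H T' F) (c1 : Nat.card (WW p F) = Nat.card (WW p E))
include b c1
theorem one_way (h1 : F ≤ 𝐍 E) {e : G} (he : e ∈ E) : ¬ cj e F ≤ 𝐂 F := fun k => by
  have l : WW p F ≤ WW p E := b.WWE.ge.trans (commutator_le.2 fun w hw f hf => by
    rw [← cm_mul_cen (b := e * w⁻¹ * e⁻¹) (k (conj_mem_cj e (WE F (inv_mem hw))) f hf), show w * (e * w⁻¹ * e⁻¹) = ⁅w, e⁆ by group]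
    exact commutator_le_of_le_normalizer (h1.trans (nWE E)) (commutator_mem_commutator
      (a.VW (commutator_mem_commutator (b.WVH hw) he)) hf))
  have e1 := eq_of_le_of_card_ge l c1.ge
  exact b.nW ((cj_eq_of_mem_normalizer (e1 ▸ nWE E (le_normalizer he))).ge.trans ((cj_mono e (WE F)).trans k))

theorem both (c2 : Nat.card F = Nat.card E) (c3 : ⁅E, E⁆ = E → ⁅F, F⁆ = F) (h1 : F ≤ 𝐍 E) (h2 : E ≤ 𝐍 F) :
    F = E ∨ F ≤ 𝐂 E := by
  refine or_iff_not_imp_right.2 fun k => eq_of_le_of_card_ge ?_ c2.ge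
  have k1 : ¬ WW p E ≤ 𝐂 F := fun e => k (a.c63 F (le_inf (le_inf b.le h1) (le_centralizer_iff.1 e)) b.res)
  have d : ⁅WW p E, F⁆ ≤ WW p F := (commutator_mono a.WVH le_rfl).trans b.VW
  have e : WW p F = WW p E := eq_of_le_of_card_ge ((b.W_le (d.trans (WV F)) (le_normalizer_commutator_right _ _)
    fun c => k1 (b.cen_of ((elemAb_isPGroup (Wea F)).to_le d) c)).trans (commutator_le_of_le_normalizer (h1.trans (nWE E)))) c1.ge
  have z : WW p F ⊓ 𝐂 F = WW p E ⊓ 𝐂 E := le_antisymm (le_inf (inf_le_left.trans e.le) (by_contra fun c => b.nW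
    ((e.le.trans (a.W_le (inf_le_left.trans (e.le.trans (WV E))) (h2.trans (nZW F)) c)).trans inf_le_right)))
    (le_inf (inf_le_left.trans e.ge) (by_contra fun c => a.nW
      ((e.ge.trans (b.W_le (inf_le_left.trans (e.ge.trans (WV F))) (h1.trans (nZW E)) c)).trans inf_le_right)))
  have n : 𝐍 F ≤ 𝐍 (WW p E) ⊓ 𝐍 (WW p E ⊓ 𝐂 E) := by rw [← z, ← e]; exact le_inf (nWE F) (nZW F)
  refine a.core b.toBH h1 (a.inn0 F h1 b.res c3 (b.cb.ge.trans (commutator_mono (le_normalizer.trans n) (b.nB.trans n))))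
    fun D _ d1 d2 _ => le_bot_iff.1 (d2.trans (commutator_eq_bot_iff_le_centralizer.2 (d1.trans (b.c63 _ ?_
      (pResidualOf_pResidualOf _ _)))).le)
  exact (pResidualOf_le _ _).trans (e ▸ inf_le_inf_right _ (le_inf (sup_le a.le b.le) (sup_le h2 le_normalizer)))

omit c1 in
theorem neither (dE : ∀ f ∈ F, f ∈ 𝐍 E ∨ cj f E ≤ 𝐂 E) (dF : ∀ e ∈ E, e ∈ 𝐍 F ∨ cj e F ≤ 𝐂 F) (h1 : ¬ F ≤ 𝐍 E) :
    E ≤ 𝐍 F := by
  by_contra h2
  obtain ⟨f, hf, f1⟩ := SetLike.not_le_iff_exists.1 h1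
  obtain ⟨e₀, he₀, e0⟩ := SetLike.not_le_iff_exists.1 h2
  have f2 := (dE f hf).resolve_left f1
  have k : ∀ e ∈ E, e ∉ 𝐍 F → ∀ w ∈ WW p E, e * w * e⁻¹ * w ∈ 𝐂 E := fun e he e1 w hw => by
    have hw' := WE E hw
    have t := (dF e he).resolve_left e1 (conj_mem_cj e (WE F (b.VW (commutator_mem_commutator (a.WVH hw) hf)))) f hf
    have y := f2 (conj_mem_cj f hw')
    have u := mul_mem (mul_mem he hw') (inv_mem he)
    rw [show e * ⁅w, f⁆ * e⁻¹ = e * w * e⁻¹ * (e * (f * w * f⁻¹) * e⁻¹)⁻¹ by group, y e he, mul_inv_cancel_right] at t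
    have nc : ∀ x, e * x * e⁻¹ ∈ 𝐂 E → x ∈ 𝐂 E := fun x hx => by
      simpa [mul_assoc] using conj_mem_of_mem_normalizer' (normalizer_le_normalizer_centralizer E (le_normalizer he)) hx
    generalize hu : e * w * e⁻¹ = v at *
    rcases dE _ (mul_mem hf hf) with f3 | f3
    · have m := conj_mem_of_mem_normalizer f3 hw'
      refine f2 (mem_cj.2 ((mem_normalizer_iff.1 f3 _).2 ?_))
      rw [show f * f * (f⁻¹ * (v * w) * f) * (f * f)⁻¹ = f * (v * (f * w * f⁻¹)⁻¹) * f⁻¹ * (f * f * w * (f * f)⁻¹ * (f * w * f⁻¹)) by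
        group, t, y _ m]
      simpa [mul_assoc] using mul_mem u m
    · have : v ∈ 𝐂 E := by
        rw [show v = v * (f * w * f⁻¹)⁻¹ * f * f⁻¹ * (f * w * f⁻¹) by group, ← t,
          show f * (v * (f * w * f⁻¹)⁻¹) * f⁻¹ = f * v * f⁻¹ * (f * f * w * (f * f)⁻¹)⁻¹ by group]
        exact mul_mem (mul_mem (f2 (conj_mem_cj f u)) (inv_mem (f3 (conj_mem_cj _ hw')))) y
      exact mul_mem this (nc w (hu ▸ this))
  have k2 : ∀ x ∈ E, ∀ y ∈ E, x ∉ 𝐍 F → y ∉ 𝐍 F → x * y ∈ 𝐎 p E := fun x hx y hy x1 y1 => a.kerW (mul_mem hx hy) fun w hw => by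
    have t1 := k y hy y1 _ (inv_mem hw)
    have t2 := k x hx x1 _ hw
    rw [show ⁅w, x * y⁆ = w * (x * (y * w⁻¹ * y⁻¹ * w⁻¹) * x⁻¹) * w⁻¹ * (w * (x * w * x⁻¹ * w) * w⁻¹) by group]
    have n := normalizer_le_normalizer_centralizer E
    exact mul_mem (conj_mem_of_mem_normalizer (n (le_normalizer (WE E hw))) (conj_mem_of_mem_normalizer (n (le_normalizer hx)) t1))
      (conj_mem_of_mem_normalizer (n (le_normalizer (WE E hw))) t2)
  have k3 : ∀ x ∈ E, x ∉ 𝐎 p E → x ∉ 𝐍 F := fun x hx x1 c => x1 (by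
    have := k2 _ (mul_mem hx (inv_mem he₀)) _ he₀ (fun e => e0 (by simpa using mul_mem (inv_mem e) c)) e0
    rwa [inv_mul_cancel_right] at this)
  refine a.nW (le_centralizer_iff.1 ((a.cb.ge.trans (commutator_le.2 fun x hx y hy => ?_)).trans (QcW E)))
  have n := normalizer_le_normalizer_pCoreOf p E (a.nB hy)
  by_cases c : x ∈ 𝐎 p E
  · exact commutator_le_of_le_normalizer (zpowers_le.2 n) (commutator_mem_commutator c (mem_zpowers y))
  have m := conj_mem_of_mem_normalizer (a.nB hy) (inv_mem hx)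
  rw [show ⁅x, y⁆ = x * (y * x⁻¹ * y⁻¹) by group]
  exact k2 _ hx _ m (k3 x hx c) (k3 _ m fun e => c (inv_mem_iff.1 ((mem_normalizer_iff.1 n _).2 e)))

theorem step (c2 : Nat.card F = Nat.card E) (c3 : ⁅E, E⁆ = E → ⁅F, F⁆ = F) (dE : ∀ f ∈ F, f ∈ 𝐍 E ∨ cj f E ≤ 𝐂 E)
    (dF : ∀ e ∈ E, e ∈ 𝐍 F ∨ cj e F ≤ 𝐂 F) : F = E ∨ F ≤ 𝐂 E := by
  have h1 : F ≤ 𝐍 E := by_contra fun c => c fun f hf =>
    (dE f hf).resolve_right (b.one_way a c1.symm (a.neither b dE dF c) hf)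
  exact a.both b c1 c2 c3 h1 fun e he => (dF e he).resolve_right (a.one_way b c1 h1 he)
end SB

theorem sb_ind (hN : N ≤ H) : ∀ T E g, SB p H T E → g ∈ H → SubnIn E N → SubnIn (cj g E) N → cj g E = E ∨ cj g E ≤ 𝐂 E := by
  induction N using subgroup_card_induction with | _ N _ ih => ?_
  intro T E g a hg s1 s2
  have d : ∀ T E, SB p H T E → SubnIn E N → E ≠ N → ∀ n ∈ N, n ∈ 𝐍 E ∨ cj n E ≤ 𝐂 E := fun T E a s e n hn => by
    obtain ⟨M, m1, m2, m3⟩ := s.exists_normal_lt e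
    exact (ih M m2 (m2.le.trans hN) T E n a (hN hn) m1 (subnIn_cj_of_mem_normalizer m1 (m3 hn))).imp_left cj_eq_iff.1
  by_cases e1 : E = N
  · exact Or.inl (eq_of_le_of_card_ge (s2.le.trans e1.ge) (card_cj g E).ge)
  by_cases e2 : cj g E = N
  · exact Or.inl (eq_of_le_of_card_ge (s1.le.trans e2.ge) (card_cj g E).le).symm
  exact a.step (a.conj hg) (by rw [← cj_WW, card_cj]) (card_cj g E) (fun e => by rw [← cj_commutator, e])
    (fun f hf => d _ _ a s1 e1 f (s2.le hf)) fun e he => d _ _ (a.conj hg) s2 e2 e (s1.le he)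

theorem SB.dich (a : SB p H T E) (hg : g ∈ H) : g ∈ 𝐍 E ∨ cj g E ≤ 𝐂 E :=
  (sb_ind le_rfl T E g a hg a.sn (a.conj hg).sn).imp_left cj_eq_iff.1

end H118
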