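import Cfsg.Agent.H18.BK6

/-! Baumann blocks, part 7: a subnormal block is normalized by all Baumann subgroups, is a block for every Sylow subgroup,
and contains or centralizes every other block. -/

set_option autoImplicit false
set_option linter.unusedSectionVars false
namespace H118
open Subgroup H26 H4 Cfsg Matrix H18.PU Equiv NMx
open H2 (SubnIn)
open scoped commutatorElement MatrixGroups Pointwise

variable {G : Type*} [Group G] [Finite G] {p : ℕ} [hp : Fact p.Prime] {E F W X T T' B P A D H N : Subgroup G} {g : G}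

theorem KB.two_lt (a : KB p E) : 2 < (𝐂 E).relIndex (WW p E) := by
  by_contra! c
  have c0 : (𝐂 E).relIndex (WW p E) ≠ 0 := index_ne_zero_of_finite
  have c1 : (𝐂 E).relIndex (WW p E) ≠ 1 := fun e => a.nW (relIndex_eq_one.1 e)
  refine a.nW (le_centralizer_iff.1 (le_trans (fun e he => a.kerW he fun w hw => ?_) (QcW E)))
  have m := conj_mem_of_mem_normalizer (nWE (p := p) E (le_normalizer he)) (inv_mem hw)
  rw [show ⁅w, e⁆ = w * (e * w⁻¹ * e⁻¹) by group]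
  exact (mul_mem_iff_of_index_two (H := (𝐂 E).subgroupOf (WW p E)) (show (𝐂 E).relIndex (WW p E) = 2 by omega)
    (a := ⟨w, hw⟩) (b := ⟨_, m⟩)).2 (inv_mem_iff.symm.trans
      (mem_normalizer_iff.1 (normalizer_le_normalizer_centralizer E (le_normalizer he)) _))

namespace SB
variable (a : SB p H T E) (hT : IsSyl p T' H)
include a hT
theorem WT' : WW p E ≤ T' := a.WO.trans hT.pCoreOf_le
theorem nA (hA : A ∈ MaxEA p T') : A ≤ 𝐍 E := by
  by_contra c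
  obtain ⟨x, hx, x1⟩ := SetLike.not_le_iff_exists.1 c
  have AH := (MaxEA.le hA).trans hT.le
  have mv : ∀ y ∈ A, y ∉ 𝐍 E → ∀ w ∈ WW p E, y * w * y⁻¹ ∈ 𝐂 E := fun y hy y1 w hw =>
    (a.dich (AH hy)).resolve_left y1 (conj_mem_cj y (WE E hw))
  have fx : ∀ y ∈ A, y ∉ 𝐍 E → ∀ w ∈ WW p E, y ∈ centralizer {w} → w ∈ 𝐂 E := fun y hy y1 w hw k => by
    have := mv y hy y1 w hw
    rwa [mem_centralizer_singleton_iff.1 k, mul_inv_cancel_right] at this
  have VT : VV p H ≤ T' := (oc_le _ _).trans hT.pCoreOf_le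
  have nV : A ≤ 𝐍 (VV p H) := AH.trans (le_normalizer.trans (nVE H))
  have eq : ∀ b ∈ A ⊓ 𝐂 ⁅WW p E, A⁆, ∀ y ∈ A, ∀ w ∈ WW p E, b * ⁅w, y⁆ * b⁻¹ = ⁅w, y⁆ := fun b hb y hy w hw => by
    rw [← hb.2 _ (commutator_mem_commutator hw hy), mul_inv_cancel_right]
  by_cases k : A ⊓ 𝐂 ⁅WW p E, A⁆ ≤ 𝐍 E
  · have k1 : A ⊓ 𝐂 ⁅WW p E, A⁆ ≤ 𝐂 (WW p E) := fun b hb => a.cen1 (k hb) fun w hw => by
      rw [show ⁅w, b⁆ = w * (b * ⁅w⁻¹, x⁆ * b⁻¹) * (b * x * w⁻¹ * (b * x)⁻¹) by group, eq b hb x hx _ (inv_mem hw),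
        show w * ⁅w⁻¹, x⁆ = x * w * x⁻¹ by group]
      exact mul_mem (mv x hx x1 w hw) (mv _ (mul_mem hb.1 hx) (mt (Subgroup.mul_mem_cancel_left _ (k hb)).1 x1) _ (inv_mem hw))
    have t := (timmesfeld (oc_ea _ _) nV (MaxEA.isBestOffenderOn hA VT (oc_ea _ _)) a.WVH).2.1
    have l : ⁅WW p E, A⁆ ≤ VV p H := (commutator_mono a.WVH le_rfl).trans (commutator_le_of_le_normalizer nV)
    have := commutator_eq_bot_iff'.1 (eq_bot_of_le_commutator hT.isP (l.trans VT) (MaxEA.le hA) ((commutator_mono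
      ((le_inf a.WVH (le_centralizer_iff.1 k1)).trans t.le) le_rfl).trans (by
        rw [commutator_sup_eq_of_comm (oc_ea _ _).1 nV l inf_le_left, commutator_eq_bot_iff_le_centralizer.2 inf_le_right,
          sup_bot_eq])))
    exact a.nW fun w hw => fx x hx x1 w hw (mem_centralizer_singleton_iff.2 (this hx w hw).symm)
  obtain ⟨b, hb, b1⟩ := SetLike.not_le_iff_exists.1 k
  have e : ∀ y ∈ A, ∀ w ∈ WW p E, w = b * w * b⁻¹ * ((b * y * w * (b * y)⁻¹)⁻¹ * (y * w * y⁻¹)) := fun y hy w hw => by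
    rw [← mul_assoc, show b * w * b⁻¹ * (b * y * w * (b * y)⁻¹)⁻¹ = b * ⁅w, y⁆ * b⁻¹ by group, eq b hb y hy w hw]; group
  have k1 : ∀ y ∈ A, y ∉ 𝐍 E → b * y ∈ 𝐍 E := fun y hy y1 => by_contra fun c => a.nW fun w hw => by
    rw [e y hy w hw]
    exact mul_mem (mv b hb.1 b1 w hw) (mul_mem (inv_mem (mv _ (mul_mem hb.1 hy) c w hw)) (mv y hy y1 w hw))
  obtain rfl : p = 2 := by_contra fun c => b1 (mem_of_pow_mem_coprime ((Nat.coprime_primes Nat.prime_two hp.out).2 (Ne.symm c))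
    (pow_two b ▸ k1 b hb.1 b1) (by rw [MaxEA.pow_eq hA hb.1]; exact one_mem _))
  have k2 : A ⊓ 𝐍 E ≤ 𝐂 (WW 2 E) := fun z hz => a.cen1 hz.2 fun w hw => by
    have hy : b⁻¹ * z ∈ A := mul_mem (inv_mem hb.1) hz.1
    have y1 : b⁻¹ * z ∉ 𝐍 E := fun c => b1 (inv_mem_iff.1 ((Subgroup.mul_mem_cancel_right _ hz.2).1 c))
    have := e _ hy w hw
    rw [mul_inv_cancel_left, mv _ hy y1 w hw _ (inv_mem (conj_mem_of_mem_normalizer hz.2 (WE E hw))), ← mul_assoc,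
      eq_mul_inv_iff_mul_eq] at this
    rw [show ⁅w, z⁆ = w * (z * w⁻¹ * z⁻¹) by group, inv_eq_of_mul_eq_one_left ((pow_two w).symm.trans ((Wea E).2 w hw)), this]
    exact mul_mem (mv b hb.1 b1 w hw) (mv _ hy y1 w hw)
  have k3 := MaxEA.best hA (a.WT' hT) (Wea E) _ (inf_le_left : A ⊓ 𝐍 E ≤ A)
  have k4 : (𝐍 E).relIndex A ≤ 2 := by
    classical
    refine (rel_le_card (fun y => decide (y ∈ 𝐍 E)) fun y hy z hz k => ?_).trans_eq (by simp)
    by_cases c : y ∈ 𝐍 E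
    · exact mul_mem (inv_mem c) (by simpa [c] using k)
    · simpa [mul_assoc] using mul_mem (inv_mem (k1 y hy c)) (k1 z hz (by simpa [c] using k))
  have k5 : Nat.card ↥(WW 2 E ⊓ 𝐂 A) ≤ Nat.card ↥(𝐂 E ⊓ WW 2 E) := card_le_of_le fun w hw =>
    ⟨fx x hx x1 w hw.1 (mem_centralizer_singleton_iff.2 (hw.2 x hx)), hw.1⟩
  rw [inf_eq_left.2 (le_centralizer_iff.1 k2), ← card_mul_relIndex (𝐍 E) A, inf_comm _ A, mul_assoc,
    ← card_mul_relIndex (𝐂 E) (WW 2 E)] at k3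
  have := (Nat.le_of_mul_le_mul_left k3 Nat.card_pos).trans (Nat.mul_le_mul k4 k5)
  rw [mul_comm 2] at this
  exact a.two_lt.not_ge (Nat.le_of_mul_le_mul_left this Nat.card_pos)

theorem nB' : 𝐁 p T' ≤ 𝐍 E := fun b hb => by
  obtain ⟨w, hw, w1⟩ := SetLike.not_le_iff_exists.1 (a.fix _ (hT.isP.to_le (thompsonOf_le p T'))
    (thompsonOf_le_iff.2 fun A => a.nA hT))
  refine (a.dich (hT.le hb.1)).resolve_right fun k => w1 ?_
  have := k (conj_mem_cj b (WE E hw.1))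
  rwa [← hb.2 w (le_y (elemAb_mono (Wea E) inf_le_left) (inf_le_left.trans (a.WT' hT)) inf_le_right hw),
    mul_inv_cancel_right] at this

theorem nZ : ¬ 𝛀 p T' ≤ 𝐂 E := fun c => by
  classical
  obtain ⟨w, hw, w1⟩ := SetLike.not_le_iff_exists.1 (a.fix (T' ⊓ 𝐍 E) (hT.isP.to_le inf_le_left) inf_le_right)
  have n : H ≤ 𝐍 (VV p H) := le_normalizer.trans (nVE H)
  obtain ⟨M, _, _, π, k⟩ := exists_sec_action (V := VV p H) (Z := ⊥) (E := H)
    (commutator_eq_bot_iff_le_centralizer.2 (elemAb_le_centralizer (oc_ea _ _))).le (by rw [normalizer_bot']; exact le_top) n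
    (by rw [normalizer_bot']; exact le_top)
  have := k.finite
  have := Fintype.ofFinite M
  have fx : ∀ (g : H) {u : G}, u ∈ VV p H → (g • π u = π u ↔ (g : G) * u = u * g) := fun g u hu => by
    rw [← sub_eq_zero, ← k.comm n g hu, k.ker _ (commutator_le_of_le_normalizer' n (commutator_mem_commutator g.2 hu)),
      mem_bot, commutatorElement_eq_one_iff_mul_comm]
  obtain ⟨z, hz, e⟩ := k.sur (∑ d ∈ orb (T'.subgroupOf H) (π w), d)
  have z1 : z ∈ 𝛀 p T' := le_oc (elemAb_mono (oc_ea _ _) inf_le_left) (inf_le_left.trans ((oc_le _ _).trans hT.pCoreOf_le))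
    inf_le_right (mem_inf.2 ⟨hz, fun t ht => (fx ⟨t, hT.le ht⟩ hz).1 (by
      have f : ∀ d ∈ orb (T'.subgroupOf H) (π w), (⟨t, hT.le ht⟩ : H) • d ∈ orb (T'.subgroupOf H) (π w) :=
        fun d => smul_mem_orb ht
      rw [e, Finset.smul_sum]
      exact Finset.sum_nbij _ f (MulAction.injective _).injOn (Finset.surjOn_of_injOn_of_card_le _ f
        (MulAction.injective _).injOn le_rfl) fun _ _ => rfl)⟩)
  refine w1 fun x hx => (fx ⟨x, a.le hx⟩ (a.WVH hw.1)).1 ?_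
  have := (fx ⟨x, a.le hx⟩ hz).2 (c z1 x hx)
  rwa [e, Finset.smul_sum, ← sub_eq_zero, ← Finset.sum_sub_distrib, Finset.sum_eq_single (π w) (fun d hd d1 => ?_)
    fun k => absurd (self_mem_orb _ _) k, sub_eq_zero] at this
  obtain ⟨t, ht, rfl⟩ := mem_orb.1 hd
  rw [sub_eq_zero, ← k.act t w (a.WVH hw.1), fx _ (conj_mem_of_mem_normalizer (n t.2) (a.WVH hw.1))]
  exact (a.dich t.2).resolve_left (fun c => d1 ((fx t (a.WVH hw.1)).2 (hw.2 t ⟨ht, c⟩))) (conj_mem_cj _ (WE E hw.1)) x hx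

omit hT in
theorem ncl_n : ncl (𝐁 p T') H ≤ 𝐍 E ↔ ∀ g ∈ H, 𝐁 p (cj g T') ≤ 𝐍 E := by simp only [ncl_le_iff, cj_bau]

theorem all : IsBaumannBlock p T' E := by
  have n : ncl (𝐁 p T) H ≤ 𝐍 E := a.ncl_n.2 fun g hg => a.nB' (a.syl.cj_of_mem hg)
  have l : ncl (𝐁 p T) H ≤ H := ncl_le_self a.BH'
  obtain ⟨g, hg, rfl⟩ := a.syl.exists_cj_eq hT
  obtain ⟨S, hS, s1⟩ := exists_isSyl_ge (bau_isP a.syl.isP) (le_ncl _ H)
  obtain ⟨S', hS', s2⟩ := exists_isSyl_ge (bau_isP hT.isP) (cj_bau (p := p) g T ▸ cj_le_ncl hg)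
  obtain ⟨x, hx, rfl⟩ := hS.exists_cj_eq hS'
  have e := bau_syl hT hS'.isP (hS'.le.trans l) s2
  rw [← cj_bau, bau_syl a.syl hS.isP (hS.le.trans l) s1, cj_bau] at e
  obtain ⟨h1, h2, h3, -, h5⟩ := blk_cj a.blk x
  rw [cj_eq_of_mem_normalizer (n hx)] at h1 h2 h3 h5
  rw [e] at h2 h5
  exact ⟨h1, h2, h3, fun c => a.nZ hT (commutator_eq_bot_iff'.1 c), h5⟩

omit hT in
theorem le_or (b : TB p H T' F) : F ≤ E ∨ F ≤ 𝐂 E := by
  have n : ncl (𝐁 p T') F ≤ 𝐍 E := (ncl_mono le_rfl b.le).trans (a.ncl_n.2 fun g hg => a.nB' (b.syl.cj_of_mem hg))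
  have l : F ≤ ncl (𝐁 p T') F := le_sup_right.trans b.ncl_eq.ge
  have h1 := l.trans n
  refine or_iff_not_imp_right.2 fun k => ?_
  have k1 : ¬ WW p E ≤ 𝐂 F := fun e => k (a.c63 F (le_inf (le_inf b.le h1) (le_centralizer_iff.1 e)) b.res)
  have d : ⁅WW p E, F⁆ ≤ WW p E := commutator_le_of_le_normalizer (h1.trans (nWE E))
  have nd := le_normalizer_commutator_right (WW p E) F
  have e : WW p F ≤ WW p E := (b.W_le (b.qa _ ((commutator_mono a.WO le_rfl).trans (b.OE.trans inf_le_left)) nd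
    (Or.inl (elemAb_le_centralizer (elemAb_mono (Wea E) d)))) nd
      fun c => k1 (b.cen_of ((elemAb_isPGroup (Wea E)).to_le d) c)).trans d
  have h2 := a.inn1 F h1 b.res (l.trans (ncl_le_iff.2 fun g hg => le_sSup ⟨_, (b.syl.cj_of_mem (b.le hg)).isP,
    a.WT' (b.syl.cj_of_mem (b.le hg)), a.nB' (b.syl.cj_of_mem (b.le hg)), (cj_bau g T').symm⟩))
  have z : ¬ WW p F ≤ 𝐂 E := fun c => b.nW (le_centralizer_iff.1 (h2.trans (sup_le (le_centralizer_iff.1 c) (centralizer_anti e))))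
  refine a.core b.toBH h1 h2 fun D d1 _ d2 d3 => ?_
  have nD : F ≤ 𝐍 D := (le_inf (le_inf b.le h1) le_normalizer).trans d3
  have t : ∀ Y ≤ D ⊓ VV p F, F ≤ 𝐍 Y → Y ≤ 𝐂 F := fun Y y1 y2 => by_contra fun c =>
    z ((b.W_le (y1.trans inf_le_right) y2 c).trans (y1.trans (inf_le_left.trans (d1.trans inf_le_right))))
  exact le_bot_iff.1 (d2.trans (commutator_eq_bot_iff_le_centralizer.2 (t D (le_inf le_rfl (b.qa D (d1.trans inf_le_left) nD
    (Or.inr ⟨(le_inf (le_inf b.BH' (a.nB' b.syl)) b.nB).trans d3,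
      t _ le_rfl (le_normalizer_inf nD (le_normalizer.trans (nVE F)))⟩))) nD)).le)
end SB

end H118
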