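import Cfsg.Agent.H18.BK7

/-! Baumann blocks, part 8: the rank one pushing up theorem produces a linear block (`RK.lb`, `LB.blk`). -/

set_option autoImplicit false
set_option linter.unusedSectionVars false
namespace H118
open Subgroup H26 H4 Cfsg Matrix H18.PU Equiv NMx
open scoped commutatorElement MatrixGroups Pointwise

variable {X : Type*} [Group X] [Finite X] {p : ℕ} [hp : Fact p.Prime]
  {G S S₀ M A A' B D E V T Qa Qa' Y Y' N U U₀ W : Subgroup X}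

theorem phi_cen (h1 : ⁅D, E⁆ ≤ V) (h2 : D ≤ 𝐂 V) (h3 : IsElementaryAbelian p V) : phi p D ≤ 𝐂 E := by
  have c := h1.trans (le_centralizer_iff.1 h2)
  refine phi_le_iff.2 ⟨three_subgroups_centralizer c ((commutator_comm _ _).le.trans c), fun x hx e he => ?_⟩
  have m := h1 (commutator_mem_commutator hx he)
  rw [eq_comm, ← commutatorElement_eq_one_iff_mul_comm, commutatorElement_pow_left' (h2 hx _ m).symm,
    (isElementaryAbelian_iff.1 h3).2 _ m]

namespace RK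
variable (h : RK p G S)
include h
theorem res_nm {F : Type*} [Field F] [CharP F p] {ρ : X → SL(2, F)} {ψ : X → Fin 2 → F} (k : NM ⊤ G U U₀ ρ ψ)
    (hq : ∀ x ∈ 𝐎 p G, ρ x = 1) : NM (DS F) (pResidualOf p G) U U₀ ρ ψ := by
  have e : ((pResidualOf p G).subgroupOf G).map k.ρh = pResidualOf p ⊤ := by
    rw [← pResidualOf_subgroupOf le_rfl, map_pResidualOf, subgroupOf_self, ← MonoidHom.range_eq_map, k.ρh_range]
  refine k.res h.EG fun m => ⟨fun hm => ?_, fun ⟨x, hx, a⟩ => res_le_ds (p := p) (e.le ⟨⟨x, h.EG hx⟩, hx, a⟩)⟩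
  have l : ⁅G, G⁆ ≤ pResidualOf p G ⊔ 𝐎 p G := by
    have n := le_normalizer_sup h.nE h.nQ
    have a : ⁅G, pResidualOf p G⁆ ≤ pResidualOf p G ⊔ 𝐎 p G :=
      le_sup_of_le_left (commutator_le_of_le_normalizer' h.nE)
    refine (commutator_mono le_rfl h.syl.pResidualOf_sup.ge).trans (commutator_sup_le' a ?_ (h.EG.trans n)
      (h.syl.le.trans n))
    exact (commutator_mono h.syl.pResidualOf_sup.ge le_rfl).trans (commutator_sup_le (le_sup_of_le_left
      (commutator_le_of_le_normalizer (h.syl.le.trans h.nE))) (le_sup_of_le_right h.ab) (h.EG.trans n) (h.syl.le.trans n))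
  have : m ∈ (commutator G).map k.ρh := by
    rwa [_root_.commutator_def, map_commutator, ← MonoidHom.range_eq_map, k.ρh_range]
  obtain ⟨x, hx, rfl⟩ := this
  have m : (x : X) ∈ ⁅G, G⁆ := by
    have := mem_map_of_mem G.subtype hx
    rwa [_root_.commutator_def, map_commutator, ← MonoidHom.range_eq_map, range_subtype] at this
  obtain ⟨a, ha, b, hb, c⟩ := (mem_sup_of_le_normalizer (h.EG.trans h.nQ)).1 (l m)
  exact ⟨a, ha, by rw [show k.ρh x = ρ x from rfl, ← c, k.ρmul _ (h.EG ha) _ (h.QG hb), hq b hb, mul_one]⟩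

theorem VCE : VV p G ⊓ 𝐂 (pResidualOf p G) ≤ 𝐂 G :=
  (h.irr inf_le_left (le_normalizer_of_le_centralizer (le_centralizer_iff.1 inf_le_right))).resolve_right fun e =>
    h.ncV (le_centralizer_iff.1 (e.trans (sup_le inf_le_right (inf_le_right.trans (centralizer_anti h.EG)))))

theorem ES : ⁅pResidualOf p G, S⁆ = pResidualOf p G := by
  refine le_antisymm (commutator_le_of_le_normalizer (h.syl.le.trans h.nE)) ?_
  have : ncl S (pResidualOf p G) = G := by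
    rw [← ncl_sup_of_le_normalizer le_normalizer (h.syl.le.trans h.nE), h.syl.pResidualOf_sup, h.nc]
  conv_lhs => rw [← this]
  exact (pResidualOf_ncl_le h.syl.isP).trans (commutator_comm _ _).le
end RK

/-- the data of a linear block `O^p(G)` -/
structure LB (p : ℕ) (G S : Subgroup X) : Prop extends RK p G S where
  cen : G ⊓ 𝐂 (VV p G) = 𝐎 p G
  core : 𝐎 p (pResidualOf p G) = ⁅𝐎 p G, pResidualOf p G⁆
  vv : VV p (pResidualOf p G) = 𝐎 p (pResidualOf p G) ⊓ VV p G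
  ph : phi p (𝐎 p G) ≤ 𝐂 (pResidualOf p G)
  ty : (∃ A, CI p G S A) ∨ p = 3 ∧ (∃ (F : Type) (_ : Field F) (_ : Fintype F), Fintype.card F = (𝐎 p G).relIndex S ∧
      ∃ ρ ψ, NM (F := F) ⊤ G (𝐎 p (pResidualOf p G)) (VV p (pResidualOf p G)) ρ ψ ∧ ∀ x ∈ 𝐎 p G, ρ x = 1) ∧
    (∀ u ∈ 𝐎 p (pResidualOf p G), u ^ p = 1) ∧
    ⁅𝐎 p (pResidualOf p G), 𝐎 p (pResidualOf p G)⁆ = VV p (pResidualOf p G) ⊓ 𝐂 (pResidualOf p G) ∧
    Nat.card ↥⁅𝐎 p (pResidualOf p G), 𝐎 p (pResidualOf p G)⁆ = (𝐎 p G).relIndex S ∧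
    ∀ b ∈ S, b ∉ 𝐎 p G → ∃ u ∈ 𝐎 p (pResidualOf p G), ⁅b, ⁅b, u⁆⁆ ∉ 𝐂 (pResidualOf p G)

theorem CI.lb (h : CI p G S A) : LB p G S := by
  refine ⟨h.toRK, h.cen, h.coreE.trans h.QE_eq.symm, ?_, phi_cen h.QE h.QV h.Vea, .inl ⟨A, h⟩⟩
  rw [show VV p (pResidualOf p G) = 𝛀 p _ from congrArg (𝛀 p) h.coreE, h.coreE, inf_eq_left.2 h.WV]
  exact le_antisymm (oc_le _ _) (le_oc (elemAb_mono h.Vea h.WV) le_rfl (elemAb_le_centralizer (elemAb_mono h.Vea h.WV)))

namespace Cub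
variable (h : Cub p G S₀ S A A' Qa Qa' Y Y')
include h

theorem UD : (ncl A G ⊔ VV p G) ⊓ (𝐎 p G ⊓ Qa ⊓ Qa') = VV p G := by
  refine le_antisymm (fun u hu => ?_) (le_inf le_sup_right h.VD)
  have c : u ∈ 𝐂 (𝐎 p G) := centralizer_anti h.Q_le' ((centralizer_sup' _ _).ge
    ⟨le_centralizer_iff.1 h.VsD hu.2, h.VsD hu.1⟩)
  exact Subgroup.subset_closure ⟨mem_inf.2 ⟨hu.2.1.1, c⟩, h.Vs_pow h.odd u hu.1⟩

theorem QU : ⁅𝐎 p G, ncl A G ⊔ VV p G⁆ ≤ ⁅ncl A G ⊔ VV p G, ncl A G ⊔ VV p G⁆ := by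
  rw [commutator_comm]
  exact commutator_le_of_le_sup_centralizer le_normalizer (h.Q_le'.trans (sup_le_sup_left (le_centralizer_iff.1 h.VsD) _))

theorem QEU : ⁅𝐎 p G, pResidualOf p G⁆ ≤ ncl A G ⊔ VV p G := (commutator_mono h.Q_le' le_rfl).trans
  (commutator_sup_le (commutator_le_of_le_normalizer (h.r.rk.EG.trans h.nVs)) (le_sup_of_le_right h.DE) le_normalizer
    (le_normalizer_of_le_centralizer (le_centralizer_iff.1 h.VsD)))

theorem nmU : ∃ (F : Type) (_ : Field F) (_ : Fintype F) (_ : CharP F p), Fintype.card F = (𝐎 p G).relIndex S ∧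
    ∃ ρ ψ, Std (F := F) G (𝐎 p G) (𝐎 p G ⊓ Qa ⊓ Qa') S ρ ψ ∧ NM ⊤ G (ncl A G ⊔ VV p G) (VV p G) ρ ψ := by
  obtain ⟨F, _, _, _, e, ρ, ψ, k⟩ := h.nm
  have := k.toNM.sub h.VsQ h.nVs h.Q_le'
  rw [h.UD] at this
  exact ⟨F, _, _, inferInstance, e, ρ, ψ, k, this⟩

theorem U_le : ncl A G ⊔ VV p G ≤ ⁅𝐎 p G, pResidualOf p G⁆ ⊔ VV p G := by
  obtain ⟨F, _, _, _, -, ρ, ψ, -, k⟩ := h.nmU
  exact (k.irred h.QEU (le_normalizer_commutator h.r.rk.nQ h.r.rk.nE)).resolve_left fun e => h.nQE (e.trans h.VD)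

theorem coreE : 𝐎 p (pResidualOf p G) = ⁅𝐎 p G, pResidualOf p G⁆ := by
  have k := h.r.rk
  have n := le_normalizer_commutator k.nQ k.nE
  have wE : ⁅𝐎 p G, pResidualOf p G⁆ ≤ pResidualOf p G := commutator_le_of_le_normalizer' (k.QG.trans k.nE)
  have wQ : ⁅𝐎 p G, pResidualOf p G⁆ ≤ 𝐎 p G := commutator_le_of_le_normalizer (k.EG.trans k.nQ)
  have vs : ⁅VV p G, S⁆ ≤ ⁅𝐎 p G, pResidualOf p G⁆ :=
    (commutator_mono le_rfl k.syl.le).trans (k.VG_le.trans (commutator_mono k.VQ le_rfl))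
  have yG := h.r.YS.trans k.syl.le
  have qy : ⁅𝐎 p G, Y'⁆ ≤ ⁅𝐎 p G, pResidualOf p G⁆ := (commutator_mono (h.Q_le'.trans (sup_le_sup_right h.U_le _))
    le_rfl).trans (commutator_sup_le (commutator_sup_le (commutator_le_of_le_normalizer (yG.trans n))
      ((commutator_mono le_rfl h.r.YS).trans vs) le_normalizer (k.VG.trans n)) (h.DY1.trans vs)
      (sup_le le_normalizer (k.VG.trans n)) (((inf_le_left.trans inf_le_left).trans k.QG).trans n))
  rw [pCoreOf_eq_inf_of_normal k.EG k.nE]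
  refine le_antisymm (fun c hc => ?_) (le_inf wE wQ)
  refine mem_of_transfer_res (k.syl.inf_of_normal k.nE k.EG) ?_ ⟨k.QS hc.2, hc.1⟩ (fun t ht => ?_)
    ((pResidualOf_pResidualOf _ _).ge hc.1)
  · refine (commutator_mono (inf_le_left.trans h.r.spY) le_rfl).trans (commutator_sup_le ((commutator_mono le_rfl
      (inf_le_left.trans h.r.spY)).trans (commutator_sup_le' ((commutator_eq_bot_iff'.2 (elemAb_le_centralizer
        h.r.Yea)).trans_le bot_le) ((commutator_comm _ _).le.trans qy) (yG.trans n) (k.QG.trans n)))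
      (commutator_mono le_rfl inf_le_right) (yG.trans n) (k.QG.trans n))
  · have := commutator_mem_commutator (inv_mem hc.2) ht
    exact ⟨⟨k.QS (wQ this), wE this⟩, this⟩

theorem U_eq : 𝐎 p (pResidualOf p G) ⊔ VV p G = ncl A G ⊔ VV p G := by
  rw [h.coreE]; exact le_antisymm (sup_le h.QEU le_sup_right) h.U_le

theorem vv : VV p (pResidualOf p G) = 𝐎 p (pResidualOf p G) ⊓ VV p G := by
  have k := h.r.rk
  have l : 𝐎 p (pResidualOf p G) ≤ ncl A G ⊔ VV p G := le_sup_left.trans h.U_eq.le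
  refine le_antisymm (le_inf (oc_le _ _) (le_oc (oc_ea _ _) ((oc_le _ _).trans (l.trans h.VsQ)) ?_))
    (le_oc (elemAb_mono k.Vea inf_le_right) inf_le_left (inf_le_right.trans (le_centralizer_iff.1
      ((l.trans h.VsQ).trans k.QV))))
  refine le_trans ?_ (centralizer_anti h.Q_le')
  rw [← h.U_eq]
  exact le_centralizer_sup (le_centralizer_sup (oc_le_c _ _) (((oc_le _ _).trans (l.trans h.VsQ)).trans k.QV))
    ((oc_le _ _).trans (le_sup_left.trans (h.U_eq.le.trans h.VsD)))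

theorem UU : ⁅𝐎 p (pResidualOf p G), 𝐎 p (pResidualOf p G)⁆ = ⁅ncl A G ⊔ VV p G, ncl A G ⊔ VV p G⁆ := by
  have l : 𝐎 p (pResidualOf p G) ≤ ncl A G ⊔ VV p G := le_sup_left.trans h.U_eq.le
  have c : VV p G ≤ 𝐂 (ncl A G ⊔ VV p G) := le_centralizer_iff.1 (h.VsQ.trans h.r.rk.QV)
  refine le_antisymm (commutator_mono l l) ((commutator_le_of_le_sup_centralizer (l.trans le_normalizer)
    (h.U_eq.ge.trans (sup_le_sup_left c _))).trans ((commutator_comm _ _).le.trans ?_))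
  exact commutator_le_of_le_sup_centralizer le_normalizer (h.U_eq.ge.trans (sup_le_sup_left (c.trans (centralizer_anti l)) _))

theorem ph : phi p (𝐎 p G) ≤ 𝐂 (pResidualOf p G) := by
  have k := h.r.rk
  obtain ⟨a, b⟩ := phi_le_iff.1 (phi_cen h.DE ((inf_le_left.trans inf_le_left).trans k.QV) k.Vea)
  have n : G ≤ 𝐍 (𝐂 (pResidualOf p G)) := le_normalizer_centralizer k.nE
  have dG := (inf_le_left.trans inf_le_left : 𝐎 p G ⊓ Qa ⊓ Qa' ≤ _).trans k.QG
  refine phi_le_iff.2 ⟨(commutator_mono le_rfl h.Q_le').trans (commutator_sup_le' (h.QVs.trans (inf_le_right.trans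
    (centralizer_anti k.EG))) ((commutator_comm _ _).le.trans ((commutator_le_of_le_sup_centralizer le_normalizer
      (h.Q_le'.trans ((sup_comm _ _).le.trans (sup_le_sup_left h.VsD _)))).trans a)) ((h.VsQ.trans k.QG).trans n)
      (dG.trans n)), fun x hx => ?_⟩
  obtain ⟨u, hu, d, hd, rfl⟩ := (mem_sup_of_le_normalizer (le_normalizer_of_le_centralizer h.VsD)).1 (h.Q_le' hx)
  rw [Commute.mul_pow (h.VsD hu d hd).symm, h.Vs_pow h.odd u hu, one_mul]
  exact b d hd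

theorem cz : Nat.card ↥⁅ncl A G ⊔ VV p G, ncl A G ⊔ VV p G⁆ = (𝐎 p G).relIndex S := by
  have k := h.r.rk
  obtain ⟨F, _, _, _, -, ρ, ψ, -, st⟩ := h.nmU
  obtain ⟨a, ha, a1⟩ := SetLike.not_le_iff_exists.1 h.l.cr
  have aU : a ∈ ncl A G ⊔ VV p G := mem_sup_left (le_ncl _ _ ha)
  have uG := h.VsQ.trans k.QG
  have z : ∀ {x y : X}, x ∈ ncl A G ⊔ VV p G → y ∈ ncl A G ⊔ VV p G → ⁅x, y⁆ ∈ 𝐂 G := fun hx hy =>
    (h.QVs (commutator_mem_commutator (h.VsQ hx) hy)).2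
  let f := commR (X := 𝐂 G) (A := ncl A G ⊔ VV p G) a (fun u hu => z aU hu) (uG.trans (le_centralizer_iff.1 le_rfl))
  have e1 : f.range = ⁅ncl A G ⊔ VV p G, ncl A G ⊔ VV p G⁆ := by
    refine le_antisymm (by rintro _ ⟨u, rfl⟩; exact commutator_mem_commutator aU u.2)
      (commutator_le.2 fun x hx y hy => ?_)
    by_cases c : x ∈ VV p G
    · rw [commutatorElement_eq_one_iff_mul_comm.2 (k.QV (h.VsQ hy) x c)]; exact one_mem _
    obtain ⟨m, -, e⟩ := ds_trans (mt (st.ker a aU).1 fun e => a1 (h.r.VQ e)) (mt (st.ker x hx).1 c)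
    obtain ⟨g, hg, rfl⟩ := st.ρs m
    have m1 := st.conj_mem hg aU
    rw [← st.act g hg a aU, st.ψ_eq m1 hx] at e
    have m2 := st.conj_mem (inv_mem hg) hy
    refine ⟨⟨_, m2⟩, ?_⟩
    show ⁅a, g⁻¹ * y * g⁻¹⁻¹⁆ = _
    rw [← mul_inv_cancel_left (g * a * g⁻¹) x, cm_mul_cen (k.QV (h.VsQ hy) _ e).symm,
      ← mul_inv_cancel_right ⁅a, _⁆ g, ← z aU m2 g hg, conjugate_commutatorElement]
    congr 1; group
  have e2 : f.ker = Qa.subgroupOf _ := Subgroup.ext fun u => ⟨fun e => (h.l.nat a ha u (h.l.rk.QS (h.VsQ u.2))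
    e).resolve_left a1, fun e => commutatorElement_eq_one_iff_mul_comm.2 (h.l.QaA e a ha)⟩
  have e3 : ncl A G ⊔ VV p G ⊔ Qa = S₀ := le_antisymm (sup_le (h.VsQ.trans h.l.rk.QS) h.l.QaS)
    (h.l.sp.trans (sup_le (h.r.AQ.trans (h.Q_le'.trans (sup_le_sup_left (inf_le_left.trans inf_le_right) _))) le_sup_right))
  rw [← e1, ← index_ker, e2, ← relIndex, ← relIndex_sup_of_le_normalizer ((h.VsQ.trans h.l.rk.QS).trans h.l.nQa), e3,
    h.l.cnt]
  refine Nat.eq_of_mul_eq_mul_left (card_pos' (𝐎 p G)) ?_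
  rw [card_mul_relIndex_of_le h.l.rk.QS, card_mul_relIndex_of_le k.QS, h.l.rk.syl.card_eq k.syl]

theorem ZU : 𝐎 p (pResidualOf p G) ⊓ 𝐂 G ≤ ⁅ncl A G ⊔ VV p G, ncl A G ⊔ VV p G⁆ := by
  have k := h.r.rk
  obtain ⟨M, F, _, _, _, ρ, ψ, r⟩ := k.rd
  obtain ⟨F', _, _, _, -, ρ', ψ', st, k'⟩ := h.nmU
  have n := h.nVs
  have n2 := le_normalizer_commutator n n
  obtain ⟨W, _, _, π, s⟩ := exists_sec_action (V := ncl A G ⊔ VV p G) (E := G) le_rfl ((h.VsQ.trans k.QG).trans n2) n n2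
  obtain ⟨t, ht, e⟩ := r.std.ρs (ng F)
  have e' := (h.sgn r st ht).2 e
  have tr : ∀ g : G, ρ g = 1 → ∀ w : W, g • w = w := fun g hg w => by
    obtain ⟨u, hu, rfl⟩ := s.sur w
    have m := commutator_mem_commutator (h.cen.le ⟨g.2, r.ker _ g.2 hg⟩) hu
    rw [← sub_eq_zero, ← s.comm n g hu]
    exact (s.ker _ (commutator_le_of_le_normalizer le_normalizer (h.QU m))).2 (h.QU m)
  set τ : G := ⟨t, ht⟩
  let I : Subgroup X := {
    carrier := {v | v ∈ ncl A G ⊔ VV p G ∧ τ • π v + π v = 0}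
    one_mem' := ⟨one_mem _, by rw [s.one, smul_zero, add_zero]⟩
    mul_mem' := fun {a b} ha hb => ⟨mul_mem ha.1 hb.1, by
      rw [s.mul _ ha.1 _ hb.1, smul_add, add_add_add_comm, ha.2, hb.2, add_zero]⟩
    inv_mem' := fun {a} ha => ⟨inv_mem ha.1, by rw [s.inv ha.1, smul_neg, ← neg_add, ha.2, neg_zero]⟩ }
  have nI : G ≤ 𝐍 I := fun g hg => mem_normalizer_of_conj_mem fun v hv => ⟨conj_mem_of_mem_normalizer (n hg) hv.1, by
    have := tr (τ⁻¹ * (⟨g, hg⟩⁻¹ * τ * ⟨g, hg⟩)) (by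
      show r.std.ρh _ = 1
      simp only [map_mul, map_inv]
      rw [show r.std.ρh τ = ng F from e, mul_assoc, ← ng_comm]; group) (π v)
    rw [mul_smul, inv_smul_eq_iff, mul_smul, mul_smul, inv_smul_eq_iff] at this
    rw [s.act ⟨g, hg⟩ v hv.1, this, ← smul_add, hv.2, smul_zero]⟩
  have t2 : ∀ w : W, τ • τ • w = w := fun w => by
    rw [← mul_smul]; exact tr _ ((r.std.ρmul _ ht _ ht).trans (by rw [e, ng_sq])) w
  have v1 : VV p G ≤ I ⊔ 𝐂 G := k.V_le.trans (sup_le_sup (fun w hw => ⟨mem_sup_right (k.WV hw), by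
    rw [← s.act τ w (mem_sup_right (k.WV hw)), show (τ : X) * w * (τ : X)⁻¹ = w⁻¹ from
      r.inv h.odd ht e w (commutator_mono le_rfl k.EG hw), s.inv (mem_sup_right (k.WV hw)), neg_add_cancel]⟩) inf_le_right)
  have u1 : ncl A G ⊔ VV p G ≤ I ⊔ 𝐂 G := fun u hu => by
    have m := k'.conj_mem ht hu
    refine mem_of_pow_mem_coprime ((Nat.coprime_primes Nat.prime_two hp.out).2 h.odd.symm) ?_
      (h.Vs_pow h.odd u hu ▸ one_mem _)
    rw [show u ^ 2 = u * (t * u * t⁻¹)⁻¹ * (t * u * t⁻¹ * u) by rw [pow_two]; group]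
    refine mul_mem (mem_sup_left ⟨mul_mem hu (inv_mem m), ?_⟩) (v1 ((k'.ker _ (mul_mem m hu)).1 ?_))
    · rw [s.mul _ hu _ (inv_mem m), s.inv m, s.act τ u hu, smul_add, smul_neg, t2]; abel
    · rw [k'.ψmul _ m _ hu, k'.act t ht u hu, e', ng_smul, neg_add_cancel]
  have c : 𝐂 G ≤ 𝐍 I := le_normalizer_of_le_centralizer (centralizer_anti fun x hx => k.QG (h.VsQ hx.1))
  have q : 𝐎 p (pResidualOf p G) ≤ I := by
    rw [h.coreE, ← commutator_commutator_pResidualOf (isPGroup_pCoreOf p G) k.nQ]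
    exact commutator_le_of_le_sup_centralizer' (h.QEU.trans u1) (centralizer_anti k.EG) c (k.EG.trans nI)
  intro z hz
  obtain ⟨z1, z2⟩ := q hz.1
  rw [← s.act τ z z1, show (τ : X) * z = z * τ from hz.2 t ht, mul_inv_cancel_right, ← s.mul _ z1 _ z1,
    s.ker _ (mul_mem z1 z1), ← pow_two] at z2
  exact mem_of_pow_mem_coprime ((Nat.coprime_primes Nat.prime_two hp.out).2 h.odd.symm) z2
    (h.Vs_pow h.odd z z1 ▸ one_mem _)

theorem nq' {b : X} (hb : b ∈ S) (b1 : b ∉ 𝐎 p G) :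
    ∃ u ∈ 𝐎 p (pResidualOf p G), ⁅b, ⁅b, u⁆⁆ ∉ 𝐂 (pResidualOf p G) := by
  have k := h.r.rk
  obtain ⟨x, hx, q, hq, rfl⟩ := (mem_sup_of_le_normalizer (h.r.YS.trans (k.syl.le.trans k.nQ))).1 (h.r.spY hb)
  have x1 : x ∉ 𝐎 p G := fun e => b1 (mul_mem e hq)
  have xS := h.r.YS hx
  have xG := k.syl.le xS
  obtain ⟨y, hy, y1⟩ := SetLike.not_le_iff_exists.1 h.l.cr
  have l : 𝐎 p (pResidualOf p G) ≤ ncl A G ⊔ VV p G := le_sup_left.trans h.U_eq.le
  obtain ⟨u, hu, v, hv, rfl⟩ := (mem_sup_of_le_normalizer ((l.trans (h.VsQ.trans k.QG)).trans k.nV)).1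
    (h.U_eq.ge (mem_sup_left (le_ncl A G hy)))
  have cm : ∀ {u : X}, u ∈ ncl A G ⊔ VV p G → ⁅x, u⁆ ∈ ncl A G ⊔ VV p G := fun hu =>
    commutator_le_of_le_normalizer' h.nVs (commutator_mem_commutator xG hu)
  have a : ∀ {u : X}, u ∈ ncl A G ⊔ VV p G → ∃ z ∈ 𝐂 G, ⁅x * q, u⁆ = ⁅x, u⁆ * z := fun {u} hu => by
    have m := (h.QVs (commutator_mem_commutator hq hu)).2
    exact ⟨_, m, by rw [commutatorElement_mul_left_eq_conj_mul, m x xG, mul_inv_cancel_right,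
      m _ (k.QG (h.VsQ (cm hu)))]⟩
  have c : ∀ {g u z : X}, g * z = z * g → ⁅g, u * z⁆ = ⁅g, u⁆ := fun e => by
    rw [← commutatorElement_inv, cm_mul_cen e, commutatorElement_inv]
  refine ⟨u, hu, fun e => h.nq _ hy y1 x hx x1 ?_⟩
  obtain ⟨z, hz, e1⟩ := a (l hu)
  obtain ⟨z', hz', e2⟩ := a (cm (l hu))
  rw [e1, c (hz _ (mul_mem xG (k.QG hq))), e2] at e
  have e3 := ((𝐂 (pResidualOf p G)).mul_mem_cancel_right (centralizer_anti k.EG hz')).1 e
  have m := h.xx hx (h.VsQ (l hu))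
  have m' := k.VS_le (comm_mem_symm.1 (commutator_mem_commutator hv xS))
  rw [commutatorElement_mul_right_eq_mul_conj, mul_assoc, mul_assoc, ← mul_assoc u, ← k.QV (h.VsQ (l hu)) _ m'.1,
    mul_inv_cancel_right, c (m'.2 x xS)]
  exact (k.odd_split h.odd).le ⟨commutator_mono le_rfl k.syl.le m, k.VCE ⟨(k.VS_le m).1, e3⟩⟩

theorem lb : LB p G S := by
  have k := h.r.rk
  obtain ⟨F, _, _, _, e, ρ, ψ, st, k'⟩ := h.nmU
  have l : 𝐎 p (pResidualOf p G) ≤ ncl A G ⊔ VV p G := le_sup_left.trans h.U_eq.le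
  refine ⟨k, h.cen, h.coreE, h.vv, h.ph, .inr ⟨h.three, ⟨F, _, _, e, ρ, ψ, h.vv ▸ k'.sub l
    (le_normalizer_pCoreOf_of_le k.nE) h.U_eq.ge, fun x hx => (st.ρ_eq_one (k.QG hx)).2 fun u hu =>
      h.QQ (commutator_mem_commutator hu hx)⟩, fun u hu => h.Vs_pow h.odd u (l hu), le_antisymm ?_ ?_,
      h.UU ▸ h.cz, fun b => h.nq'⟩⟩
  · have := (commutator_mono (l.trans h.VsQ) l).trans h.QVs
    rw [h.vv]
    exact le_inf (le_inf (commutator_le_of_le_normalizer le_normalizer) (this.trans inf_le_left))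
      (this.trans (inf_le_right.trans (centralizer_anti k.EG)))
  · rw [h.UU, h.vv]
    exact (le_inf (inf_le_left.trans inf_le_left) ((inf_le_inf_right _ inf_le_right).trans k.VCE)).trans h.ZU
end Cub

theorem CI.comap {X' : Type*} [Group X'] [Finite X'] {f : X →* X'} (hf : Function.Injective f) {A' : Subgroup X'}
    (h : CI p (G.map f) (S.map f) A') : CI p G S (A'.comap f) := by
  have e : (A'.comap f).map f = A' := map_comap_eq_self (h.AS.trans (map_le_range f S))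
  refine ⟨(RK_map hf).1 h.toRK, ?_, (elemAb_map_iff hf).1 (e.symm ▸ h.Aea), ?_, ?_⟩
  · rw [← map_le_map_iff_of_injective hf, e]; exact h.AS
  · rw [← map_le_map_iff_of_injective hf, Subgroup.map_sup, e, map_pCoreOf hf]; exact h.sp
  · rw [← map_le_map_iff_of_injective hf, map_commutator, map_commutator, e, map_VV hf]; exact h.RA

theorem LB.comap {X' : Type*} [Group X'] [Finite X'] {f : X →* X'} (hf : Function.Injective f)
    (h : LB p (G.map f) (S.map f)) : LB p G S := by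
  obtain ⟨r, h1, h2, h3, h4, h5⟩ := h
  have r' := (RK_map hf).1 r
  refine ⟨r', map_injective hf ?_, map_injective hf ?_, map_injective hf ?_, ?_, h5.imp (fun ⟨A, k⟩ => ⟨_, k.comap hf⟩) ?_⟩
  · rwa [map_inf_centralizer hf, map_VV hf, map_pCoreOf hf]
  · rwa [map_commutator, map_pCoreOf hf, map_pCoreOf hf, map_pResidualOf]
  · rwa [Subgroup.map_inf _ _ _ hf, map_VV hf, map_VV hf, map_pCoreOf hf, map_pResidualOf]
  · rwa [← map_le_centralizer_map_iff hf, map_phi, map_pCoreOf hf, map_pResidualOf]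
  rw [← map_pResidualOf, ← map_VV hf, ← map_pCoreOf hf, ← map_pCoreOf hf, ← map_commutator, ← map_inf_centralizer hf,
    relIndex_map_map_of_injective _ _ hf, card_map_of_injective hf]
  rintro ⟨a, ⟨F, _, _, c, ρ, ψ, k, k'⟩, b, d, e, g⟩
  refine ⟨a, ⟨F, _, _, c, _, _, k.comap f (le_normalizer_pCoreOf_of_le r'.nE) (oc_le _ _) fun _ _ => mem_map_iff_mem hf,
    fun x hx => k' _ (mem_map_of_mem f hx)⟩, fun u hu => hf ?_, map_injective hf d, e, fun x hx x1 => ?_⟩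
  · rw [map_pow, map_one]; exact b _ (mem_map_of_mem f hu)
  · obtain ⟨_, ⟨u, hu, rfl⟩, k⟩ := g _ (mem_map_of_mem f hx) (mt (mem_map_iff_mem hf).1 x1)
    refine ⟨u, hu, fun e => k ?_⟩
    rw [← map_commutatorElement, ← map_commutatorElement]
    exact (map_mem_centralizer_iff hf).2 e

theorem RK.lb (h : RK p G S) (hf : Free G S) : LB p G S := by
  have hi : Function.Injective (MulAction.toPermHom X X) := MulAction.toPerm_injective
  obtain ⟨s, -, k⟩ | ⟨_, _, _, _, _, _, _, k⟩ := ((RK_map hi).2 h).dich le_normalizer le_rfl hf.emb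
  · exact k.ci.lb.comap hi
  · exact k.lb.comap hi

omit [Finite X] hp in
theorem quot_of_ker {H : Type*} [Group H] (f : E →* H) {R : Subgroup H} (h1 : f.range = R)
    (h2 : ∀ e : E, f e = 1 ↔ (e : X) ∈ 𝐎 p E) : Nonempty (E ⧸ pCore p E ≃* R) := by
  have e : pCore p E = f.ker := Subgroup.ext fun x => by rw [pCore_eq_subgroupOf, mem_subgroupOf, ← h2]; rfl
  exact ⟨((QuotientGroup.quotientMulEquivOfEq e).trans (QuotientGroup.quotientKerEquivRange _)).trans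
    (MulEquiv.subgroupCongr h1)⟩

namespace LB
variable (h : LB p G S)
include h
theorem V1 : VV p (pResidualOf p G) ≤ VV p G := h.vv.le.trans inf_le_right
theorem W1 : ⁅VV p G, pResidualOf p G⁆ ≤ VV p (pResidualOf p G) := by
  rw [h.vv, h.core]; exact le_inf (commutator_mono h.VQ le_rfl) h.WV

theorem blk (hB : 𝐁 p T = S) (hz : ¬ pResidualOf p G ≤ 𝐂 (𝛀 p T)) : IsBaumannBlock p T (pResidualOf p G) ∧
    ∃ (F : Type) (_ : Field F) (_ : Fintype F) (_ : CharP F p),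
      Nonempty (pResidualOf p G ⧸ pCore p (pResidualOf p G) ≃* DS F) := by
  set E := pResidualOf p G
  have eq : 𝐎 p E = E ⊓ 𝐎 p G := pCoreOf_eq_inf_of_normal h.EG h.nE
  have cq : ⁅𝐎 p E, E⁆ = 𝐎 p E := by rw [h.core]; exact commutator_commutator_pResidualOf (isPGroup_pCoreOf p G) h.nQ
  obtain ⟨n, hn⟩ := relIndex_dvd_card_of_isPGroup (H := 𝐎 p G) h.syl.isP
  have key : ∀ (F : Type) [Field F] [Fintype F], Fintype.card F = (𝐎 p G).relIndex S → ∃ ρ ψ,
      NM (DS F) E (VV p E) (VV p E ⊓ 𝐂 E) ρ ψ ∧ Nonempty (E ⧸ pCore p E ≃* DS F) := fun F _ _ c => by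
    have := charP_of_card (p := p) (Nat.card_eq_fintype_card.trans (c.trans hn))
    obtain ⟨ρ, ψ, k⟩ := h.nmF (F := F) (c.symm.trans Nat.card_eq_fintype_card.symm)
    have r := h.rho_iff k h.cen
    have k' := (h.res_nm k fun x hx => (r x (h.QG hx)).2 hx).sub h.V1 (le_normalizer.trans (nVE E))
      (h.V_le.trans (sup_le_sup_right h.W1 _))
    rw [le_antisymm (le_inf inf_le_left (inf_le_right.trans (inf_le_right.trans (centralizer_anti h.EG))))
      (le_inf inf_le_left (le_inf (inf_le_left.trans h.V1) ((inf_le_inf_right _ h.V1).trans h.VCE)))] at k'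
    exact ⟨ρ, ψ, k', quot_of_ker k'.ρh k'.ρh_range fun e => (r e (h.EG e.2)).trans
      ⟨fun a => eq.ge ⟨e.2, a⟩, fun a => (eq.le a).2⟩⟩
  have a1 : ⁅E, 𝐁 p T⁆ = E := hB ▸ h.ES
  have a2 : ⁅E, 𝛀 p T⁆ ≠ ⊥ := fun e => hz (le_centralizer_iff.1 (commutator_eq_bot_iff'.1 e))
  obtain ⟨A, k⟩ | ⟨p3, ⟨F, _, _, c, ρ', ψ', k, k'⟩, b1, b2, b3, b4⟩ := h.ty
  · obtain ⟨_, F, _, _, _, _, _, r⟩ := h.rd
    have c := Nat.card_eq_fintype_card.symm.trans r.card
    obtain ⟨ρ, ψ, l, l'⟩ := key F c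
    exact ⟨⟨pResidualOf_pResidualOf _ _, a1, cq, a2, .inl ⟨F, _, _, n, c.trans hn, l', l.acts, .inl (le_antisymm
      (k.coreE.le.trans h.W1) (oc_le _ _))⟩⟩, F, inferInstance, inferInstance, inferInstance, l'⟩
  have := charP_of_card (p := p) (Nat.card_eq_fintype_card.trans (c.trans hn))
  obtain ⟨ρ, ψ, l, l'⟩ := key F c
  have b := kb_of_nm (pResidualOf_pResidualOf _ _) cq l' l
  have m := h.res_nm k k'
  have z : E ⊓ 𝐂 E = VV p E ⊓ 𝐂 E := by
    have z1 : E ⊓ 𝐂 E ≤ 𝐎 p E := (inf_le_inf_left _ (centralizer_anti (WE E))).trans b.inf_cen.le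
    refine le_antisymm (le_inf ((nm_irr m z1 (le_normalizer_of_le_centralizer (le_centralizer_iff.1
      inf_le_right))).resolve_right fun e => m.ne (le_antisymm m.le (cq.ge.trans ?_))) inf_le_right)
      (inf_le_inf_right _ (VE E))
    exact commutator_le_of_le_sup_centralizer' (e.trans (sup_comm _ _).le) inf_le_right (inf_le_left.trans m.nm₀) m.nm₀
  refine ⟨⟨pResidualOf_pResidualOf _ _, a1, cq, a2, .inl ⟨F, _, _, n, c.trans hn, l', l.acts, .inr ⟨p3, m.acts, b2, ?_, z,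
    ?_, fun g hg g1 e => ?_⟩⟩⟩, F, inferInstance, inferInstance, inferInstance, l'⟩
  · rw [← phi_eq_frattini (isPGroup_pCoreOf p _), ← b2]
    exact le_antisymm (phi_le_iff.2 ⟨le_rfl, fun x hx => b1 x hx ▸ one_mem _⟩) (commutator_le_phi _ _)
  · rw [z, ← b2, b3, hn, p3]
  · obtain ⟨u, hu, k⟩ := b4 g (hB ▸ hg) fun e => g1 (centralizer_anti h.V1 (h.QV e))
    exact k (comm_mem_symm.1 (e (commutator_mem_commutator (comm_mem_symm.1 (commutator_mem_commutator hu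
      (mem_zpowers g))) (mem_zpowers g))).2)
end LB

end H118
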