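import Cfsg.Agent.H18.BK8

/-! Baumann blocks, part 9: minimal parabolic groups `PH`, the Baumann argument, a rank one subgroup over `B(T)`. -/

set_option autoImplicit false
set_option linter.unusedSectionVars false
namespace H118
open Subgroup H26 H4 Cfsg Matrix H18.PU Equiv NMx
open H2 (SubnIn)
open scoped commutatorElement MatrixGroups Pointwise

variable {G : Type*} [Group G] [Finite G] {p q : ℕ} [hp : Fact p.Prime]
  {V P A B C D E F S T M X Y K R Z H L N U γ : Subgroup G} {𝒟 Ω : Set (Subgroup G)}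

theorem le_JJ' (h : PM p V P T M) (k : Geo p V P 𝒟 q {γ | ∃ g ∈ P, cj g M = γ}) (hX : X ≤ P)
    (h1 : IsElementaryAbelian p X) (h2 : Nat.card V ≤ Nat.card X * Nat.card ↥(V ⊓ 𝐂 X))
    (h3 : ∀ A, MO p V P A → A ∈ 𝒟) : X ≤ JJ 𝒟 X := by
  induction X using subgroup_card_induction with | _ X _ ih
  by_cases h0 : X = ⊥
  · exact h0.le.trans bot_le
  obtain ⟨A, h4, hA, -⟩ := exists_mo hX h1 h0 h2
  replace hA := h3 A hA
  obtain ⟨g, hg, h5⟩ := h.syl.exists_le_cj (isPGroup_of_isElementaryAbelian h1) hX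
  obtain ⟨B, hB, h6, h7⟩ := h.exists_not_comm k (k.conj A hA _ (inv_mem hg))
  have hB' := k.conj B hB g hg
  have h8 : ¬ cj g B ≤ cj g M := mt cj_le_cj_iff.1 h6
  have h9 : ¬ A ≤ 𝐂 (cj g B) := fun e => h7 (by rwa [← cj_centralizer, le_cj_iff] at e)
  have pt : cj g M ∈ {γ | ∃ g ∈ P, cj g M = γ} := ⟨g, hg, rfl⟩
  have h10 := h5.trans (cj_mono g h.um.le)
  obtain ⟨N, k1, k2, k3, -, k5⟩ := k.decomp pt hA hB' h8 h9 (isPGroup_of_isElementaryAbelian h1) h4 h10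
    (le_centralizer_of_le_comm h1.1 le_rfl h4)
  have gd := k.good pt hA (h4.trans h10) hB' h8 h9
  refine k2.trans (sup_le (le_JJ hA h4) ((ih N (k1.lt_of_ne fun e => k.ne_bot hA (by rwa [e, inf_eq_left.2 h4] at k3))
      (k1.trans hX) (isElementaryAbelian_mono h1 k1) (h2.trans ?_)).trans
      (JJ_le_iff.2 fun C hC e => le_JJ hC (e.trans k1))))
  have e1 := card_sup_comm h1.1 h4 k1
  rw [(sup_le h4 k1).antisymm k2, k3, card_bot, mul_one, k.card A hA] at e1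
  have hU := k.comm_le (sup_le (k.le A hA) (k.le _ hB'))
  have e2 := card_sup_comm h.ea.1 hU (inf_le_left : V ⊓ 𝐂 X ≤ V)
  have e3 := card_sup_comm h.ea.1 hU (inf_le_left : V ⊓ 𝐂 A ≤ V)
  rw [(sup_le hU inf_le_left).antisymm (gd.le_comm.trans (sup_le_sup_left (inf_le_inf_left _
    (centralizer_anti le_sup_left)) _)), ← k.val A hA, mul_right_comm, mul_left_inj' Nat.card_pos.ne'] at e3
  rw [e1, mul_comm q, mul_assoc]
  refine Nat.mul_le_mul_left _ (Nat.le_of_mul_le_mul_right ?_ (card_pos' (⁅V, A ⊔ cj g B⁆ ⊓ (V ⊓ 𝐂 A))))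
  rw [mul_right_comm, e3, ← e2]
  exact Nat.mul_le_mul (card_le_of_le (sup_le (le_inf hU (le_centralizer_iff.1 k5)) (inf_le_inf_left _
    (centralizer_anti k1)))) (card_le_of_le (inf_le_inf_left _ (inf_le_inf_left _ (centralizer_anti h4))))

theorem cen_root (k : Geo p V P 𝒟 q Ω) (hγ : γ ∈ Ω) (hA : A ∈ 𝒟) (h1 : A ≤ S) (h2 : S ≤ γ) (hS : IsPGroup p S)
    (hD : D ∈ 𝒟) (h3 : ¬ D ≤ γ) (h4 : ¬ A ≤ 𝐂 D) (h5 : B ≤ S) (h6 : B ≤ 𝐂 ⁅V, A⁆) : B ≤ 𝐂 A := by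
  have bP := h5.trans (h2.trans (k.ptle γ hγ))
  have n : B ≤ 𝐍 A := fun b hb => cj_eq_iff.1 (by
    have c := k.conj A hA b (bP hb)
    have l := cj_le_of_mem h1 (h5 hb)
    refine k.uniq hγ hA (h1.trans h2) c (l.trans h2) (k.comm_of_isP hS hA c h1 l) hD h3 h4 fun e => h4 ?_
    have := k.comm_le_of_comm c hD e
    rw [← cj_eq_of_mem_normalizer (k.nm (bP hb)), ← cj_commutator,
      cj_eq_of_mem_normalizer (centralizer_le_normalizer _ (h6 hb))] at this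
    exact k.comm_of_comm_le hA hD this)
  obtain ⟨⟨a, ha⟩, a1⟩ := ne_bot_iff_exists_ne_one.1 (inf_centralizer_ne_bot (k.isP hA) (hS.to_le h5) n (k.ne_bot hA))
  have c : ⁅B, V⁆ ≤ 𝐂 A := commutator_le.2 fun b hb v hv => k.fix A hA a ha.1 (fun e => a1 (Subtype.ext e)) _
    (comm_mem_symm.1 (k.comm_le bP (commutator_mem_commutator hv hb))) (by
      have e := h6 hb _ (commutator_mem_commutator hv ha.1)
      have e' := ha.2 b hb
      have m := k.comm_le (k.le A hA) (commutator_mem_commutator (inv_mem hv) ha.1)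
      have e2 := elemAb_le_centralizer k.ea hv _ m
      have e3 := elemAb_le_centralizer k.ea (conj_mem_of_mem_normalizer (k.nm (bP hb)) hv) _ m
      have e4 : ⁅b * v * b⁻¹, a⁆ = ⁅v, a⁆ := by
        conv_lhs => rw [← mul_inv_cancel_right a b, ← e', ← conjugate_commutatorElement, ← e, mul_inv_cancel_right]
      rw [commutatorElement_def b, commutatorElement_mul_left_eq_conj_mul, e4, ← e3, mul_inv_cancel_right,
        ← mul_inv_cancel_right ⁅v⁻¹, a⁆ v, e2, ← commutatorElement_mul_left_eq_conj_mul, mul_inv_cancel,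
        commutatorElement_one_left])
  exact commutator_eq_bot_iff'.1 (k.eq_bot ((commutator_le_sup _ _).trans (sup_le (k.le A hA) bP))
    (three_subgroups_centralizer c (le_centralizer_iff.1 h6)))

theorem cop_mod (hR : IsPGroup p R) (h1 : ⁅R, R⁆ ≤ Z) (h2 : Z ≤ R) (h3 : R ≤ H) (h4 : K ≤ H) (h5 : H ≤ 𝐍 Z)
    (h6 : K ≤ 𝐍 R) (hS : IsSyl p S K) (h7 : ⁅R, S⁆ ≤ Z) : (⁅R, K⁆ ⊔ Z) ⊓ 𝐂 K ≤ Z := by
  obtain ⟨_, hk⟩ := exists_quot h5
  generalize QuotientGroup.mk' (Z.subgroupOf H) = f at hk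
  have n : iM f K ≤ 𝐍 (iM f R) := iM_n h6
  have s := iM_syl (f := f) hS h4
  obtain ⟨W, w0, a, b, c⟩ := exists_transfer_complement (V := iM f R) (K := iM f K) (S := iM f K ⊓ 𝐂 (iM f R))
    ((iM_cen hk h3 h3).2 h1) ((hR.comap_of_injective H.subtype H.subtype_injective).map f) n inf_le_left
    (s.not_dvd_relIndex_of_le (le_inf s.le ((iM_cen hk (hS.le.trans h4) h3).2 h7)))
  rw [inf_eq_left.2 (le_centralizer_iff.1 inf_le_right)] at b
  have ab := isMulCommutative_iff'.2 ((iM_cen hk h3 h3).2 h1)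
  have w := commutator_le_of_le_sup_centralizer' b inf_le_right ?_ ((le_inf (le_inf n le_normalizer)
    (le_normalizer_inf le_normalizer (le_normalizer_centralizer n))).trans c)
  · have l := (commutator_le_of_le_normalizer h6).trans h3
    have l2 : (⁅R, K⁆ ⊔ Z) ⊓ 𝐂 K ≤ H := inf_le_left.trans (sup_le l (h2.trans h3))
    rw [← iM_eq_bot hk l2, ← le_bot_iff, ← a]
    refine le_inf ((iM_mono inf_le_left).trans ?_) ((iM_cen hk l2 h4).2 ((commutator_eq_bot_iff'.2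
      inf_le_right).trans_le bot_le))
    rw [iM_sup l (h2.trans h3), iM_comm h3 h4, (iM_eq_bot hk (h2.trans h3)).2 le_rfl]
    exact sup_le w bot_le
  · exact le_normalizer_of_le_comm ab inf_le_left (w0.trans inf_le_left)

theorem n_pbk {X : Subgroup (Hol V)} (hP : P ≤ 𝐍 V) (hK : K ≤ P) (hX : X ≤ mF V P) (h : mF V K ≤ 𝐍 X) :
    K ≤ 𝐍 (pbk V P X) := fun g hg => mem_normalizer_of_cj_le (by
  have l : cj g (pbk V P X) ≤ P := (cj_mono g pbk_le).trans (cj_eq_of_mem (hK hg)).le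
  refine (le_pbk (l.trans hP)).2 ⟨l, ?_⟩
  rw [mF_cj (g := ⟨g, hP (hK hg)⟩) pbk_leN, mF_pbk hX]
  exact (cj_eq_of_mem_normalizer (h (aF_mem_mF hg))).le)

/-- the hypotheses of the pushing up theorem -/
structure PH (p : ℕ) (P T M : Subgroup G) : Prop where
  cp : CharPOf p P
  syl : IsSyl p T P
  um : UMax T M P
  cz : P ⊓ 𝐂 (𝛀 p T) ≤ M
  fr : Free P (𝐁 p T)

namespace PH
variable (h : PH p P T M)
include h
theorem ne : T ≠ ⊥ := fun e => h.um.lt.not_ge ((le_inf le_rfl (le_centralizer_iff.1 ((oc_le p T).trans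
  (e.le.trans bot_le)))).trans h.cz)
theorem nM (h1 : U ≤ 𝐁 p T) (h2 : (U.subgroupOf (𝐁 p T)).Characteristic) (h3 : U ≠ ⊥) : P ⊓ 𝐍 U ≤ M := by
  have := H17.normalizer_le_map_char (U.subgroupOf (𝐁 p T))
  rw [map_subgroupOf_eq_of_le h1] at this
  exact h.um.all _ (le_inf h.syl.le ((n_bau le_normalizer).trans this))
    (lt_of_le_of_ne inf_le_left fun e => h3 (h.fr U h1 h2 (e.ge.trans inf_le_right)))
theorem J0 : 𝐉𝐉 p T ≠ ⊥ := fun e => omegaOne_center_ne_bot h.syl.isP h.ne (le_bot_iff.1 (((le_y (oc_ea p T) (oc_le _ _)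
  ((oc_le_c _ _).trans (centralizer_anti (thompsonOf_le _ _)))).trans (oc_le _ _)).trans e.le))
theorem nJM : P ⊓ 𝐍 (𝐉𝐉 p T) ≤ M := h.nM (j_le_bau T) (j_eq le_rfl (bau_le T) ▸ char_J _) h.J0
theorem nBM : P ⊓ 𝐍 (𝐁 p T) ≤ M := (inf_le_inf_left _ (by
  rw [← j_eq le_rfl (bau_le T)]; exact normalizer_le_normalizer_thompsonOf _ _)).trans h.nJM
theorem QT : 𝐎 p P ≤ T := h.syl.pCoreOf_le
theorem nQ : P ≤ 𝐍 (𝐎 p P) := le_normalizer_pCoreOf _ _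
theorem nV : P ≤ 𝐍 (VV p P) := le_n_oc h.nQ
theorem VQ : VV p P ≤ 𝐎 p P := oc_le _ _
theorem QV : 𝐎 p P ≤ 𝐂 (VV p P) := le_c_oc _ _
theorem Vea : IsElementaryAbelian p (VV p P) := oc_ea _ _
theorem VT : VV p P ≤ T := h.VQ.trans h.QT
theorem QP : 𝐎 p P ≤ P := pCoreOf_le _ _
theorem BP : 𝐁 p T ≤ P := (bau_le T).trans h.syl.le
theorem zV : 𝛀 p T ≤ VV p P := (oc_eq h.cp h.syl).le.trans inf_le_left
theorem CM : P ⊓ 𝐂 (VV p P) ≤ M := (inf_le_inf_left _ (centralizer_anti h.zV)).trans h.cz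
theorem nC : P ≤ 𝐍 (P ⊓ 𝐂 (VV p P)) := le_normalizer_inf le_normalizer (le_normalizer_centralizer h.nV)
theorem cV : T ⊓ 𝐂 (VV p P) = 𝐎 p P := inf_cen_eq h.nV h.syl h.um h.QV h.CM
theorem sylC : IsSyl p (𝐎 p P) (P ⊓ 𝐂 (VV p P)) := by
  have := h.syl.inf_of_normal h.nC inf_le_left
  rwa [← inf_assoc, inf_eq_left.2 h.syl.le, h.cV] at this
theorem hyp : PM p (mI (VV p P) (VV p P)) (mF (VV p P) P) (mF (VV p P) T) (mF (VV p P) M) ∧ ¬ 𝐉𝐉 p T ≤ 𝐂 (VV p P) :=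
  let ⟨a1, _, a3, a4, a5, a6, a7⟩ := cp_hyp h.cp h.syl h.um h.cz (fun e => h.um.lt.not_ge ((le_inf le_rfl e).trans h.nJM)) rfl
  ⟨pm_mF a1 a3 h.syl h.um a4 a5 a6, a7⟩
theorem le_M {X : Subgroup (Hol (VV p P))} (h1 : X ≤ mF (VV p P) M) : pbk (VV p P) P X ≤ M :=
  (le_of_mF_le pbk_le h.nV h.um.lt.le ((mF_pbk (h1.trans (mF_mono h.um.lt.le))).le.trans h1)).trans (sup_le le_rfl h.CM)
theorem off (hA : A ∈ MaxEA p T) : IsElementaryAbelian p (mF (VV p P) A) ∧ Nat.card (mI (VV p P) (VV p P)) ≤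
    Nat.card (mF (VV p P) A) * Nat.card ↥(mI (VV p P) (VV p P) ⊓ 𝐂 (mF (VV p P) A)) := by
  have := (best_mF ((MaxEA.le hA).trans (h.syl.le.trans h.nV)) (MaxEA.isBestOffenderOn hA h.VT h.Vea)).1 ⊥ bot_le
  rw [card_bot, one_mul, centralizer_bot', inf_top_eq] at this
  exact ⟨elemAb_map ((elemAb_map_iff (𝐍 (VV p P)).subtype_injective).1
    (elemAb_mono (MaxEA.elemAb hA) (map_comap_le _ _))) _, this⟩
theorem root : ∃ A ≤ mF (VV p P) (𝐉𝐉 p T), MO p (mI (VV p P) (VV p P)) (mF (VV p P) P) A := by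
  obtain ⟨A, hA, h1⟩ : ∃ A ∈ MaxEA p T, ¬ A ≤ 𝐂 (VV p P) := by
    by_contra! k; exact h.hyp.2 (thompsonOf_le_iff.2 k)
  have l := (MaxEA.le hA).trans h.syl.le
  obtain ⟨B, a, b, -⟩ := exists_mo (mF_mono l) (h.off hA).1 (mt (mF_eq_bot (l.trans h.nV)).1 h1) (h.off hA).2
  exact ⟨B, a.trans (mF_mono (MaxEA.le_thompsonOf hA)), b⟩

theorem rep (hA : A ∈ MaxEA p T) : VV p P ⊔ A ⊓ 𝐎 p P ∈ MaxEA p T := by
  have aS := MaxEA.le hA
  have aN := aS.trans (h.syl.le.trans h.nV)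
  refine MaxEA.of_card_ge hA (sup_le h.VT (inf_le_left.trans aS)) (elemAb_sup h.Vea (elemAb_mono (MaxEA.elemAb hA)
    inf_le_left) (le_centralizer_iff.1 (inf_le_right.trans h.QV))) ?_
  have c3 := card_sup_mul_card_inf (H := A ⊓ 𝐎 p P) (inf_le_right.trans (h.QP.trans h.nV))
  obtain ⟨B, -, hB⟩ := h.root
  have c4 := (h.hyp.1.geo hB).nov _ (mF_mono (aS.trans h.syl.le)) (h.off hA).1
  have c5 := card_mF aN
  rw [← mI_inf_centralizer le_rfl aN, card_mI le_rfl, card_mI inf_le_left, MaxEA.inf_centralizer_eq hA h.VT h.Vea] at c4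
  rw [← inf_eq_left.2 aS, inf_assoc, h.cV, inf_eq_left.2 aS] at c5
  rw [inf_assoc, inf_eq_right.2 h.VQ, inf_comm A (VV p P), sup_comm] at c3
  refine Nat.le_of_mul_le_mul_right ?_ (card_pos' (VV p P ⊓ A))
  rw [c3, ← c5, mul_right_comm, mul_comm]
  exact Nat.mul_le_mul_left _ c4
theorem repQ (hA : A ∈ MaxEA p T) : VV p P ⊔ A ⊓ 𝐎 p P ∈ MaxEA p (𝐎 p P) :=
  MaxEA.of_le (h.rep hA) (sup_le h.VQ inf_le_right) h.QT
theorem jQ : 𝐉𝐉 p (𝐎 p P) ≤ 𝐉𝐉 p T :=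
  let ⟨_, hA⟩ := exists_maxEA p T
  thompsonOf_mono_of_exists (h.rep hA) (MaxEA.le (h.repQ hA)) h.QT
theorem VJ : VV p P ≤ 𝐉𝐉 p (𝐎 p P) :=
  let ⟨_, hA⟩ := exists_maxEA p T
  le_sup_left.trans (MaxEA.le_thompsonOf (h.repQ hA))
theorem VB : VV p P ≤ 𝐁 p T := h.VJ.trans (h.jQ.trans (j_le_bau T))
theorem u_le : VV p P ⊔ 𝛀 p (𝐉𝐉 p T) ≤ 𝛀 p (𝐉𝐉 p (𝐎 p P)) := by
  obtain ⟨A, hA⟩ := exists_maxEA p T
  exact sup_le (le_oc h.Vea h.VJ (le_centralizer_iff.1 ((thompsonOf_le _ _).trans h.QV)))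
    (le_oc (oc_ea _ _) ((y_le (h.rep hA)).trans (MaxEA.le_thompsonOf (h.repQ hA)))
      ((oc_le_c _ _).trans (centralizer_anti h.jQ)))
theorem z_comm : ⁅𝛀 p (𝐉𝐉 p (𝐎 p P)), 𝐉𝐉 p T⁆ ≤ VV p P :=
  (le_commStab_iff' (le_sup_left.trans h.u_le)).1 (thompsonOf_le_iff.2 fun A hA =>
    (le_commStab_iff' (le_sup_left.trans h.u_le)).2 (commutator_le_of_le_sup_centralizer' (y_le (h.repQ hA))
      (inf_le_left.trans (elemAb_le_centralizer (MaxEA.elemAb hA))) (inf_le_right.trans (h.QP.trans h.nV))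
      ((MaxEA.le hA).trans (h.syl.le.trans h.nV))))
theorem nZ : P ≤ 𝐍 (VV p P ⊔ 𝛀 p (𝐉𝐉 p T)) := by
  have l := le_sup_left.trans h.u_le
  have n := le_normalizer_inf le_normalizer (le_normalizer_commStab (n_y (p := p) h.nQ) h.nV)
  refine h.syl.le_of_pResidualOf_le (le_normalizer_of_commutator_le ((commutator_mono h.u_le le_rfl).trans
    (le_sup_of_le_left ((le_commStab_iff' l).1 (((h.um.le_or_pResidualOf_le h.syl inf_le_left n).resolve_left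
      fun e => h.hyp.2 ?_).trans inf_le_right))))) (le_normalizer_sup (h.syl.le.trans h.nV) (n_y le_normalizer))
  exact ((le_inf (thompsonOf_le _ _) (le_inf ((thompsonOf_le _ _).trans h.syl.le) ((le_commStab_iff' l).2
    h.z_comm))).trans (le_pCoreOf (h.syl.isP.to_le inf_le_left) (inf_le_left.trans h.syl.le)
      (h.um.le_normalizer_inf h.syl e n))).trans h.QV
theorem QB_eq : 𝐁 p T ⊓ 𝐎 p P = 𝐎 p P ⊓ 𝐂 (VV p P ⊔ 𝛀 p (𝐉𝐉 p T)) := by
  rw [centralizer_sup', ← inf_assoc, inf_eq_left.2 h.QV, bau_def, inf_right_comm, inf_eq_right.2 h.QT]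
theorem nR : P ≤ 𝐍 (𝐁 p T ⊓ 𝐎 p P) := h.QB_eq ▸ le_normalizer_inf h.nQ (le_normalizer_centralizer h.nZ)
theorem cR : 𝐎 p P ⊓ 𝐂 (𝐁 p T ⊓ 𝐎 p P) ≤ 𝐁 p T ⊓ 𝐎 p P := by
  have l : VV p P ⊔ 𝛀 p (𝐉𝐉 p T) ≤ 𝐁 p T ⊓ 𝐎 p P := le_inf (sup_le h.VB ((oc_le _ _).trans (j_le_bau T)))
    (h.u_le.trans ((oc_le _ _).trans (thompsonOf_le _ _)))
  exact (inf_le_inf_left _ (centralizer_anti l)).trans h.QB_eq.ge
theorem QB : ⁅𝐎 p P, 𝐁 p T⁆ ≤ 𝐁 p T ⊓ 𝐎 p P := le_inf (commutator_le_of_le_normalizer' (h.QT.trans (n_bau le_normalizer)))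
  (commutator_le_of_le_normalizer (h.BP.trans h.nQ))
theorem QL : ⁅𝐎 p P, ncl (𝐁 p T) P⁆ ≤ 𝐁 p T ⊓ 𝐎 p P :=
  (le_commStab_iff' inf_le_right).1 (ncl_le ((le_commStab_iff' inf_le_right).2 h.QB) (le_normalizer_commStab h.nQ h.nR))
theorem le_Q (h1 : N ≤ P ⊓ 𝐂 (VV p P)) (h2 : pResidualOf p N ≤ 𝐂 (𝐎 p P)) : N ≤ 𝐎 p P :=
  h.sylC.le_of_le_normalizer' (isPGroup_of_pResidualOf_le (isPGroup_pCoreOf p P) ((le_inf ((pResidualOf_le _ _).trans
    (h1.trans inf_le_left)) h2).trans h.cp)) h1 ((h1.trans inf_le_left).trans h.nQ)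

theorem cnorm (b : TB p P T E) (h1 : phi p (𝐁 p T ⊓ 𝐎 p P) ≤ 𝐂 E) : P ⊓ 𝐂 (VV p P) ≤ 𝐍 E := by
  set C := P ⊓ 𝐂 (VV p P)
  set R := 𝐁 p T ⊓ 𝐎 p P
  set K := pResidualOf p ⁅C, E⁆
  have nC : P ≤ 𝐍 C := h.nC
  have l1 : ⁅C, E⁆ ≤ C := commutator_le_of_le_normalizer (b.le.trans nC)
  have kC : K ≤ C := (pResidualOf_le _ _).trans l1
  have kP : K ≤ P := kC.trans inf_le_left
  have eL : ⁅C, E⁆ ≤ ncl (𝐁 p T) P := (commutator_mono le_rfl (b.cb.ge.trans ((commutator_comm _ _).le.trans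
    ((commutator_mono le_rfl b.le).trans (commutator_le_ncl _ _))))).trans
      (commutator_le_of_le_normalizer' (inf_le_left.trans (le_normalizer_ncl _ _)))
  have qK : ⁅𝐎 p P, K⁆ ≤ R := (commutator_mono le_rfl ((pResidualOf_le _ _).trans eL)).trans h.QL
  have rP : R ≤ P := inf_le_right.trans h.QP
  have pR : IsPGroup p R := (isPGroup_pCoreOf p P).to_le inf_le_right
  have nF : P ≤ 𝐍 (phi p R) := h.nR.trans (normalizer_le_normalizer_phi _ _)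
  have nK : ∀ X ≤ P, X ≤ 𝐍 E → X ≤ 𝐍 K := fun X a c =>
    le_normalizer_pResidualOf_of_le (le_normalizer_commutator (a.trans nC) c)
  have cK : C ≤ 𝐍 K := le_normalizer_pResidualOf_of_le (le_normalizer_commutator_left _ _)
  have s := h.sylC.inf_of_normal cK kC
  have s1 : 𝐎 p P ⊓ K ≤ R := fun c hc => mem_of_transfer_res s ((commutator_mono inf_le_left inf_le_right).trans qK) hc
    (fun t ht => ⟨commutator_le_of_le_normalizer (le_normalizer_inf (kP.trans h.nQ) le_normalizer)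
      (commutator_mem_commutator (inv_mem hc) ht), qK (commutator_mem_commutator (inv_mem hc.1) ht)⟩)
    ((pResidualOf_pResidualOf _ _).ge hc.2)
  have cm := cop_mod pR (commutator_le_phi p R) (phi_le p R) rP kP nF (kP.trans h.nR) s
    ((commutator_mono le_rfl s1).trans (commutator_le_phi p R))
  set D := ⁅R, K⁆ ⊔ phi p R
  have dR : D ≤ R := sup_le (commutator_le_of_le_normalizer (kP.trans h.nR)) (phi_le p R)
  have nD : ∀ X ≤ P, X ≤ 𝐍 K → X ≤ 𝐍 D := fun X a c =>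
    le_normalizer_sup (le_normalizer_commutator (a.trans h.nR) c) (a.trans nF)
  have eD := nD E b.le (nK E b.le le_normalizer)
  have d1 : ⁅D, E⁆ ≤ 𝐎 p E := (commutator_mono (dR.trans inf_le_right) le_rfl).trans (b.OE.trans inf_le_left)
  have d2 : ⁅D, E⁆ ⊓ VV p E ≤ 𝐂 E := by_contra fun e => b.nW ((le_inf ((b.W_le inf_le_right (le_normalizer_inf
    (le_normalizer_commutator_right _ _) (le_normalizer.trans (nVE E))) e).trans (inf_le_left.trans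
      (commutator_le_of_le_normalizer eD))) (b.WVH.trans (le_centralizer_iff.1 (kC.trans inf_le_right)))).trans
        (cm.trans h1))
  have d3 := b.qa _ d1 (le_normalizer_commutator_right _ _) (.inr ⟨le_normalizer_commutator (nD _ h.BP
    (nK _ h.BP b.nB)) b.nB, d2⟩)
  have d4 : D ≤ 𝐂 E := b.cen_of ((isPGroup_pCoreOf p E).to_le d1) ((le_inf le_rfl d3).trans d2)
  have d5 : K ≤ 𝐂 D := (pResidualOf_le _ _).trans (((commutator_comm _ _).le.trans (commutator_le_ncl _ _)).trans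
    (ncl_le_centralizer (le_centralizer_iff.1 d4) (nD _ inf_le_left cK)))
  have d6 : K ≤ 𝐂 (𝐎 p P) := le_centralizer_of_selfCentralizing (isPGroup_pCoreOf p P) (pResidualOf_pResidualOf _ _)
    (kP.trans h.nQ) inf_le_right h.cR (le_centralizer_of_stab (pResidualOf_pResidualOf _ _) (pR.to_le dR) le_sup_left d5)
  exact b.norm_of inf_le_left (isPGroup_pCoreOf p P) ((commutator_comm _ _).le.trans (h.le_Q l1 d6)) b.nO

set_option hygiene false in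
local notation "𝕍" => VV p P

/-- a rank one subgroup over `B(T)` belonging to the root `A` and its partner `D` -/
theorem rank1 {A D : Subgroup (Hol 𝕍)} {𝒟 : Set (Subgroup (Hol 𝕍))}
    (k : Geo p (mI 𝕍 𝕍) (mF 𝕍 P) 𝒟 q {γ | ∃ g ∈ mF 𝕍 P, cj g (mF 𝕍 M) = γ})
    (hm : ∀ A, MO p (mI 𝕍 𝕍) (mF 𝕍 P) A → A ∈ 𝒟) (hA : A ∈ 𝒟) (h1 : A ≤ mF 𝕍 (𝐉𝐉 p T))
    (hD : D ∈ 𝒟) (h2 : ¬ D ≤ mF 𝕍 M) (h3 : ¬ A ≤ 𝐂 D) :
    ∃ L N, L ≤ P ∧ LB p L (𝐁 p T) ∧ ¬ pResidualOf p L ≤ M ∧ A ⊔ D ≤ mF 𝕍 L ∧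
      mF 𝕍 (pResidualOf p L) ≤ A ⊔ D ∧ mF 𝕍 (𝐁 p T) ≤ A ⊔ N ∧ N ≤ 𝐂 (A ⊔ D) ∧
      N ≤ 𝐂 ⁅mI 𝕍 𝕍, A ⊔ D⁆ ∧ N ≤ mF 𝕍 (𝐁 p T) ∧ 𝐁 p T ⊓ 𝐎 p P ≤ 𝐎 p L := by
  have pm := h.hyp.1
  have tN := h.syl.le.trans h.nV
  have jT := thompsonOf_le p T
  have bT : mF 𝕍 (𝐁 p T) ≤ mF 𝕍 T := mF_mono (bau_le T)
  have aB := h1.trans (mF_mono (j_le_bau T))
  have c1 : mF 𝕍 (𝐉𝐉 p T) ≤ 𝐂 ⁅mI 𝕍 𝕍, A⁆ := (mF_le_iff (jT.trans tN)).2 (thompsonOf_le_iff.2 fun X hX =>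
    (mF_le_iff ((MaxEA.le hX).trans tN)).1 ((le_JJ' pm k (mF_mono ((MaxEA.le hX).trans h.syl.le)) (h.off hX).1
      (h.off hX).2 hm).trans ((JJ_le_iff.2 fun C hC e => le_JJ hC (e.trans (mF_mono (MaxEA.le hX)))).trans
        (le_centralizer_iff.1 (k.comm_le_JJ pm.syl.isP hA (aB.trans bT))))))
  obtain ⟨A₀, a1, a2, -, rfl⟩ := exists_mF h1
  rw [← mI_commutator le_rfl a2] at c1
  have va : ⁅𝕍, A₀⁆ ≤ 𝕍 := commutator_le_of_le_normalizer a2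
  have c2 : mF 𝕍 (𝐁 p T) ≤ 𝐂 ⁅mI 𝕍 𝕍, mF 𝕍 A₀⁆ := by
    rw [← mI_commutator le_rfl a2, mF_le_centralizer va ((bau_le T).trans tN)]
    exact inf_le_right.trans (centralizer_anti (le_y (elemAb_mono h.Vea va) (va.trans h.VT)
      (le_centralizer_iff.1 ((mF_le_centralizer va (jT.trans tN)).1 c1))))
  generalize mF 𝕍 A₀ = A at *
  have c3 := cen_root k PM.mem_pts hA (aB.trans bT) pm.um.le pm.syl.isP hD h2 h3 bT c2
  have pB := pm.syl.isP.to_le bT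
  obtain ⟨N, n1, n2, -, n4, n5⟩ := k.decomp PM.mem_pts hA hD h2 h3 pB aB (bT.trans pm.um.le) c3
  have g := k.good PM.mem_pts hA (aB.trans (bT.trans pm.um.le)) hD h2 h3
  have lP : A ⊔ D ≤ mF 𝕍 P := sup_le (k.le A hA) (k.le D hD)
  have nP := n1.trans (bT.trans pm.syl.le)
  have e1 : A ⊔ N = mF 𝕍 (𝐁 p T) := le_antisymm (sup_le aB n1) n2
  have s1 : IsSyl p (mF 𝕍 (𝐁 p T)) (A ⊔ D ⊔ N) := e1 ▸ (g.std k.toFam hA le_sup_left).1.sup (isSyl_self (pB.to_le n1))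
    (le_normalizer_of_le_centralizer (le_centralizer_iff.1 n4)) (e1.symm ▸ pB)
  set K := pbk 𝕍 P (A ⊔ D ⊔ N)
  have mK : mF 𝕍 K = A ⊔ D ⊔ N := mF_pbk (sup_le lP nP)
  set S := 𝐁 p T ⊔ 𝐎 p P
  have sT : S ≤ T := sup_le (bau_le T) h.QT
  have mS : mF 𝕍 S = mF 𝕍 (𝐁 p T) := by
    rw [mF_sup ((bau_le T).trans tN) (h.QT.trans tN), (mF_eq_bot (h.QT.trans tN)).2 h.QV, sup_bot_eq]
  have sK : S ≤ K := (le_pbk (sT.trans tN)).2 ⟨sT.trans h.syl.le, mS.le.trans s1.le⟩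
  have s2 : IsSyl p S K := ⟨sK, h.syl.isP.to_le sT, fun Y y1 y2 y3 => by
    have yP := y3.trans pbk_le
    have := le_inf (le_of_mF_le yP h.nV (sT.trans h.syl.le) ((s1.max _ ((y1.comap_of_injective _
      (𝐍 𝕍).subtype_injective).map _) (mS.ge.trans (mF_mono y2)) ((mF_mono y3).trans mK.le)).trans mS.ge)) le_rfl
    rw [dedekind_left y2 ((sT.trans h.syl.le).trans h.nC)] at this
    exact this.trans (sup_le le_rfl (le_sup_of_le_right (h.sylC.le_of_le_normalizer' (y1.to_le inf_le_right) inf_le_left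
      ((inf_le_right.trans yP).trans h.nQ))))⟩
  obtain ⟨H, hK, ⟨sH, hM⟩, mn⟩ := exists_minimal_le (Q := fun H => S ≤ H ∧ ¬ H ≤ M) K ⟨sK, fun e =>
    h2 ((le_sup_right.trans le_sup_left).trans (mK.ge.trans (mF_mono e)))⟩
  have hP := hK.trans pbk_le
  have hu : UMax S (H ⊓ M) H := ⟨le_inf sH (sT.trans h.um.le), lt_of_le_of_ne inf_le_left fun e =>
    hM (e.ge.trans inf_le_right), fun Y y1 y2 => le_inf y2.le (by_contra fun e => y2.ne (mn Y y2.le ⟨y1, e⟩))⟩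
  have s3 := s2.mono sH hK
  have key : ∀ Y ≤ mF 𝕍 (𝐁 p T), mF 𝕍 H ≤ 𝐍 Y → S ⊓ pbk 𝕍 P Y ≤ 𝐎 p H := fun Y y1 y2 =>
    (le_inf inf_le_left (inf_le_inf_right _ sH)).trans (le_pCoreOf (s3.isP.to_le inf_le_left) (inf_le_left.trans sH)
      (hu.le_normalizer_inf s3 (inf_le_inf_left _ (h.le_M (y1.trans (bT.trans pm.um.le)))) (le_normalizer_inf
        le_normalizer (n_pbk h.nV hP (y1.trans (bT.trans pm.syl.le)) y2))))
  have nN : A ⊔ D ⊔ N ≤ 𝐍 N := sup_le (le_normalizer_of_le_centralizer (le_centralizer_iff.1 n4)) le_normalizer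
  have mH : mF 𝕍 H ≤ A ⊔ D ⊔ N := (mF_mono hK).trans mK.le
  have eB : 𝐁 p S = 𝐁 p T := bau_eq le_sup_left sT
  have eJ : 𝐉𝐉 p S = 𝐉𝐉 p T := j_eq le_sup_left sT
  have ss : ⁅S, S⁆ ≤ S := commutator_le_of_le_normalizer le_normalizer
  have qH : 𝐎 p P ≤ 𝐎 p H := le_pCoreOf (isPGroup_pCoreOf _ _) (le_sup_right.trans sH) (hP.trans h.nQ)
  have r : RK p H S := by
    refine ⟨h.cp.of_local (isPGroup_pCoreOf p P) hP (le_sup_right.trans sH) (hP.trans h.nQ)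
      (inf_le_left.trans (le_sup_right.trans sH)), s3, ⟨_, hu⟩, (le_inf ss ((le_pbk (ss.trans (sT.trans tN))).2
        ⟨ss.trans (sT.trans h.syl.le), ?_⟩)).trans (key N n1 (mH.trans nN)), fun e => hM ((le_inf hP (e.trans
          (centralizer_anti (le_oc (oc_ea _ _) (h.zV.trans (h.VQ.trans le_sup_right)) ((oc_le_c _ _).trans
            (centralizer_anti sT)))))).trans h.cz), fun e => hM ((le_inf hP ?_).trans h.nJM)⟩
    · rw [mF_commutator (sT.trans tN) (sT.trans tN), mS]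
      exact commutator_le_of_le_sup_centralizer' (n2.trans (sup_comm _ _).le) (le_centralizer_iff.1 c3)
        ((le_sup_left.trans le_sup_left).trans nN) (s1.le.trans nN)
    · rw [← eJ, ← thompsonOf_eq_of_le e s3.pCoreOf_le]
      exact (le_normalizer_pCoreOf _ _).trans (normalizer_le_normalizer_thompsonOf _ _)
  have r1 := r.rkL
  have r2 := r.nLM hu
  have r3 := r.coreL
  have r4 := r.LG
  rw [eB] at r1 r2 r3 r4
  set L := ncl (𝐁 p T) H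
  have r5 : ¬ L ≤ M := fun e => r2 (le_inf r4 e)
  refine ⟨L, N, r4.trans hP, r1.lb fun U u1 u2 u3 => by_contra fun e => r5 ((le_inf (r4.trans hP) u3).trans (h.nM u1 u2 e)),
    fun e => r5 (r1.syl.le_of_pResidualOf_le e ((bau_le T).trans h.um.le)), ?_, ?_, n2, n4, n5, n1,
    r3 ▸ inf_le_inf_left _ qH⟩
  · obtain ⟨_, ⟨x, hx, rfl⟩, x1⟩ := SetLike.not_le_iff_exists.1 fun e : mF 𝕍 H ≤ 𝐍 A => r.nSQ ((le_inf le_rfl
      ((le_pbk (sT.trans tN)).2 ⟨sT.trans h.syl.le, mS.le⟩)).trans (key _ le_rfl (e1 ▸ le_normalizer_sup e (mH.trans nN))))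
    have n6 : A ⊔ D ⊔ N ≤ 𝐍 (A ⊔ D) := sup_le le_normalizer (le_normalizer_of_le_centralizer n4)
    rw [← g.sup_eq k.toFam hA le_sup_left (k.conj A hA _ (mF_mono hP (aF_mem_mF hx)))
      (cj_le_of_mem_normalizer le_sup_left (n6 (mH (aF_mem_mF hx)))) fun e => x1 (cj_eq_iff.1 e.symm)]
    refine sup_le (aB.trans (mF_mono (le_ncl _ _))) ((cj_mono _ aB).trans ?_)
    rw [← mF_cj ((bau_le T).trans tN)]
    exact mF_mono (cj_le_ncl hx)
  · rw [mF, ← pResidualOf_subgroupOf ((r4.trans hP).trans h.nV), map_pResidualOf]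
    exact (pResidualOf_mono ((mF_mono r4).trans mH)).trans (pResidualOf_sup_le' (pB.to_le n1)
      (le_normalizer_of_le_centralizer n4))
end PH

end H118
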