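import Cfsg.Agent.H18.FE4
/-! Local facts of the geometry of `Ge S V z`: `Mo` at every point, `swap`, `nc`, `j3`, `pt'`. -/
set_option autoImplicit false
namespace H118
open Cfsg Subgroup H26 H4
open scoped Pointwise commutatorElement

variable {G : Type*} [Group G]

/-- the intersection of the `U(s)`, `s` on the line `l` -/
def Jl (V l : Subgroup G) : Subgroup G := sInf {X | ∃ p ∈ l, p ≠ 1 ∧ X = Up V p}

theorem mem_Jl {V l : Subgroup G} {i : G} : i ∈ Jl V l ↔ ∀ p ∈ l, p ≠ 1 → i ∈ Up V p := by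
  rw [Jl, Subgroup.mem_sInf]
  exact ⟨fun h p a b => h _ ⟨p, a, b, rfl⟩, fun h _ ⟨p, a, b, e⟩ => e ▸ h p a b⟩

theorem n_le_n_Jl [Finite G] (V l : Subgroup G) : 𝐍 l ≤ 𝐍 (Jl V l) := fun g hg =>
  mem_normalizer_of_conj_mem fun x hx => mem_Jl.2 fun p hp p1 => by
    have := conj_mem_cj g (mem_Jl.1 hx _ (conj_mem_of_mem_normalizer' hg hp) fun k => p1 (conj_ne_one_aux k))
    rwa [cj_Up, show g * (g⁻¹ * p * g) * g⁻¹ = p by group] at this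

theorem sol_ind {Y : Subgroup G} (hs : Group.IsSolvable Y) (P : Subgroup G → Prop) (h : P Y)
    (hP : ∀ N ≤ Y, Y ≤ 𝐍 N → P N → P ⁅N, N⁆) : P ⊥ := by
  obtain ⟨n, hn⟩ := hs.solvable
  have key : ∀ k, P ((derivedSeries Y k).map Y.subtype) := fun k => by
    induction k with
    | zero => rwa [derivedSeries_zero, map_subtype_top]
    | succ k ih =>
      rw [derivedSeries_succ, map_commutator]
      exact hP _ (map_subtype_le _) (normal_iff_le_normalizer_map_subtype.1 inferInstance) ih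
  have := key n
  rwa [hn, Subgroup.map_bot] at this

variable [Finite G] {S V : Subgroup G} {z : G}

namespace Mo
variable {U H T N : Subgroup G} {y e t a u v w : G} (h : Mo y U H T) (i : In H T e t)
include h i

theorem indep (hu : u ∈ U) (hv : v ∈ U) (h1 : u * v ∉ Ce U e) (h2 : ∃ σ ∈ T, ⁅σ, u⁆ = y) :
    ∃ τ ∈ T, ⁅τ, u⁆ = y ∧ ⁅τ, v⁆ = 1 := by
  obtain ⟨τ, hτ, e1⟩ := h.exists_T i (mul_mem hu hv) h1
  obtain ⟨σ, hσ, e2⟩ := h2
  have yy := h.sq h.yU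
  rw [h.comm_mul (h.TH hτ) hu hv] at e1
  rcases mem_two yy (h.Tc hτ hv) with k | k
  · exact ⟨τ, hτ, by rwa [k, mul_one] at e1, k⟩
  rcases mem_two yy (h.Tc hσ hv) with k' | k'
  · exact ⟨σ, hσ, e2, k'⟩
  rw [k, mul_eq_right] at e1
  exact ⟨σ * τ, mul_mem hσ hτ, by rw [comm_mul_left, e1, e2]; simp,
    by rw [comm_mul_left, k, k', h.fixZ (h.TH hσ) (mem_zpowers y), yy]⟩

theorem fact (h1 : a * t ∈ T) : ⁅a, e⁆ * (e * e) ∈ T := by
  rw [show ⁅a, e⁆ * (e * e) = (a * t) * (t⁻¹ * e * t) * (a * t)⁻¹ * e by group, inv_eq_of_mul_eq_one_right i.tt,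
    show t * e * t = e⁻¹ by rw [← i.inv, inv_eq_of_mul_eq_one_right i.tt],
    show a * t * e⁻¹ * (a * t)⁻¹ * e = a * t * (e⁻¹ * (a * t)⁻¹ * e) by group]
  exact mul_mem h1 (conj_mem_of_mem_normalizer' (h.nT (eH i)) (inv_mem h1))

theorem mem_fact (h1 : a * t ∈ T) : e ∈ zpowers ⁅a, e⁆ ⊔ T :=
  mem_of_sq_mem i.od ((mul_mem_cancel_left (mem_sup_left (mem_zpowers _))).1 (mem_sup_right (h.fact i h1)))

theorem cover {X : Subgroup G} (hn : X ≤ 𝐍 N) (hU : U ≤ X) (he : e ∈ X) (ha : a ∈ N) (h1 : a * t ∈ T)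
    (hw : w ∈ We U e) : ∃ w' ∈ ⁅N, N⁆, w' ∈ U ∧ w * w' ∈ zpowers y := by
  have aH : a ∈ H := (mul_mem_cancel_right i.tH).1 (h.TH h1)
  have fH : ⁅a, e⁆ ∈ H := commutator_le_of_le_normalizer le_normalizer (commutator_mem_commutator aH (eH i))
  have fN : ⁅a, e⁆ ∈ N := commutator_le_of_le_normalizer hn (commutator_mem_commutator ha he)
  have m := h.mem_fact i h1
  have W := h.We_le fH
  have W2 : ⁅We U ⁅a, e⁆, zpowers ⁅a, e⁆⁆ ≤ We U ⁅a, e⁆ := commutator_le_of_le_normalizer (zpowers_le.2 e_nW)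
  have k : ⁅We U ⁅a, e⁆, zpowers ⁅a, e⁆⁆ ⊔ zpowers y ≤ We U ⁅a, e⁆ ⊔ zpowers y := sup_le_sup_right W2 _
  have e1 : We U e ≤ ⁅We U ⁅a, e⁆, zpowers ⁅a, e⁆⁆ ⊔ zpowers y := by
    refine (h.We_comm (eH i) i.od).ge.trans ((commutator_mono (le_sup_left.trans (h.WZ_mono fH m)) le_rfl).trans
      ((le_commStab_iff' k).1 ((zpowers_le.2 m).trans (sup_le ((le_commStab_iff' k).2 ?_) fun x hx =>
        mem_cs k fun u hu => mem_sup_right (h.Tc hx (h.WZ_le fH hu))))))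
    rw [commutator_sup_eq_of_comm h.ea.1 (zpowers_le.2 (h.HU fH)) W h.ZU]
    exact sup_le_sup_left (commutator_le_of_le_normalizer (zpowers_le.2 (h.HZ fH))) _
  obtain ⟨w', hw', z, hz, rfl⟩ := (mem_sup_of_le_normalizer ((W2.trans W).trans (h.le_n h.ZU))).1 (e1 hw)
  refine ⟨w', commutator_mono ((commutator_mono le_rfl (zpowers_le.2 fN)).trans
    (commutator_le_of_le_normalizer' (hU.trans hn))) (zpowers_le.2 fN) hw', W (W2 hw'), ?_⟩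
  rwa [h.cm (W (W2 hw')) (h.ZU hz), mul_assoc, h.sq (W (W2 hw')), mul_one]

end Mo

namespace Ge
variable (h : Ge S V z) {l m : Subgroup G} {p q r g x e a i : G} {n : ℕ}
include h

theorem trans2 (hl : Ln V l) (hp : p ∈ l) (p1 : p ≠ 1) (hm : Ln V m) (hq : q ∈ m) (q1 : q ≠ 1) :
    ∃ g, cj g l = m ∧ g * p * g⁻¹ = q := by
  obtain ⟨a, rfl, rfl⟩ := h.trans hl hp p1
  obtain ⟨b, rfl, rfl⟩ := h.trans hm hq q1
  exact ⟨b * a⁻¹, by rw [cj_mul, cj_inv_cj], by group⟩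

theorem exists_syl (hl : Ln V l) (hp : p ∈ l) (p1 : p ≠ 1) : ∃ P, IsSyl 2 P ⊤ ∧ P ≤ 𝐍 l ∧ oz P = zpowers p := by
  obtain ⟨a, rfl, rfl⟩ := h.trans hl hp p1
  exact ⟨cj a S, h.syl.cj_of_mem (mem_top a), cj_normalizer a V ▸ cj_mono a h.le, by rw [← cj_oz, h.zeq, cj_zpowers]⟩

theorem le_n_all {K : Subgroup G} (hl : Ln V l) (hp : p ∈ l) (p1 : p ≠ 1) (hn : 𝐂 (zpowers p) ≤ 𝐍 K) (h1 : K ≤ 𝐍 l)
    (hm : Ln V m) (hq : p ∈ m) : K ≤ 𝐍 m := by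
  obtain ⟨g, rfl, e⟩ := h.trans2 hl hp p1 hm hq p1
  rw [← cj_normalizer, ← cj_eq_of_mem_normalizer (hn (mem_c_of_conj_eq e))]
  exact cj_mono g h1

theorem Up_le_of {K : Subgroup G} (hl : Ln V l) (hp : p ∈ l) (p1 : p ≠ 1) (hn : 𝐂 (zpowers p) ≤ 𝐍 K) (h1 : l ≤ K) :
    Up V p ≤ K := Up_le fun m hm hq => by
  obtain ⟨g, rfl, e⟩ := h.trans2 hl hp p1 hm hq p1
  exact cj_le_of_mem_normalizer h1 (hn (mem_c_of_conj_eq e))

theorem isP_zp (hp : Col V p q) : IsPGroup 2 (zpowers p) := (h.Up_isP hp).to_le (zpowers_le.2 hp.left.mem)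

omit h in
theorem zp_ne (p1 : p ≠ 1) : zpowers p ≠ ⊥ := fun k => p1 (zpowers_eq_bot.1 k)

theorem sol_c (h1 : i * i = 1) (i1 : i ≠ 1) : Group.IsSolvable (𝐂 (zpowers i)) :=
  H18.Solv.of_le (fr_sol h.toFr (isPGroup_zpowers (k := 1) (by simpa [pow_two] using h1)) (zp_ne i1))
    (centralizer_le_normalizer _)

theorem mo (hp : Col V p q) : Mo p (Up V p) (𝐂 (zpowers p)) (Tp V p) := by
  obtain ⟨p1, -, l, hl, hp', -⟩ := hp.left
  obtain ⟨P, s, n, o⟩ := h.exists_syl hl hp' p1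
  have s' : IsSyl 2 P (𝐂 (zpowers p)) := s.mono (o ▸ le_c_oz P) le_top
  refine ⟨p1, hp.left.mem, h.Up_ea hp, le_rfl, h.Up_le_c hp, c_le_n_Up V p, fun _ => mem_Tp, h.sol_c (h.pp hp) p1,
    fun K hK hn hO => h.le_Tp_of p1 hK fun m hm hq => h.le_n_all hl hp' p1 hn ((s'.inf_of_normal hn hK).le_of_pResidualOf_le
      (hO.trans (Tp_le_n hl hp')) (inf_le_left.trans n)) hm hq, ?_⟩
  have nF : 𝐂 (zpowers p) ≤ 𝐍 (Fo (𝐂 (zpowers p)) (Tp V p)) := le_n_Fo (c_le_n_Tp V p)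
  have s2 := s'.inf_of_normal nF Fo_le
  have n2 : 𝐂 (zpowers p) ≤ 𝐍 (Up V p ⊓ 𝐂 (Tp V p)) :=
    le_normalizer_inf (c_le_n_Up V p) (le_normalizer_centralizer (c_le_n_Tp V p))
  rw [le_centralizer_iff]
  refine le_trans (le_inf le_rfl (inf_le_right.trans (centralizer_anti fun x hx => ?_)))
    (le_centralizer_of_transfer (inf_le_left.trans ((h.Up_ab hp).trans (centralizer_anti inf_le_left)))
    ((h.Up_isP hp).to_le inf_le_left) (Fo_le.trans n2) s2 s.isP (s'.le.trans n2) (s'.le.trans nF)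
    (le_normalizer_inf le_normalizer (s'.le.trans nF)) (le_trans ?_ (le_centralizer_iff.1 Fo_le)))
  · obtain ⟨k, hk⟩ := isPGroup_iff_mem.1 s.isP x hx.1
    exact mem_of_Fo Tp_le_c (c_le_n_Tp V p) le_rfl hx.2 (hk ▸ one_mem _)
  · have e1 : Up V p ⊓ 𝐂 (Tp V p) ⊓ 𝐂 (P ⊓ Fo (𝐂 (zpowers p)) (Tp V p)) ⊓ 𝐂 P ≤ Up V p :=
      inf_le_left.trans (inf_le_left.trans inf_le_left)
    exact (le_oz (elemAb_mono (h.Up_ea hp) e1) (e1.trans (s'.le_of_le_normalizer (h.Up_isP hp) (h.Up_le_c hp)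
      (s'.le.trans (c_le_n_Up V p)))) inf_le_right).trans o.le

theorem not_le_n (hl : Ln V l) (hp : p ∈ l) (p1 : p ≠ 1) : ¬ 𝐂 (zpowers p) ≤ 𝐍 l := fun k => by
  obtain ⟨a, rfl, rfl⟩ := h.trans hl hp p1
  rw [← cj_zpowers, ← cj_centralizer, ← cj_normalizer, cj_le_cj_iff, ← h.fH_eq] at k
  exact h.nH k

theorem ln_cases (hl : Ln V l) (hp : p ∈ l) (p1 : p ≠ 1) (hq : q ∈ l) (hq' : q ∉ zpowers p) (hx : x ∈ l) :
    x = 1 ∨ x = p ∨ x = q ∨ x = p * q :=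
  four_cases (h.ln_four hl) hp hq p1 (fun k => hq' (k ▸ one_mem _)) (fun k => hq' (k ▸ mem_zpowers _)) hx

theorem ln_le {K : Subgroup G} (hl : Ln V l) (hp : p ∈ l) (p1 : p ≠ 1) (hq : q ∈ l) (hq' : q ∉ zpowers p)
    (h1 : p ∈ K) (h2 : q ∈ K) : l ≤ K := fun x hx => by
  rcases h.ln_cases hl hp p1 hq hq' hx with k | k | k | k <;> rw [k]
  exacts [one_mem _, h1, h2, mul_mem h1 h2]

theorem ln_eq (hl : Ln V l) (hm : Ln V m) (hp : p ∈ l) (p1 : p ≠ 1) (hq : q ∈ l) (hq' : q ∉ zpowers p)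
    (h1 : p ∈ m) (h2 : q ∈ m) : l = m :=
  (h.ln_four hm).eq_of_le (h.ln_four hl) (h.ln_le hl hp p1 hq hq' h1 h2)

theorem exists_other (hl : Ln V l) (hp : p ∈ l) : ∃ q ∈ l, q ∉ zpowers p := by
  refine SetLike.not_le_iff_exists.1 fun k => ?_
  have k1 := card_le_of_le k
  have k2 : Nat.card (zpowers p) ≤ 2 := by
    rw [Nat.card_zpowers]; exact orderOf_le_of_pow_eq_one two_pos (by rw [pow_two, (h.ln_four hl).sq p hp])
  rw [(h.ln_four hl).card] at k1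
  omega

theorem swap (hl : Ln V l) (hp : p ∈ l) (p1 : p ≠ 1) (hq : q ∈ l) (hq' : q ∉ zpowers p) :
    ∃ τ ∈ Tp V p, ⁅τ, q⁆ = p := by
  have c : Col V p p := ⟨p1, p1, l, hl, hp, hp⟩
  have M := h.mo c
  by_contra k
  push Not at k
  have k1 : Tp V p ≤ 𝐂 l := le_centralizer_iff.1 (h.ln_le hl hp p1 hq hq'
    (zpowers_le.1 (le_centralizer_iff.1 Tp_le_c)) fun τ hτ => commutatorElement_eq_one_iff_mul_comm.1
      ((mem_two (h.pp c) (M.Tc hτ (hl.le_Up hp hq))).resolve_right (k τ hτ)))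
  have k2 : Up V p ≤ 𝐂 (Tp V p) := h.Up_le_of hl hp p1 (le_normalizer_centralizer M.nT) (le_centralizer_iff.1 k1)
  obtain ⟨E, e1, e2, -, e4, -, e5⟩ := odd_top M.sol M.red le_rfl le_normalizer
    fun k => h.not_le_n hl hp p1 (k.trans (Tp_le_n hl hp))
  refine e4 (le_trans (show E ≤ Fo (𝐂 (zpowers p)) (Tp V p) from le_sSup ⟨e1, e2, fun f hf => ?_⟩)
    (M.ct.trans ((centralizer_anti (le_inf le_rfl k2)).trans (c_le_Tp c))))
  obtain ⟨a, b, h1, h2⟩ := exists_pow_pElement (p := 2) (isOfFinOrder_of_finite f)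
  exact ⟨a, Nat.coprime_two_right.1 h1, e5 _ (zpowers_le.2 (pow_mem hf a)) (isPGroup_zpowers h2) (mem_zpowers _)⟩

/-- an element inverted by `a ∈ U(x)` fixes no point near `x` -/
theorem nc {H T : Subgroup G} (c : Cm V n) (i : In H T e a) (ha : a ∈ Up V x) {j : ℕ} (hj : j ≤ n)
    (hn : Near V j x q) : e * q * e⁻¹ ≠ q := by
  induction hn with
  | @zero p hp =>
    intro k
    have m : e ∈ Up V p := i.mem ha (conj_mem_of_mem_normalizer (c_le_n_Up V p (mem_c_of_conj_eq k)) ha)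
    refine i.eT ((eq_one_of_pow_coprime (Nat.coprime_two_right.2 i.od) (pow_orderOf_eq_one e)
      (by rw [pow_two, h.Up_sq hp m])) ▸ one_mem _)
  | @succ j p q r h1 h2 ih =>
    intro k
    have m : a ∈ 𝐂 (Up V r) := c _ _ ((h1.succ h2).mono hj) ha
    have := i.mem m (conj_mem_of_mem_normalizer (normalizer_le_normalizer_centralizer _
      (c_le_n_Up V r (mem_c_of_conj_eq k))) m)
    exact ih ha (by omega) (mem_centralizer_iff'.1 this _ h2.symm.mem)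

theorem le_Jl (hl : Ln V l) : l ≤ Jl V l := fun _ hx => mem_Jl.2 fun _ hp _ => hl.le_Up hp hx

theorem mem_Jl_of (hl : Ln V l) (hp : p ∈ l) (p1 : p ≠ 1) (hq : q ∈ l) (hq' : q ∉ zpowers p) (h1 : i ∈ Up V p)
    (h2 : i ∈ Up V q) : i ∈ Jl V l := mem_Jl.2 fun s hs s1 => by
  rcases h.ln_cases hl hp p1 hq hq' hs with k | k | k | k
  · exact absurd k s1
  · rwa [k]
  · rwa [k]
  obtain ⟨τ, hτ, e⟩ := h.swap hl hp p1 hq hq'
  have := conj_mem_cj τ h2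
  rw [cj_Up, conj_eq_comm, conj_eq_comm, e, ← k] at this
  exact (mul_mem_cancel_left (hl.le_Up hs (zpowers_le.2 hp ((mem_Tp.1 hτ).2 i h1)))).1 this

theorem j3 (hl : Ln V l) (hi : i ∈ Jl V l) (hi' : i ∉ l) (hp : p ∈ l) (p1 : p ≠ 1) (hq : q ∈ l)
    (hq' : q ∉ zpowers p) : ∃ τ ∈ Tp V p, ⁅τ, i⁆ = 1 ∧ ⁅τ, q⁆ = p := by
  by_contra k
  push Not at k
  have f := h.ln_four hl
  have M : ∀ {s}, s ∈ l → s ≠ 1 → _ := fun {s} hs s1 => h.mo (⟨s1, s1, l, hl, hs, hs⟩ : Col V s s)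
  have Mp := M hp p1
  have iU := mem_Jl.1 hi p hp p1
  have qU := hl.le_Up hp hq
  have q1 : q ≠ 1 := fun k => hq' (k ▸ one_mem _)
  have pq : p ∉ zpowers q := fun k => (mem_two (f.sq q hq) k).elim p1 fun k => hq' (k ▸ mem_zpowers _)
  have g1 : ∀ τ ∈ Tp V p, τ * (i * q) * τ⁻¹ = i * q := fun τ hτ => conj_eq_of_comm (by
    rw [Mp.comm_mul (Mp.TH hτ) iU qU]
    obtain ⟨σ, hσ, e⟩ := h.swap hl hp p1 hq hq'
    have e' := (mem_two (f.sq p hp) (Mp.Tc hσ iU)).resolve_left fun k' => k σ hσ k' e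
    rcases mem_two (f.sq p hp) (Mp.Tc hτ iU) with a | a <;> rcases mem_two (f.sq p hp) (Mp.Tc hτ qU) with b | b
    · rw [a, b, one_mul]
    · exact absurd b (k τ hτ a)
    · refine absurd ?_ (k _ (mul_mem hσ hτ) ?_)
      · rw [comm_mul_left, b, e]; simp
      · rw [comm_mul_left, a, e', Mp.fixZ (Mp.TH hσ) (mem_zpowers p), f.sq p hp]
    · rw [a, b, f.sq p hp])
  have tr : ∀ {s r τ j}, (∀ σ ∈ Tp V s, σ * j * σ⁻¹ = j) → τ * s * τ⁻¹ = r →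
      ∀ σ ∈ Tp V r, σ * (τ * j * τ⁻¹) * σ⁻¹ = τ * j * τ⁻¹ := fun {s r τ j} a b σ hσ => by
    rw [← b, ← cj_Tp] at hσ
    obtain ⟨ρ, hρ, rfl⟩ := mem_cj'.1 hσ
    rw [show τ * ρ * τ⁻¹ * (τ * j * τ⁻¹) * (τ * ρ * τ⁻¹)⁻¹ = τ * (ρ * j * ρ⁻¹) * τ⁻¹ by group, a ρ hρ]
  have pq1 : p * q ≠ 1 := fun k => hq' (by rw [eq_inv_of_mul_eq_one_right k]; exact inv_mem (mem_zpowers p))
  have ppq : p ∉ zpowers (p * q) := fun k => (mem_two (f.sq _ (mul_mem hp hq)) k).elim p1 fun k => q1 (by simpa using k)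
  obtain ⟨τ, hτ, e⟩ := h.swap hl (mul_mem hp hq) pq1 hp ppq
  have cpq : p * q = q * p := f.le_c hq p hp
  have g2 := tr g1 (τ := τ) (r := q) (by rw [conj_eq_comm, e, cpq, mul_assoc, f.sq p hp, mul_one])
  have iq : i * q ∈ Jl V l := mul_mem hi (h.le_Jl hl hq)
  have m : ⁅τ, i * q⁆ ∈ l := zpowers_le.2 (mul_mem hp hq) ((mem_Tp.1 hτ).2 _ (mem_Jl.1 iq _ (mul_mem hp hq) pq1))
  rw [conj_eq_comm τ] at g2
  have fp : ∀ σ ∈ Tp V p, σ * p * σ⁻¹ = p := fun σ hσ => conj_eq_of_mem_c (Tp_le_c hσ)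
  have fq : ∀ σ ∈ Tp V q, σ * q * σ⁻¹ = q := fun σ hσ => conj_eq_of_mem_c (Tp_le_c hσ)
  obtain ⟨j, j1, j2, j3, j4⟩ : ∃ j ∈ Jl V l, j ∉ l ∧ (∀ σ ∈ Tp V p, σ * j * σ⁻¹ = j) ∧ ∀ σ ∈ Tp V q, σ * j * σ⁻¹ = j := by
    have n1 : i * q ∉ l := fun k => hi' ((mul_mem_cancel_right hq).1 k)
    have n2 : p * (i * q) ∉ l := fun k => n1 ((mul_mem_cancel_left hp).1 k)
    have a1 : ∀ σ ∈ Tp V p, σ * (p * (i * q)) * σ⁻¹ = p * (i * q) := fun σ hσ => by rw [← conj_mul, fp σ hσ, g1 σ hσ]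
    have a2 : ∀ σ ∈ Tp V q, σ * (q * (⁅τ, i * q⁆ * (i * q))) * σ⁻¹ = q * (⁅τ, i * q⁆ * (i * q)) := fun σ hσ => by
      rw [← conj_mul, fq σ hσ, g2 σ hσ]
    rcases h.ln_cases hl hp p1 hq hq' m with k | k | k | k <;> rw [k] at g2 a2
    · exact ⟨_, iq, n1, g1, by rwa [one_mul] at g2⟩
    · exact ⟨_, mul_mem (h.le_Jl hl hp) iq, n2, a1, g2⟩
    · exact ⟨_, iq, n1, g1, by rwa [← mul_assoc q q, f.sq q hq, one_mul] at a2⟩
    · exact ⟨_, mul_mem (h.le_Jl hl hp) iq, n2, a1, by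
        rwa [cpq, mul_assoc q p, ← mul_assoc q q, f.sq q hq, one_mul] at a2⟩
  obtain ⟨σ, hσ, e2⟩ := h.swap hl hp p1 hq hq'
  have j5 := tr j4 (τ := σ) (r := p * q) (by rw [conj_eq_comm, e2])
  rw [j3 σ hσ] at j5
  let L : Subgroup G := sSup {X | ∃ s ∈ l, s ≠ 1 ∧ X = Tp V s}
  have nL : 𝐍 l ≤ 𝐍 L := fun g hg => mem_normalizer_of_cj_le (cj_le_iff.2 (sSup_le fun _ ⟨s, a, b, e⟩ => by
    rw [e, ← cj_le_iff, cj_Tp]
    exact le_sSup ⟨_, conj_mem_of_mem_normalizer hg a, conj_ne_one g b, rfl⟩))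
  have jL : j ∈ 𝐂 L := zpowers_le.1 (le_centralizer_iff.1 (sSup_le fun _ ⟨s, a, b, e⟩ σ hσ => mem_c_of_conj_eq (by
    rw [e] at hσ
    rcases h.ln_cases hl hp p1 hq hq' a with k | k | k | k <;> rw [k] at hσ
    exacts [absurd k b, j3 σ hσ, j4 σ hσ, j5 σ hσ])))
  obtain ⟨P, s, nP, o⟩ := h.exists_syl hl hp p1
  have JU : Jl V l ≤ Up V p := fun x hx => mem_Jl.1 hx p hp p1
  have nD : P ≤ 𝐍 (Jl V l ⊓ 𝐂 L) := nP.trans (le_normalizer_inf (n_le_n_Jl V l) (le_normalizer_centralizer nL))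
  have := inf_omegaOne_center_ne_bot s.isP (s.le_of_le_normalizer
    ((elemAb_isPGroup Mp.ea).to_le (inf_le_left.trans JU)) le_top nD) nD fun k => j2 (by
      have : j ∈ (⊥ : Subgroup G) := k ▸ mem_inf.2 ⟨j1, jL⟩
      rw [mem_bot.1 this]; exact one_mem _)
  obtain ⟨x, hx, x1⟩ := (bot_or_exists_ne_one _).resolve_left this
  have x2 : x = p := (mem_two (f.sq p hp) (o ▸ hx.2 : x ∈ zpowers p)).resolve_left x1
  obtain ⟨ρ, hρ, e3⟩ := h.swap hl hq q1 hp pq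
  exact q1 (e3 ▸ commutatorElement_eq_one_iff_mul_comm.2 ((x2 ▸ hx.1.2 : p ∈ 𝐂 L) ρ (le_sSup
    (s := {X | ∃ s ∈ l, s ≠ 1 ∧ X = Tp V s}) ⟨q, hq, q1, rfl⟩ hρ)))

theorem ovr {Y : Subgroup G} (hY : IsPGroup 2 Y) (h1 : Y ≠ ⊥) (hn : S ≤ 𝐍 Y) (hg : g ∈ 𝐍 Y) : g * z * g⁻¹ ∈ V := by
  have s : IsSyl 2 S (𝐍 Y) := h.syl.mono hn le_top
  have e := s.sylowCenterClosure_eq
  have n : 𝐍 Y ≤ 𝐍 (zc (𝐍 Y)) := by rw [zc, e]; exact le_normalizer_ncl _ _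
  obtain ⟨a, ha, c, hc, rfl⟩ := (mem_sup_of_le_normalizer (inf_le_left.trans
    (le_normalizer_inf le_normalizer (le_normalizer_centralizer n)))).1
    (h.f1 _ S (fr_charP h.toFr hY h1) s inf_le_left hg)
  rw [show a * c * z * (a * c)⁻¹ = a * (c * z * c⁻¹) * a⁻¹ by group,
    mem_centralizer_iff'.1 hc.2 z (by rw [zc, e]; exact le_ncl _ _ h.zoz)]
  exact conj_mem_of_mem_normalizer ha.2 h.zV

theorem card_oz {P : Subgroup G} (s : IsSyl 2 P ⊤) : Nat.card (oz P) = 2 := by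
  obtain ⟨g, -, rfl⟩ := h.syl.exists_cj_eq s
  rw [← cj_oz, card_cj, h.zeq, card_two h.zz h.z1]

theorem pt' (hx : Col V x x) (h1 : x ∈ S) (h2 : ∀ s ∈ S, ⁅s, x⁆ ∈ zpowers z) : x ∈ V := by
  have xx := h.pp hx
  have mo : ∀ {P : Subgroup G} {u : G}, u ∈ P → u * u = 1 → P ≤ 𝐂 (zpowers u) → u ∈ oz P := fun hu uu hc =>
    le_oz (elemAb_zpowers (by rwa [pow_two])) (zpowers_le.2 hu) (le_centralizer_iff.1 hc) (mem_zpowers _)
  by_cases k : S ≤ 𝐂 (zpowers x)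
  · exact fr_oz_le h.toFr (mo h1 xx k)
  have cx : ∀ {s u : G}, s ∈ 𝐂 (zpowers u) ↔ ⁅s, u⁆ = 1 :=
    ⟨fun k => comm_eq_one_of_conj (conj_eq_of_mem_c k), fun k => mem_c_of_conj_eq (conj_eq_of_comm k)⟩
  have fz : ∀ s ∈ S, s * z * s⁻¹ = z := fun s hs => conj_eq_of_mem_c (h.S_le hs)
  have two : ∀ s ∈ S, ∀ t ∈ S, s ∉ 𝐂 (zpowers x) → t ∉ 𝐂 (zpowers x) → s * t ∈ 𝐂 (zpowers x) := fun s hs t ht a b => by
    rw [cx] at a b ⊢
    rw [comm_mul_left, (mem_two h.zz (h2 s hs)).resolve_left a, (mem_two h.zz (h2 t ht)).resolve_left b, fz s hs, h.zz]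
  have c2 := card_mul_relIndex (𝐂 (zpowers x)) S
  rw [relIndex_eq_two_of k two, inf_comm] at c2
  set S1 := S ⊓ 𝐂 (zpowers x) with hS1
  have p1 : IsPGroup 2 S1 := h.syl.isP.to_le inf_le_left
  have n1 : S ≤ 𝐍 S1 := fun s hs => mem_normalizer_of_conj_mem fun t ht => mem_inf.2 ⟨mul_mem (mul_mem hs (mem_inf.1 ht).1) (inv_mem hs), by
    by_cases a : s ∈ 𝐂 (zpowers x)
    · exact mul_mem (mul_mem a (mem_inf.1 ht).2) (inv_mem a)
    · exact two _ (mul_mem hs (mem_inf.1 ht).1) _ (inv_mem hs) (fun k => a ((mul_mem_cancel_right (mem_inf.1 ht).2).1 k))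
        fun k => a (inv_mem_iff.1 k)⟩
  obtain ⟨P, sP, hP⟩ := exists_isSyl_ge p1 inf_le_right
  obtain ⟨a, ha⟩ := h.pt hx
  have c3 := sP.card_le (isPGroup_cj a h.syl.isP) (by rw [← ha, ← cj_zpowers, ← cj_centralizer]; exact cj_mono a h.S_le)
  rw [card_cj] at c3
  have pos := card_pos' S1
  obtain ⟨g, hg, hg'⟩ := SetLike.exists_of_lt (lt_inf_normalizer sP.isP (lt_of_le_of_ne hP fun e => by
    rw [← e] at c3; omega))
  have zS1 : z ∈ S1 := ⟨oz_le S h.zoz, mem_c_of_conj_eq (by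
    have := fz x h1
    rw [mul_inv_eq_iff_eq_mul] at this ⊢
    exact this.symm)⟩
  have zo : z ∈ oz S1 := mo zS1 h.zz (inf_le_left.trans h.S_le)
  have go := normalizer_le_normalizer_omegaOne 2 _ (le_normalizer_inf le_rfl (normalizer_le_normalizer_centralizer S1) hg.2)
  have yV := h.ovr (elemAb_isPGroup (elemAb_oz S1)) (fun e => h.z1 (mem_bot.1 (e ▸ zo))) (le_n_oz n1) go
  have yo : g * z * g⁻¹ ∈ oz S1 := conj_mem_of_mem_normalizer go zo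
  have yz : g * z * g⁻¹ ≠ z := fun e => by
    have p2 : IsPGroup 2 ↥(S1 ⊔ zpowers g) := sP.isP.to_le (sup_le hP (zpowers_le.2 hg.1))
    have s2 : IsSyl 2 (S1 ⊔ zpowers g) ⊤ := h.syl.of_card_ge p2 le_top (by
      have := mul_card_le_of_lt p2 (lt_of_le_of_ne (le_sup_left (a := S1))
        fun e => hg' (e ▸ mem_sup_right (mem_zpowers g)))
      omega)
    have e1 := mem_of_card_two (h.card_oz s2) (mo (mem_sup_left zS1) h.zz (sup_le (inf_le_left.trans h.S_le)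
      (zpowers_le.2 (mem_c_of_conj_eq e)))) (mo (mem_sup_left ⟨h1, mem_c_of_conj_eq (by group)⟩) xx
      (sup_le inf_le_right (zpowers_le.2 (sP.le hg.1)))) h.z1 hx.1
    exact k (e1 ▸ h.S_le)
  obtain ⟨s, hs, hs'⟩ := SetLike.not_le_iff_exists.1 k
  set y := g * z * g⁻¹ with hy
  have c1 : ∀ t ∈ S1, t ∈ 𝐂 (zpowers y) := fun t ht => centralizer_anti (zpowers_le.2 yo) (le_c_oz S1 ht)
  have all : ∀ {u : G}, S1 ≤ 𝐂 (zpowers u) → s ∈ 𝐂 (zpowers u) → S ≤ 𝐂 (zpowers u) := fun a b t ht => by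
    by_cases c : t ∈ 𝐂 (zpowers x)
    · exact a ⟨ht, c⟩
    · exact (mul_mem_cancel_left b).1 (a ⟨mul_mem hs ht, two s hs t ht hs' c⟩)
  have yy := h.four.sq y yV
  have yS : y ∈ S1 := oz_le _ yo
  have e1 : ⁅s, y⁆ = z := (mem_two h.zz (by
      rw [← commutatorElement_inv]
      exact inv_mem (h.comm_ln (Ln.self V) h.zV h.z1 h.S_le h.le (commutator_mem_commutator yV hs)))).resolve_left
    fun e => by
      have := mo yS.1 yy (all c1 (cx.2 e))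
      rw [h.zeq] at this
      exact (mem_two h.zz this).elim (conj_ne_one g h.z1) yz
  have e2 : ⁅s, x⁆ = z := (mem_two h.zz (h2 s hs)).resolve_left fun e => hs' (cx.2 e)
  have xy : x * y = y * x := mem_centralizer_zpowers.1 yS.2
  have := mo (mul_mem h1 yS.1) (by rw [mul_assoc, ← mul_assoc y, ← xy, mul_assoc, yy, mul_one, xx])
    (all (fun t ht => mem_c_of_conj_eq (by rw [← conj_mul, conj_eq_of_mem_c ht.2, conj_eq_of_mem_c (c1 t ht)]))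
      (cx.2 (by rw [comm_mul_right, e1, e2, fz x h1, h.zz])))
  exact (mul_mem_cancel_right yV).1 (fr_oz_le h.toFr this)

end Ge

end H118
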