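import Cfsg.Agent.H18.FE5
/-! Pure critical pairs: transvections, `Sol0`, `Sol4`. -/
set_option autoImplicit false
namespace H118
open Cfsg Subgroup H26 H4
open scoped Pointwise commutatorElement

variable {G : Type*} [Group G]

abbrev Tv (V : Subgroup G) (y e t c : G) : Prop := Tr y (Up V y) (𝐂 (zpowers y)) (Tp V y) e t c
abbrev Iv (V : Subgroup G) (y e t : G) : Prop := In (𝐂 (zpowers y)) (Tp V y) e t
abbrev Wy (V : Subgroup G) (y e : G) : Subgroup G := We (Up V y) e ⊔ zpowers y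
abbrev Lp (p q : G) : Subgroup G := zpowers p ⊔ zpowers q

/-- distinct collinear points -/
structure Ed (V : Subgroup G) (p q : G) : Prop where
  col : Col V p q
  ne : p ≠ q

/-- critical pairs -/
structure Cr (V : Subgroup G) (n : ℕ) (x y : G) : Prop where
  cm : Cm V (n + 1)
  nr : Near V (n + 2) x y
  nc : ¬ Up V x ≤ 𝐂 (Up V y)

/-- pure critical pairs -/
structure Pu (V : Subgroup G) (n : ℕ) (x y : G) : Prop extends Cr V n x y where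
  xB : x ∉ Up V y
  yA : y ∉ Up V x

structure Hfe (V : Subgroup G) (x y a b e c : G) : Prop where
  aA : a ∈ Up V x
  bW : b ∈ Wy V y e
  tr : Tv V y e a c
  ab : ⁅a, b⁆ = c
  d1 : ∀ s ∈ Up V x, ⁅s, e⁆ ∈ Tp V y ∨ ⁅s * a, e⁆ ∈ Tp V y

structure Pr (V : Subgroup G) (n : ℕ) (x y a b e e' c : G) : Prop extends Pu V n x y where
  f : Hfe V x y a b e c
  f' : Hfe V y x b a e' c

section basic
variable {V K : Subgroup G} {x y p q a b e e' t c g s u : G} {n : ℕ}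

theorem Tv.conj (r : Tv V y e t c) (g : G) : Tv V (g * y * g⁻¹) (g * e * g⁻¹) (g * t * g⁻¹) (g * c * g⁻¹) := by
  have := Tr.cj r g
  rwa [cj_Up, cj_centralizer, cj_zpowers, cj_Tp] at this

theorem cj_Wy (g : G) : cj g (Wy V y e) = Wy V (g * y * g⁻¹) (g * e * g⁻¹) := by
  rw [cj_sup, cj_We, cj_Up, cj_zpowers]

theorem cj_Lp (g : G) : cj g (Lp p q) = Lp (g * p * g⁻¹) (g * q * g⁻¹) := by rw [cj_sup, cj_zpowers, cj_zpowers]

theorem Lp_left : p ∈ Lp p q := mem_sup_left (mem_zpowers p)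
theorem Lp_right : q ∈ Lp p q := mem_sup_right (mem_zpowers q)
theorem Lp_le (h1 : p ∈ K) (h2 : q ∈ K) : Lp p q ≤ K := sup_le (zpowers_le.2 h1) (zpowers_le.2 h2)

theorem conj_mem_Up (hu : u ∈ Up V p) (g : G) : g * u * g⁻¹ ∈ Up V (g * p * g⁻¹) := cj_Up g p ▸ conj_mem_cj g hu

theorem comm_iff : u ∈ 𝐂 K ↔ ∀ s ∈ K, ⁅u, s⁆ = 1 :=
  forall₂_congr fun _ _ => eq_comm.trans commutatorElement_eq_one_iff_mul_comm.symm

theorem comm_one_symm (h : ⁅s, u⁆ = 1) : ⁅u, s⁆ = 1 := by rw [← commutatorElement_inv, h, inv_one]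

theorem Ed.symm (h : Ed V p q) : Ed V q p := ⟨h.col.symm, h.ne.symm⟩
theorem Ed.conj (h : Ed V p q) (g : G) : Ed V (g * p * g⁻¹) (g * q * g⁻¹) :=
  ⟨h.col.cj g, fun k => h.ne (by simpa using k)⟩

theorem Cr.symm (h : Cr V n x y) : Cr V n y x := ⟨h.cm, h.nr.symm, fun k => h.nc (le_centralizer_iff.1 k)⟩
theorem Cr.conj (h : Cr V n x y) (g : G) : Cr V n (g * x * g⁻¹) (g * y * g⁻¹) :=
  ⟨h.cm, h.nr.cj g, fun k => h.nc (by rwa [← cj_Up, ← cj_Up, ← cj_centralizer, cj_le_cj_iff] at k)⟩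
theorem Cr.fix (h : Cr V n x y) : Up V x ≤ 𝐂 (zpowers y) := h.cm.fix h.nr
theorem Cr.cm1 (h : Cr V n x y) : Cm V 1 := h.cm.mono (by omega)
theorem Cr.memB (h : Cr V n x y) (hs : s ∈ Up V x) (hu : u ∈ Up V y) : ⁅s, u⁆ ∈ Up V y :=
  mul_mem (conj_mem_of_mem_normalizer (h.cm.norm h.nr hs) hu) (inv_mem hu)
theorem Cr.memA (h : Cr V n x y) (hs : s ∈ Up V x) (hu : u ∈ Up V y) : ⁅s, u⁆ ∈ Up V x := by
  rw [← commutatorElement_inv]; exact inv_mem (h.symm.memB hu hs)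
theorem Cr.ed (h : Cr V n x y) (h1 : Near V (n + 1) x p) (h2 : Col V p y) : Ed V p y :=
  ⟨h2, fun k => h.nc (k ▸ h.cm _ _ h1)⟩
theorem Pu.symm (h : Pu V n x y) : Pu V n y x := ⟨h.toCr.symm, h.yA, h.xB⟩
theorem Pr.symm (h : Pr V n x y a b e e' c) : Pr V n y x b a e' e c := ⟨h.toPu.symm, h.f', h.f⟩

theorem In.t_nT {H T : Subgroup G} (i : In H T e t) (h : e ∈ 𝐍 T) : t ∉ T := fun k =>
  i.eT (i.mem k (conj_mem_of_mem_normalizer h k))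

end basic

variable [Finite G] {S V : Subgroup G} {z : G}

namespace Mo
variable {U H T P : Subgroup G} {y e t a b c k u v w : G} (h : Mo y U H T)
include h

/-- no over-offenders -/
theorem nov (hP : P ≤ H) (hP' : IsElementaryAbelian 2 P)
    (hc : ∀ s ∈ U, (∀ w ∈ P, ⁅s, w⁆ = 1) ∨ ∀ w ∈ P, ⁅s * a, w⁆ = 1) :
    ∀ w ∈ P, ∀ w' ∈ P, w ∉ T → w' ∉ T → w * w' ∈ T := by
  have e1 := no_over_sec h.ea h.ZU h.HU h.HZ h.sol (fun K a b c => (h.red K a b (by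
    rw [h.T_eq]; exact le_inf ((pResidualOf_le _ _).trans a) c)).trans (h.T_eq.le.trans inf_le_right)) hP hP'
  have m : ∀ s ∈ U, (∀ w ∈ P, ⁅s, w⁆ = 1) → s ∈ commStab (P : Set G) (zpowers y) := fun s hs k =>
    ⟨h.HZ (h.UH hs), fun w hw => k w hw ▸ one_mem _⟩
  have e2 : (commStab (P : Set G) (zpowers y)).relIndex U ≤ 2 := by
    by_cases k : U ≤ commStab (P : Set G) (zpowers y)
    · rw [relIndex_eq_one.2 k]; omega
    refine (relIndex_eq_two_of k fun s hs s' hs' k1 k2 => ?_).le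
    have a1 := comm_iff.2 ((hc s hs).resolve_left fun j => k1 (m s hs j))
    have a2 := comm_iff.2 ((hc s' hs').resolve_left fun j => k2 (m s' hs' j))
    refine m _ (mul_mem hs hs') (comm_iff.1 ?_)
    have := mul_mem a1 (inv_mem a2)
    rwa [show s * a * (s' * a)⁻¹ = s * s'⁻¹ by group, h.inv hs'] at this
  have e3 := relIndex_pos (commStab (U : Set G) (zpowers y)) P
  intro w hw w' hw' k1 k2
  rw [h.T_eq] at k1 k2 ⊢
  by_cases k : (commStab (U : Set G) (zpowers y)).relIndex P = 1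
  · exact absurd ⟨hP hw, relIndex_eq_one.1 k hw⟩ k1
  exact ⟨mul_mem (hP hw) (hP hw'), two_of_relIndex (by omega) w hw w' hw' (fun j => k1 ⟨hP hw, j⟩) fun j => k2 ⟨hP hw', j⟩⟩

theorem fixWZ (q : Qd U H T e t c) (hw : w ∈ We U e ⊔ zpowers y) (h1 : ⁅t, w⁆ ∈ zpowers y) : w ∈ Lp c y := by
  obtain ⟨v, hv, z, hz, rfl⟩ := h.mem_WZ (eH q.toIn) hw
  rw [h.comm_mul q.tH (h.We_le (eH q.toIn) hv) (h.ZU hz), h.commZ q.tH hz, mul_one] at h1
  exact mul_mem (mem_sup_left (h.fixW q hv h1)) (mem_sup_right hz)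

theorem off (r : Tr y U H T e t c) (hu : u ∈ U) (hv : v ∈ U) (h1 : ⁅t, u⁆ ∉ zpowers y) (h2 : ⁅t, v⁆ ∉ zpowers y) :
    ⁅t, u * v⁆ ∈ zpowers y := by
  have cU := h.cU r.toQd
  have := mul_mem (inv_mem ((h.mem_yc cU (r.tv u hu)).resolve_left h1)) ((h.mem_yc cU (r.tv v hv)).resolve_left h2)
  rwa [mul_inv_rev, mul_assoc, inv_mul_cancel_left, h.inv (h.commU r.tH hu), ← h.comm_mul r.tH hu hv] at this

theorem cj_tr (r : Tr y U H T e t c) (hk : k ∈ H) :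
    Tr y U H T (k * e * k⁻¹) (k * t * k⁻¹) (k * c * k⁻¹) ∧ cj k (We U e ⊔ zpowers y) = We U (k * e * k⁻¹) ⊔ zpowers y ∧
      cj k (Ce U e) = Ce U (k * e * k⁻¹) := by
  have := r.cj k
  rw [h.fixZ hk (mem_zpowers y), cj_eq_of_mem_normalizer (h.HU hk), cj_eq_of_mem hk,
    cj_eq_of_mem_normalizer (h.nT hk)] at this
  exact ⟨this, by rw [cj_sup, cj_We, cj_eq_of_mem_normalizer (h.HU hk), cj_eq_of_mem_normalizer (h.HZ hk)],
    by rw [cj_Ce, cj_eq_of_mem_normalizer (h.HU hk)]⟩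

/-- elements commuting with a transvection -/
theorem cab (r : Tr y U H T e t c) (hk : k ∈ H) (h1 : k * t * k⁻¹ = t) (hb : b ∈ We U e ⊔ zpowers y) :
    ⁅k, b⁆ ∈ Lp c y := by
  obtain ⟨r', e1, -⟩ := h.cj_tr r hk
  have cU := h.cU r.toQd
  have bU := h.WZ_le (eH r.toIn) hb
  have m : c * (k * c * k⁻¹) ∈ zpowers y := (h.mem_yc cU (by
    rw [← h.t_d r'.toQd, h1]; exact r.tv _ (h.We_le (eH r'.toIn) (h.dW r'.toQd)))).resolve_left (h.c_nZ r'.toQd)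
  have e2 := (h.eq_of_mem r r' ((mul_mem_cancel_left (mem_sup_left r.cW)).1 (mem_sup_right m)) (mem_sup_left r'.cW)
    (h.c_nZ r'.toQd)).1
  have m2 : k * b * k⁻¹ ∈ We U e ⊔ zpowers y := by rw [← e2, ← e1]; exact conj_mem_cj k hb
  refine h.fixWZ r.toQd (mul_mem m2 (inv_mem hb)) ?_
  rw [commutatorElement_def k, h.comm_mul r.tH (h.conjU hk bU) (inv_mem bU), h.inv bU,
    show ⁅t, k * b * k⁻¹⁆ = k * ⁅t, b⁆ * k⁻¹ by rw [conj_comm, h1]]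
  have f : ∀ {u}, u ∈ zpowers y → k * u * k⁻¹ * u ∈ zpowers y := fun hu => by
    rw [h.fixZ hk hu]; exact mul_mem hu hu
  rcases h.mem_yc cU (r.tv b bU) with j | j
  · exact f j
  have := mul_mem m (f j)
  generalize ⁅t, b⁆ = x at this j ⊢
  have xU : x ∈ U := (mul_mem_cancel_left cU).1 (h.ZU j)
  rwa [show c * (k * c * k⁻¹) * (k * (c * x) * k⁻¹ * (c * x)) = c * (k * (c * c) * k⁻¹ * (k * x * k⁻¹)) * (c * x) by group,
    h.sq cU, mul_one, mul_inv_cancel, one_mul, h.cm cU (h.conjU hk xU), mul_assoc, ← mul_assoc c, h.sq cU, one_mul] at this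

end Mo

namespace Ge
variable (h : Ge S V z) {l m : Subgroup G} {x y p q r g a b e e' c i s u w p' q' : G} {n : ℕ}
include h

theorem nz (E : Ed V p q) : q ∉ zpowers p := fun k => (mem_two (h.pp E.col) k).elim E.col.2.1 E.ne.symm

theorem ln_Lp (E : Ed V p q) : Ln V (Lp p q) := by
  obtain ⟨p1, -, l, hl, hp, hq⟩ := E.col
  rwa [le_antisymm (Lp_le hp hq) (h.ln_le hl hp p1 hq (h.nz E) Lp_left Lp_right)]

theorem Lp_cases (E : Ed V p q) (hx : x ∈ Lp p q) : x = 1 ∨ x = p ∨ x = q ∨ x = p * q :=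
  h.ln_cases (h.ln_Lp E) Lp_left E.col.1 Lp_right (h.nz E) hx

theorem ed_of (E : Ed V p q) (hx : x ∈ Lp p q) (hx' : x ∉ zpowers p) : Ed V p x :=
  ⟨⟨E.col.1, fun k => hx' (k ▸ one_mem _), _, h.ln_Lp E, Lp_left, hx⟩, fun k => hx' (k ▸ mem_zpowers _)⟩

theorem ed_mul (E : Ed V p q) : Ed V p (p * q) :=
  h.ed_of E (mul_mem Lp_left Lp_right) fun k => h.nz E ((mul_mem_cancel_left (mem_zpowers p)).1 k)

theorem ed_cm (E : Ed V p q) : p * q = q * p := (h.ln_four (h.ln_Lp E)).le_c Lp_right p Lp_left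

theorem swap' (E : Ed V p q) : ∃ τ ∈ Tp V p, ⁅τ, q⁆ = p := h.swap (h.ln_Lp E) Lp_left E.col.1 Lp_right (h.nz E)

theorem trans3 (E : Ed V p q) (E' : Ed V p' q') : ∃ g, g * p * g⁻¹ = p' ∧ g * q * g⁻¹ = q' := by
  obtain ⟨g, e1, e2⟩ := h.trans2 (h.ln_Lp E) Lp_left E.col.1 (h.ln_Lp E') Lp_left E'.col.1
  have E2 := E.conj g
  rw [e2] at E2
  rcases h.Lp_cases E' (e1 ▸ conj_mem_cj g Lp_right) with k | k | k | k
  · exact absurd k E2.col.2.1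
  · exact absurd k.symm E2.ne
  · exact ⟨g, e2, k⟩
  obtain ⟨τ, hτ, e3⟩ := h.swap' (h.ed_mul E')
  refine ⟨τ * g, ?_, ?_⟩
  · rw [show τ * g * p * (τ * g)⁻¹ = τ * (g * p * g⁻¹) * τ⁻¹ by group, e2, conj_eq_of_mem_c (Tp_le_c hτ)]
  · rw [show τ * g * q * (τ * g)⁻¹ = τ * (g * q * g⁻¹) * τ⁻¹ by group, k, conj_eq_comm, e3, ← mul_assoc, h.pp E'.col,
      one_mul]

theorem pu_bot (P : Pu V n x y) (hi : i ∈ Up V x) (hi' : i ∈ zpowers y) : i = 1 :=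
  (mem_two (h.pp P.nr.right) hi').resolve_right fun k => P.yA (k ▸ hi)

theorem pu_one (P : Pu V n x y) (hs : s ∈ Up V x) (hu : u ∈ Up V y) (k : ⁅s, u⁆ ∈ zpowers y) : ⁅s, u⁆ = 1 :=
  h.pu_bot P (P.memA hs hu) k

theorem pu_T (P : Pu V n x y) (hs : s ∈ Up V x) : s ∈ Tp V y ↔ s ∈ 𝐂 (Up V y) :=
  ⟨fun k => comm_iff.2 fun u hu => h.pu_one P hs hu ((mem_Tp.1 k).2 u hu), fun k => c_le_Tp P.nr.right k⟩

theorem d2 (P : Pu V n x y) (i : Iv V y e a) (ha : a ∈ Up V x) (hs : s ∈ Up V x) (k : ⁅s, e⁆ ∈ Tp V y)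
    (hw : w ∈ Wy V y e) : ⁅s, w⁆ = 1 := by
  have M := h.mo P.nr.right
  have eH := Mo.eH i
  obtain ⟨v, hv, z, hz, rfl⟩ := M.mem_WZ eH hw
  rw [M.comm_mul (P.fix hs) (M.We_le eH hv) (M.ZU hz), M.commZ (P.fix hs) hz, mul_one]
  refine h.pu_one P hs (M.We_le eH hv) (M.quad i (P.fix hs) k (fun w hw => ?_) hv)
  rw [comm_iff.1 (h.Up_ab P.nr.left hs) _ (P.memA ha (M.We_le eH hw))]
  exact one_mem _

theorem half (P : Pu V n x y) (ha : a ∈ Up V x) (ha' : a ∉ 𝐂 (Up V y)) :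
    ∃ e b c, Qd (Up V y) (𝐂 (zpowers y)) (Tp V y) e a c ∧ b ∈ We (Up V y) e ∧ ⁅a, b⁆ = c ∧
      (∀ s ∈ Up V x, ⁅s, e⁆ ∈ Tp V y ∨ ⁅s * a, e⁆ ∈ Tp V y) ∧ ∀ s ∈ Up V x, ⁅b, s⁆ ∈ zpowers c := by
  have M := h.mo P.nr.right
  have M' := h.mo P.nr.left
  obtain ⟨e, i, d1⟩ := dl M.TH M.nT M.sol M.red P.fix M'.ea ha fun k => ha' ((h.pu_T P ha).1 k)
  have W := M.We_le (Mo.eH i)
  obtain ⟨b, hb, b1⟩ := M.exists_comm i
  have d : ∀ s ∈ Up V x, (∀ w ∈ We (Up V y) e, ⁅s, w⁆ = 1) ∨ ∀ w ∈ We (Up V y) e, ⁅s * a, w⁆ = 1 := fun s hs =>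
    (d1 s hs).imp (fun k w hw => h.d2 P i ha hs k (mem_sup_left hw))
      fun k w hw => h.d2 P i ha (mul_mem hs ha) k (mem_sup_left hw)
  have two := M'.nov (W.trans P.symm.fix) (elemAb_mono M.ea W) d
  have t1 : ∀ w ∈ Up V y, w ∈ Tp V x → ⁅a, w⁆ = 1 := fun w hw k =>
    comm_one_symm (comm_iff.1 ((h.pu_T P.symm hw).1 k) a ha)
  refine ⟨e, b, _, ⟨i, M.commW i hb, b1, fun w hw => ?_⟩, hb, rfl, d1, fun s hs => ?_⟩
  · by_cases k : w ∈ Tp V x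
    · rw [t1 w (W hw) k]; exact one_mem _
    have := t1 _ (mul_mem (W hb) (W hw)) (two b hb w hw (fun j => b1 (t1 b (W hb) j)) k)
    rw [M.comm_mul i.tH (W hb) (W hw)] at this
    rw [eq_inv_of_mul_eq_one_right this]; exact inv_mem (mem_zpowers _)
  rcases d s hs with k | k
  · rw [comm_one_symm (k b hb)]; exact one_mem _
  have := comm_one_symm (k b hb)
  rw [M'.comm_mul (P.symm.fix (W hb)) hs ha] at this
  rw [eq_inv_of_mul_eq_one_left this, commutatorElement_inv]; exact mem_zpowers _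

theorem exists_pr (P : Pu V n x y) : ∃ a b e e' c, Pr V n x y a b e e' c := by
  have M := h.mo P.nr.right
  have M' := h.mo P.nr.left
  obtain ⟨a0, h0, h0'⟩ := SetLike.not_le_iff_exists.1 P.nc
  obtain ⟨e0, b, c, q0, hb, ab0, -, l0⟩ := h.half P h0 h0'
  have bB := M.We_le (Mo.eH q0.toIn) hb
  have cc := M.sq (M.cU q0)
  obtain ⟨e', a, c', q', ha, ba, d', l'⟩ := h.half P.symm bB fun k => q0.c1 (ab0 ▸ comm_one_symm (comm_iff.1 k a0 h0))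
  have aA := M'.We_le (Mo.eH q'.toIn) ha
  obtain rfl : c' = c := (mem_two cc (ba ▸ l0 a aA)).resolve_left q'.c1
  obtain ⟨e, b2, c2, q2, hb2, ab2, d, -⟩ := h.half P aA fun k => q'.c1 (ba ▸ comm_one_symm (comm_iff.1 k b bB))
  obtain rfl : c2 = c' := (mem_two cc (ab2 ▸ l' b2 (M.We_le (Mo.eH q2.toIn) hb2))).resolve_left q2.c1
  have r : Tv V y e a c2 := ⟨q2, fun u hu => mem_sup_left (l' u hu)⟩
  refine ⟨a, b, e, e', c2, P, ⟨aA, ?_, r, ?_, d⟩, ⟨bB, mem_sup_left ha, ⟨q', fun u hu => mem_sup_left (l0 u hu)⟩, ba, d'⟩⟩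
  · exact (M.dich1 r q0).elim (fun k => k hb) fun k => absurd (M.disj (Mo.eH q0.toIn) q0.od q0.cW (k q2.cW)) q0.c1
  · rw [← commutatorElement_inv, ba, inv_eq_of_mul_eq_one_right cc]

section pr
variable (P : Pr V n x y a b e e' c)
include P

omit h in
theorem aA : a ∈ Up V x := P.f.aA
omit h in
theorem bB : b ∈ Up V y := P.f'.aA
omit h in
theorem cA : c ∈ Up V x := P.f.ab ▸ P.memA P.f.aA P.f'.aA

theorem sol0 (h1 : i ∈ Up V x) (h2 : i ∈ Up V y) (h3 : e * i * e⁻¹ = i) (h4 : e' * i * e'⁻¹ = i) : i = 1 := by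
  by_contra i1
  have M := h.mo P.nr.right
  have M' := h.mo P.nr.left
  have key : ∀ {x y a b e e'}, Pr V n x y a b e e' c → i ∈ Up V y → e * i * e⁻¹ = i → ∀ N, 𝐂 (zpowers i) ≤ 𝐍 N →
      (∃ a' ∈ N, a' * a ∈ Tp V y) → ∃ b' ∈ ⁅N, N⁆, b' * b ∈ Tp V x := fun {x y a b e e'} P h2 h3 N hn ⟨a', k1, k2⟩ => by
    have M := h.mo P.nr.right
    obtain ⟨w, hw, z, hz, rfl⟩ := M.mem_WZ (Mo.eH P.f.tr.toIn) P.f.bW
    obtain ⟨w', j1, j2, j3⟩ := M.cover P.f.tr.toIn hn (M.Uc.trans (centralizer_anti (zpowers_le.2 h2)))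
      (mem_c_of_conj_eq h3) k1 k2 hw
    refine ⟨w', j1, c_le_Tp P.nr.left (le_centralizer_iff.1 P.fix ?_)⟩
    rw [← mul_assoc, M.cm j2 (M.We_le (Mo.eH P.f.tr.toIn) hw)]
    exact mul_mem j3 hz
  obtain ⟨a', k1, k2⟩ := sol_ind (h.sol_c (M.sq h2) i1) (fun N => ∃ a' ∈ N, a' * a ∈ Tp V y)
    ⟨a, M'.Uc.trans (centralizer_anti (zpowers_le.2 h1)) P.f.aA, M'.sq P.f.aA ▸ one_mem _⟩ fun N _ hn k => by
      obtain ⟨b', j1, j2⟩ := key P h2 h3 N hn k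
      exact key P.symm h1 h4 N hn ⟨b', commutator_le_of_le_normalizer le_normalizer j1, j2⟩
  rw [mem_bot.1 k1, one_mul] at k2
  exact P.f.tr.toIn.t_nT (M.nT (Mo.eH P.f.tr.toIn)) k2

theorem comm_Ce (hs : s ∈ Up V x) (k : ⁅s, e⁆ ∈ Tp V y) (hu : u ∈ Up V y) : e * ⁅s, u⁆ * e⁻¹ = ⁅s, u⁆ := by
  have M := h.mo P.nr.right
  have i := P.f.tr.toIn
  obtain ⟨w, hw, γ, hγ, rfl⟩ := M.split (Mo.eH i) i.od hu
  rw [M.comm_mul (P.fix hs) (M.We_le (Mo.eH i) hw) hγ.1, h.d2 P.toPu i P.f.aA hs k (mem_sup_left hw), one_mul]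
  exact (mem_Ce.1 (mul_mem (conj_mem_of_mem_normalizer (M.n_Ce (Mo.eH i) i.od (P.fix hs) (Mo.conj_mem_of_comm k)) hγ)
    (inv_mem hγ))).2

theorem two (hs : s ∈ Up V x) : s ∈ 𝐂 (Up V y) ∨ s * a ∈ 𝐂 (Up V y) := by
  have M := h.mo P.nr.right
  have key : ∀ s ∈ Up V x, ⁅s, e⁆ ∈ Tp V y → s ∈ 𝐂 (Up V y) := fun s hs k => comm_iff.2 fun u hu => by
    have f : ∀ u ∈ Up V y, ⁅u, e'⁆ ∈ Tp V x → ⁅s, u⁆ = 1 := fun u hu k' =>
      h.sol0 P (P.memA hs hu) (P.memB hs hu) (h.comm_Ce P hs k hu) (by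
        rw [← commutatorElement_inv, ← conj_inv, h.comm_Ce P.symm hu k' hs])
    rcases P.f'.d1 u hu with k' | k'
    · exact f u hu k'
    have := f _ (mul_mem hu P.f'.aA) k'
    rwa [M.comm_mul (P.fix hs) hu P.f'.aA, h.d2 P.toPu P.f.tr.toIn P.f.aA hs k P.f.bW, mul_one] at this
  exact (P.f.d1 s hs).imp (key s hs) (key _ (mul_mem hs P.f.aA))

theorem comm_a (hs : s ∈ Up V x) (hs' : s ∉ 𝐂 (Up V y)) (hu : u ∈ Up V y) : ⁅s, u⁆ = ⁅a, u⁆ := by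
  have k := comm_one_symm (comm_iff.1 ((h.two P hs).resolve_left hs') u hu)
  have M' := h.mo P.nr.left
  rw [M'.comm_mul (P.symm.fix hu) hs P.f.aA] at k
  rw [← commutatorElement_inv, eq_inv_of_mul_eq_one_left k, inv_inv, ← commutatorElement_inv,
    M'.inv (P.memA P.f.aA hu)]

theorem comm_eq (hs : s ∈ Up V x) (hs' : s ∉ 𝐂 (Up V y)) (hu : u ∈ Up V y) (hu' : u ∉ 𝐂 (Up V x)) : ⁅s, u⁆ = c := by
  rw [h.comm_a P hs hs' hu, ← commutatorElement_inv, h.comm_a P.symm hu hu' P.f.aA, commutatorElement_inv, P.f.ab]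

theorem comm_c (hs : s ∈ Up V x) (hu : u ∈ Up V y) : ⁅s, u⁆ ∈ zpowers c := by
  by_cases k : s ∈ 𝐂 (Up V y)
  · rw [comm_iff.1 k u hu]; exact one_mem _
  by_cases k' : u ∈ 𝐂 (Up V x)
  · rw [comm_one_symm (comm_iff.1 k' s hs)]; exact one_mem _
  rw [h.comm_eq P hs k hu k']; exact mem_zpowers c

theorem p_nC (h1 : Near V (n + 1) x p) : p ∉ Ce (Up V y) e := fun k =>
  h.nc P.cm P.f.tr.toIn P.f.aA le_rfl h1 (mem_Ce.1 k).2

theorem ncp (h1 : Near V (n + 1) x p) (h2 : Col V p y) : c * p ∈ Ce (Up V y) e :=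
  (((h.mo P.nr.right).axis P.f.tr h2.symm.mem).1 (by
    rw [comm_iff.1 (P.cm _ _ h1 P.f.aA) p h2.left.mem]; exact one_mem _)).resolve_left (h.p_nC P h1)

theorem sol4a (h1 : Near V (n + 1) x p) (h2 : Col V p y) (hi : i ∈ Up V p) (hi' : i ∈ Ce (Up V y) e) :
    i ∈ Lp p y := by
  by_contra il
  have M := h.mo P.nr.right
  have E := P.ed h1 h2
  have r := P.f.tr
  have eH := Mo.eH r.toIn
  have aC : a ∈ 𝐂 (Up V p) := P.cm _ _ h1 P.f.aA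
  have pB := h2.symm.mem
  have hl := h.ln_Lp E
  have iJ := h.mem_Jl_of hl Lp_left E.col.1 Lp_right (h.nz E) hi hi'.1
  have cx : ∀ {s u : G}, ⁅s, u⁆ = 1 → s ∈ 𝐂 (zpowers u) := fun k => mem_c_of_conj_eq (conj_eq_of_comm k)
  obtain ⟨τ1, a1, a2, a3⟩ := h.j3 hl iJ il Lp_left E.col.1 Lp_right (h.nz E)
  obtain ⟨τ2, b1, b2, b3⟩ := h.j3 hl iJ il Lp_right E.col.2.1 Lp_left (h.nz E.symm)
  have pp := h.pp E.col
  have yy := h.pp E.col.symm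
  have py := h.ed_cm E
  obtain ⟨k, k1, k2, -⟩ := sol_ind (h.sol_c (M.sq hi'.1) fun j => il (j ▸ one_mem _))
    (fun N => ∃ k ∈ N, k * p * k⁻¹ = y ∧ k * y * k⁻¹ = p * y)
    ⟨τ1 * τ2, mul_mem (cx a2) (cx b2), by
      rw [show τ1 * τ2 * p * (τ1 * τ2)⁻¹ = τ1 * (τ2 * p * τ2⁻¹) * τ1⁻¹ by group, conj_eq_comm τ2, b3, ← conj_mul,
        conj_eq_comm τ1 y, a3, conj_eq_of_mem_c (Tp_le_c a1), py, mul_assoc, pp, mul_one], by
      rw [show τ1 * τ2 * y * (τ1 * τ2)⁻¹ = τ1 * (τ2 * y * τ2⁻¹) * τ1⁻¹ by group, conj_eq_of_mem_c (Tp_le_c b1),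
        conj_eq_comm, a3]⟩
    fun N _ hn ⟨k, k1, k2, k3⟩ => by
      have cN : ∀ {s u : G}, s ∈ 𝐂 (zpowers i) → u ∈ N → ⁅s, u⁆ ∈ N := fun hs hu =>
        mul_mem (conj_mem_of_mem_normalizer (hn hs) hu) (inv_mem hu)
      have aN := cN (centralizer_anti (zpowers_le.2 hi) aC) k1
      have m : k * a⁻¹ * k⁻¹ ∈ 𝐂 (Up V y) := by
        rw [← k2, ← cj_Up, ← cj_centralizer]; exact conj_mem_cj k (inv_mem aC)
      have aT : ⁅a, k⁆ * a ∈ Tp V y := by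
        rw [show ⁅a, k⁆ * a = a * (k * a⁻¹ * k⁻¹) * a⁻¹ * (a * a) by group, r.tt, mul_one]
        exact conj_mem_of_mem_normalizer (M.nT r.tH) (c_le_Tp P.nr.right m)
      have f1 := M.fact r.toIn aT
      have f2 := M.mem_fact r.toIn aT
      have fN : ⁅⁅a, k⁆, e⁆ ∈ N := by
        rw [← commutatorElement_inv]; exact inv_mem (cN (mem_c_of_conj_eq (mem_Ce.1 hi').2) aN)
      generalize ⁅⁅a, k⁆, e⁆ = f at f1 f2 fN
      have fm : f⁻¹ ∈ zpowers e ⊔ Tp V y := inv_mem ((mul_mem_cancel_right (mem_sup_left (mul_mem (mem_zpowers e)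
        (mem_zpowers e)))).1 (mem_sup_right f1))
      have fH : f⁻¹ ∈ 𝐂 (zpowers y) := sup_le (zpowers_le.2 eH) M.TH fm
      have uB := M.commU fH pB
      have uC : ⁅f⁻¹, p⁆ ∉ Ce (Up V y) e := fun j => h.p_nC P h1 (M.fix eH r.od pB ((sup_le (b := Tp V y)
        (c := commStab {p} (zpowers y)) (zpowers_le.2 (inv_mem_iff.1 ⟨M.HZ fH, fun s hs => hs ▸ M.WZ_inf eH r.od
          (M.WZ_mono eH fm (mem_sup_left (comm_mem_We pB))) j⟩))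
        (fun s hs => ⟨M.HZ (M.TH hs), fun u hu => hu ▸ M.Tc hs pB⟩) f2).2 p rfl))
      obtain ⟨σ, s1, s2, s3⟩ := M.indep r.toIn uB hi'.1 (fun j => uC ((mul_mem_cancel_right hi').1 j))
        (M.exists_T r.toIn uB uC)
      have tN := cN (cx s3) fN
      have fH' := inv_mem_iff.1 fH
      have tT : ⁅σ, f⁆ ∈ Tp V y := by
        rw [show ⁅σ, f⁆ = σ * (f * σ⁻¹ * f⁻¹) by group]
        exact mul_mem s1 (conj_mem_of_mem_normalizer (M.nT fH') (inv_mem s1))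
      have tp : ⁅σ, f⁆ * p * ⁅σ, f⁆⁻¹ = y * p := by
        have g1 : ∀ u ∈ Up V y, σ⁻¹ * u * σ = ⁅σ, u⁆ * u := fun u hu => by
          rw [show σ⁻¹ * u * σ = (σ⁻¹ * ⁅σ, u⁆ * σ⁻¹⁻¹)⁻¹ * u by group, M.fixZ (inv_mem (M.TH s1)) (M.Tc s1 hu),
            M.inv (M.ZU (M.Tc s1 hu))]
        have g2 := mul_mem (mem_zpowers y) (M.Tc s1 pB)
        rw [show ⁅σ, f⁆ * p * ⁅σ, f⁆⁻¹ = σ * (f * (σ⁻¹ * (⁅f⁻¹, p⁆ * p) * σ) * f⁻¹) * σ⁻¹ by group,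
          g1 _ (mul_mem uB pB), M.comm_mul (M.TH s1) uB pB, s2,
          show σ * (f * (y * ⁅σ, p⁆ * (⁅f⁻¹, p⁆ * p)) * f⁻¹) * σ⁻¹ =
            σ * (f * (y * ⁅σ, p⁆) * f⁻¹) * σ⁻¹ * (⁅σ, p⁆ * p) by group, M.fixZ fH' g2, M.fixZ (M.TH s1) g2,
          mul_assoc, ← mul_assoc ⁅σ, p⁆, M.sq (M.ZU (M.Tc s1 pB)), one_mul]
      have ty := conj_eq_of_mem_c (Tp_le_c tT)
      generalize ⁅σ, f⁆ = τ at tN tp ty
      have i1 : k⁻¹ * y * k = p := by rw [← k2]; group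
      have i2 : k⁻¹ * p * k = y * p := by
        rw [← mul_left_inj (k⁻¹ * y * k), show k⁻¹ * p * k * (k⁻¹ * y * k) = k⁻¹ * (p * y) * k by group, ← k3, i1,
          mul_assoc y, pp]; group
      have i3 : τ⁻¹ * y * τ = y := by conv_lhs => rw [← ty]
                                      group
      have i4 : τ⁻¹ * (y * p) * τ = p := by rw [← tp]; group
      have i5 : τ⁻¹ * p * τ = y * p := by
        rw [← mul_right_inj (τ⁻¹ * y * τ), show τ⁻¹ * y * τ * (τ⁻¹ * p * τ) = τ⁻¹ * (y * p) * τ by group, i4, i3,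
          ← mul_assoc, yy, one_mul]
      refine ⟨_, commutator_mem_commutator tN k1, ?_, ?_⟩
      · rw [show ⁅τ, k⁆ * p * ⁅τ, k⁆⁻¹ = τ * (k * (τ⁻¹ * (k⁻¹ * p * k) * τ) * k⁻¹) * τ⁻¹ by group, i2, i4, k2, ty]
      · rw [show ⁅τ, k⁆ * y * ⁅τ, k⁆⁻¹ = τ * (k * (τ⁻¹ * (k⁻¹ * y * k) * τ) * k⁻¹) * τ⁻¹ by group, i1, i5,
          show k * (y * p) * k⁻¹ = k * y * k⁻¹ * (k * p * k⁻¹) by group, k2, k3, mul_assoc p, yy, mul_one, tp, py]
  rw [mem_bot.1 k1] at k2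
  exact E.ne (by simpa using k2)

/-- `J(m) = m` for all lines -/
theorem sol4 (E : Ed V p' q') (h1 : i ∈ Up V p') (h2 : i ∈ Up V q') : i ∈ Lp p' q' := by
  obtain ⟨p, a1, a2⟩ := P.nr.last
  obtain ⟨g, rfl, rfl⟩ := h.trans3 (P.ed a1 a2) E
  rw [← cj_Up, mem_cj] at h1 h2
  rw [← cj_Lp, mem_cj]
  have M := h.mo P.nr.right
  rcases (M.axis P.f.tr h2).1 (by rw [comm_iff.1 (P.cm _ _ a1 P.f.aA) _ h1]; exact one_mem _) with k | k
  · exact h.sol4a P a1 a2 h1 k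
  refine (mul_mem_cancel_left Lp_left).1 (h.sol4a P a1 a2 (mul_mem a2.left.mem h1) ?_)
  have := mul_mem (inv_mem (h.ncp P a1 a2)) k
  rwa [mul_inv_rev, mul_assoc, inv_mul_cancel_left, M.inv a2.symm.mem] at this

end pr

end Ge

end H118
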