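import Cfsg.Agent.H18.FE6
/-! Every critical pair is pure. -/
set_option autoImplicit false
namespace H118
open Cfsg Subgroup H26 H4
open scoped Pointwise commutatorElement

variable {G : Type*} [Group G]

structure NQ (V : Subgroup G) (n : ℕ) (x y b e : G) : Prop extends Cr V n x y where
  bB : b ∈ Up V y
  q : Qd (Up V x) (𝐂 (zpowers x)) (Tp V x) e b y
  W : We (Up V x) e ≤ Tp V y
  two : ∀ s ∈ Up V y, s ∈ Tp V x ∨ s * b ∈ Tp V x

abbrev B0 (V : Subgroup G) (x y : G) : Subgroup G := Up V y ⊓ Tp V x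
abbrev Jq (V : Subgroup G) (x y e : G) : Subgroup G := B0 V x y ⊓ B0 V x (e * y * e⁻¹)

theorem Near.one {V : Subgroup G} {p q : G} (h : Near V 1 p q) : Col V p q :=
  let ⟨_, a, b⟩ := h.last; a.zero_eq ▸ b

variable [Finite G] {S V : Subgroup G} {z : G}

theorem surj_of_inj {P Q J : Subgroup G} (φ : G → G) (hφ : ∀ s ∈ P, φ s ∈ Q)
    (h : ∀ s ∈ P, ∀ s' ∈ P, (φ s)⁻¹ * φ s' ∈ J → s⁻¹ * s' ∈ J) (h1 : J ≤ P) (h2 : J ≤ Q)
    (hc : Nat.card P = Nat.card Q) {v : G} (hv : v ∈ Q) : ∃ s ∈ P, (φ s)⁻¹ * v ∈ J := by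
  let f : P ⧸ J.subgroupOf P → Q ⧸ J.subgroupOf Q := fun x => ((⟨φ x.out, hφ _ x.out.2⟩ : Q) : Q ⧸ J.subgroupOf Q)
  have inj : Function.Injective f := fun a b k => by
    rw [← a.out_eq', ← b.out_eq']
    have k' := (QuotientGroup.eq (s := J.subgroupOf Q)).1 k
    exact QuotientGroup.eq.2 (h _ a.out.2 _ b.out.2 k')
  have e1 := card_eq_card_quotient_mul_card_subgroup (J.subgroupOf P)
  have e2 := card_eq_card_quotient_mul_card_subgroup (J.subgroupOf Q)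
  rw [Nat.card_congr (subgroupOfEquivOfLe h1).toEquiv] at e1
  rw [Nat.card_congr (subgroupOfEquivOfLe h2).toEquiv, ← hc, e1] at e2
  obtain ⟨a, ha⟩ := ((Nat.bijective_iff_injective_and_card f).2 ⟨inj, Nat.eq_of_mul_eq_mul_right (card_pos' J) e2⟩).2
    ((⟨v, hv⟩ : Q) : Q ⧸ J.subgroupOf Q)
  have k' := (QuotientGroup.eq (s := J.subgroupOf Q)).1 ha
  exact ⟨_, a.out.2, k'⟩

theorem Mo.inv_of_comm {U H T : Subgroup G} {y e t s : G} (h : Mo y U H T) (i : In H T e t) (k : ⁅s, e⁆ ∈ T) :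
    s * t * e * (s * t)⁻¹ * e ∈ T := by
  rw [show s * t * e * (s * t)⁻¹ * e = s * (t * e * t⁻¹) * s⁻¹ * e by group, i.inv,
    show s * e⁻¹ * s⁻¹ * e = e⁻¹ * ⁅s, e⁆⁻¹ * e by group]
  exact conj_mem_of_mem_normalizer' (h.nT (Mo.eH i)) (inv_mem k)

namespace Ge
variable (h : Ge S V z) {l m P : Subgroup G} {x y p q r g a b e e' c i s t u v w : G} {n : ℕ}
include h

theorem exists_fixed (hy : Col V y y) (hP : IsPGroup 2 P) (h1 : P ≤ 𝐂 (zpowers y)) :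
    ∃ v, Ed V y v ∧ ∀ s ∈ P, ⁅s, v⁆ ∈ zpowers y := by
  obtain ⟨y1, -, l, hl, hy', -⟩ := hy
  obtain ⟨Q, s, n, o⟩ := h.exists_syl hl hy' y1
  obtain ⟨g, hg, e⟩ := (s.mono (o ▸ le_c_oz Q : Q ≤ 𝐂 (zpowers y)) le_top).exists_cj_le hP h1
  have hm := hl.cj g⁻¹
  have ym : y ∈ cj g⁻¹ l := by rw [mem_cj, inv_inv, conj_eq_of_mem_c hg]; exact hy'
  obtain ⟨v, hv, hv'⟩ := h.exists_other hm ym
  refine ⟨v, ⟨⟨y1, fun k => hv' (k ▸ one_mem _), _, hm, ym, hv⟩, fun k => hv' (k ▸ mem_zpowers _)⟩, fun s hs => ?_⟩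
  rw [← commutatorElement_inv]
  exact inv_mem (h.comm_ln hm ym y1 h1 (by rw [← cj_normalizer, ← cj_le_iff]; exact e.trans n)
    (commutator_mem_commutator hv hs))

/-- all vectors of a component with a point centre are points -/
theorem pts (r : Tv V y e t c) (E : Ed V y c) (hu : u ∈ Wy V y e) (hu' : u ∉ zpowers y) : Ed V y u := by
  have M := h.mo E.col
  have eH := Mo.eH r.toIn
  obtain ⟨w, hw, z, hz, rfl⟩ := M.mem_WZ eH hu
  have f : ∀ {v}, Ed V y v → Ed V y (e * v * e⁻¹) := fun k => by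
    have := k.conj e
    rwa [conj_eq_of_mem_c eH] at this
  have : Ed V y w := by
    rcases M.qcases r.toQd hw with k | k | k | k <;> rw [k] at hu' ⊢
    · exact absurd (by rwa [one_mul]) hu'
    · exact E
    · exact f E
    · exact M.cyc eH r.od r.cW r.c1 (M.four r.toQd) ▸ f (f E)
  exact h.ed_of this (mul_mem Lp_right (mem_sup_left hz)) hu'

theorem pure_two (P : Cr V 0 x y) : x ∉ Up V y := fun k => by
  obtain ⟨p, a1, a2⟩ := P.nr.last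
  have E := P.ed a1 a2
  have hl := h.ln_Lp E
  have E2 := (h.ed_mul E).symm
  obtain ⟨τ, -, t2, t3⟩ := h.j3 hl (h.mem_Jl_of hl Lp_left E.col.1 Lp_right (h.nz E) a1.one.symm.mem k)
    (fun j => P.nc (P.cm _ _ (Col.near ⟨P.nr.left.1, a2.2.1, _, hl, j, Lp_right⟩))) (mul_mem Lp_left Lp_right)
    E2.col.1 Lp_left (h.nz E2)
  have := a1.one.cj τ
  rw [conj_eq_of_comm t2, conj_eq_comm, t3, h.ed_cm E, mul_assoc, h.pp a2, mul_one] at this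
  exact P.nc (P.cm _ _ this.near)

theorem exists_nq (P : Cr V n x y) (hb : ¬ Up V y ≤ Tp V x) (hd : ∀ b ∈ Up V y, b ∉ Tp V x → ∃ e, Iv V x e b ∧
    (∀ s ∈ Up V y, ⁅s, e⁆ ∈ Tp V x ∨ ⁅s * b, e⁆ ∈ Tp V x) ∧ We (Up V x) e ≤ Tp V y) : ∃ b e, NQ V n x y b e := by
  have M := h.mo P.nr.right
  have M' := h.mo P.nr.left
  have qd : ∀ {b e}, b ∈ Up V y → Iv V x e b → We (Up V x) e ≤ Tp V y →
      Qd (Up V x) (𝐂 (zpowers x)) (Tp V x) e b y := fun {b e} hb i W => by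
    have t : ∀ w ∈ We (Up V x) e, ⁅b, w⁆ ∈ zpowers y := fun w hw => by
      rw [← commutatorElement_inv]; exact inv_mem (M.Tc (W hw) hb)
    obtain ⟨w, hw, w1⟩ := M'.exists_comm i
    exact ⟨i, (mem_two (M.sq M.yU) (t w hw)).resolve_left w1 ▸ M'.commW i hw, M.y1, t⟩
  obtain ⟨b, bB, bT⟩ := SetLike.not_le_iff_exists.1 hb
  obtain ⟨e, i, d, W⟩ := hd b bB bT
  have q := qd bB i W
  have key : ∀ s ∈ Up V y, ⁅s, e⁆ ∈ Tp V x → s ∈ Tp V x := fun s hs k => by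
    by_contra sT
    obtain ⟨e2, i2, d2, W2⟩ := hd s hs sT
    have q2 := qd hs i2 W2
    have u : ∀ σ ∈ Up V y, σ * e * σ⁻¹ * e ∈ Tp V x → σ * e2 * σ⁻¹ * e2 ∈ Tp V x → We (Up V x) e2 ≤ Wy V x e :=
      fun σ hσ k1 k2 => M'.u3 q q2 (M.sq M.yU ▸ one_mem _) (P.symm.fix hσ) k1 k2 (by
        rw [M.commZ (M.UH hσ) (mem_zpowers y)]; exact one_mem _)
    have le : We (Up V x) e2 ≤ Wy V x e := by
      rcases d2 b bB with j | j
      · exact u _ (mul_mem bB hs) (M.cm bB hs ▸ M'.inv_of_comm i k) (M'.inv_of_comm i2 j)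
      · have := M'.inv_of_comm i2 j
        rw [mul_assoc b, M.sq hs, mul_one] at this
        exact u _ bB (by rw [i.inv, inv_mul_cancel]; exact one_mem _) this
    obtain ⟨w, hw, z, hz, e1⟩ := M'.mem_WZ (Mo.eH i) (le (M'.dW q2))
    refine M'.c_nZ q ?_
    rw [← M'.t_d q2, ← e1, M'.comm_mul i2.tH (M'.We_le (Mo.eH i) hw) (M'.ZU hz), M'.commZ i2.tH hz, mul_one]
    exact M'.quad i i2.tH k (fun w hw => by
      rw [M.commZ (M.UH hs) (q.tw w hw)]; exact one_mem _) hw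
  exact ⟨b, e, P, bB, q, W, fun s hs => (d s hs).imp (key s hs) (key _ (mul_mem hs bB))⟩

section nq
variable (N : NQ V n x y b e')
include N

theorem nq_c (hs : s ∈ B0 V x y) (hw : w ∈ We (Up V x) e') : ⁅s, w⁆ = 1 := by
  have M := h.mo N.nr.right
  have M' := h.mo N.nr.left
  refine (mem_two (M.sq M.yU) (by rw [← commutatorElement_inv]; exact inv_mem (M.Tc (N.W hw) hs.1))).resolve_right
    fun k => M'.c_nZ N.q (k ▸ M'.Tc hs.2 (M'.We_le (Mo.eH N.q.toIn) hw))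

theorem nq_cj : cj e' (B0 V x y) = B0 V x (e' * y * e'⁻¹) := by
  rw [cj_inf, cj_Up, cj_eq_of_mem_normalizer ((h.mo N.nr.left).nT (Mo.eH N.q.toIn))]

theorem nq_H : B0 V x (e' * y * e'⁻¹) ≤ 𝐂 (zpowers y) := fun s hs => by
  rw [← h.nq_cj N] at hs
  obtain ⟨v, hv, rfl⟩ := mem_cj'.1 hs
  refine mem_c_of_conj_eq (conj_eq_of_comm ?_)
  have := h.nq_c N hv (conj_mem_of_mem_normalizer' Mo.e_nW N.q.cW)
  rw [show y = e' * (e'⁻¹ * y * e') * e'⁻¹ by group, ← conj_comm, this]; simp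

theorem nq_B0 (hs : s ∈ B0 V x (e' * y * e'⁻¹)) (hu : u ∈ Up V y) : ⁅s, u⁆ ∈ B0 V x y :=
  ⟨(h.mo N.nr.right).commU (h.nq_H N hs) hu, by
    rw [show ⁅s, u⁆ = s * (u * s⁻¹ * u⁻¹) by group]
    exact mul_mem hs.2 (conj_mem_of_mem_normalizer ((h.mo N.nr.left).nT (N.symm.fix hu)) (inv_mem hs.2))⟩

theorem nq_J (hs : s ∈ B0 V x (e' * y * e'⁻¹)) (hu : u ∈ B0 V x y) : ⁅s, u⁆ ∈ Jq V x y e' :=
  ⟨h.nq_B0 N hs hu.1, by
    rw [show ⁅s, u⁆ = s * (u * s⁻¹ * u⁻¹) by group]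
    exact mul_mem hs.1 (conj_mem_of_mem_normalizer (c_le_n_Up V _ (mem_c_of_conj_eq (conj_eq_of_comm
      (h.nq_c N hu ((h.mo N.nr.left).dW N.q))))) (inv_mem hs.1)), (h.nq_B0 N hs hu.1).2⟩

theorem nq_cJ : Up V (e' * y * e'⁻¹) ≤ 𝐂 (Jq V x y e') :=
  (h.Up_ab (N.nr.right.cj e')).trans (centralizer_anti (inf_le_right.trans inf_le_left))

theorem nq_cJ' : Up V y ≤ 𝐂 (Jq V x y e') := (h.Up_ab N.nr.right).trans (centralizer_anti (inf_le_left.trans inf_le_left))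

theorem nq_eJ : e' ∈ 𝐂 (Jq V x y e') := N.q.toIn.mem (h.nq_cJ' N N.bB) (h.nq_cJ N (conj_mem_Up N.bB e'))

theorem nq_inj (hs : s ∈ B0 V x (e' * y * e'⁻¹)) (hu : u ∈ Up V y) (hu' : u ∉ Tp V x) (k : ⁅s, u⁆ ∈ Jq V x y e') :
    s ∈ Jq V x y e' := by
  have m : ∀ g ∈ 𝐂 (Jq V x y e'), ⁅s, g⁆ ∈ Jq V x y e' → g ∈ commStab {s} (Jq V x y e') := fun g a b =>
    ⟨centralizer_le_normalizer _ a, fun c hc => by rw [hc, ← commutatorElement_inv]; exact inv_mem b⟩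
  have m1 := m _ (h.nq_cJ' N hu) k
  have ub := mul_mem hu N.bB
  have m2 := m _ (h.nq_cJ' N ub) (h.nq_J N hs ⟨ub, (N.two u hu).resolve_left hu'⟩)
  have m3 := m _ (h.nq_cJ N (conj_mem_Up N.bB e')) (by
    rw [comm_iff.1 (h.Up_ab (N.nr.right.cj e') hs.1) _ (conj_mem_Up N.bB e')]; exact one_mem _)
  have := (mem_inf.1 ((inv_mem (N.q.toIn.mem ((mul_mem_cancel_left m1).1 m2) m3)).2 s rfl)).1
  have k2 : e'⁻¹ * s * e' ∈ B0 V x y := by rwa [← h.nq_cj N, mem_cj] at hs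
  rw [show ⁅e'⁻¹, s⁆ = e'⁻¹ * s * e' * s⁻¹ by group, mul_mem_cancel_left k2, inv_mem_iff] at this
  exact ⟨this, hs⟩

theorem nq_surj (hu : u ∈ Up V y) (hu' : u ∉ Tp V x) (hv : v ∈ B0 V x y) :
    ∃ s ∈ B0 V x (e' * y * e'⁻¹), ⁅s, u⁆ * v ∈ Jq V x y e' := by
  have M := h.mo N.nr.right
  obtain ⟨s, hs, k⟩ := surj_of_inj (fun s => ⁅s, u⁆) (fun s hs => h.nq_B0 N hs hu) (fun s hs s' hs' k => by
    have m := mul_mem (inv_mem hs) hs'
    refine h.nq_inj N m hu hu' ?_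
    rw [show ⁅s', u⁆ = s * ⁅s⁻¹ * s', u⁆ * s⁻¹ * ⁅s, u⁆ by group, M.cm (M.conjU (h.nq_H N hs) (h.nq_B0 N m hu).1)
      (h.nq_B0 N hs hu).1, inv_mul_cancel_left] at k
    have := conj_mem_of_mem_normalizer' (centralizer_le_normalizer _ (h.nq_cJ N hs.1)) k
    rwa [show s⁻¹ * (s * ⁅s⁻¹ * s', u⁆ * s⁻¹) * s = ⁅s⁻¹ * s', u⁆ by group] at this)
    inf_le_right inf_le_left (by rw [← h.nq_cj N, card_cj]) hv
  exact ⟨s, hs, by rwa [M.inv (h.nq_B0 N hs hu).1] at k⟩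

theorem nq_T (hs : s ∈ B0 V x (e' * y * e'⁻¹)) (hu : u ∈ Up V y) (hu' : u ∉ Tp V x) (k : ⁅s, u⁆ ∈ zpowers y) :
    s ∈ Tp V y := by
  have M := h.mo N.nr.right
  have M' := h.mo N.nr.left
  rcases mem_two (M.sq M.yU) k with k | k
  · exact M.UT (h.nq_inj N hs hu hu' (k ▸ one_mem _)).1.1
  have dW := M'.dW N.q
  have ub := mul_mem hu N.bB
  have e1 : ⁅u, e' * y * e'⁻¹⁆ = y := by
    rw [show u = u * b * b by rw [mul_assoc, M.sq N.bB, mul_one], comm_mul_left, M'.t_d N.q,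
      h.nq_c N ⟨ub, (N.two u hu).resolve_left hu'⟩ dW, M.fixU ub M.yU, mul_one]
  refine (mul_mem_cancel_right (N.W dW)).1 (M.UT (h.nq_inj N (mul_mem hs ⟨(N.nr.right.cj e').mem,
    M'.UT (M'.We_le (Mo.eH N.q.toIn) dW)⟩) hu hu' ?_).1.1)
  rw [comm_mul_left, k, ← commutatorElement_inv, e1, M.inv M.yU, conj_eq_of_mem_c (h.nq_H N hs), M.sq M.yU]
  exact one_mem _

theorem nq_I (hv : v ∈ zpowers y ⊔ Jq V x y e') : v ∈ Jq V x y e' ∨ y * v ∈ Jq V x y e' := by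
  have M := h.mo N.nr.right
  have := mem_or_of_sq (centralizer_le_normalizer _ (h.nq_cJ' N M.yU)) (M.sq M.yU ▸ one_mem _) hv
  rwa [M.inv M.yU] at this

theorem nq_pt (E : Ed V y v) : v ∉ zpowers y ⊔ Jq V x y e' := fun k => by
  have key : ∀ {v}, Ed V y v → v ∉ Jq V x y e' := fun {v} E k => by
    have := E.col.cj e'
    rw [mem_centralizer_iff'.1 (h.nq_eJ N) v k] at this
    exact E.col.1 (((h.mo N.nr.left).t_d N.q).symm.trans (comm_iff.1 (N.cm1 _ _ E.col.near N.bB) _ this.symm.mem))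
  exact (h.nq_I N k).elim (key E) (key (h.ed_mul E))

theorem nq_false : False := by
  have M := h.mo N.nr.right
  have M' := h.mo N.nr.left
  have bT : b ∉ Tp V x := N.q.toIn.t_nT (M'.nT (Mo.eH N.q.toIn))
  have yT : zpowers y ≤ Tp V x := le_centralizer_iff.1 N.fix |>.trans (c_le_Tp N.nr.left)
  have eP : IsElementaryAbelian 2 (B0 V x (e' * y * e'⁻¹)) := elemAb_mono (h.Up_ea (N.nr.right.cj e')) inf_le_left
  have JB : Jq V x y e' ≤ Up V y := inf_le_left.trans inf_le_left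
  have mI : ∀ {ζ v}, ζ ∈ zpowers y → ζ * v ∈ Jq V x y e' → v ∈ zpowers y ⊔ Jq V x y e' := fun a b =>
    (mul_mem_cancel_left (mem_sup_left a)).1 (mem_sup_right b)
  obtain ⟨v0, E0, f0⟩ := h.exists_fixed N.nr.right (elemAb_isPGroup eP) (h.nq_H N)
  have vB := E0.col.mem
  have vT : v0 ∈ Tp V x := by
    by_contra k
    obtain ⟨p, a1, a2⟩ := N.nr.last
    obtain ⟨s, hs, j⟩ := h.nq_surj N vB k
      ⟨a2.symm.mem, c_le_Tp N.nr.left (le_centralizer_iff.1 (N.cm _ _ a1) a2.left.mem)⟩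
    exact h.nq_pt N (N.ed a1 a2).symm (mI (f0 s hs) j)
  obtain ⟨b', hb', j0⟩ := h.nq_surj N N.bB bT ⟨vB, vT⟩
  obtain ⟨e, i, d⟩ := dl M.TH M.nT M.sol M.red (h.nq_H N) eP hb' fun k => h.nq_pt N E0 (mI (M.Tc k N.bB) j0)
  have eH := Mo.eH i
  have W := M.We_le eH
  have cJ : ∀ s ∈ B0 V x (e' * y * e'⁻¹), ∀ j ∈ Jq V x y e', ⁅s, j⁆ = 1 := fun s hs => comm_iff.1 (h.nq_cJ N hs.1)
  have nb := M.n_Ce eH i.od i.tH (Mo.t_conj i)
  have nC : ∀ s ∈ B0 V x (e' * y * e'⁻¹), ∀ γ ∈ Ce (Up V y) e, ⁅s, γ⁆ ∈ Ce (Up V y) e := fun s hs γ hγ =>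
    mul_mem (conj_mem_of_mem_normalizer ((d s hs).elim (fun k => M.n_Ce eH i.od (h.nq_H N hs) (Mo.conj_mem_of_comm k))
      fun k => (mul_mem_cancel_right nb).1 (M.n_Ce eH i.od (h.nq_H N (mul_mem hs hb')) (Mo.conj_mem_of_comm k))) hγ)
      (inv_mem hγ)
  obtain ⟨w0, hw0, w0T⟩ : ∃ w ∈ We (Up V y) e, w ∉ Tp V x := by
    by_contra k
    push Not at k
    obtain ⟨w, hw, γ, hγ, e1⟩ := M.split eH i.od N.bB
    obtain ⟨w', hw', w1⟩ := M.exists_comm i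
    obtain ⟨s, hs, j⟩ := h.nq_surj N hγ.1 (fun j => bT (e1 ▸ mul_mem (k w hw) j)) ⟨W hw', k w' hw'⟩
    have := cJ b' hb' _ j
    rw [M.comm_mul i.tH (nC s hs γ hγ).1 (W hw')] at this
    exact w1 (M.disj eH i.od (M.commW i hw') (eq_inv_of_mul_eq_one_right this ▸ inv_mem (nC b' hb' _ (nC s hs γ hγ))))
  have sol1 : ∀ j ∈ Jq V x y e', j ∈ Ce (Up V y) e → j = 1 := fun j j1 j2 => by
    by_contra k
    have cj' : 𝐂 (Jq V x y e') ≤ 𝐂 (zpowers j) := centralizer_anti (zpowers_le.2 j1)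
    obtain ⟨u, u1, -, u3⟩ := sol_ind (h.sol_c (M.sq j2.1) k) (fun K => ∃ u ∈ K, u ∈ Up V y ∧ u ∉ Tp V x)
      ⟨b, cj' (h.nq_cJ' N N.bB), N.bB, bT⟩ fun K _ hn ⟨u, u1, u2, u3⟩ => by
        obtain ⟨v, hv, rfl⟩ := mem_cj'.1 (h.nq_cj N ▸ hb' : b' ∈ cj e' (B0 V x y))
        obtain ⟨s, hs, m⟩ := h.nq_surj N u2 u3 hv
        obtain ⟨w', a1, a2, a3⟩ := M.cover i hn ((h.nq_cJ' N).trans cj') (mem_c_of_conj_eq (mem_Ce.1 j2).2)
          (conj_mem_of_mem_normalizer (hn (cj' (h.nq_eJ N))) (mul_mem (conj_mem_of_mem_normalizer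
            (hn (cj' (h.nq_cJ N hs.1))) u1) (inv_mem u1)))
          (by
            rw [conj_mul, show s * u * s⁻¹ * u⁻¹ = ⁅s, u⁆ from rfl, mem_centralizer_iff'.1 (h.nq_eJ N) _ m]
            exact M.UT (JB m)) hw0
        exact ⟨w', a1, a2, fun k => w0T ((mul_mem_cancel_right k).1 (yT a3))⟩
    exact u3 (mem_bot.1 u1 ▸ one_mem _)
  have sol1' : ∀ j ∈ zpowers y ⊔ Jq V x y e', j ∈ Ce (Up V y) e → j ∈ zpowers y := fun j j1 j2 => by
    rcases h.nq_I N j1 with k | k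
    · rw [sol1 j k j2]; exact one_mem _
    · rw [eq_inv_of_mul_eq_one_right (sol1 _ k (mul_mem (M.Z_le_Ce eH (mem_zpowers y)) j2))]
      exact inv_mem (mem_zpowers y)
  have cB := M.commU i.tH N.bB
  have split : ∀ u ∈ Up V y, u ∉ Tp V x → u * b ∈ B0 V x y ∧ ⁅b', u⁆ = ⁅b', u * b⁆ * ⁅b', b⁆ := fun u hu k =>
    ⟨⟨mul_mem hu N.bB, (N.two u hu).resolve_left k⟩, by
      rw [← M.comm_mul i.tH (mul_mem hu N.bB) N.bB, mul_assoc, M.sq N.bB, mul_one]⟩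
  have p1 : ∀ s ∈ B0 V x (e' * y * e'⁻¹), ⁅s, e⁆ ∈ Tp V y → s ∈ Tp V y := fun s hs k => by
    refine h.nq_T N hs (W hw0) w0T (M.quad i (h.nq_H N hs) k (fun w hw => ?_) hw0)
    by_cases j : w ∈ Tp V x
    · rw [cJ s hs _ (h.nq_J N hb' ⟨W hw, j⟩)]; exact one_mem _
    obtain ⟨a1, a2⟩ := split w (W hw) j
    have a3 := cJ s hs _ j0
    rw [M.comm_mul (h.nq_H N hs) cB vB] at a3
    rw [a2, M.comm_mul (h.nq_H N hs) (JB (h.nq_J N hb' a1)) cB, cJ s hs _ (h.nq_J N hb' a1), one_mul,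
      eq_inv_of_mul_eq_one_left a3]
    exact inv_mem (f0 s hs)
  have cov : ∀ v ∈ B0 V x y, v ∈ zpowers y ⊔ Jq V x y e' ∨ v0 * v ∈ zpowers y ⊔ Jq V x y e' := fun v hv => by
    obtain ⟨s, hs, m⟩ := h.nq_surj N N.bB bT hv
    rcases d s hs with k | k
    · exact .inl (mI (M.Tc (p1 s hs k) N.bB) m)
    have k2 := M.Tc (p1 _ (mul_mem hs hb') k) N.bB
    rw [comm_mul_left, conj_eq_comm, mul_assoc] at k2
    have k3 := mul_mem (mul_mem (inv_mem (mem_sup_right j0)) ((mul_mem_cancel_left (mem_sup_right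
      (h.nq_J N hs (h.nq_B0 N hb' N.bB)))).1 (mem_sup_left k2))) (mem_sup_right (S := zpowers y) m)
    rw [show (⁅b', b⁆ * v0)⁻¹ * (⁅b', b⁆ * ⁅s, b⁆) * (⁅s, b⁆ * v) = v0⁻¹ * (⁅s, b⁆ * ⁅s, b⁆) * v by group,
      M.sq (h.nq_B0 N hs N.bB).1, mul_one, M.inv vB] at k3
    exact .inr k3
  have IB : zpowers y ⊔ Jq V x y e' ≤ Up V y := sup_le M.ZU JB
  have cI : ∀ v ∈ zpowers y ⊔ Jq V x y e', ⁅b', v⁆ = 1 := comm_iff.1 (le_centralizer_iff.1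
    (sup_le (le_centralizer_iff.1 (zpowers_le.2 i.tH)) (le_centralizer_iff.1 (zpowers_le.2 (h.nq_cJ N hb'.1))))
    (mem_zpowers b'))
  have c0 : ∀ v ∈ B0 V x y, ⁅b', v⁆ ∈ zpowers y := fun v hv => by
    rcases cov v hv with k | k
    · rw [cI v k]; exact one_mem _
    · have := cI _ k
      rw [M.comm_mul i.tH vB hv.1] at this
      rw [eq_inv_of_mul_eq_one_right this]; exact inv_mem (f0 b' hb')
  have tv : ∀ u ∈ Up V y, ⁅b', u⁆ ∈ zpowers ⁅b', b⁆ ⊔ zpowers y := fun u hu => by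
    by_cases k : u ∈ Tp V x
    · exact mem_sup_right (c0 u ⟨hu, k⟩)
    · rw [(split u hu k).2]; exact mul_mem (mem_sup_right (c0 _ (split u hu k).1)) Lp_left
  obtain ⟨c, q, hc⟩ := M.qd_of i cB fun w hw => tv w (W hw)
  have r : Tv V y e b' c := ⟨q, fun u hu => sup_le (zpowers_le.2 ((mul_mem_cancel_right Lp_left).1 (mem_sup_right hc)))
    le_sup_right (tv u hu)⟩
  have sm : ∀ γ ∈ Ce (Up V y) e, ∀ γ' ∈ Ce (Up V y) e, γ ∉ zpowers y → γ' ∉ zpowers y → γ * γ' ∈ zpowers y := by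
    have key : ∀ γ ∈ Ce (Up V y) e, γ ∉ zpowers y → v0 * γ ∈ zpowers y ⊔ Jq V x y e' := fun γ a k =>
      (cov γ ⟨a.1, by_contra fun j => i.t_nT (M.nT eH) (h.nq_T N hb' a.1 j (M.t_Ce r a))⟩).resolve_left
        fun j => k (sol1' γ j a)
    intro γ a γ' a' k k'
    refine sol1' _ ?_ (mul_mem a a')
    have := mul_mem (inv_mem (key γ a k)) (key γ' a' k')
    rwa [mul_inv_rev, mul_assoc, inv_mul_cancel_left, M.inv a.1] at this
  have nH : ∀ k ∈ 𝐂 (zpowers y), k ∈ 𝐍 (Wy V y e) ∧ k ∈ 𝐍 (Ce (Up V y) e) := fun k hk => by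
    obtain ⟨r', e1, e2⟩ := M.cj_tr r hk
    rcases M.dich r r' with ⟨a1, a2⟩ | ⟨-, a⟩
    · exact ⟨cj_eq_iff.1 (e1.trans a1), cj_eq_iff.1 (e2.trans a2)⟩
    have eH' := Mo.eH r'.toIn
    have dW := M.dW r'.toQd
    have := M.WZ_one eH' r'.od (mul_mem r'.cW dW) (sm _ (a r'.cW) _ (a dW) (M.c_nZ r'.toQd)
      fun j => conj_ne_one _ r'.c1 (M.WZ_one eH' r'.od dW j))
    exact absurd ((eq_inv_of_mul_eq_one_left this).trans (M.inv (M.We_le eH' dW))) (M.ne_conj eH' r'.od r'.cW r'.c1)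
  have hl := h.ln_Lp E0
  rcases (M.axis r vB).1 (f0 b' hb') with k | k
  · exact r.c1 (M.disj eH i.od r.cW (h.Up_le_of hl Lp_left M.y1 (fun g hg => (nH g hg).2)
      (Lp_le (M.Z_le_Ce eH (mem_zpowers y)) k) (W r.cW)))
  have k1 : c * v0 ∈ zpowers y := sol1' _ (by
    have := mul_mem (mem_sup_left hc) (mem_sup_right (S := zpowers y) j0)
    rwa [M.cm cB (W r.cW), mul_assoc, ← mul_assoc ⁅b', b⁆, M.sq cB, one_mul] at this) k
  have k2 := h.Up_le_of hl Lp_left M.y1 (fun g hg => (nH g hg).1) (Lp_le (mem_sup_right (mem_zpowers y))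
    ((mul_mem_cancel_left (mem_sup_left r.cW)).1 (mem_sup_right k1)))
  have Ec := h.ed_of E0 ((mul_mem_cancel_right Lp_right).1 (mem_sup_left k1)) (M.c_nZ q)
  obtain ⟨g1, e1⟩ := h.pt N.nr.right
  obtain ⟨g2, e2⟩ := h.pt N.nr.left
  have e3 : g1 * g2⁻¹ * x * (g1 * g2⁻¹)⁻¹ = y := by rw [← e1, ← e2]; group
  have m1 := conj_mem_Up (M'.cU N.q) (g1 * g2⁻¹)
  rw [e3] at m1
  have E3 := (h.pts r Ec (k2 m1) fun j => M'.c_nZ N.q (by
    rw [← conj_mem_cj_iff (g := g1 * g2⁻¹), cj_zpowers, e3]; exact j)).conj (g1 * g2⁻¹)⁻¹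
  rw [show (g1 * g2⁻¹)⁻¹ * y * (g1 * g2⁻¹)⁻¹⁻¹ = x by rw [← e3]; group,
    show (g1 * g2⁻¹)⁻¹ * (g1 * g2⁻¹ * y * (g1 * g2⁻¹)⁻¹) * (g1 * g2⁻¹)⁻¹⁻¹ = y by group] at E3
  exact N.nc (N.cm1 _ _ E3.col.near)

end nq

theorem not_le_T (P : Cr V n x y) : ¬ Up V x ≤ Tp V y := fun k => by
  have M' := h.mo P.nr.left
  obtain ⟨b, e, N⟩ := h.exists_nq P (fun j => P.nc (h.Up_comm k j)) fun b hb bT => by
    obtain ⟨e, i, d⟩ := dl M'.TH M'.nT M'.sol M'.red P.symm.fix (h.Up_ea P.nr.right) hb bT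
    exact ⟨e, i, d, (M'.We_le (Mo.eH i)).trans k⟩
  exact h.nq_false N

theorem not_mem (P : Cr V n x y) : x ∉ Up V y := by
  rcases n with _ | n
  · exact h.pure_two P
  intro k
  have M' := h.mo P.nr.left
  let X : Subgroup G := ⨆ q : {q // Col V y q}, Up V q
  have eX : IsElementaryAbelian 2 X := elemAb_iSup (fun q => h.Up_ea q.2.symm) fun q q' =>
    P.cm.mono (k := 2) (by omega) _ _ (q.2.symm.near.trans q'.2.near)
  have le : ∀ {q}, Col V y q → Up V q ≤ X := fun {q} hq => le_iSup_of_le ⟨q, hq⟩ le_rfl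
  have BX := le P.nr.right
  have XH : X ≤ 𝐂 (zpowers x) := (elemAb_le_centralizer eX).trans (centralizer_anti (zpowers_le.2 (BX k)))
  obtain ⟨b, e, N⟩ := h.exists_nq P (h.not_le_T P.symm) fun b hb bT => by
    obtain ⟨e, i, d⟩ := dl M'.TH M'.nT M'.sol M'.red XH eX (BX hb) bT
    have W := M'.We_le (Mo.eH i)
    have m : ∀ w ∈ We (Up V x) e, ⁅b, w⁆ ∈ Up V y := fun w hw => P.symm.memA hb (W hw)
    have key : ∀ s ∈ X, ⁅s, e⁆ ∈ Tp V x → ∀ w ∈ We (Up V x) e, ⁅s, w⁆ ∈ Up V y := fun s hs j w hw =>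
      zpowers_le.2 k (M'.quad i (XH hs) j (fun w hw => by
        rw [comm_iff.1 (elemAb_le_centralizer eX hs) _ (BX (m w hw))]; exact one_mem _) hw)
    refine ⟨e, i, fun s hs => d s (BX hs), h.lemX P.cm1 P.nr.right.1 (W.trans P.fix) fun q hq =>
      commutator_le.2 fun s hs w hw => ?_⟩
    rcases d s (le hq hs) with j | j
    · exact key s (le hq hs) j w hw
    have sb := mul_mem (le hq hs) (BX hb)
    rw [show s = s * b * b by rw [mul_assoc, i.tt, mul_one], comm_mul_left,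
      mem_centralizer_iff'.1 (elemAb_le_centralizer eX sb) _ (BX (m w hw))]
    exact mul_mem (m w hw) (key _ sb j w hw)
  exact h.nq_false N

theorem pure (P : Cr V n x y) : ∃ a b e e' c, Pr V n x y a b e e' c :=
  h.exists_pr ⟨P, h.not_mem P, h.not_mem P.symm⟩

end Ge

end H118
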