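import Cfsg.Agent.H18.FE7
/-! Critical pairs at distance two do not occur. -/
set_option autoImplicit false
namespace H118
open Cfsg Subgroup H26 H4
open scoped Pointwise commutatorElement

variable {G : Type*} [Group G]

/-- generated by the components belonging to the flags on `m` -/
def Om (V m : Subgroup G) : Subgroup G :=
  sSup {X | ∃ q ∈ m, ∃ s ∈ m, ∃ e t, q ≠ 1 ∧ Tv V q e t s ∧ X = We (Up V q) e}

theorem le_Om {V m : Subgroup G} {q s e t : G} (hq : q ∈ m) (hs : s ∈ m) (q1 : q ≠ 1) (r : Tv V q e t s) :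
    We (Up V q) e ≤ Om V m := le_sSup ⟨q, hq, s, hs, e, t, q1, r, rfl⟩

theorem cj_Om_le (V m : Subgroup G) (g : G) : cj g (Om V m) ≤ Om V (cj g m) :=
  cj_le_iff.2 (sSup_le fun _ ⟨q, a, s, b, e, t, c, r, k⟩ => cj_le_iff.1 (by
    rw [k, cj_We, cj_Up]; exact le_Om (conj_mem_cj g a) (conj_mem_cj g b) (conj_ne_one g c) (r.conj g)))

variable [Finite G] {S V : Subgroup G} {z : G}

namespace Mo
variable {U H T : Subgroup G} {y e t c u v : G} (h : Mo y U H T)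
include h

theorem d_nL (q : Qd U H T e t c) : e * c * e⁻¹ ∉ Lp c y := fun k => q.c1 (by
  have : Lp c y ≤ 𝐂 (zpowers t) := Lp_le (mem_c_of_conj_eq (conj_eq_of_comm (comm_one_symm (h.t_c q))))
    (mem_c_of_conj_eq (conj_eq_of_comm (comm_one_symm (h.commZ q.tH (mem_zpowers y)))))
  rw [← h.t_d q]; exact comm_one_symm (comm_eq_one_of_conj (conj_eq_of_mem_c (this k))))

theorem mv (r : Tr y U H T e t c) (hu : u ∈ We U e ⊔ zpowers y) (hu' : u ∉ Lp c y) (hv : v ∈ We U e ⊔ zpowers y)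
    (hv' : v ∉ Lp c y) : ∃ g ∈ H, g * c * g⁻¹ = c ∧ g * u * g⁻¹ = v := by
  have eH := eH r.toIn
  have dW := h.dW r.toQd
  have dU := h.We_le eH dW
  have cU := h.cU r.toQd
  obtain ⟨τ, hτ, t1, t2⟩ := h.indep r.toIn dU cU (fun k => h.ne_conj eH r.od r.cW r.c1 (by
    rw [eq_inv_of_mul_eq_one_left (h.disj eH r.od (mul_mem dW r.cW) k), h.inv cU]))
    (h.exists_T r.toIn dU fun k => conj_ne_one e r.c1 (h.disj eH r.od dW k))
  have a1 := conj_eq_of_comm t2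
  have a2 := conj_eq_of_comm (h.t_c r.toQd)
  have a3 : τ * (e * c * e⁻¹) * τ⁻¹ = e * c * e⁻¹ * y := by rw [conj_eq_comm, t1, h.cm h.yU dU]
  have a4 : t * (e * c * e⁻¹) * t⁻¹ = c * (e * c * e⁻¹) := by rw [conj_eq_comm, h.t_d r.toQd]
  have key : ∀ u ∈ We U e ⊔ zpowers y, u ∉ Lp c y → ∃ g ∈ H, g * c * g⁻¹ = c ∧ g * (e * c * e⁻¹) * g⁻¹ = u := by
    intro u hu hu'
    obtain ⟨w, hw, z, hz, rfl⟩ := h.mem_WZ eH hu
    rcases h.qcases r.toQd hw with k | k | k | k <;> rw [k] at hu' ⊢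
    · exact absurd (mul_mem (one_mem _) (mem_sup_right hz)) hu'
    · exact absurd (mul_mem Lp_left (mem_sup_right hz)) hu'
    all_goals rcases mem_two (h.sq h.yU) hz with j | j <;> rw [j]
    · exact ⟨1, one_mem _, by group, by group⟩
    · exact ⟨τ, h.TH hτ, a1, a3⟩
    · exact ⟨t, r.tH, a2, by rw [a4, mul_one]⟩
    · exact ⟨t * τ, mul_mem r.tH (h.TH hτ), by rw [show t * τ * c * (t * τ)⁻¹ = t * (τ * c * τ⁻¹) * t⁻¹ by group, a1, a2],
        by rw [show t * τ * (e * c * e⁻¹) * (t * τ)⁻¹ = t * (τ * (e * c * e⁻¹) * τ⁻¹) * t⁻¹ by group, a3, ← conj_mul, a4,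
          h.fixZ r.tH (mem_zpowers y)]⟩
  obtain ⟨g, hg, b1, b2⟩ := key u hu hu'
  obtain ⟨k, hk, c1, c2⟩ := key v hv hv'
  refine ⟨k * g⁻¹, mul_mem hk (inv_mem hg), ?_, by rw [← b2, ← c2]; group⟩
  conv_lhs => rw [← b1]
  conv_rhs => rw [← c1]
  group

end Mo

namespace Ge
variable (h : Ge S V z) {x y p q a b e e' c s t u v w x0 x' e0 t0 e1 t1 e2 t2 : G} {n : ℕ}
include h

theorem off_axis (P : Pr V n x y a b e e' c) (r : Tv V y e1 t c) (hu : u ∈ Up V y) (k : ⁅t, u⁆ ∉ zpowers y) :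
    u ∉ 𝐂 (Up V x) := fun j => k (((h.mo P.nr.right).axis_iff P.f.tr r ((h.Up_sq P.nr.left (cA P)) ▸ one_mem _) hu).1
      (by rw [comm_one_symm (comm_iff.1 j a P.f.aA)]; exact one_mem _))

theorem c_eq (P : Pr V 0 x y a b e e' c) (h1 : Col V x p) (h2 : Col V p y) : c = p := by
  have k1 := mem_Ce.1 (h.ncp P h1.near h2)
  have k2 := mem_Ce.1 (h.ncp P.symm h2.symm.near h1.symm)
  rw [eq_inv_of_mul_eq_one_left (h.sol0 P k2.1 k1.1 k1.2 k2.2), inv_eq_of_mul_eq_one_right (h.pp h2)]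

omit h in
theorem cr0 (c1 : Cm V 1) (h1 : Col V x p) (h2 : Col V p y) (k : ¬ Up V x ≤ 𝐂 (Up V y)) : Cr V 0 x y :=
  ⟨c1, h1.near.trans h2.near, k⟩

theorem pr0 (P : Cr V 0 x y) (h1 : Col V x p) (h2 : Col V p y) : ∃ a b e e', Pr V 0 x y a b e e' p := by
  obtain ⟨a, b, e, e', c, Q⟩ := h.pure P
  exact ⟨a, b, e, e', h.c_eq Q h1 h2 ▸ Q⟩

theorem comm_le (c1 : Cm V 1) (h1 : Col V x p) (h2 : Col V p y) (hs : s ∈ Up V x) (hu : u ∈ Up V y) :
    ⁅s, u⁆ ∈ zpowers p := by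
  by_cases k : Up V x ≤ 𝐂 (Up V y)
  · rw [comm_iff.1 (k hs) u hu]; exact one_mem _
  obtain ⟨a, b, e, e', P⟩ := h.pr0 (cr0 c1 h1 h2 k) h1 h2
  exact h.comm_c P hs hu

theorem same_eq (r : Tv V p e0 t0 x) (r' : Tv V p e1 t1 q) (hp : Col V p p) (hq : q ∈ Wy V p e0) :
    Wy V p e1 = Wy V p e0 := ((h.mo hp).eq_of_mem r r' hq (mem_sup_left r'.cW) ((h.mo hp).c_nZ r'.toQd)).1

theorem pc1 (P : Cr V 0 x y) (h1 : Col V x p) (h2 : Col V p y) (r0 : Tv V p e0 t0 x) : y ∉ Wy V p e0 := fun hy => by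
  have E : Ed V p x := P.symm.ed h2.symm.near h1.symm
  have c1 := P.cm
  obtain ⟨a, b, e, e', P'⟩ := h.pr0 P h1 h2
  have r := P'.f'.tr
  have M := h.mo h1
  have eH := Mo.eH r.toIn
  have Q : Cr V 0 p (e' * p * e'⁻¹) := by
    obtain ⟨g, g1, g2⟩ := h.trans3 E E.symm
    have r1 := r0.conj g
    have m := conj_mem_cj g hy
    rw [cj_Wy, g1] at m
    rw [g1, g2] at r1
    obtain ⟨k, -, k1, k2⟩ := M.mv r ((h.same_eq r r1 h1.left (mem_sup_left r.cW)).le m) (fun j => by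
      rw [show Lp p x = cj g (Lp x p) by rw [cj_Lp, g1, g2], conj_mem_cj_iff] at j
      exact P.nc (c1 _ _ (Col.near ⟨h1.1, h2.2.1, _, h.ln_Lp E.symm, Lp_left, j⟩))) (mem_sup_left (M.dW r.toQd))
      (M.d_nL r.toQd)
    have := (P.conj g).conj k
    rwa [g2, k1, k2] at this
  have cw : Col V x (e' * p * e'⁻¹) := by have := h1.cj e'; rwa [conj_eq_of_mem_c eH] at this
  have Q2 := Q.conj e'
  rw [M.cyc eH r.od r.cW r.c1 (M.four r.toQd)] at Q2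
  have bw : b * (e' * p * e'⁻¹) * b⁻¹ = p * (e' * p * e'⁻¹) := by rw [conj_eq_comm, M.t_d r.toQd]
  generalize e' * p * e'⁻¹ = w at Q cw Q2 bw
  have bx := conj_eq_of_mem_c r.tH
  have cw2 := cw.cj b
  rw [bx, bw] at cw2
  obtain ⟨v, t, e1, e1', P1⟩ := h.pr0 Q.symm cw.symm h1
  obtain ⟨a2, b2, e2, e2', P2⟩ := h.pr0 Q2 cw.symm cw2
  have vU := P1.f.aA
  have vU' := conj_mem_Up vU b
  have r2 := P1.f'.tr.conj b
  rw [bw] at vU' r2
  rw [bx] at r2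
  have k := h.comm_eq P2 vU (h.off_axis P2.symm P1.f'.tr vU (P1.f'.ab.symm ▸ (h.mo cw.symm).c_nZ P1.f'.tr.toQd)) vU'
    (h.off_axis P2 r2 vU' (by rw [← conj_comm, P1.f'.ab, bx]; exact (h.mo cw2.symm).c_nZ r2.toQd))
  have cy := h2.cj v
  rw [conj_eq_of_mem_c (P1.fix vU)] at cy
  have k2 := h.comm_le c1 cy.symm h2 (conj_mem_Up P'.f'.aA v) P'.f'.aA
  have vv := inv_eq_of_mul_eq_one_right (h.Up_sq cw.symm vU)
  have bb := inv_eq_of_mul_eq_one_right r.tt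
  rw [show ⁅v * b * v⁻¹, b⁆ = ⁅v, b * v * b⁻¹⁆ by simp only [commutatorElement_def, mul_inv_rev, vv, bb, mul_assoc], k] at k2
  exact h.nz E k2

theorem cmm (c1 : Cm V 1) (E : Ed V p x) (r0 : Tv V p e0 t0 x) (hy : y ∈ Wy V p e0) (hy' : y ∉ zpowers p) :
    Up V x ≤ 𝐂 (Up V y) := by
  by_contra k
  have E' := h.pts r0 E hy hy'
  exact h.pc1 (cr0 c1 E.col.symm E'.col k) E.col.symm E'.col r0 hy

section two
variable (P : Cr V 0 x y)
include P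

theorem exC (E : Ed V x0 p) : ∃ w, Cr V 0 w p ∧ Col V w x0 := by
  obtain ⟨q, a1, a2⟩ := P.nr.last
  obtain ⟨g, rfl, rfl⟩ := h.trans3 (P.ed a1 a2) E
  exact ⟨_, P.conj g, a1.one.cj g⟩

theorem exT (E : Ed V q s) : ∃ e t, Tv V q e t s := by
  obtain ⟨w, Q, c⟩ := h.exC P E.symm
  obtain ⟨a, b, e, e', P'⟩ := h.pr0 Q c E.col.symm
  exact ⟨e, a, P'.f.tr⟩

omit P in
theorem kl1 (E : Ed V p x0) (r0 : Tv V p e0 t0 x0) (h1 : x' ∈ Wy V p e0) (h2 : x' ∉ Lp x0 p) (r1 : Tv V x' e1 t1 p)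
    (r2 : Tv V (x0 * x') e2 t2 p) (Q : Cr V 0 w p) (c : Col V w x0) :
    ∃ ρ ∈ Wy V (x0 * x') e2, ⁅t2, ρ⁆ ∉ zpowers (x0 * x') ∧ e1 * p * e1⁻¹ * ρ ∈ Lp x0 w := by
  obtain ⟨v, t, e, e', P⟩ := h.pr0 Q c E.col.symm
  have M := h.mo E.col
  have n1 : x' ∉ zpowers p := fun k => h2 (mem_sup_right k)
  have E' := h.pts r0 E h1 n1
  have M1 := h.mo E'.col.symm
  have vU := P.f.aA
  have vp := conj_eq_of_mem_c (P.fix vU)
  have vx : v * x' * v⁻¹ = x0 * x' := by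
    rw [conj_eq_comm, (mem_two (h.pp c.symm) (h.comm_c P vU E'.col.mem)).resolve_left fun k => h2 (M.fixWZ r0.toQd h1
      ((M.axis_iff P.f.tr r0 (h.pp c.symm ▸ one_mem _) E'.col.mem).1 (k ▸ one_mem _)))]
  have rU := M1.We_le (Mo.eH r1.toIn) (M1.dW r1.toQd)
  have k := (h.mo c).cab P.f'.tr (centralizer_anti (zpowers_le.2 c.symm.mem)
    (le_centralizer_iff.1 (h.cmm Q.cm E r0 h1 n1) rU))
    (mem_centralizer_iff'.1 (Q.cm _ _ E'.col.symm.near rU) _ P.f'.aA) P.f'.bW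
  have R := r1.conj v
  rw [vx, vp] at R
  have c2 := E'.col.cj v
  rw [vx] at c2
  have M2 := h.mo c2.symm
  have e3 : v * (e1 * p * e1⁻¹) * v⁻¹ = v * e1 * v⁻¹ * p * (v * e1 * v⁻¹)⁻¹ := by
    conv_rhs => rw [← vp]
    group
  have dW := M2.dW R.toQd
  have dU := M2.We_le (Mo.eH R.toIn) dW
  refine ⟨v * (e1 * p * e1⁻¹) * v⁻¹, ?_, fun j => ?_, ?_⟩
  · rw [e3, ← h.same_eq r2 R c2.right (mem_sup_left r2.cW)]; exact mem_sup_left dW
  · rw [e3, M2.axis_iff r2 R (h.pp E.col ▸ one_mem _) dU, M2.t_d R.toQd] at j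
    exact M2.c_nZ R.toQd j
  · rwa [show ⁅e1 * p * e1⁻¹, v⁆ = e1 * p * e1⁻¹ * (v * (e1 * p * e1⁻¹)⁻¹ * v⁻¹) by group, M1.inv rU] at k

theorem kl (E : Ed V p x0) (r0 : Tv V p e0 t0 x0) (h1 : x' ∈ Wy V p e0) (h2 : x' ∉ Lp x0 p) (r1 : Tv V x' e1 t1 p)
    (r2 : Tv V (x0 * x') e2 t2 p) (hc : Col V (x0 * x') (x0 * x')) :
    We (Up V (x0 * x')) e2 ≤ We (Up V x') e1 ⊔ Wy V p e0 := by
  obtain ⟨w, Q, c⟩ := h.exC P E.symm
  have Ew : Ed V x0 w := Q.symm.ed E.col.near c.symm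
  obtain ⟨ej, tj, rj⟩ := h.exT P Ew
  obtain ⟨ei, ti, ri⟩ := h.exT P E.symm
  have M := h.mo E.col
  have M0 := h.mo c.symm
  have M2 := h.mo hc
  have eH := Mo.eH rj.toIn
  have pC : p ∈ Ce (Up V x0) ej := ((M0.dich ri rj).resolve_left fun k => Q.symm.nc (h.cmm P.cm E.symm ri
    (k.1.le (mem_sup_left rj.cW)) (h.nz Ew))).1 ri.cW
  have Q2 := Q.conj ej
  have c2 := c.cj ej
  rw [(mem_Ce.1 pC).2] at Q2
  rw [conj_eq_of_mem_c eH] at c2
  obtain ⟨ρ, a1, a2, a3⟩ := h.kl1 E r0 h1 h2 r1 r2 Q c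
  obtain ⟨ρ', b1, b2, b3⟩ := h.kl1 E r0 h1 h2 r1 r2 Q2 c2
  have W := M2.WZ_le (Mo.eH r2.toIn)
  have xU : x0 ∈ Wy V p e0 := mem_sup_left r0.cW
  have L : Lp p (x0 * x') ≤ Wy V p e0 := Lp_le (mem_sup_right (mem_zpowers p)) (mul_mem xU h1)
  have two : ∀ u ∈ Wy V (x0 * x') e2, ⁅t2, u⁆ ∉ zpowers (x0 * x') → ρ * u ∈ Wy V p e0 := fun u hu k =>
    L (M2.fixWZ r2.toQd (mul_mem a1 hu) (M2.off r2 (W a1) (W hu) a2 k))
  have m := two ρ' b1 b2
  have rW : e1 * p * e1⁻¹ ∈ We (Up V x') e1 := conj_mem_of_mem_normalizer Mo.e_nW r1.cW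
  generalize e1 * p * e1⁻¹ = r at a3 b3 rW
  have key : r * ρ ∈ Wy V p e0 := by
    by_contra k
    have f : ∀ {w u}, Ed V x0 w → u ∈ Lp x0 w → u ∉ Wy V p e0 → w * u ∈ Wy V p e0 := fun {w u} E hu hu' => by
      rcases h.Lp_cases E hu with j | j | j | j <;> rw [j] at hu' ⊢
      · exact absurd (one_mem _) hu'
      · exact absurd xU hu'
      · rw [h.pp E.col.symm]; exact one_mem _
      · rwa [h.ed_cm E, ← mul_assoc, h.pp E.col.symm, one_mul]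
    have E2 := Ew.conj ej
    rw [conj_eq_of_mem_c eH] at E2
    have rr : r * ρ' = r * ρ * (ρ * ρ') := by rw [mul_assoc, ← mul_assoc ρ, M2.sq (W a1), one_mul]
    have g1 := f Ew a3 k
    have g2 := f E2 b3 fun j => k (by rwa [rr, mul_mem_cancel_right m] at j)
    rw [rr, ← mul_assoc, mul_mem_cancel_right m] at g2
    have g3 := mul_mem g1 (inv_mem g2)
    rw [mul_inv_rev, ← mul_assoc, mul_inv_cancel_right] at g3
    have wW := mul_mem rj.cW (inv_mem (M0.dW rj.toQd))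
    obtain ⟨_, _, _, _, _, P'⟩ := h.pure P
    have g4 := h.sol4 P' E.symm (M0.We_le eH wW) (M.WZ_le (Mo.eH r0.toIn) g3)
    exact M0.ne_conj eH rj.od rj.cW rj.c1 (mul_inv_eq_one.1 (M0.disj eH rj.od wW
      (Lp_le (M0.Z_le_Ce eH (mem_zpowers _)) pC g4)))
  intro u hu
  by_cases k : ⁅t2, u⁆ ∈ zpowers (x0 * x')
  · exact mem_sup_right (L (M2.fixWZ r2.toQd (mem_sup_left hu) k))
  exact (mul_mem_cancel_left ((mul_mem_cancel_left (mem_sup_left rW)).1 (mem_sup_right key))).1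
    (mem_sup_right (two u (mem_sup_left hu) k))

theorem pc2 : False := by
  obtain ⟨p, -, a2⟩ := P.nr.last
  obtain ⟨p1, -, l, hl, hp, -⟩ := a2
  obtain ⟨x, hx, hx'⟩ := h.exists_other hl hp
  have E : Ed V p x := ⟨⟨p1, fun k => hx' (k ▸ one_mem _), l, hl, hp, hx⟩, fun k => hx' (k ▸ mem_zpowers _)⟩
  obtain ⟨e0, t0, r0⟩ := h.exT P E
  obtain ⟨e1, t1, r1⟩ := h.exT P E.symm
  have M := h.mo E.col
  have eH := Mo.eH r0.toIn
  have U1 := le_Om Lp_right Lp_left E.col.2.1 r1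
  have Ui : Wy V p e0 ≤ Om V (Lp p x) := sup_le (le_Om Lp_left Lp_right p1 r0) (zpowers_le.2 (U1 r1.cW))
  have E' := E.conj e0
  rw [conj_eq_of_mem_c eH] at E'
  have L : Lp p (e0 * x * e0⁻¹) ≤ Wy V p e0 := Lp_le (mem_sup_right (mem_zpowers p)) (mem_sup_left (M.dW r0.toQd))
  have nL := M.d_nL r0.toQd
  have le : Om V (Lp p (e0 * x * e0⁻¹)) ≤ Om V (Lp p x) := sSup_le fun _ ⟨q, hq, s, hs, e, t, q1, r, k⟩ => by
    rw [k]
    by_cases j : q = p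
    · subst j
      exact le_sup_left.trans ((h.same_eq r0 r E.col.left (L hs)).le.trans Ui)
    have qp : q ∉ zpowers p := fun i => (mem_two (h.pp E.col) i).elim q1 j
    have Eq := h.ed_of E' hq qp
    have xU : x ∈ Wy V p e0 := mem_sup_left r0.cW
    have le2 := h.ln_le (h.ln_Lp E') Lp_left p1 hq qp (K := Lp p q) Lp_left Lp_right
    have E0 := h.pts r0 E (mul_mem (L hq) xU) fun i => nL (Lp_le Lp_right
      ((mul_mem_cancel_right Lp_left).1 (mem_sup_right i)) (le2 Lp_right))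
    obtain ⟨e3, t3, r3⟩ := h.exT P E0
    obtain ⟨e2, t2, r2⟩ := h.exT P Eq.symm
    have w3 := h.same_eq r0 r3 E.col.left (mul_mem (L hq) xU)
    have qx : q * x * x = q := by rw [mul_assoc, h.pp E.col.symm, mul_one]
    have := h.kl P E0 r3 (w3.ge xU) (fun i => by
      rcases h.Lp_cases E0.symm i with i | i | i | i
      · exact E.col.2.1 i
      · exact q1 (by simpa using i)
      · exact E.ne i.symm
      · rw [mul_assoc, ← h.ed_cm E, ← mul_assoc, right_eq_mul, mul_eq_one_iff_eq_inv] at i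
        exact qp (i ▸ inv_mem (mem_zpowers p))) r1 (by rw [qx]; exact r2) (by rw [qx]; exact Eq.col.right)
    rw [qx, w3] at this
    exact le_sup_left.trans ((h.same_eq r2 r Eq.col.right (Lp_le (mem_sup_right (mem_zpowers q)) (mem_sup_left r2.cW) (Lp_le Lp_right Lp_left (le2 hs)))).le.trans
      (sup_le (this.trans (sup_le U1 Ui)) (zpowers_le.2 (Ui (L hq)))))
  have hl' := h.ln_Lp E
  have := h.uniq hl' (Y := Om V (Lp p x)) ((elemAb_isPGroup (h.Wl_ea P.cm hl')).to_le (sSup_le fun _ ⟨q, hq, s, hs, e, t, q1, r, k⟩ =>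
      k.le.trans (((h.mo (q := q) ⟨q1, q1, _, hl', hq, hq⟩).We_le (Mo.eH r.toIn)).trans (Up_le_Wl hq q1))))
    (fun k => p1 (mem_bot.1 (k.le (U1 r1.cW))))
    (fun g hg => mem_normalizer_of_cj_le ((cj_Om_le V _ g).trans (by rw [cj_eq_of_mem_normalizer hg])))
    (mem_normalizer_of_cj_le ((cj_Om_le V _ e0).trans (by rw [cj_Lp, conj_eq_of_mem_c eH]; exact le)))
  exact nL (Lp_le Lp_right Lp_left (conj_mem_of_mem_normalizer this Lp_right))

end two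

end Ge

end H118
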