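import Cfsg.Agent.H18.FT
import Cfsg.Agent.H18.FE2
import Cfsg.Agent.H26.NFrD
/-! The piece `FL` of `N4` (notes/helper26_N4d.md). -/
set_option autoImplicit false
namespace H118
open Cfsg Subgroup H26 H4
open scoped Pointwise commutatorElement
universe u

local notation "𝐉" => thompsonSubgroupOf 2
local notation "O²" => pResidualOf 2

variable {G : Type*} [Group G]

/-- generated by the lines containing `J` -/
def Ui (V J : Subgroup G) : Subgroup G := sSup {l | Ln V l ∧ J ≤ l}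

/-- the centralizer of `J` and `Ui V J / J` -/
def Tj (V J : Subgroup G) : Subgroup G := 𝐂 J ⊓ commStab (Ui V J : Set G) J

section basic
variable {V J l K : Subgroup G}

theorem Ln.le_Ui (h : Ln V l) (hp : J ≤ l) : l ≤ Ui V J := le_sSup ⟨h, hp⟩

theorem Ui_le (h : ∀ l, Ln V l → J ≤ l → l ≤ K) : Ui V J ≤ K := sSup_le fun l hl => h l hl.1 hl.2

theorem cj_Ui_le (g : G) (J : Subgroup G) : cj g (Ui V J) ≤ Ui V (cj g J) :=
  cj_le_iff.2 (Ui_le fun l hl hp => cj_le_iff.1 ((hl.cj g).le_Ui (cj_mono g hp)))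

theorem cj_Ui (g : G) (J : Subgroup G) : cj g (Ui V J) = Ui V (cj g J) := by
  refine le_antisymm (cj_Ui_le g J) (le_cj_iff.2 ?_)
  have := cj_Ui_le (V := V) g⁻¹ (cj g J)
  rwa [cj_inv_cj] at this

theorem le_Tj : K ≤ Tj V J ↔ K ≤ 𝐂 J ∧ ⁅K, Ui V J⁆ ≤ J := by
  rw [Tj, le_inf_iff, le_commStab_iff]
  exact ⟨fun h => ⟨h.1, h.2.2⟩, fun h => ⟨h.1, le_normalizer_of_le_centralizer h.1, h.2⟩⟩

theorem cj_Tj_le (g : G) (J : Subgroup G) : cj g (Tj V J) ≤ Tj V (cj g J) := by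
  rw [le_Tj, ← cj_Ui, ← cj_centralizer, ← cj_commutator]
  exact ⟨cj_mono g (le_Tj.1 le_rfl).1, cj_mono g (le_Tj.1 le_rfl).2⟩

theorem cj_Tj (g : G) (J : Subgroup G) : cj g (Tj V J) = Tj V (cj g J) := by
  refine le_antisymm (cj_Tj_le g J) (le_cj_iff.2 ?_)
  have := cj_Tj_le (V := V) g⁻¹ (cj g J)
  rwa [cj_inv_cj] at this

theorem c_le_n_Ui (V J : Subgroup G) : 𝐂 J ≤ 𝐍 (Ui V J) := fun g hg =>
  cj_eq_iff.1 (by rw [cj_Ui, cj_eq_of_mem_centralizer hg])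

theorem c_le_n_Tj (V J : Subgroup G) : 𝐂 J ≤ 𝐍 (Tj V J) := fun g hg =>
  cj_eq_iff.1 (by rw [cj_Tj, cj_eq_of_mem_centralizer hg])

theorem mem_or_of_sq {b t : G} (hb : b ∈ 𝐍 K) (h2 : b * b ∈ K) (ht : t ∈ zpowers b ⊔ K) : t ∈ K ∨ b⁻¹ * t ∈ K := by
  obtain ⟨x, hx, c, hc, rfl⟩ := (mem_sup_of_le_normalizer (zpowers_le.2 hb)).1 ht
  obtain ⟨n, rfl⟩ := mem_zpowers_iff.1 hx
  have e : ∀ k : ℤ, b ^ (2 * k) ∈ K := fun k => by rw [zpow_mul, zpow_two]; exact zpow_mem h2 k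
  rcases Int.even_or_odd' n with ⟨k, rfl | rfl⟩
  · exact .inl (mul_mem (e k) hc)
  · refine .inr ?_
    rw [show b⁻¹ * (b ^ (2 * k + 1) * c) = b ^ (2 * k) * c by group]
    exact mul_mem (e k) hc

theorem exists_comm_eq {b x : G} (hV : V ≤ 𝐂 V) (hb : b ∈ 𝐍 V) (hq : b ∈ 𝐂 ⁅V, zpowers b⁆)
    (hx : x ∈ ⁅V, zpowers b⁆) : ∃ v ∈ V, ⁅b, v⁆ = x := by
  have m : ∀ v ∈ V, ⁅b, v⁆ ∈ V := fun v hv => mul_mem (conj_mem_of_mem_normalizer hb hv) (inv_mem hv)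
  have mul : ∀ v ∈ V, ∀ w ∈ V, ⁅b, v * w⁆ = ⁅b, v⁆ * ⁅b, w⁆ := fun v hv w hw => by
    rw [show ⁅b, v * w⁆ = ⁅b, v⁆ * (v * ⁅b, w⁆ * v⁻¹) by group, mem_centralizer_iff'.1 (hV hv) _ (m w hw)]
  let Φ : Subgroup G :=
    { carrier := {x | ∃ v ∈ V, ⁅b, v⁆ = x}
      one_mem' := ⟨1, one_mem _, by simp⟩
      mul_mem' := by
        rintro _ _ ⟨v, hv, rfl⟩ ⟨w, hw, rfl⟩
        exact ⟨v * w, mul_mem hv hw, mul v hv w hw⟩
      inv_mem' := by
        rintro _ ⟨v, hv, rfl⟩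
        exact ⟨v⁻¹, inv_mem hv, eq_inv_of_mul_eq_one_right (by rw [← mul v hv _ (inv_mem hv)]; simp)⟩ }
  have h1 : Φ ≤ ⁅V, zpowers b⁆ := by
    rintro _ ⟨v, hv, rfl⟩
    rw [commutator_comm]
    exact commutator_mem_commutator (mem_zpowers b) hv
  refine (commutator_zpowers_le' (N := Φ) (fun a ha => ?_) (centralizer_le_normalizer _ (centralizer_anti h1 hq))) hx
  rw [← commutatorElement_inv]
  exact inv_mem ⟨a, ha, rfl⟩

end basic

variable [Finite G] {S V I : Subgroup G} {b : G}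

theorem fr_uniq' (h : Fr S V) {Y : Subgroup G} (hY : IsPGroup 2 Y) (h1 : Y ≠ ⊥)
    (hn : 𝐍 V ⊓ 𝐍 (S ⊓ 𝐂 V) ≤ 𝐍 Y) : 𝐍 Y ≤ 𝐍 V := by
  have s : IsSyl 2 S (𝐍 Y) := h.syl.mono ((le_inf h.le (le_normalizer_inf_centralizer h.le)).trans hn) le_top
  refine (h.f1 _ S (fr_charP h hY h1) s inf_le_left).trans (sup_le inf_le_right (inf_le_right.trans ?_))
  refine (centralizer_anti ?_).trans (centralizer_le_normalizer _)
  rw [zc, s.sylowCenterClosure_eq]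
  refine (fr_ncl h).ge.trans ((ncl_le (le_ncl _ _) ?_).trans (ncl_mono le_rfl hn))
  refine (le_sup_left.trans (inf_normalizer_sup_centralizer (h.syl.mono h.le le_top) le_rfl).ge).trans
    (sup_le (le_normalizer_ncl _ _) (le_normalizer_of_le_centralizer (centralizer_anti ?_)))
  exact ncl_le (fr_oz_le h) inf_le_left

/-- the hypotheses of `FL` -/
structure Lc (S V I : Subgroup G) (b : G) : Prop extends Fr S V where
  ab : fU S V ≤ 𝐂 (fU S V)
  ozR : oz (S ⊓ 𝐂 V) = V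
  bS : b ∈ S
  ci : V ⊓ 𝐂 (zpowers b) = I
  cm : ⁅V, zpowers b⁆ = I
  c4 : Nat.card I = 4
  sy : IsSyl 2 (S ⊓ 𝐂 V ⊔ zpowers b) (𝐂 I)
  jj : 𝐉 (S ⊓ 𝐂 V ⊔ zpowers b) = 𝐉 (S ⊓ 𝐂 V)
  ti : ∀ g : G, I ⊓ cj g I ≠ ⊥ → cj g V ≤ 𝐂 V

namespace Lc
variable (h : Lc S V I b) {l E B : Subgroup G} {i j : G}
include h

theorem ea : IsElementaryAbelian 2 V := h.ozR ▸ elemAb_oz _
theorem Vc : V ≤ 𝐂 V := elemAb_le_centralizer h.ea
theorem IV : I ≤ V := h.ci ▸ inf_le_left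
theorem VR : V ≤ S ⊓ 𝐂 V := h.ozR.ge.trans (oz_le _)
theorem bI : b ∈ 𝐂 I := zpowers_le.1 (le_centralizer_iff.1 (h.ci ▸ inf_le_right))
theorem four : Four I := ⟨h.c4, fun w hw => by have := h.ea.2 w (h.IV hw); rwa [pow_two] at this⟩

theorem X_le : 𝐂 I ≤ fH S := centralizer_anti (h.ci ▸ le_inf (fr_oz_le h.toFr)
  ((oz_le_c S).trans (centralizer_anti (zpowers_le.2 h.bS))))

theorem nJ : 𝐍 (𝐉 (S ⊓ 𝐂 V)) ≤ 𝐍 V := by
  obtain ⟨x, hx, x1⟩ := (bot_or_exists_ne_one I).resolve_left h.four.ne_bot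
  exact fr_uniq' h.toFr ((h.syl.isP.to_le inf_le_left).to_le (thompsonOf_le _ _))
    (thompsonOf_ne_bot (h.VR (h.IV hx)) x1 (h.ea.2 x (h.IV hx)))
    (inf_le_right.trans (normalizer_le_normalizer_thompsonOf _ _))

theorem flag (hl : Ln V l) (hI : I ≤ l) : ∃ x ∈ 𝐂 I, cj x V = l := by
  obtain ⟨g, rfl⟩ := hl
  obtain ⟨x, hx, e⟩ := h.sy.exists_cj_le (isPGroup_cj g (h.syl.isP.to_le (inf_le_left (b := 𝐂 V))))
    ((cj_mono g inf_le_right).trans ((cj_centralizer g V).le.trans (centralizer_anti hI)))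
  have e1 : cj (x * g) (𝐉 (S ⊓ 𝐂 V ⊔ zpowers b)) ≤ S ⊓ 𝐂 V ⊔ zpowers b := by
    rw [h.jj, cj_mul]; exact (cj_mono x (cj_mono g (thompsonOf_le _ _))).trans e
  have e2 := thompson_cj_le (L := ⊤) e1
  rw [h.jj, cj_eq_iff] at e2
  have e3 := cj_eq_of_mem_normalizer (h.nJ e2)
  rw [cj_mul, cj_eq_iff_eq_cj] at e3
  exact ⟨x⁻¹, inv_mem hx, e3.symm⟩

theorem U_eq : Ui V I = ncl V (𝐂 I) := by
  refine le_antisymm (Ui_le fun l hl hI => ?_) (ncl_le ((Ln.self V).le_Ui h.IV) (c_le_n_Ui V I))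
  obtain ⟨x, hx, rfl⟩ := h.flag hl hI
  exact cj_le_ncl hx

theorem VU : V ≤ Ui V I := (Ln.self V).le_Ui h.IV

theorem Uc : Ui V I ≤ 𝐂 (Ui V I) := by
  have e : Ui V I ≤ fU S V := h.U_eq ▸ ncl_mono le_rfl h.X_le
  exact e.trans (h.ab.trans (centralizer_anti e))

theorem Uea : IsElementaryAbelian 2 (Ui V I) := by
  have c := h.Uc
  rw [h.U_eq] at c ⊢
  exact elemAb_iSup (fun g : 𝐂 I => elemAb_cj h.ea (g : G)) fun i j =>
    (cj_le_ncl i.2).trans (c.trans (centralizer_anti (cj_le_ncl j.2)))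

theorem UX : Ui V I ≤ 𝐂 I := h.Uc.trans (centralizer_anti (h.IV.trans h.VU))

omit h in
theorem TX : Tj V I ≤ 𝐂 I := inf_le_left

theorem VT : ⁅V, Tj V I⁆ ≤ I := by
  rw [commutator_comm]; exact (commutator_mono le_rfl h.VU).trans (le_Tj.1 le_rfl).2

theorem act {t : G} (ht : t ∈ Tj V I) : t ∈ 𝐂 V ∨ ∀ v ∈ V, ⁅t, v⁆ = ⁅b, v⁆ := by
  have s := h.sy.inf_of_normal (c_le_n_Tj V I) TX
  have e : Tj V I ≤ zpowers b ⊔ 𝐂 V := s.le_of_pResidualOf_le
    ((pResidualOf_le_centralizer_of_stab h.four.isP h.VT TX).trans le_sup_right)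
    (inf_le_left.trans (sup_le (inf_le_right.trans le_sup_right) le_sup_left))
  have b2 : b * b ∈ 𝐂 V := mem_centralizer_iff'.2 fun v hv => by
    have m : ⁅b, v⁆ ∈ I := by
      rw [← h.cm, commutator_comm]; exact commutator_mem_commutator (mem_zpowers b) hv
    have e1 := mem_centralizer_iff'.1 h.bI _ m
    have e2 := h.four.sq _ m
    calc b * b * v * (b * b)⁻¹ = (b * ⁅b, v⁆ * b⁻¹) * ⁅b, v⁆ * v := by group
      _ = v := by rw [e1, e2, one_mul]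
  refine (mem_or_of_sq (normalizer_le_normalizer_centralizer V (h.le h.bS)) b2 (e ht)).imp_right fun k v hv => ?_
  have := mem_centralizer_iff'.1 k v hv
  calc ⁅t, v⁆ = b * (b⁻¹ * t * v * (b⁻¹ * t)⁻¹) * b⁻¹ * v⁻¹ := by group
    _ = _ := by rw [this, commutatorElement_def]

theorem nK (hi : i ∈ I) : 𝐂 I ≤ 𝐍 (Ui V I ⊓ commStab (Tj V I : Set G) (zpowers i)) :=
  le_normalizer_inf (c_le_n_Ui V I) (le_normalizer_commStab (c_le_n_Tj V I)
    (le_normalizer_of_le_centralizer (centralizer_anti (zpowers_le.2 hi))))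

theorem split (hi : i ∈ I) (hj : j ∈ I) (i1 : i ≠ 1) (j1 : j ≠ 1) (ij : i ≠ j) :
    Ui V I ≤ (Ui V I ⊓ commStab (Tj V I : Set G) (zpowers i)) ⊔ (Ui V I ⊓ commStab (Tj V I : Set G) (zpowers j)) := by
  refine h.U_eq.le.trans (ncl_le (fun v hv => ?_) (le_normalizer_sup (h.nK hi) (h.nK hj)))
  have key : ∀ {k : G}, k ∈ I → ∀ w ∈ V, ⁅b, w⁆ ∈ zpowers k →
      w ∈ Ui V I ⊓ commStab (Tj V I : Set G) (zpowers k) := fun {k} hk w hw e => ⟨h.VU hw,
    centralizer_le_normalizer _ (centralizer_anti ((zpowers_le.2 hk).trans h.IV) (h.Vc hw)), fun t ht => by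
      rw [← commutatorElement_inv]
      refine inv_mem ((h.act ht).elim (fun c => ?_) fun c => c w hw ▸ e)
      rw [commutatorElement_eq_one_iff_mul_comm.2 (c w hw).symm]; exact one_mem _⟩
  have m : ⁅b, v⁆ ∈ I := by
    rw [← h.cm, commutator_comm]; exact commutator_mem_commutator (mem_zpowers b) hv
  rcases four_cases h.four hi hj i1 j1 ij m with e | e | e | e
  · exact mem_sup_left (key hi v hv (e ▸ one_mem _))
  · exact mem_sup_left (key hi v hv (e ▸ mem_zpowers _))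
  · exact mem_sup_right (key hj v hv (e ▸ mem_zpowers _))
  obtain ⟨w, hw, e'⟩ := exists_comm_eq h.Vc (h.le h.bS) (h.cm ▸ h.bI) (h.cm ▸ hi)
  rw [show v = w * (w⁻¹ * v) by group]
  refine mul_mem (mem_sup_left (key hi w hw (e' ▸ mem_zpowers _))) (mem_sup_right (key hj _
    (mul_mem (inv_mem hw) hv) ?_))
  rw [show ⁅b, w⁻¹ * v⁆ = w⁻¹ * (⁅b, w⁆⁻¹ * ⁅b, v⁆) * w by group, e, e', inv_mul_cancel_left]
  exact conj_mem_of_mem_normalizer' (centralizer_le_normalizer _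
    (centralizer_anti ((zpowers_le.2 hj).trans h.IV) (h.Vc hw))) (mem_zpowers j)

theorem ker (hi : i ∈ I) : Tj V I ⊓ commStab (Ui V I : Set G) (zpowers i) ≤ 𝐂 (Ui V I) := by
  rw [le_centralizer_iff]
  refine h.U_eq.le.trans (ncl_le_centralizer (le_centralizer_iff.1 fun t ht => (h.act ht.1).resolve_right fun e => ?_)
    (le_normalizer_inf (c_le_n_Tj V I) (le_normalizer_commStab (c_le_n_Ui V I)
    (le_normalizer_of_le_centralizer (centralizer_anti (zpowers_le.2 hi))))))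
  have k : I ≤ zpowers i := by
    rw [← h.cm]
    refine commutator_zpowers_le' (fun a ha => ?_) (centralizer_le_normalizer _
      (centralizer_anti (zpowers_le.2 hi) h.bI))
    rw [← commutatorElement_inv, ← e a ha]
    exact inv_mem (ht.2.2 a (h.VU ha))
  have k1 := card_le_of_le k
  have k2 : Nat.card (zpowers i) ≤ 2 := by
    rw [Nat.card_zpowers]; exact orderOf_le_of_pow_eq_one two_pos (by rw [pow_two, h.four.sq i hi])
  rw [h.c4] at k1
  omega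

theorem red : RedM (𝐂 I) (Tj V I) := fun K hK hn hO => by
  refine le_Tj.2 ⟨hK, ?_⟩
  rw [commutator_comm, h.U_eq]
  refine commutator_ncl_le ((le_commStab_iff' h.IV).1 ((h.sy.inf_of_normal hn hK).le_of_pResidualOf_le
    (hO.trans ((le_commStab_iff' h.IV).2 h.VT)) (inf_le_left.trans (sup_le ?_ ((le_commStab_iff' h.IV).2 h.cm.le)))))
    hn (centralizer_le_normalizer _) (le_normalizer_of_le_centralizer (h.VU.trans h.UX))
  exact (le_commStab_iff' h.IV).2 ((commutator_eq_bot_iff'.2 inf_le_right).le.trans bot_le)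

theorem sol : Group.IsSolvable (𝐂 I) :=
  H18.Solv.of_le (fr_sol h.toFr h.four.isP h.four.ne_bot) (centralizer_le_normalizer _)

theorem cen (h1 : E ≤ 𝐂 I) (h2 : 𝐂 I ≤ 𝐍 E) (h3 : ∀ P ≤ E, IsPGroup 2 P → P ≤ Tj V I) :
    Ui V I ⊓ 𝐂 (Tj V I) ≤ 𝐂 E := by
  have s := h.sy.inf_of_normal h2 h1
  have n : 𝐂 I ≤ 𝐍 (Ui V I ⊓ 𝐂 (Tj V I)) :=
    le_normalizer_inf (c_le_n_Ui V I) (le_normalizer_centralizer (c_le_n_Tj V I))
  refine le_trans (le_inf le_rfl (inf_le_right.trans (centralizer_anti (h3 _ s.le s.isP))))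
    (le_centralizer_of_transfer (inf_le_left.trans (h.Uc.trans (centralizer_anti inf_le_left)))
    ((elemAb_isPGroup h.Uea).to_le inf_le_left) (h1.trans n) s h.sy.isP (h.sy.le.trans n) (h.sy.le.trans h2)
    (le_normalizer_inf le_normalizer (h.sy.le.trans h2)) (le_trans ?_ (le_centralizer_iff.1 h1)))
  have e : Ui V I ≤ S := (h.sy.le_of_le_normalizer (elemAb_isPGroup h.Uea) h.UX
    (h.sy.le.trans (c_le_n_Ui V I))).trans (sup_le inf_le_left (zpowers_le.2 h.bS))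
  have e1 : Ui V I ⊓ 𝐂 (Tj V I) ⊓ 𝐂 ((S ⊓ 𝐂 V ⊔ zpowers b) ⊓ E) ⊓ 𝐂 (S ⊓ 𝐂 V ⊔ zpowers b) ≤ Ui V I :=
    inf_le_left.trans (inf_le_left.trans inf_le_left)
  refine le_trans (le_inf (le_trans (le_oz (elemAb_mono h.Uea e1) (le_inf (e1.trans e) ?_) ?_) h.ozR.le) ?_) h.ci.le
  · exact inf_le_right.trans (centralizer_anti (h.VR.trans le_sup_left))
  · exact inf_le_right.trans (centralizer_anti le_sup_left)
  · exact inf_le_right.trans (centralizer_anti le_sup_right)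

theorem K_inf (hi : i ∈ I) (hj : j ∈ I) (i1 : i ≠ 1) (ij : i ≠ j) :
    commStab (Tj V I : Set G) (zpowers i) ⊓ commStab (Tj V I : Set G) (zpowers j) ≤ 𝐂 (Tj V I) := fun x hx t ht => by
  refine (commutatorElement_eq_one_iff_mul_comm.1 ?_).symm
  rcases mem_two (h.four.sq i hi) (hx.1.2 t ht) with e | e
  · exact e
  rcases mem_two (h.four.sq j hj) (hx.2.2 t ht) with e' | e'
  · exact e'
  · exact absurd (e.symm.trans e') ij

theorem faith (hi : i ∈ I) (hj : j ∈ I) (i1 : i ≠ 1) (j1 : j ≠ 1) (ij : i ≠ j) :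
    𝐂 I ⊓ commStab (Ui V I : Set G) (Ui V I ⊓ commStab (Tj V I : Set G) (zpowers i)) ≤ Tj V I := by
  by_contra e
  obtain ⟨E, e1, e2, e3, e4, -, e5⟩ := odd_top h.sol h.red inf_le_left
    (le_normalizer_inf le_normalizer (le_normalizer_commStab (c_le_n_Ui V I) (h.nK hi))) e
  have EX := e1.trans inf_le_left
  have c := h.cen EX e2 e5
  have k1 : ⁅Ui V I, E⁆ ≤ Ui V I ⊓ commStab (Tj V I : Set G) (zpowers i) :=
    (le_commStab_iff' inf_le_left).1 (e1.trans inf_le_right)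
  have k2 : ∀ {k : G}, k ∈ I → i ≠ k → ⁅Ui V I ⊓ commStab (Tj V I : Set G) (zpowers k), E⁆ ≤
      Ui V I ⊓ 𝐂 (Tj V I) := fun {k} hk ik => by
    have a : ⁅Ui V I ⊓ commStab (Tj V I : Set G) (zpowers k), E⁆ ≤ _ := (commutator_mono inf_le_left le_rfl).trans k1
    exact le_inf (a.trans inf_le_left) ((le_inf (a.trans inf_le_right)
      ((commutator_le_of_le_normalizer (EX.trans (h.nK hk))).trans inf_le_right)).trans (h.K_inf hi hk i1 ik))
  have nn : Ui V I ≤ 𝐍 (Ui V I ⊓ 𝐂 (Tj V I)) :=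
    le_normalizer_of_le_centralizer (h.Uc.trans (centralizer_anti inf_le_left))
  have ij1 : i * j ≠ 1 := fun k => ij (by rw [← mul_left_inj j, k, h.four.sq j hj])
  have k3 : ⁅Ui V I, E⁆ ≤ Ui V I ⊓ 𝐂 (Tj V I) :=
    (commutator_mono (h.split hj (mul_mem hi hj) j1 ij1 (fun k => i1 (by simpa using k.symm))) le_rfl).trans
      (commutator_sup_le (k2 hj ij) (k2 (mul_mem hi hj) fun k => j1 (by simpa using k.symm))
        (inf_le_left.trans nn) (inf_le_left.trans nn))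
  have k4 := le_centralizer_of_stab e3 ((elemAb_isPGroup h.Uea).to_le inf_le_left) k3 (le_centralizer_iff.1 c)
  exact e4 (le_Tj.2 ⟨EX, by rw [commutator_comm, commutator_eq_bot_iff'.2 k4]; exact bot_le⟩)

theorem exists_ij : ∃ i ∈ I, ∃ j ∈ I, i ≠ 1 ∧ j ≠ 1 ∧ i ≠ j := by
  obtain ⟨i, hi, i1⟩ := (bot_or_exists_ne_one I).resolve_left h.four.ne_bot
  have : ¬ I ≤ zpowers i := fun k => by
    have := card_le_of_le k
    rw [h.c4, card_two (h.four.sq i hi) i1] at this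
    omega
  obtain ⟨j, hj, hj'⟩ := SetLike.not_le_iff_exists.1 this
  exact ⟨i, hi, j, hj, i1, fun e => hj' (e ▸ one_mem _), fun e => hj' (e ▸ mem_zpowers _)⟩

theorem p1 (h1 : B ≤ 𝐂 I) (h2 : IsElementaryAbelian 2 B) :
    (Tj V I).relIndex B * (Tj V I).relIndex B ≤ (𝐂 B).relIndex (Ui V I) := by
  obtain ⟨i, hi, j, hj, i1, j1, ij⟩ := h.exists_ij
  have key : ∀ {i j : G}, i ∈ I → j ∈ I → i ≠ 1 → j ≠ 1 → i ≠ j → (Tj V I).relIndex B ≤
      (commStab (B : Set G) (Ui V I ⊓ commStab (Tj V I : Set G) (zpowers i))).relIndex (Ui V I) :=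
    fun {i j} hi hj i1 j1 ij => by
      have f := h.faith hi hj i1 j1 ij
      have f' : Tj V I ≤ commStab (Ui V I : Set G) (Ui V I ⊓ commStab (Tj V I : Set G) (zpowers i)) := by
        rw [le_commStab_iff' inf_le_left, commutator_comm]
        refine (le_Tj.1 le_rfl).2.trans (le_inf (h.IV.trans h.VU) (le_commStab_iff.2 ⟨?_, ?_⟩))
        · exact le_normalizer_of_le_centralizer (h.four.le_c.trans (centralizer_anti (zpowers_le.2 hi)))
        · exact (commutator_eq_bot_iff'.2 TX).le.trans bot_le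
      refine le_trans ?_ (no_over_sec h.Uea inf_le_left (c_le_n_Ui V I) (h.nK hi) h.sol
        (fun K hK hn hO => (h.red K hK hn ((le_inf ((pResidualOf_le _ _).trans hK) hO).trans f)).trans f') h1 h2)
      rw [← inf_relIndex_right (commStab _ _)]
      exact relIndex_le_of_le_left ((le_inf (inf_le_right.trans h1) inf_le_left).trans f) (relIndex_pos _ _).ne'
  have kk : ∀ {i : G}, i ∈ I → Ui V I ⊓ commStab (Tj V I : Set G) (zpowers i) ≤
      Ui V I ⊓ commStab (B : Set G) (Ui V I ⊓ commStab (Tj V I : Set G) (zpowers i)) := fun hi =>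
    le_inf inf_le_left (le_commStab_iff.2 ⟨le_normalizer, commutator_le_of_le_normalizer (h1.trans (h.nK hi))⟩)
  refine (Nat.mul_le_mul (key hi hj i1 j1 ij) (key hj hi j1 i1 ij.symm)).trans ?_
  rw [← relIndex_inf_eq_mul h.Uc ((h.split hi hj i1 j1 ij).trans (sup_le_sup (kk hi) (kk hj))),
    ← inf_relIndex_right (𝐂 B)]
  have c : ∀ {K : Subgroup G}, K ≤ Ui V I → 𝐂 B ⊓ Ui V I ≤ commStab (B : Set G) K := fun hK => le_commStab_iff.2
    ⟨le_normalizer_of_le_centralizer (inf_le_right.trans (h.Uc.trans (centralizer_anti hK))), by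
      rw [commutator_comm, commutator_eq_bot_iff'.2 inf_le_left]; exact bot_le⟩
  exact relIndex_le_of_le_left (le_inf (c inf_le_left) (c inf_le_left)) (relIndex_pos _ _).ne'

theorem p2 (h1 : B ≤ Tj V I) :
    (𝐂 (Ui V I)).relIndex B * (𝐂 (Ui V I)).relIndex B ≤ (𝐂 B).relIndex (Ui V I) := by
  obtain ⟨i, hi, j, hj, i1, j1, ij⟩ := h.exists_ij
  have BX := h1.trans TX
  have n : ∀ {i : G}, i ∈ I → 𝐂 I ≤ 𝐍 (zpowers i) := fun hi =>
    le_normalizer_of_le_centralizer (centralizer_anti (zpowers_le.2 hi))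
  have key : ∀ {i : G}, i ∈ I → i ≠ 1 → (𝐂 (Ui V I)).relIndex B ≤
      (commStab (B : Set G) (zpowers i)).relIndex (Ui V I) := fun {i} hi i1 => by
    refine le_trans ?_ (dual h.Uc ((zpowers_le.2 hi).trans (h.IV.trans h.VU)) (BX.trans (n hi))
      (le_normalizer_of_le_centralizer BX) (by rw [commutator_comm]; exact (le_Tj.1 h1).2)
      (two_of_relIndex (h.four.relIndex_of_card (zpowers_le.2 hi) (card_two (h.four.sq i hi) i1))))
    rw [← inf_relIndex_right (commStab _ _)]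
    exact relIndex_le_of_le_left ((le_inf (inf_le_right.trans h1) inf_le_left).trans (h.ker hi)) (relIndex_pos _ _).ne'
  have kk : ∀ {i : G}, Ui V I ⊓ commStab (Tj V I : Set G) (zpowers i) ≤
      Ui V I ⊓ commStab (B : Set G) (zpowers i) := fun {i} x hx => ⟨hx.1, hx.2.1, fun t ht => hx.2.2 t (h1 ht)⟩
  refine (Nat.mul_le_mul (key hi i1) (key hj j1)).trans ?_
  rw [← relIndex_inf_eq_mul h.Uc ((h.split hi hj i1 j1 ij).trans (sup_le_sup kk kk)), ← inf_relIndex_right (𝐂 B)]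
  have c : ∀ {i : G}, i ∈ I → 𝐂 B ⊓ Ui V I ≤ commStab (B : Set G) (zpowers i) := fun hi => le_commStab_iff.2
    ⟨inf_le_right.trans (h.UX.trans (n hi)), by
      rw [commutator_comm, commutator_eq_bot_iff'.2 inf_le_left]; exact bot_le⟩
  exact relIndex_le_of_le_left (le_inf (c hi) (c hj)) (relIndex_pos _ _).ne'

/-- adjacency of points -/
def Ad (V I J K : Subgroup G) : Prop := (∃ g : G, cj g I = J) ∧ (∃ g : G, cj g I = K) ∧ ∃ l, Ln V l ∧ J ≤ l ∧ K ≤ l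

omit h [Finite G] in
theorem Ad.symm (J K : Subgroup G) (h : Ad V I J K) : Ad V I K J :=
  let ⟨a, b, l, c, d, e⟩ := h; ⟨b, a, l, c, e, d⟩

omit h [Finite G] in
theorem Ad.cj {J K : Subgroup G} (h : Ad V I J K) (g : G) : Ad V I (cj g J) (cj g K) := by
  obtain ⟨⟨x, rfl⟩, ⟨y, rfl⟩, l, c, d, e⟩ := h
  exact ⟨⟨g * x, cj_mul _ _ _⟩, ⟨g * y, cj_mul _ _ _⟩, cj g l, c.cj g, cj_mono g d, cj_mono g e⟩

omit h [Finite G] in
theorem nr_cj {n : ℕ} {J K : Subgroup G} (h : Nr (Ad V I) n J K) (g : G) : Nr (Ad V I) n (cj g J) (cj g K) := by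
  induction h with
  | one h => exact .one (h.cj g)
  | succ _ h' ih => exact .succ ih (h'.cj g)

omit h [Finite G] in
theorem nr_right {n : ℕ} {J K : Subgroup G} (h : Nr (Ad V I) n J K) : ∃ g : G, cj g I = K := by
  cases h with
  | one h => exact h.2.1
  | succ _ h => exact h.2.1

theorem Uea' (g : G) : IsElementaryAbelian 2 (Ui V (cj g I)) := cj_Ui (V := V) g I ▸ elemAb_cj h.Uea g

theorem flag' {g : G} (hl : Ln V l) (hI : cj g I ≤ l) : ∃ x : G, cj x V = l ∧ cj x I = cj g I := by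
  obtain ⟨x, hx, e⟩ := h.flag (hl.cj g⁻¹) (cj_le_iff.1 hI)
  exact ⟨g * x, by rw [cj_mul, e, cj_cj_inv], by rw [cj_mul, cj_eq_of_mem_centralizer hx]⟩

theorem comm_of {g k : G} (e : cj g I ⊓ cj k I ≠ ⊥) : Ui V (cj g I) ≤ 𝐂 (Ui V (cj k I)) := by
  refine Ui_le fun l hl hI => le_centralizer_iff.1 (Ui_le fun m hm hI' => ?_)
  obtain ⟨x, rfl, e1⟩ := h.flag' hl hI
  obtain ⟨y, rfl, e2⟩ := h.flag' hm hI'
  rw [← e1, ← e2] at e
  have := h.ti (x⁻¹ * y) (by rw [Ne, ← cj_eq_bot_iff (g := x), cj_inf, ← cj_mul, mul_inv_cancel_left]; exact e)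
  rwa [cj_mul, cj_le_iff, inv_inv, cj_centralizer] at this

theorem ineq {g k : G} (h1 : Ui V (cj k I) ≤ 𝐂 (cj g I)) (e : cj g I ⊓ cj k I = ⊥) :
    ∃ γ, γ * γ ≤ (Tj V (cj g I)).relIndex (Ui V (cj k I)) ∧ (Tj V (cj g I)).relIndex (Ui V (cj k I)) *
      (Tj V (cj g I)).relIndex (Ui V (cj k I)) ≤ γ * (Tj V (cj k I)).relIndex (Ui V (cj g I)) := by
  refine ⟨(𝐂 (Ui V (cj k I))).relIndex (Tj V (cj k I) ⊓ Ui V (cj g I)), ?_, ?_⟩
  · have := h.p2 (B := cj k⁻¹ (Tj V (cj k I) ⊓ Ui V (cj g I))) (by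
      rw [cj_le_iff, inv_inv, cj_Tj]; exact inf_le_left)
    rw [← relIndex_cj k, ← relIndex_cj k (𝐂 (cj k⁻¹ _)), cj_centralizer, cj_centralizer, cj_cj_inv, cj_Ui] at this
    refine this.trans ?_
    rw [← inf_relIndex_right (Tj V (cj g I))]
    refine relIndex_le_of_le_left (commutator_eq_bot_iff'.1 (eq_bot_iff.2 (e ▸ le_inf ?_ ?_))) (relIndex_pos _ _).ne'
    · rw [commutator_comm]; exact (commutator_mono inf_le_left inf_le_right).trans (le_Tj.1 le_rfl).2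
    · exact (commutator_mono inf_le_left inf_le_right).trans (le_Tj.1 le_rfl).2
  · have := h.p1 (B := cj g⁻¹ (Ui V (cj k I))) (by rwa [cj_le_iff, inv_inv, cj_centralizer]) (elemAb_cj (h.Uea' k) _)
    rw [← relIndex_cj g, ← relIndex_cj g (𝐂 (cj g⁻¹ _)), cj_centralizer, cj_cj_inv, cj_Ui, cj_Tj] at this
    rw [relIndex_inf_mul_relIndex]
    exact this.trans (relIndex_le_of_le_left inf_le_left (relIndex_pos _ _).ne')

theorem main : 𝐂 I ≤ 𝐍 V := by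
  by_cases c : ∀ n J K, Nr (Ad V I) n J K → Ui V J ≤ 𝐂 (Ui V K)
  · let E : Subgroup G := ⨆ J : {J // ∃ n, Nr (Ad V I) n I J}, Ui V J
    have hE : IsElementaryAbelian 2 E := elemAb_iSup (fun ⟨J, n, e⟩ => by
      obtain ⟨g, rfl⟩ := nr_right e
      exact h.Uea' g) fun ⟨p, n, e⟩ ⟨q, k, e'⟩ => c _ _ _ ((e.symm Ad.symm).trans e')
    have a : ∀ g : G, cj g I ≤ V → Ad V I I (cj g I) := fun g hg =>
      ⟨⟨1, cj_one I⟩, ⟨g, rfl⟩, V, Ln.self V, h.IV, hg⟩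
    have hV : V ≤ E := h.VU.trans (le_iSup_of_le ⟨I, 0, .one ⟨⟨1, cj_one I⟩, ⟨1, cj_one I⟩, V, Ln.self V, h.IV, h.IV⟩⟩
      le_rfl)
    have key : ∀ g : G, cj g I ≤ V → g ∈ 𝐍 E := fun g hg => mem_normalizer_of_cj_le (by
      rw [cj_iSup]
      refine iSup_le fun ⟨p, n, e⟩ => ?_
      rw [cj_Ui]
      exact le_iSup_of_le ⟨_, n + 1, Nr.cons (a g hg) (nr_cj e g)⟩ le_rfl)
    refine le_trans (fun g hg => key g ?_) (fr_uniq h.toFr (elemAb_isPGroup hE)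
      (fun e => h.four.ne_bot (le_bot_iff.1 (h.IV.trans (e ▸ hV)))) fun g hg => key g ?_)
    · rw [cj_eq_of_mem_centralizer hg]; exact h.IV
    · exact cj_le_of_mem_normalizer h.IV hg
  obtain ⟨x, y, nc, ⟨x', ⟨-, ⟨k, rfl⟩, l, hl, a1, a2⟩, c1⟩, y', ⟨-, ⟨g, rfl⟩, m, hm, b1, b2⟩, c2⟩ :=
    exists_min_pair (c := fun J K => Ui V J ≤ 𝐂 (Ui V K)) Ad.symm (fun J K ⟨⟨g, e⟩, _⟩ =>
      e ▸ elemAb_le_centralizer (h.Uea' g)) c
  have e : cj g I ⊓ cj k I = ⊥ := by_contra fun e => nc (h.comm_of e)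
  have d1 := c1.trans (centralizer_anti (a2.trans (hl.le_Ui a1)))
  have d2 := c2.trans (centralizer_anti (b2.trans (hm.le_Ui b1)))
  obtain ⟨γ, u1, u2⟩ := h.ineq d2 e
  obtain ⟨δ, v1, v2⟩ := h.ineq d1 (by rw [inf_comm]; exact e)
  have p1 := relIndex_pos (Tj V (cj g I)) (Ui V (cj k I))
  have p2 := relIndex_pos (Tj V (cj k I)) (Ui V (cj g I))
  have num : ∀ α β γ δ : ℕ, 0 < α → 0 < β → α ≤ β → γ * γ ≤ β → β * β ≤ γ * α → β = 1 ∧ α = 1 := by
    intro α β γ δ a b c d e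
    have : β ≤ γ := Nat.le_of_mul_le_mul_right (e.trans (Nat.mul_le_mul_left _ c)) b
    have : β * β ≤ β * 1 := by nlinarith
    have := Nat.le_of_mul_le_mul_left this b
    omega
  have fin : (Tj V (cj g I)).relIndex (Ui V (cj k I)) = 1 ∧ (Tj V (cj k I)).relIndex (Ui V (cj g I)) = 1 := by
    rcases le_total ((Tj V (cj k I)).relIndex (Ui V (cj g I))) ((Tj V (cj g I)).relIndex (Ui V (cj k I))) with k | k
    · exact num _ _ γ δ p2 p1 k u1 u2
    · exact (num _ _ δ γ p1 p2 k v1 v2).symm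
  refine absurd (commutator_eq_bot_iff'.1 (eq_bot_iff.2 (e ▸ le_inf ?_ ?_))) nc
  · exact (le_Tj.1 (relIndex_eq_one.1 fin.1)).2
  · rw [commutator_comm]; exact (le_Tj.1 (relIndex_eq_one.1 fin.2)).2

end Lc

theorem fl : H26.FL.{u} := fun _ _ _ _ _ _ _ h a _ c d e f g i j k =>
  Lc.main ⟨h, a, c, d, e, f, g, i, j, k⟩

end H118
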