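import Cfsg.Agent.H18.QN
import Cfsg.Agent.H13.SzAut
import Cfsg.Agent.H13.SzModel
import Cfsg.Agent.H2.Syl
/-! The image of `Y` is the only elementary abelian normal subgroup of its normalizer in `SL₂(q)`, `Sz(q)`, `D₂ᵣ`. -/
set_option autoImplicit false
set_option linter.unusedSectionVars false
namespace H118.FL2
open Subgroup H26 H4 Cfsg Matrix H18.PU
open scoped commutatorElement MatrixGroups Pointwise

variable {B B' : Type*} [Group B] [Group B'] {p : ℕ} {Y : Subgroup B}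

/-- `Y` is the only nontrivial elementary abelian normal subgroup of its normalizer -/
def PP (p : ℕ) (Y : Subgroup B) : Prop := ∀ V : Subgroup B, IsElementaryAbelian p V → V ≠ ⊥ → V ≤ 𝐍 Y → 𝐍 Y ≤ 𝐍 V → V = Y

theorem PP.of_map (e : B ≃* B') (h : PP p (Y.map e.toMonoidHom)) : PP p Y := fun V h1 h2 h3 h4 =>
  map_injective e.injective <| h _ (elemAb_map h1 _) (fun k => h2 ((Subgroup.map_eq_bot_iff_of_injective _ e.injective).1 k))
    (map_le_normalizer_map _ h3) fun y hy => by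
      obtain ⟨x, rfl⟩ := e.surjective y
      exact (map_mem_normalizer_iff (f := e.toMonoidHom) e.injective).2 (h4 ((map_mem_normalizer_iff (f := e.toMonoidHom) e.injective).1 hy))

theorem pp_sl {F : Type*} [Field F] [Finite F] [hp : Fact p.Prime] {Y : Subgroup SL(2, F)} (h1 : IsPGroup p Y)
    (h2 : Nat.card Y = Nat.card F) : PP p Y := by
  obtain ⟨n, hn⟩ := h1.exists_card_eq
  haveI := charP_of_card (h2.symm.trans hn)
  obtain ⟨m, hm⟩ := exists_cj_le_uT h1
  refine PP.of_map (MulAut.conj m) ?_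
  rw [show Y.map (MulAut.conj m).toMonoidHom = uT F from eq_of_le_of_card_ge hm (by rw [card_uT, card_cj, h2])]
  intro V v1 v2 v3 v4
  have v5 : V ≤ uT F := le_sup_left.trans (isSyl_uT.eq_of_le (isPGroup_sup (elemAb_isPGroup v1) isPGroup_uT v3) le_sup_right le_top).le
  obtain ⟨⟨v, hv⟩, v0⟩ := ne_bot_iff_exists_ne_one.1 v2
  obtain ⟨s, rfl⟩ := mem_uT.1 (v5 hv)
  have s0 : s ≠ 0 := fun e => v0 (Subtype.ext (show tvU s = 1 by rw [e]; exact tvU_zero))
  have sq : ∀ a : F, tvU (a ^ 2 * s) ∈ V := fun a => by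
    by_cases ha : a = 0
    · simp [ha, tvU_zero]
    have k : (dg a ha).1 1 0 = 0 := rfl
    exact conj_tvU k s ▸ conj_mem_of_mem_normalizer (v4 (mem_normalizer_of_conj_mem fun x hx => conj_mem_uT k hx)) hv
  refine le_antisymm v5 fun x hx => ?_
  obtain ⟨t, rfl⟩ := mem_uT.1 hx
  by_cases c2 : (2 : F) = 0
  · obtain ⟨a, ha⟩ := FiniteField.isSquare_of_char_two (F := F) (by
      have := (ringChar.spec F 2).1 (by exact_mod_cast c2)
      exact ((Nat.dvd_prime Nat.prime_two).1 this).resolve_left CharP.ringChar_ne_one) (t / s)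
    rw [show t = a ^ 2 * s by rw [pow_two, ← ha]; field_simp]
    exact sq a
  · have := mul_mem (sq ((t / s + 1) / 2)) (inv_mem (sq ((t / s - 1) / 2)))
    rwa [show ((t / s + 1) / 2) ^ 2 * s = t + ((t / s - 1) / 2) ^ 2 * s by field_simp; ring, tvU_add,
      mul_inv_cancel_right] at this

open H13.Sz in
theorem pp_sz {F : Type*} [Field F] [Fintype F] {m : ℕ} [IsSz F m] {Y : Subgroup (Cfsg.Sz F m)}
    (h1 : IsElementaryAbelian 2 Y) (h2 : Nat.card Y = Nat.card F) : PP 2 Y := fun V v1 v2 v3 v4 => by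
  obtain ⟨g, -, hg⟩ := (isSyl_top (sylowU F m)).exists_le_cj
    (isPGroup_sup (elemAb_isPGroup v1) (elemAb_isPGroup h1) v3) le_top
  have iv : ∀ x ∈ V ⊔ Y, x ^ 2 = 1 → ∃ b, x = g * u m 0 b * g⁻¹ := fun x hx e => by
    obtain ⟨y, ⟨a, b, rfl⟩, rfl⟩ := mem_cj'.1 (hg hx)
    rw [conj_pow, conj_eq_one_iff, pow_two, u_mul_u, u_eq_one] at e
    have : a = 0 := by
      have := e.2
      rw [CharTwo.add_self_eq_zero, zero_add, mul_eq_zero, th_eq_zero, or_self] at this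
      exact this
    exact ⟨b, by rw [this]⟩
  choose! β hβ using iv
  have yall : ∀ b, g * u m 0 b * g⁻¹ ∈ Y := fun b => by
    have inj : Function.Injective fun y : Y => β y := fun x y e => Subtype.ext <| by
      rw [hβ x (mem_sup_right x.2) (h1.2 _ x.2), hβ y (mem_sup_right y.2) (h1.2 _ y.2), show β x = β y from e]
    obtain ⟨y, rfl⟩ := (inj.bijective_of_nat_card_le h2.ge).2 b
    exact hβ y (mem_sup_right y.2) (h1.2 _ y.2) ▸ y.2
  have hc : ∀ (s : Fˣ) b, g * h m s * g⁻¹ * (g * u m 0 b * g⁻¹) * (g * h m s * g⁻¹)⁻¹ =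
      g * u m 0 (th m (s : F) * (s : F) ^ 2 * b) * g⁻¹ :=
    fun s b => by have := h_conj_u (m := m) s 0 b; rw [mul_zero] at this; rw [← this]; group
  have hn : ∀ s, g * h m s * g⁻¹ ∈ 𝐍 Y := fun s => mem_normalizer_of_conj_mem fun y hy => by
    rw [hβ y (mem_sup_right hy) (h1.2 _ hy), hc]; exact yall _
  obtain ⟨⟨v, hv⟩, v0⟩ := ne_bot_iff_exists_ne_one.1 v2
  have e1 := hβ v (mem_sup_left hv) (v1.2 _ hv)
  have b0 : β v ≠ 0 := fun e => v0 (Subtype.ext (by rw [e, u_zero] at e1; simpa using e1))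
  refine le_antisymm (fun x hx => hβ x (mem_sup_left hx) (v1.2 _ hx) ▸ yall _) fun y hy => ?_
  rw [hβ y (mem_sup_right hy) (h1.2 _ hy)]
  by_cases c0 : β y = 0
  · simp [c0]
  obtain ⟨s, hs⟩ := exists_th_mul_sq (m := m) (Units.mk0 (β y / β v) (div_ne_zero c0 b0))
  have := conj_mem_of_mem_normalizer (v4 (hn s)) hv
  rwa [e1, hc, hs, Units.val_mk0, div_mul_cancel₀ _ b0] at this

theorem pp_two [Finite B] (h0 : ∀ N : Subgroup B, N.Normal → IsPGroup 2 N → N = ⊥) (h1 : Nat.card Y = 2) {g : B}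
    (h2 : Y ⊔ cj g Y = ⊤) : PP 2 Y := fun V v1 v2 v3 _ => by
  classical
  haveI : Fact (Nat.Prime 2) := ⟨Nat.prime_two⟩
  obtain ⟨s, rfl⟩ := exists_zpowers_eq_of_card h1
  rw [Nat.card_zpowers] at h1
  have s2 : s * s = 1 := by rw [← pow_two, ← h1, pow_orderOf_eq_one]
  have ms : ∀ x ∈ zpowers s, x = 1 ∨ x = s := fun x hx => by
    rw [mem_zpowers_iff_mem_range_orderOf, h1] at hx
    obtain ⟨i, hi, rfl⟩ := Finset.mem_image.1 hx
    have := Finset.mem_range.1 hi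
    interval_cases i <;> simp
  have s1 : s ≠ 1 := fun e => by simp [e] at h1
  rw [cj_zpowers] at h2
  have t2 : g * s * g⁻¹ * (g * s * g⁻¹) = 1 := by rw [← pow_two, conj_pow, pow_two, s2]; simp
  generalize g * s * g⁻¹ = t at h2 t2
  have sc : zpowers s ≤ 𝐍 (zpowers (s * t)) := zpowers_le.2 <| cj_eq_iff.1 <| by
    rw [cj_zpowers, ← zpowers_inv (g := s * t), _root_.mul_inv_rev, inv_eq_of_mul_eq_one_right s2,
      inv_eq_of_mul_eq_one_right t2, ← mul_assoc, s2, one_mul]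
  have tp : ⊤ ≤ zpowers (s * t) ⊔ zpowers s := by
    rw [← h2]
    refine sup_le le_sup_right (zpowers_le.2 ?_)
    have := mul_mem (mem_sup_right (mem_zpowers s) : s ∈ zpowers (s * t) ⊔ zpowers s) (mem_sup_left (mem_zpowers (s * t)))
    rwa [← mul_assoc, s2, one_mul] at this
  have cen : ∀ x ∈ zpowers (s * t), x * x = 1 → s * x = x * s → x = 1 := fun x hx e1 e2 => by
    have c : ⊤ ≤ 𝐂 (zpowers x) := tp.trans <| sup_le (zpowers_le.2 (centralizer_le (zpowers_le.2 hx)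
      (le_centralizer _ (mem_zpowers _)))) (zpowers_le.2 (le_centralizer_iff.1 (zpowers_le.2 (by
        rintro _ ⟨k, rfl⟩; exact (show Commute s x from e2).zpow_left k)) (mem_zpowers s)))
    exact zpowers_eq_bot.1 (h0 _ (normal_of_top_le_normalizer (c.trans (centralizer_le_normalizer _)))
      (elemAb_isPGroup (elemAb_zpowers (by rw [pow_two, e1]))))
  have vs : ∀ v ∈ V, v ∈ zpowers s := fun v hv => by
    have e1 : v * v = 1 := by rw [← pow_two]; exact v1.2 v hv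
    have e2 : s * v = v * s := by
      rcases ms _ (conj_mem_of_mem_normalizer (v3 hv) (mem_zpowers s)) with e | e
      · exact absurd (conj_eq_one_iff.1 e) s1
      · exact (mul_inv_eq_iff_eq_mul.1 e).symm
    obtain ⟨a, ha, b, hb, rfl⟩ := (mem_sup_of_le_normalizer' sc).1 (tp (mem_top v))
    rcases ms b hb with rfl | rfl
    · rw [mul_one] at *
      exact cen a ha e1 e2 ▸ one_mem _
    · have e3 : b * a = a * b := mul_right_cancel (b := b) (by rw [mul_assoc, e2])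
      rw [cen a ha (by rw [mul_assoc, ← mul_assoc b, e3, mul_assoc, s2, mul_one] at e1; exact e1) e3, one_mul]
      exact hb
  obtain ⟨⟨v, hv⟩, v0⟩ := ne_bot_iff_exists_ne_one.1 v2
  exact le_antisymm vs (zpowers_le.2 (((ms v (vs v hv)).resolve_left fun e => v0 (Subtype.ext e)) ▸ hv))

theorem main {G : Type*} [Group G] [Finite G] [hp : Fact p.Prime] {Y L NL : Subgroup G} (hE : IsElementaryAbelian p Y)
    (hY : Y ≤ L) (h3 : 𝐎 p L ≤ 𝐍 Y) (h4 : ncl Y L = L) (um : UMax Y (L ⊓ 𝐍 Y) L) (hN : NL = L ⊓ 𝐍 Y)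
    [hn : ((𝐎 p L).subgroupOf NL).Normal] {B : Type} [Group B] (e : L ⧸ pCore p L ≃* B)
    (h : ∀ X : Subgroup B, IsElementaryAbelian p X → X ≠ ⊥ → Nat.card X = (Y ⊓ 𝐎 p L).relIndex Y →
      (∀ N : Subgroup B, N.Normal → IsPGroup p N → N = ⊥) → (∃ g, X ⊔ cj g X = ⊤) → PP p X) :
    let Yb := (Y.subgroupOf NL).map (QuotientGroup.mk' ((𝐎 p L).subgroupOf NL))
    Yb ≠ ⊥ ∧ Yb.Normal ∧ IsElementaryAbelian p Yb ∧ ∀ V : Subgroup _, V.Normal → IsElementaryAbelian p V → V ≠ ⊥ → V = Yb := by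
  intro Yb
  subst hN
  have eA : pCore p L = (𝐎 p L).subgroupOf L := (comap_map_eq_self_of_injective L.subtype_injective _).symm
  let f : L →* B := e.toMonoidHom.comp (QuotientGroup.mk' _)
  have fs : Function.Surjective f := e.surjective.comp (QuotientGroup.mk'_surjective _)
  have fk : ∀ x, f x = 1 ↔ (x : G) ∈ 𝐎 p L := fun x => by simp [f, eA, mem_subgroupOf]
  have nY : ¬ Y ≤ 𝐎 p L := fun k => um.lt.not_ge (le_inf le_rfl (h4.ge.trans ((ncl_le k (le_normalizer_pCoreOf p L)).trans h3)))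
  have YN : Y ≤ L ⊓ 𝐍 Y := le_inf hY le_normalizer
  have ea : ∀ K : Subgroup G, Y ≤ K → IsElementaryAbelian p (Y.subgroupOf K) := fun K k =>
    isElementaryAbelian_iff.2 ⟨fun x hx y hy => Subtype.ext (elemAb_le_centralizer hE hx y hy), fun x hx => Subtype.ext (hE.2 x hx)⟩
  have h0 : ∀ N : Subgroup B, N.Normal → IsPGroup p N → N = ⊥ := fun N n1 n2 => by
    have k : comap f N ≤ pCore p L := le_sSup ⟨n1.comap f, n2.comap_of_ker_isPGroup f
      ((isPGroup_pCore p L).to_le fun x hx => eA ▸ (fk x).1 hx)⟩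
    refine eq_bot_iff.2 fun b hb => ?_
    obtain ⟨x, rfl⟩ := fs b
    exact (fk x).2 (eA.le (k hb))
  have X0 : (Y.subgroupOf L).map f ≠ ⊥ := fun k => nY fun y hy =>
    (fk ⟨y, hY hy⟩).1 (mem_bot.1 (k ▸ mem_map_of_mem f (show (⟨y, hY hy⟩ : L) ∈ Y.subgroupOf L from hy)))
  have pp := h ((Y.subgroupOf L).map f) (elemAb_map (ea L hY) f) X0 (by
    rw [← Subgroup.map_map, card_map_of_injective e.injective, H2.card_map_mk', eA, relIndex_subgroupOf hY,
      inf_relIndex_left]) h0 (by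
    obtain ⟨g, hg, g1⟩ := SetLike.exists_of_lt um.lt
    refine ⟨f ⟨g, hg⟩, ?_⟩
    rw [← map_cj, ← Subgroup.map_sup, ← map_top_of_surjective f fs]
    congr 1
    refine map_injective L.subtype_injective ?_
    rw [Subgroup.map_sup, map_cj, map_subgroupOf_eq_of_le hY, ← MonoidHom.range_eq_map, range_subtype]
    exact um.sup_cj_eq h4 hg g1)
  let φ : ↥(L ⊓ 𝐍 Y) ⧸ (𝐎 p L).subgroupOf (L ⊓ 𝐍 Y) →* B :=
    QuotientGroup.lift _ (f.comp (inclusion inf_le_left)) fun x hx => (fk _).2 hx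
  have φi : Function.Injective φ := (injective_iff_map_eq_one φ).2 fun x hx => by
    obtain ⟨x, rfl⟩ := QuotientGroup.mk_surjective x
    exact (QuotientGroup.eq_one_iff _).2 ((fk _).1 hx)
  have eY : Yb.map φ = (Y.subgroupOf L).map f := le_antisymm (by rintro _ ⟨_, ⟨x, hx, rfl⟩, rfl⟩; exact ⟨_, hx, rfl⟩)
    (by rintro _ ⟨x, hx, rfl⟩; exact ⟨_, ⟨⟨x, YN hx⟩, hx, rfl⟩, rfl⟩)
  have yn : Yb.Normal := ((normal_subgroupOf_iff_le_normalizer YN).2 inf_le_right).map _ (QuotientGroup.mk'_surjective _)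
  refine ⟨fun k => X0 (by rw [← eY, k, Subgroup.map_bot]), yn, elemAb_map (ea _ YN) _, fun V v1 v2 v3 => map_injective φi ?_⟩
  rw [eY]
  refine pp _ (elemAb_map v2 _) (fun k => v3 ((Subgroup.map_eq_bot_iff_of_injective _ φi).1 k))
    (eY ▸ map_le_normalizer_map _ le_normalizer_of_normal) fun b hb => ?_
  obtain ⟨x, rfl⟩ := fs b
  have : (x : G) ∈ L ⊓ 𝐍 Y := by
    refine um.all ((comap f (𝐍 ((Y.subgroupOf L).map f))).map L.subtype)
      (fun y hy => ⟨⟨y, hY hy⟩, le_normalizer (mem_map_of_mem f (show (⟨y, hY hy⟩ : L) ∈ Y.subgroupOf L from hy)), rfl⟩)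
      (lt_of_le_of_ne (map_subtype_le _) fun k => X0 (h0 _ (normal_of_top_le_normalizer fun c _ => ?_)
        (elemAb_isPGroup (elemAb_map (ea L hY) f)))) ⟨x, hb, rfl⟩
    obtain ⟨y, rfl⟩ := fs c
    obtain ⟨z, hz, e⟩ : (y : G) ∈ (comap f (𝐍 ((Y.subgroupOf L).map f))).map L.subtype := k.symm ▸ y.2
    exact Subtype.ext e ▸ hz
  exact map_le_normalizer_map φ (H := ⊤) le_normalizer_of_normal ⟨QuotientGroup.mk ⟨x, this⟩, trivial, rfl⟩

end H118.FL2
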