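import Cfsg.Agent.H8.Cod
import Cfsg.Agent.H5.FS

/-! Piece X of S4591: the core of `N ⊔ [P,P]` lies in the kernel of each irreducible character of `p'`-degree. -/

open H5 Cfsg

namespace H118.KpX

theorem le_ker {G : Type*} [Group G] [Finite G] (p : ℕ) [hp : Fact p.Prime] (P : Sylow p G) (N : Subgroup G) [hn : N.Normal]
    (hN : N ⊓ Subgroup.centralizer ((P : Subgroup G) : Set G) = ⊥) (χ : G → ℂ) (hχ : IsIrrCharacter G χ)
    (hd : ¬ p ∣ charDegree χ) : N ≤ charKer χ := by
  classical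
  have := Fintype.ofFinite G
  by_contra hk
  have h0 := hχ.sum_coset_eq_zero N hk 1
  simp only [mul_one] at h0
  set s : Finset G := Finset.univ.filter (fun g => g ∈ N ∧ g ≠ 1) with hs
  have h1 : χ 1 + ∑ g ∈ s, χ g = 0 := by
    have e1 : s = (Finset.univ.filter (· ∈ N)).erase 1 := by
      ext g; simp [hs, and_comm]
    have e2 : (1 : G) ∈ Finset.univ.filter (· ∈ N) := Finset.mem_filter.2 ⟨Finset.mem_univ _, N.one_mem⟩
    rw [e1, Finset.add_sum_erase _ _ e2, Finset.sum_subtype (Finset.univ.filter (· ∈ N)) (p := (· ∈ N)) (by simp) χ]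
    exact h0
  have hdiv : ∀ c : ℂ, p ∣ (s.filter (fun g => χ g = c)).card := by
    intro c
    let X := {g : G // g ∈ s.filter (fun g => χ g = c)}
    have hm : ∀ (a : G) (x : X), a * x.1 * a⁻¹ ∈ s.filter (fun g => χ g = c) := by
      intro a x
      have hx := x.2
      simp only [hs, Finset.mem_filter, Finset.mem_univ, true_and] at hx ⊢
      refine ⟨⟨hn.conj_mem _ hx.1.1 a, fun e => hx.1.2 (by simpa using e)⟩, ?_⟩
      exact (hχ.isClassFunction _ _).trans hx.2
    let _ : MulAction (P : Subgroup G) X :=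
      { smul := fun a x => ⟨a.1 * x.1 * a.1⁻¹, hm a.1 x⟩
        one_smul := fun x => Subtype.ext (show (1 : G) * x.1 * (1 : G)⁻¹ = x.1 by simp)
        mul_smul := fun a b x => Subtype.ext
          (show (a.1 * b.1) * x.1 * (a.1 * b.1)⁻¹ = a.1 * (b.1 * x.1 * b.1⁻¹) * a.1⁻¹ by group) }
    have h2 := P.isPGroup'.card_modEq_card_fixedPoints X
    have h3 : IsEmpty (MulAction.fixedPoints (P : Subgroup G) X) := by
      refine ⟨fun ⟨x, hx⟩ => ?_⟩
      have hx2 := x.2
      simp only [hs, Finset.mem_filter, Finset.mem_univ, true_and] at hx2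
      refine hx2.1.2 (Subgroup.mem_bot.1 (hN ▸ (⟨hx2.1.1, Subgroup.mem_centralizer_iff.2 fun a ha => ?_⟩ :
        x.1 ∈ N ⊓ Subgroup.centralizer ((P : Subgroup G) : Set G))))
      have e : a * x.1 * a⁻¹ = x.1 := congrArg Subtype.val (hx ⟨a, ha⟩)
      rw [mul_inv_eq_iff_eq_mul] at e
      exact e
    rw [Nat.card_of_isEmpty (α := MulAction.fixedPoints (P : Subgroup G) X)] at h2
    have h4 : Nat.card X = (s.filter (fun g => χ g = c)).card := by
      simp only [X, Nat.card_eq_fintype_card, Fintype.card_coe]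
    rw [← h4]
    exact (Nat.modEq_zero_iff_dvd).1 h2
  have hp' : (p : ℂ) ≠ 0 := by exact_mod_cast hp.out.ne_zero
  have h2 : IsIntegral ℤ ((∑ g ∈ s, χ g) / p) := by
    have e := Finset.sum_comp (s := s) (fun c : ℂ => c) χ
    rw [e, Finset.sum_div]
    refine IsIntegral.sum _ fun c hc => ?_
    obtain ⟨g, -, rfl⟩ := Finset.mem_image.1 hc
    obtain ⟨k, hk⟩ := hdiv (χ g)
    rw [hk, nsmul_eq_mul, Nat.cast_mul, mul_assoc, mul_div_cancel_left₀ _ hp']
    exact (isIntegral_algebraMap (R := ℤ) (x := (k : ℤ))).mul (hχ.isCharacter.isIntegral g)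
  rw [eq_neg_of_add_eq_zero_right h1, ← hχ.coe_charDegree] at h2
  have h3 : IsIntegral ℤ (((charDegree χ : ℕ) : ℂ) / p) := by
    have := h2.neg
    simpa [neg_div] using this
  exact hd (dvd_of_isIntegral_div hp.out.ne_zero h3)

theorem pX {G : Type*} [Group G] [Finite G] (p : ℕ) [hp : Fact p.Prime] (P : Sylow p G) (N : Subgroup G) [N.Normal]
    (hN : N ⊓ Subgroup.centralizer ((P : Subgroup G) : Set G) = ⊥) (χ : G → ℂ) (hχ : IsIrrCharacter G χ)
    (hd : ¬ p ∣ charDegree χ) :
    (N ⊔ ⁅(P : Subgroup G), (P : Subgroup G)⁆).normalCore ≤ charKer χ := by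
  classical
  have := Fintype.ofFinite G
  have hk := le_ker p P N hN χ hχ hd
  set M := (N ⊔ ⁅(P : Subgroup G), (P : Subgroup G)⁆).normalCore with hM
  set H := N ⊔ (P : Subgroup G) with hH
  have hres : IsCharacter H (fun x : H => χ x) := hχ.isCharacter.restrict H
  obtain ⟨ψ, h1, h2⟩ := H8.exists_constituent_not_dvd hres (n := p) hd
  have hker : N.subgroupOf H ≤ charKer ψ.1 := by
    refine le_trans (fun x hx => ?_) (hres.charKer_le_of_constituent ψ.2 h1)
    exact hres.mem_charKer.2 (hχ.mem_charKer.1 (hk hx))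
  have hdeg : charDegree ψ.1 = 1 := by
    have d1 := ψ.2.charDegree_dvd_index_charCenter.trans
      (Subgroup.index_dvd_of_le (hker.trans charKer_le_charCenter))
    have d2 : (N.subgroupOf H).index ∣ Nat.card (P : Subgroup G) := by
      change N.relIndex H ∣ _
      rw [hH, Subgroup.relIndex_sup_left]
      exact Subgroup.relIndex_dvd_card _ _
    obtain ⟨k, hk⟩ := IsPGroup.iff_card.1 P.isPGroup'
    rw [hk] at d2
    exact ((Nat.Coprime.pow_left k ((Nat.Prime.coprime_iff_not_dvd hp.out).2 h2)).symm).eq_one_of_dvd (d1.trans d2)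
  have hone : ψ.1 1 = 1 := by rw [← ψ.2.coe_charDegree, hdeg, Nat.cast_one]
  have hcomm := ψ.2.commutator_le_charKer_iff.2 hone
  have hle : N ⊔ ⁅(P : Subgroup G), (P : Subgroup G)⁆ ≤ (charKer ψ.1).map H.subtype := by
    refine sup_le (fun x hx => ⟨⟨x, Subgroup.mem_sup_left hx⟩, hker hx, rfl⟩) ?_
    refine le_trans ?_ (Subgroup.map_mono hcomm)
    rw [commutator_def, Subgroup.map_commutator, ← MonoidHom.range_eq_map, Subgroup.range_subtype]
    exact Subgroup.commutator_mono le_sup_right le_sup_right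
  have hMH : M ≤ H := (Subgroup.normalCore_le _).trans (hle.trans (Subgroup.map_subtype_le _))
  by_contra hc
  have h0 := hχ.sum_coset_eq_zero M hc 1
  simp only [mul_one] at h0
  have hθ := (hres.sub_irr ψ.2 h1).comp (Subgroup.inclusion hMH)
  obtain ⟨n, hn⟩ := hθ.exists_classInner_nat isCharacter_one
  rw [classInner_one_right] at hn
  have e : ∀ m : M, ((fun x : H => χ x) - ψ.1) (Subgroup.inclusion hMH m) = χ m - 1 := by
    intro m
    obtain ⟨y, hy, e⟩ := hle (Subgroup.normalCore_le _ m.2)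
    have : Subgroup.inclusion hMH m = y := Subtype.ext e.symm
    rw [Pi.sub_apply, this, ψ.2.mem_charKer.1 hy, hone, ← show (y : G) = m from e]
  simp only [e, Finset.sum_sub_distrib, h0, Finset.sum_const, Finset.card_univ, nsmul_eq_mul, mul_one,
    Nat.card_eq_fintype_card, zero_sub, mul_neg] at hn
  have hc0 : (Fintype.card M : ℂ) ≠ 0 := by exact_mod_cast Fintype.card_ne_zero
  rw [inv_mul_cancel₀ hc0] at hn
  have : ((n + 1 : ℕ) : ℂ) = 0 := by push_cast; rw [← hn]; ring
  exact Nat.succ_ne_zero n (by exact_mod_cast this)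

end H118.KpX
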