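import Cfsg.Agent.H18.PA5
/-! Pushing up in rank one: the cubic case forces `p = 3` (`Cub.three`). -/
set_option autoImplicit false
set_option linter.unusedSectionVars false
namespace H118
open Subgroup H26 H4 Cfsg Matrix H18.PU
open scoped commutatorElement MatrixGroups

section Lin
variable {F : Type*} [Field F]
/-- `-1` -/
def ng (F : Type*) [Field F] : SL(2, F) := dg (-1) (neg_ne_zero.2 one_ne_zero)
theorem ng_val : (ng F).1 = -1 := by ext i j; fin_cases i <;> fin_cases j <;> simp [ng, dg]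
theorem ng_smul (v : Fin 2 → F) : ng F • v = -v := by rw [sl_smul, ng_val, neg_mulVec, one_mulVec]
theorem ng_comm (m : SL(2, F)) : m * ng F = ng F * m := Subtype.ext (by simp [ng_val])
theorem ng_sq : ng F * ng F = 1 := Subtype.ext (by simp [ng_val])

theorem pm_of_conj {m : SL(2, F)} (h : ∀ g : SL(2, F), (g * m * g⁻¹).1 1 0 = 0) : m = 1 ∨ m = ng F := by
  have h0 : m.1 1 0 = 0 := by simpa using h 1
  have h1 := h (tvL 1)
  have h3 := h (tvL 1 * tvU (-1))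
  have d := sl_det m
  simp [tvU_val, tvL_val, mul_apply, Fin.sum_univ_two, adjugate_fin_two, vecMul, dotProduct, h0] at h1 h3 d
  have b : m.1 0 1 = 0 := h3
  have a : m.1 1 1 = m.1 0 0 := by linear_combination -h1 - b
  rw [a, mul_self_eq_one_iff] at d
  refine d.imp (fun e => Subtype.ext ?_) fun e => Subtype.ext ?_
  · ext i j; fin_cases i <;> fin_cases j <;> simp [h0, a, b, e]
  · rw [ng_val]; ext i j; fin_cases i <;> fin_cases j <;> simp [h0, a, b, e]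

theorem conj_tvU {m : SL(2, F)} (h : m.1 1 0 = 0) (s : F) : m * tvU s * m⁻¹ = tvU (m.1 0 0 ^ 2 * s) := by
  have d := sl_det m
  rw [h, mul_zero, sub_zero] at d
  rw [mul_inv_eq_iff_eq_mul]
  ext i j
  fin_cases i <;> fin_cases j <;> simp [tvU_val, mul_apply, Fin.sum_univ_two, h]
  linear_combination (-(m.1 0 0) * s) * d

theorem tr_of_sq {m : SL(2, F)} (e : m * m = ng F) : m.1 0 0 + m.1 1 1 = 0 := by
  have d := sl_det m
  have e0 := congrArg (fun m : SL(2, F) => m.1 1 0) e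
  have e1 := congrArg (fun m : SL(2, F) => m.1 0 0) e
  simp [ng_val, mul_apply, Fin.sum_univ_two] at e0 e1
  linear_combination (-(m.1 0 0 + m.1 1 1) + m.1 1 1) * d + m.1 1 1 * e1 - m.1 0 1 * e0

theorem word_three {g : SL(2, F)} {σ t : F} {k : ℕ} (hk : 3 * (k : F) = 1)
    (e : tvU t * (g * tvU σ * g⁻¹) * (tvU t * (g * tvU σ * g⁻¹)) = ng F) :
    ((g * tvU σ * g⁻¹) ^ k * tvU t * (g * tvU σ * g⁻¹)⁻¹).1 1 0 = 0 ∧
      ((g * tvU σ * g⁻¹) ^ k * tvU t * (g * tvU σ * g⁻¹)⁻¹).1 0 0 = (3 : ℕ) := by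
  have d := sl_det g
  have v : ∀ s : F, (g * tvU s * g⁻¹).1 = !![1 - s * g.1 0 0 * g.1 1 0, s * g.1 0 0 ^ 2;
      -(s * g.1 1 0 ^ 2), 1 + s * g.1 0 0 * g.1 1 0] := fun s => by
    ext i j
    fin_cases i <;> fin_cases j <;>
      simp [tvU_val, mul_apply, Fin.sum_univ_two, adjugate_fin_two, vecMul, dotProduct]
    · linear_combination d
    · ring
    · ring
    · linear_combination d
  have i : (g * tvU σ * g⁻¹)⁻¹ = g * tvU (-σ) * g⁻¹ := by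
    rw [inv_eq_iff_mul_eq_one, conj_mul, ← tvU_add, add_neg_cancel, tvU_zero]; group
  have tr := tr_of_sq e
  rw [conj_pow, tvU_pow, i, Matrix.SpecialLinearGroup.coe_mul (_ * tvU t), Matrix.SpecialLinearGroup.coe_mul _ (tvU t),
    v, v, tvU_val]
  rw [Matrix.SpecialLinearGroup.coe_mul (tvU t), v, tvU_val] at tr
  simp [mul_apply, Fin.sum_univ_two] at tr ⊢
  constructor
  · linear_combination (-(σ * g.1 1 0 ^ 2)) * hk + (k * σ * g.1 1 0 ^ 2) * tr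
  · linear_combination (-(σ * g.1 0 0 * g.1 1 0)) * hk + (k * σ * g.1 0 0 * g.1 1 0 - 1) * tr

variable {W E : Type*} [AddCommGroup W] [Group E] [DistribMulAction E W] {ξ : E}
theorem pow_sub_one (n : ℕ) {u : W} (h : ξ • (ξ • u - u) - (ξ • u - u) = 0) : ξ ^ n • u - u = n • (ξ • u - u) := by
  induction n with
  | zero => simp
  | succ n ih =>
    rw [sub_eq_iff_eq_add] at ih
    rw [sub_eq_zero] at h
    rw [pow_succ', mul_smul, ih, smul_add, smul_comm, h, succ_nsmul]; abel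

theorem pow_sub_sq (n : ℕ) (h : ∀ u : W, ξ • (ξ • (ξ • u - u) - (ξ • u - u)) = ξ • (ξ • u - u) - (ξ • u - u))
    (u : W) : ξ ^ n • (ξ ^ n • u - u) - (ξ ^ n • u - u) = (n * n) • (ξ • (ξ • u - u) - (ξ • u - u)) := by
  have a : ξ • (ξ ^ n • u - u) - (ξ ^ n • u - u) = n • (ξ • (ξ • u - u) - (ξ • u - u)) := by
    rw [← pow_sub_one n (sub_eq_zero.2 (h u)), smul_sub, smul_sub, ← mul_smul, ← mul_smul, ← pow_succ,
      ← pow_succ']; abel
  rw [pow_sub_one n (by rw [a, smul_comm, h, sub_self]), a, mul_smul]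
end Lin

variable {X : Type*} [Group X] [Finite X] {p : ℕ} [hp : Fact p.Prime] {G S S₀ M A A' Qa Qa' Y Y' N U U₀ : Subgroup X}

section St
variable {F : Type*} [Field F] [Finite F] [CharP F p] {ρ : X → SL(2, F)} {ψ : X → Fin 2 → F}
  (h : Std G U U₀ S ρ ψ) (hu : UMax S M G)
include h hu
theorem mem_M {g : X} (hg : g ∈ G) (e : (ρ g).1 1 0 = 0) : g ∈ M := by
  refine hu.all (G ⊓ 𝐍 h.ln) (le_inf h.Tle (le_normalizer_of_commutator_le (h.comm_ln_le.trans h.le_ln)))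
    (lt_of_le_of_ne inf_le_left fun k => ?_) ⟨hg, (h.mem_normalizer_ln hg).2 e⟩
  obtain ⟨x, hx, a⟩ := h.ρs (tvL 1)
  simpa [a, tvL_val] using (h.mem_normalizer_ln hx).1 (k.ge hx).2

theorem ent_M (hS : IsSyl p S G) {g : X} (hg : g ∈ M) : (ρ g).1 1 0 = 0 := by
  by_contra c
  have gG := hu.lt.le hg
  have kM : h.K ≤ M := fun x hx => mem_M h hu (h.K_le hx) (by simp [(h.mem_K.1 hx).2])
  refine hu.lt.not_ge ((h.sup_eq (hS.cj_of_mem gG) hS fun e => c ?_).trans (sup_le (sup_le (cj_le_of_mem hu.le hg)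
    hu.le) kM))
  obtain ⟨t, ht, a⟩ := h.onto 1
  obtain ⟨s, hs, k, hk, b⟩ := (mem_sup_of_le_normalizer (h.Tle.trans h.nmK)).1 (e (conj_mem_cj g ht))
  have := congrArg ρ b
  rw [h.ρmul s (h.Tle hs) k (h.K_le hk), (h.mem_K.1 hk).2, mul_one, h.ρ_conj gG (h.Tle ht), a] at this
  obtain ⟨r, b⟩ := mem_uT.1 (h.up s hs)
  have := congrArg (fun m : SL(2, F) => m.1 1 0) (b.trans this)
  simp [tvU_val, mul_apply, Fin.sum_univ_two, adjugate_fin_two, vecMul, dotProduct] at this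
  exact mul_self_eq_zero.1 (by linear_combination this)
end St

namespace RD
variable {F : Type} [Field F] [Fintype F] [CharP F p] {ρ : X → SL(2, F)} {ψ : X → Fin 2 → F} (h : RD p G S M ρ ψ)
include h

theorem inv (h2 : p ≠ 2) {t : X} (ht : t ∈ G) (e : ρ t = ng F) : ∀ w ∈ ⁅VV p G, G⁆, t * w * t⁻¹ = w⁻¹ := by
  have ab := elemAb_le_centralizer h.Vea
  let W : Subgroup X := {
    carrier := {v | v ∈ VV p G ∧ t * v * t⁻¹ = v⁻¹}
    one_mem' := ⟨one_mem _, by group⟩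
    mul_mem' := fun {a b} ha hb => ⟨mul_mem ha.1 hb.1, by rw [← conj_mul, ha.2, hb.2, ← _root_.mul_inv_rev, ab ha.1 b hb.1]⟩
    inv_mem' := fun {a} ha => ⟨inv_mem ha.1, by rw [← conj_inv, ha.2]⟩ }
  have l : W ≤ VV p G := fun _ k => k.1
  have n : G ≤ 𝐍 W := fun g hg => mem_normalizer_of_conj_mem fun v hv => ⟨h.std.conj_mem hg hv.1, by
    have m := mul_mem (inv_mem ht) (mul_mem (mul_mem (inv_mem hg) ht) hg)
    have := h.ker _ m (by
      rw [h.std.ρmul _ (inv_mem ht) _ (mul_mem (mul_mem (inv_mem hg) ht) hg), h.std.ρmul _ (mul_mem (inv_mem hg) ht) _ hg,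
        h.std.ρmul _ (inv_mem hg) _ ht, h.std.ρ_inv ht, h.std.ρ_inv hg, e, ng_comm]; group) v hv.1
    calc _ = g * t * (t⁻¹ * (g⁻¹ * t * g) * v) * (g⁻¹ * t⁻¹) := by group
      _ = g * (t * v * t⁻¹) * g⁻¹ := by rw [← this]; group
      _ = _ := by rw [hv.2]; group⟩
  obtain ⟨v, hv, a⟩ := h.std.ψs ![1, 0]
  have m := h.std.conj_mem ht hv
  have c := h.ker _ (mul_mem ht ht) (by rw [h.std.ρmul _ ht _ ht, e, ng_sq]) v hv
  have w : v * (t * v * t⁻¹)⁻¹ ∈ W := ⟨mul_mem hv (inv_mem m), by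
    calc _ = t * v * t⁻¹ * (t * t * v * (t * t)⁻¹)⁻¹ := by group
      _ = _ := by rw [← c]; group⟩
  refine fun u hw => (commutator_le_of_le_sup_centralizer' ((h.std.irred l n).resolve_left fun k => ?_) inf_le_right
    (inf_le_left.trans (h.VG.trans n)) n hw).2
  have := (h.std.ker _ (l w)).2 (k w)
  rw [h.std.ψmul _ hv _ (inv_mem m), h.std.ψ_inv m, h.std.act _ ht _ hv, e, ng_smul, a] at this
  have := congrFun this 0
  simp only [neg_neg, Pi.add_apply, cons_val_zero, Pi.zero_apply] at this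
  exact h2 ((Nat.prime_dvd_prime_iff_eq hp.out Nat.prime_two).1 ((CharP.cast_eq_zero_iff F p 2).1
    (by rw [← this]; norm_num)))
end RD

theorem RK.odd_split (h : RK p G S) (h2 : p ≠ 2) : ⁅VV p G, G⁆ ⊓ 𝐂 G = ⊥ := le_bot_iff.1 fun w hw => by
  obtain ⟨_, F, _, _, _, _, _, k⟩ := h.rd
  obtain ⟨t, ht, e⟩ := k.std.ρs (ng F)
  have := k.inv h2 ht e w hw.1
  rw [hw.2 t ht, mul_inv_cancel_right, eq_inv_iff_mul_eq_one, ← pow_two] at this
  exact eq_one_of_pow_coprime ((Nat.coprime_primes Nat.prime_two hp.out).2 h2.symm) this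
    ((isElementaryAbelian_iff.1 h.Vea).2 w (h.WV (h.VG_le hw.1)))

namespace Win
variable (h : Win p G S₀ S A A' Qa Qa' Y Y')
include h
theorem exists_x : ∃ x ∈ Y', x ∉ 𝐎 p G := SetLike.not_le_iff_exists.1 h.symm.nY
theorem ln_le (h1 : U ≤ 𝐎 p G) (h2 : ⁅U, S⁆ ≤ Qa) : U ≤ Qa' := fun _ hu =>
  let ⟨_, hx, k⟩ := h.exists_x
  h.L2 (h1 hu) (h.r.YS hx) k (h2 (commutator_mem_commutator hu (h.r.YS hx)))
theorem cm : cmod (𝐎 p G) G (𝐎 p G ⊓ Qa ⊓ Qa') = 𝐎 p G ⊓ Qa ⊓ Qa' := by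
  obtain ⟨a, b⟩ := (le_cmod h.nD).1 (le_refl (cmod (𝐎 p G) G (𝐎 p G ⊓ Qa ⊓ Qa')))
  exact le_antisymm (le_inf (le_inf a (h.symm.ln_le a ((commutator_mono le_rfl h.l.rk.syl.le).trans
    (b.trans inf_le_right)))) (h.ln_le a ((commutator_mono le_rfl h.r.rk.syl.le).trans (b.trans
      (inf_le_left.trans inf_le_right))))) ((le_cmod h.nD).2 ⟨inf_le_left.trans inf_le_left,
        commutator_le_of_le_normalizer h.nD0⟩)
theorem nQE : ¬ ⁅𝐎 p G, pResidualOf p G⁆ ≤ 𝐎 p G ⊓ Qa ⊓ Qa' := fun e => h.l.cr (h.ln_le h.l.AQ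
  ((commutator_mono le_rfl (h.r.rk.syl.le.trans h.l.rk.syl.pResidualOf_sup.ge)).trans ((commutator_sup_le'
    ((commutator_mono h.l.AQ le_rfl).trans e) (h.R_le.trans (inf_le_left.trans h.VD)) (h.l.rk.EG.trans h.nD0)
      (h.l.rk.syl.le.trans h.nD0)).trans (inf_le_left.trans inf_le_right))))
theorem nm : ∃ (F : Type) (_ : Field F) (_ : Fintype F) (_ : CharP F p), Fintype.card F = (𝐎 p G).relIndex S ∧
    ∃ ρ ψ, Std (F := F) G (𝐎 p G) (𝐎 p G ⊓ Qa ⊓ Qa') S ρ ψ := by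
  obtain ⟨M, hu⟩ := h.r.rk.um
  obtain ⟨F, _, _, e, ρ, ψ, k⟩ := nat_sec h.r.rk.syl hu h.r.rk.nc (inf_le_left.trans inf_le_left) le_rfl h.nD0
    h.r.rk.nQ (fun u hu => ⟨⟨Subgroup.pow_mem _ hu _, h.pow_mem (h.l.rk.QS hu)⟩, h.symm.pow_mem (h.r.rk.QS hu)⟩)
    h.r.rk.ab (fun s hs => h.r.rk.pow_mem hs) h.nQE h.QQ (U₁ := 𝐎 p G ⊓ Qa') inf_le_left
    (inf_le_inf_right _ inf_le_left) h.DS' (by
      rw [inf_relIndex_left, ← h.r.cnt]; exact relIndex_le_of_le_right h.r.rk.QS index_ne_zero_of_finite)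
  rw [h.cm] at k
  have := k.charP (isPGroup_pCoreOf p G)
  exact ⟨F, inferInstance, inferInstance, this, e, k.exists_std h.r.rk.syl⟩
theorem ln_eq {F : Type*} [Field F] {ρ : X → SL(2, F)} {ψ : X → Fin 2 → F}
    (k : Std G (𝐎 p G) (𝐎 p G ⊓ Qa ⊓ Qa') S ρ ψ) : k.ln = 𝐎 p G ⊓ Qa' :=
  le_antisymm (le_inf k.ln_le (h.ln_le k.ln_le (k.comm_ln_le.trans (inf_le_left.trans inf_le_right))))
    (k.le_ln_of inf_le_left h.DS')
theorem le_Q (h1 : N ≤ G) (h2 : G ≤ 𝐍 N) (h3 : N ≤ 𝐂 (VV p G)) (h4 : ⁅𝐎 p G, N⁆ ≤ 𝐎 p G ⊓ Qa ⊓ Qa') : N ≤ 𝐎 p G :=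
  h.r.rk.le_Q h1 h2 (le_centralizer_of_stab (pResidualOf_pResidualOf _ _) ((isPGroup_pCoreOf p G).to_le
    (inf_le_left.trans inf_le_left)) ((commutator_mono le_rfl (pResidualOf_le _ _)).trans h4)
    (le_centralizer_of_stab (pResidualOf_pResidualOf _ _) (elemAb_isPGroup h.r.rk.Vea)
      ((commutator_mono le_rfl (pResidualOf_mono h1)).trans h.DE) ((pResidualOf_le _ _).trans h3)))
theorem nVs : G ≤ 𝐍 (ncl A G ⊔ VV p G) := le_normalizer_sup (le_normalizer_ncl _ _) h.l.rk.nV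
theorem VsQ : ncl A G ⊔ VV p G ≤ 𝐎 p G := sup_le (ncl_le h.l.AQ h.l.rk.nQ) h.l.rk.VQ
theorem nZ0 : G ≤ 𝐍 (VV p G ⊓ 𝐂 G) := le_normalizer_of_le_centralizer (le_centralizer_iff.1 inf_le_right)
theorem QVs : ⁅𝐎 p G, ncl A G ⊔ VV p G⁆ ≤ VV p G ⊓ 𝐂 G := by
  have l := (inf_le_left : VV p G ⊓ 𝐂 G ≤ _).trans h.l.rk.VQ
  refine (le_commStab_iff' l).1 (sup_le (ncl_le ((le_commStab_iff' l).2 ((commutator_comm _ _).le.trans
    ((commutator_mono le_rfl h.l.rk.QS).trans h.R_le))) (le_normalizer_commStab h.l.rk.nQ h.nZ0))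
    ((le_commStab_iff' l).2 ((commutator_eq_bot_iff'.2 (le_centralizer_iff.1 h.l.rk.QV)).trans_le bot_le)))
theorem VsD : ncl A G ⊔ VV p G ≤ 𝐂 (𝐎 p G ⊓ Qa ⊓ Qa') := sup_le (ncl_le_centralizer (le_centralizer_iff.1
  ((inf_le_left.trans inf_le_right).trans h.l.QaA)) h.nD0) (le_centralizer_iff.1 ((inf_le_left.trans
    inf_le_left).trans h.l.rk.QV))
theorem Vs_pow (h2 : p ≠ 2) : ∀ u ∈ ncl A G ⊔ VV p G, u ^ p = 1 := by
  have e := (isElementaryAbelian_iff.1 h.l.rk.Vea).2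
  let T : Subgroup X := {
    carrier := {v | v ∈ ncl A G ⊔ VV p G ∧ v ^ p = 1}
    one_mem' := ⟨one_mem _, one_pow _⟩
    mul_mem' := fun {a b} ha hb => ⟨mul_mem ha.1 hb.1, by
      have m := h.QVs (commutator_mem_commutator (h.VsQ hb.1) ha.1)
      obtain ⟨c, hc⟩ := hp.out.dvd_choose_self two_ne_zero (lt_of_le_of_ne hp.out.two_le (Ne.symm h2))
      rw [H3.mul_pow_class_two (m.2 a (h.l.rk.QG (h.VsQ ha.1))) (m.2 b (h.l.rk.QG (h.VsQ hb.1))), ha.2, hb.2, hc,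
        pow_mul, e _ m.1]; simp⟩
    inv_mem' := fun {a} ha => ⟨inv_mem ha.1, by rw [inv_pow, ha.2, inv_one]⟩ }
  have : ncl A G ⊔ VV p G ≤ T := sup_le (ncl_le_iff.2 fun g hg x hx => ⟨mem_sup_left (cj_le_ncl hg hx),
    (isElementaryAbelian_iff.1 (elemAb_cj h.l.Aea g)).2 x hx⟩) fun x hx => ⟨mem_sup_right hx, e x hx⟩
  exact fun u hu => (this hu).2
theorem xx {x u : X} (hx : x ∈ Y') (hu : u ∈ 𝐎 p G) : ⁅x, ⁅x, u⁆⁆ ∈ ⁅VV p G, S⁆ := comm_mem_symm.1 (h.r.YQ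
  (commutator_mem_commutator (comm_mem_symm.1 (h.symm.QS (commutator_mem_commutator hu (h.r.YS hx))).2) hx))
theorem xx1 {x u : X} (hx : x ∈ Y') (hu : u ∈ Qa') : ⁅x, ⁅x, u⁆⁆ = 1 := commutatorElement_eq_one_iff_mul_comm.2
  ((h.r.rk.VS_le (comm_mem_symm.1 (h.r.YQ (commutator_mem_commutator hu hx)))).2 x (h.r.YS hx))
end Win

namespace Cub
variable (h : Cub p G S₀ S A A' Qa Qa' Y Y')
include h

theorem wt0 {x y r g : X} {a b c d : ℕ} (hx : x ∈ Y') (x1 : x ∉ 𝐎 p G) (hy : y ∈ A) (y1 : y ∉ Qa') (hg : g ∈ G)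
    (e : ⁅x, ⁅x, y⁆⁆ = r) (e1 : (x ^ a)⁻¹ * (g * x * g⁻¹) ∈ 𝐎 p G) (e2 : (g * y * g⁻¹) ^ b * y ^ c ∈ Qa')
    (e3 : (g * r * g⁻¹)⁻¹ * r ^ d ∈ VV p G ⊓ 𝐂 G) : p ∣ b * d + c * (a * a) := by
  have k := h.r.rk
  have n := h.nVs
  obtain ⟨W, _, _, π, s⟩ := exists_sec_action (V := ncl A G ⊔ VV p G) (Z := VV p G ⊓ 𝐂 G) (E := G)
    ((commutator_mono h.VsQ le_rfl).trans h.QVs) ((h.VsQ.trans k.QG).trans h.nZ0) n h.nZ0
  have xG := k.syl.le (h.r.YS hx)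
  have cm : ∀ {t u : X}, t ∈ G → u ∈ ncl A G ⊔ VV p G → ⁅t, u⁆ ∈ ncl A G ⊔ VV p G := fun ht hu =>
    commutator_le_of_le_normalizer' n (commutator_mem_commutator ht hu)
  have N2 : ∀ t : G, ∀ u ∈ ncl A G ⊔ VV p G, π ⁅(t : X), ⁅(t : X), u⁆⁆ = t • (t • π u - π u) - (t • π u - π u) :=
    fun t u hu => by rw [s.comm n t (cm t.2 hu), s.comm n t hu]
  have yV : y ∈ ncl A G ⊔ VV p G := mem_sup_left (le_ncl _ _ hy)
  have y'V := conj_mem_of_mem_normalizer (n hg) yV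
  have rR : r ∈ ⁅VV p G, S⁆ := e ▸ h.xx hx (h.l.AQ hy)
  have rV : r ∈ ncl A G ⊔ VV p G := mem_sup_right (k.VS_le rR).1
  have tr : ∀ t : G, (t : X) ∈ 𝐎 p G → ∀ w : W, t • w = w := fun t ht w => by
    obtain ⟨u, hu, rfl⟩ := s.sur w
    rw [← sub_eq_zero, ← s.comm n t hu]
    exact (s.ker _ (cm t.2 hu)).2 (h.QVs (commutator_mem_commutator ht hu))
  set ξ : G := ⟨x, xG⟩
  have c3 : ∀ w : W, ξ • (ξ • (ξ • w - w) - (ξ • w - w)) = ξ • (ξ • w - w) - (ξ • w - w) := fun w => by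
    obtain ⟨u, hu, rfl⟩ := s.sur w
    have m := k.VS_le (h.xx hx (h.VsQ hu))
    rw [← N2 ξ u hu, ← s.act ξ _ (mem_sup_right m.1), show (ξ : X) * _ = _ from m.2 x (h.r.YS hx),
      mul_inv_cancel_right]
  have ga : ∀ w : W, (⟨g * x * g⁻¹, mul_mem (mul_mem hg xG) (inv_mem hg)⟩ : G) • w = ξ ^ a • w := fun w => by
    have := tr ((ξ ^ a)⁻¹ * ⟨g * x * g⁻¹, mul_mem (mul_mem hg xG) (inv_mem hg)⟩) e1 w
    rwa [mul_smul, inv_smul_eq_iff] at this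
  have q1 := N2 ⟨g * x * g⁻¹, mul_mem (mul_mem hg xG) (inv_mem hg)⟩ _ y'V
  rw [ga, ga, pow_sub_sq a c3, ← conjugate_commutatorElement, ← conjugate_commutatorElement, e,
    (s.eq (conj_mem_of_mem_normalizer (n hg) rV) (Subgroup.pow_mem _ rV d)).2 e3, s.pow rV] at q1
  have q2 := N2 ξ _ (mul_mem (Subgroup.pow_mem _ y'V b) (Subgroup.pow_mem _ yV c))
  rw [h.xx1 hx e2, s.one, s.mul _ (Subgroup.pow_mem _ y'V b) _ (Subgroup.pow_mem _ yV c), s.pow y'V, s.pow yV] at q2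
  have q3 := N2 ξ y yV
  rw [e] at q3
  have q4 : (b * d + c * (a * a)) • π r = 0 := by
    rw [add_smul, mul_smul b, q1, q3, smul_comm b, mul_comm c, mul_smul _ c, ← smul_add]
    refine smul_eq_zero_of_right _ (Eq.trans ?_ q2.symm)
    simp only [smul_add, smul_sub, smul_comm ξ b, smul_comm ξ c]; abel
  rw [← s.pow rV, s.ker _ (Subgroup.pow_mem _ rV _)] at q4
  by_contra c
  have := mem_of_pow_mem_coprime ((hp.out.coprime_iff_not_dvd.2 c).symm) q4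
    ((isElementaryAbelian_iff.1 k.Vea).2 r (k.VS_le rR).1 ▸ one_mem _)
  exact h.nq y hy y1 x hx x1 (e.trans ((k.odd_split h.odd).le ⟨commutator_mono le_rfl k.syl.le rR, this.2⟩))

variable {F F' : Type} [Field F] [Fintype F] [CharP F p] {ρ : X → SL(2, F)} {ψ : X → Fin 2 → F} (k : RD p G S M ρ ψ)
  [Field F'] [Fintype F'] [CharP F' p] {ρ' : X → SL(2, F')} {ψ' : X → Fin 2 → F'}
  (k' : Std G (𝐎 p G) (𝐎 p G ⊓ Qa ⊓ Qa') S ρ' ψ')
include k k'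

theorem mem_Q {g : X} (hg : g ∈ G) (e : ρ g = 1) (e' : ρ' g = 1) : g ∈ 𝐎 p G :=
  h.le_Q (N := k.std.K ⊓ k'.K) (inf_le_left.trans k.std.K_le) (le_normalizer_inf k.std.nmK k'.nmK)
    (fun x hx => k.ker x (k.std.K_le hx.1) (k.std.mem_K.1 hx.1).2) ((commutator_mono le_rfl inf_le_right).trans
      k'.comm_K) ⟨k.std.mem_K.2 ⟨hg, e⟩, k'.mem_K.2 ⟨hg, e'⟩⟩

theorem wt {g : X} {b d : ℕ} (hg : g ∈ G) (e1 : (ρ g).1 1 0 = 0) (e2 : (ρ g).1 0 0 = d) (e3 : (ρ' g).1 1 0 = 0)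
    (e4 : (ρ' g).1 0 0 = b) (e5 : (b : F') ^ 2 = d ^ 2) : (b : F) = d ^ 3 := by
  obtain ⟨x, hx, x1⟩ := h.exists_x
  obtain ⟨y, hy, y1⟩ := SetLike.not_le_iff_exists.1 h.l.cr
  have xS := h.r.YS hx
  have xG := k.syl.le xS
  have yQ := h.l.AQ hy
  have rR := h.xx hx yQ
  have rV := (k.VS_le rR).1
  have gx := mul_mem (mul_mem hg xG) (inv_mem hg)
  have xa := Subgroup.pow_mem _ xG (d * d)
  have p1 : ((p - 1 : ℕ) : F) = -1 := by rw [Nat.cast_sub hp.out.one_le, CharP.cast_eq_zero]; simp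
  have p1' : ((p - 1 : ℕ) : F') = -1 := by rw [Nat.cast_sub hp.out.one_le, CharP.cast_eq_zero]; simp
  have d1 := sl_det (ρ g)
  have d2 := sl_det (ρ' g)
  rw [e1, e2, mul_zero, sub_zero] at d1
  rw [e3, e4, mul_zero, sub_zero] at d2
  have := h.wt0 (a := d * d) (b := b) (c := p - 1) (d := d) hx x1 hy y1 hg rfl (h.mem_Q k k' (mul_mem (inv_mem xa) gx)
    ?_ ?_) ?_ ?_
  · rw [← CharP.cast_eq_zero_iff F p] at this
    push_cast [p1] at this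
    linear_combination (ρ g).1 1 1 * this + (d ^ 3 - b) * d1
  · obtain ⟨s, e⟩ := mem_uT.1 (k.std.up x xS)
    rw [k.std.ρmul _ (inv_mem xa) _ gx, k.std.ρ_inv xa, k.std.ρ_pow xG, k.std.ρ_conj hg xG, ← e, conj_tvU e1, tvU_pow,
      e2, pow_two, Nat.cast_mul, inv_mul_cancel]
  · obtain ⟨s, e⟩ := mem_uT.1 (k'.up x xS)
    rw [k'.ρmul _ (inv_mem xa) _ gx, k'.ρ_inv xa, k'.ρ_pow xG, k'.ρ_conj hg xG, ← e, conj_tvU e3, tvU_pow,
      e4, e5, pow_two, Nat.cast_mul, inv_mul_cancel]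
  · have m := k'.conj_mem hg yQ
    have m1 := Subgroup.pow_mem _ m b
    have m2 := Subgroup.pow_mem _ yQ (p - 1)
    refine ((h.ln_eq k').le (k'.mem_ln.2 ⟨mul_mem m1 m2, ?_⟩)).2
    rw [k'.ψmul _ m1 _ m2, k'.ψ_pow m, k'.ψ_pow yQ, k'.act _ hg _ yQ]
    rw [Pi.add_apply, Pi.smul_apply, Pi.smul_apply, nsmul_eq_mul, nsmul_eq_mul, sl_smul_one, e3, p1']
    linear_combination ψ' y 1 * d2
  · have l := (k.std.comm_le_ln rR).2
    rw [← k.std.ψ_eq (k.std.conj_mem hg rV) (Subgroup.pow_mem _ rV d), k.std.ψ_pow rV, k.std.act _ hg _ rV]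
    exact vec_ext (by simp [sl_smul_zero, l, e2]) (by simp [sl_smul_one, l, e1])

theorem sgn {g : X} (hg : g ∈ G) : (ρ g = 1 → ρ' g = 1) ∧ (ρ g = ng F → ρ' g = ng F') := by
  have key : (ρ g = 1 ∨ ρ g = ng F) → ρ' g = 1 ∨ ρ' g = ng F' := fun e => pm_of_conj fun m => by
    obtain ⟨t, ht, rfl⟩ := k'.ρs m
    rw [← k'.ρ_conj ht hg]
    refine ent_M k' k.hu k.syl (mem_M k.std k.hu (mul_mem (mul_mem ht hg) (inv_mem ht)) ?_)
    rw [k.std.ρ_conj ht hg]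
    rcases e with e | e
    · simp [e]
    · rw [e, ng_comm, mul_inv_cancel_right, ng_val]; simp
  have p1 : ((p - 1 : ℕ) : F) = -1 := by rw [Nat.cast_sub hp.out.one_le, CharP.cast_eq_zero]; simp
  have p1' : ((p - 1 : ℕ) : F') = -1 := by rw [Nat.cast_sub hp.out.one_le, CharP.cast_eq_zero]; simp
  have t2 : (2 : F) ≠ 0 := fun e => h.odd ((Nat.prime_dvd_prime_iff_eq hp.out Nat.prime_two).1
    ((CharP.cast_eq_zero_iff F p 2).1 (by simpa using e)))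
  refine ⟨fun e => (key (.inl e)).resolve_right fun e' => t2 ?_, fun e => (key (.inr e)).resolve_left fun e' => t2 ?_⟩
  · have := h.wt k k' (b := p - 1) (d := 1) hg (by simp [e]) (by simp [e]) (by simp [e', ng_val])
      (by simp [e', ng_val, p1']) (by simp [p1'])
    rw [p1] at this; push_cast at this; linear_combination -this
  · have := h.wt k k' (b := 1) (d := p - 1) hg (by simp [e, ng_val]) (by simp [e, ng_val, p1]) (by simp [e'])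
      (by simp [e']) (by simp [p1'])
    rw [p1] at this; push_cast at this; linear_combination this

omit k k'
theorem cen : G ⊓ 𝐂 (VV p G) = 𝐎 p G := by
  obtain ⟨M, F, _, _, _, ρ, ψ, k⟩ := h.r.rk.rd
  obtain ⟨F', _, _, _, -, ρ', ψ', k'⟩ := h.nm
  exact le_antisymm (fun g hg => have e := k.std.ρ_eq_one_of hg.1 hg.2
    h.mem_Q k k' hg.1 e ((h.sgn k k' hg.1).1 e)) (le_inf k.QG k.QV)

theorem three : p = 3 := by
  obtain ⟨M, F, _, _, _, ρ, ψ, k⟩ := h.r.rk.rd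
  obtain ⟨F', _, _, _, -, ρ', ψ', k'⟩ := h.nm
  by_contra c
  obtain ⟨j, hj⟩ : ∃ j : ℕ, p ∣ 3 * j - 1 ∧ 1 ≤ 3 * j := by
    obtain ⟨j, -, e⟩ := Nat.exists_mul_mod_eq_one_of_coprime ((Nat.coprime_primes Nat.prime_three hp.out).2
      (Ne.symm c)) hp.out.one_lt
    exact ⟨j, by rw [← e]; exact Nat.dvd_sub_mod _, e ▸ Nat.mod_le _ _⟩
  have j1 : ∀ (K : Type) [Field K] [CharP K p], 3 * (j : K) = 1 := fun K _ _ => by
    have := (CharP.cast_eq_zero_iff K p _).2 hj.1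
    rw [Nat.cast_sub hj.2] at this
    push_cast at this; linear_combination this
  obtain ⟨x, hx, e1⟩ := k.std.onto 1
  obtain ⟨x₀, hx₀, e2⟩ := k.std.onto 2
  obtain ⟨n, hn, e3⟩ := k.std.ρs (slOf !![0, 1; -1, 0] (by simp [det_fin_two]))
  obtain ⟨t, a1⟩ := mem_uT.1 (k'.up x hx)
  obtain ⟨σ, a2⟩ := mem_uT.1 (k'.up x₀ hx₀)
  have xG := k.syl.le hx
  have zG := mul_mem (mul_mem hn (k.syl.le hx₀)) (inv_mem hn)
  have xz := mul_mem xG zG
  have b1 : tvU 1 * (ρ n * tvU 2 * (ρ n)⁻¹) * (tvU 1 * (ρ n * tvU 2 * (ρ n)⁻¹)) = ng F := by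
    rw [e3]; refine Subtype.ext ?_
    ext i j
    fin_cases i <;> fin_cases j <;> simp [ng_val, tvU_val, mul_apply, Fin.sum_univ_two, adjugate_fin_two, vecMul,
      dotProduct] <;> norm_num
  have b2 := (h.sgn k k' (mul_mem xz xz)).2 (by
    rw [k.std.ρmul _ xz _ xz, k.std.ρmul _ xG _ zG, k.std.ρ_conj hn (k.syl.le hx₀), e1, e2, b1])
  rw [k'.ρmul _ xz _ xz, k'.ρmul _ xG _ zG, k'.ρ_conj hn (k.syl.le hx₀), ← a1, ← a2] at b2
  have zj := Subgroup.pow_mem _ zG j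
  have c1 := word_three (j1 F) b1
  have c2 := word_three (j1 F') b2
  rw [← e1, ← e2, ← k.std.ρ_conj hn (k.syl.le hx₀), ← k.std.ρ_pow zG, ← k.std.ρ_inv zG, ← k.std.ρmul _ zj _ xG,
    ← k.std.ρmul _ (mul_mem zj xG) _ (inv_mem zG)] at c1
  rw [a1, a2, ← k'.ρ_conj hn (k.syl.le hx₀), ← k'.ρ_pow zG, ← k'.ρ_inv zG, ← k'.ρmul _ zj _ xG,
    ← k'.ρmul _ (mul_mem zj xG) _ (inv_mem zG)] at c2
  have := h.wt k k' (mul_mem (mul_mem zj xG) (inv_mem zG)) c1.1 c1.2 c2.1 c2.2 rfl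
  have e : p ∣ 2 ^ 3 := (CharP.cast_eq_zero_iff F p _).1 (by
    push_cast at this ⊢; linear_combination (-(j : F)) * this - 8 * j1 F)
  exact h.odd ((Nat.prime_dvd_prime_iff_eq hp.out Nat.prime_two).1 (hp.out.dvd_of_dvd_pow e))
end Cub

end H118
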