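import Cfsg.Agent.H18.PA6
import Cfsg.Agent.H27.Chief
/-! Pushing up in rank one: the final forms `F1`, `F2`, chief factors. -/
set_option autoImplicit false
set_option linter.unusedSectionVars false
namespace H118
open Subgroup H26 H4 Cfsg Matrix H18.PU
open scoped commutatorElement MatrixGroups

variable {X : Type*} [Group X] [Finite X] {p : ℕ} [hp : Fact p.Prime]
  {G S S₀ M A A' B D Qa Qa' Y Y' N U W : Subgroup X}

omit [Finite X] in
theorem engel {x y : X} (h1 : (x * y) ^ 3 = 1) (h2 : (x * y⁻¹) ^ 3 = 1) (h3 : y ^ 3 = 1) : ⁅x, ⁅x, y⁆⁆ = 1 := by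
  have e1 : x * y * x = y⁻¹ * x⁻¹ * y⁻¹ := by
    rw [← one_mul (y⁻¹ * x⁻¹ * y⁻¹), ← h1, pow_three]; group
  have e2 : x * y⁻¹ * x = y * x⁻¹ * y := by rw [← one_mul (y * x⁻¹ * y), ← h2, pow_three]; group
  have e3 : Commute x (y * x * y⁻¹) := by
    show x * (y * x * y⁻¹) = y * x * y⁻¹ * x
    calc _ = x * y * x * y⁻¹ := by group
      _ = y⁻¹ * x⁻¹ * y * (y ^ 3)⁻¹ := by rw [e1]; group
      _ = y ^ 3 * (y⁻¹ * x⁻¹ * y) := by rw [h3]; group
      _ = y * (x * y⁻¹ * x) := by rw [e2, pow_three]; group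
      _ = _ := by group
  rw [commutatorElement_eq_one_iff_commute, show ⁅x, y⁆ = x * (y * x * y⁻¹)⁻¹ by rw [commutatorElement_def]; group]
  exact (Commute.refl x).mul_right e3.inv_right

/-- the final form of the cubic case -/
structure F2 (p : ℕ) (G S D : Subgroup X) : Prop extends RK p G S where
  three : p = 3
  VD : VV p G ≤ D
  DE : ⁅D, pResidualOf p G⁆ ≤ VV p G
  cen : G ⊓ 𝐂 (VV p G) = 𝐎 p G
  nm : ∃ (F : Type) (_ : Field F) (_ : Fintype F), Fintype.card F = (𝐎 p G).relIndex S ∧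
    ∃ ρ ψ, NM (F := F) ⊤ G (𝐎 p G) D ρ ψ
  cl : ⁅⁅⁅S, S⁆, S⁆, S⁆ = ⊥
  ncl : ⁅⁅S, S⁆, S⁆ ≠ ⊥
  ex : ∀ s ∈ S, s ^ 9 = 1
  nex : ¬ ∀ s ∈ S, s ^ 3 = 1

namespace Win
variable (h : Win p G S₀ S A A' Qa Qa' Y Y')
include h
theorem Q_le' : 𝐎 p G ≤ ncl A G ⊔ VV p G ⊔ 𝐎 p G ⊓ Qa ⊓ Qa' := by
  obtain ⟨F, _, _, _, -, ρ, ψ, k⟩ := h.nm
  exact (k.irred h.VsQ h.nVs).resolve_left fun e => h.l.cr ((le_ncl _ _).trans (le_sup_left.trans
    (e.trans inf_le_right)))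
theorem DY1 : ⁅𝐎 p G ⊓ Qa ⊓ Qa', Y'⁆ ≤ ⁅VV p G, S⁆ := (commutator_mono inf_le_right le_rfl).trans h.r.YQ
theorem S_le : S ≤ 𝐎 p G ⊓ Qa ⊓ Qa' ⊔ (Y' ⊔ (ncl A G ⊔ VV p G)) := h.r.spY.trans (sup_le
  (le_sup_of_le_right le_sup_left) (h.Q_le'.trans (sup_le (le_sup_of_le_right le_sup_right) le_sup_left)))
theorem cDD : Y' ⊔ (ncl A G ⊔ VV p G) ≤ 𝐂 ⁅𝐎 p G ⊓ Qa ⊓ Qa', 𝐎 p G ⊓ Qa ⊓ Qa'⁆ := by
  have c := h.DY1.trans (h.r.rk.VS_le.trans (inf_le_right.trans (centralizer_anti ((inf_le_left.trans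
    inf_le_left).trans h.r.rk.QS : 𝐎 p G ⊓ Qa ⊓ Qa' ≤ S))))
  exact sup_le (le_centralizer_iff.1 (three_subgroups_centralizer c ((commutator_comm _ _).le.trans c)))
    (h.VsD.trans (centralizer_anti (commutator_le_of_le_normalizer le_normalizer)))
theorem VsS : ⁅(ncl A G ⊔ VV p G) ⊓ Qa', S⁆ ≤ VV p G ⊓ 𝐂 S := by
  have n : S ≤ 𝐍 (VV p G ⊓ 𝐂 S) := le_normalizer_of_le_centralizer (le_centralizer_iff.1 inf_le_right)
  exact (commutator_mono le_rfl h.r.spY).trans (commutator_sup_le' ((commutator_mono inf_le_right le_rfl).trans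
    (h.r.YQ.trans h.r.rk.VS_le)) ((commutator_comm _ _).le.trans ((commutator_mono le_rfl inf_le_left).trans
      (h.QVs.trans (inf_le_inf_left _ (centralizer_anti h.r.rk.syl.le))))) (h.r.YS.trans n) (h.r.rk.QS.trans n))
theorem cl_le : ⁅⁅⁅S, S⁆, S⁆, S⁆ ≤ ⁅⁅⁅𝐎 p G, 𝐎 p G⁆, 𝐎 p G⁆, 𝐎 p G⁆ := by
  set D := 𝐎 p G ⊓ Qa ⊓ Qa'
  have k := h.r.rk
  have dQ : D ≤ 𝐎 p G := inf_le_left.trans inf_le_left
  have dS := dQ.trans k.QS
  have nD : S ≤ 𝐍 D := k.syl.le.trans h.nD0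
  have n2 := le_normalizer_commutator nD nD
  have n3 := le_normalizer_commutator n2 nD
  have n4 := le_normalizer_commutator n3 nD
  have vS : ncl A G ⊔ VV p G ≤ S := h.VsQ.trans k.QS
  have nT : S ≤ 𝐍 ((ncl A G ⊔ VV p G) ⊓ Qa') := le_normalizer_inf (k.syl.le.trans h.nVs) h.r.nQa
  have vT : VV p G ≤ (ncl A G ⊔ VV p G) ⊓ Qa' := le_inf le_sup_right h.r.VQ
  have m2 := le_normalizer_sup nT n2
  have a1 : ⁅D, S⁆ ≤ (ncl A G ⊔ VV p G) ⊓ Qa' ⊔ ⁅D, D⁆ := (commutator_mono le_rfl h.S_le).trans (commutator_sup_le'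
    le_sup_right (commutator_sup_le' (le_sup_of_le_left (h.DY'.trans vT)) ((commutator_eq_bot_iff'.2 h.VsD).trans_le
      bot_le) (h.r.YS.trans m2) (vS.trans m2)) (dS.trans m2) ((sup_le h.r.YS vS).trans m2))
  have a2 : ⁅ncl A G ⊔ VV p G, S⁆ ≤ (ncl A G ⊔ VV p G) ⊓ Qa' := le_inf (commutator_le_of_le_normalizer
    (k.syl.le.trans h.nVs)) ((commutator_mono vS le_rfl).trans h.symm.SS)
  have a3 : ⁅Y', S⁆ ≤ (ncl A G ⊔ VV p G) ⊓ Qa' := (commutator_comm _ _).le.trans ((commutator_mono h.S_le le_rfl).trans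
    (commutator_sup_le (h.DY'.trans vT) (commutator_sup_le ((commutator_eq_bot_iff'.2 (elemAb_le_centralizer
      h.r.Yea)).trans_le bot_le) ((commutator_mono le_rfl h.r.YS).trans a2) (h.r.YS.trans nT) (vS.trans nT))
      (dS.trans nT) ((sup_le h.r.YS vS).trans nT)))
  have s2 : ⁅S, S⁆ ≤ (ncl A G ⊔ VV p G) ⊓ Qa' ⊔ ⁅D, D⁆ := (commutator_mono h.S_le le_rfl).trans (commutator_sup_le a1
    (commutator_sup_le (le_sup_of_le_left a3) (le_sup_of_le_left a2) (h.r.YS.trans m2) (vS.trans m2)) (dS.trans m2)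
      ((sup_le h.r.YS vS).trans m2))
  have d2 : ⁅D, D⁆ ≤ D := commutator_le_of_le_normalizer le_normalizer
  have d3 : ⁅⁅D, D⁆, D⁆ ≤ ⁅D, D⁆ := commutator_le_of_le_normalizer (dS.trans n2)
  have m3 := le_normalizer_sup (le_normalizer_of_le_centralizer (le_centralizer_iff.1
    (inf_le_right : VV p G ⊓ 𝐂 S ≤ _))) n3
  have s3 : ⁅⁅S, S⁆, S⁆ ≤ VV p G ⊓ 𝐂 S ⊔ ⁅⁅D, D⁆, D⁆ := (commutator_mono s2 le_rfl).trans (commutator_sup_le
    (le_sup_of_le_left h.VsS) (le_sup_of_le_right (commutator_le_of_le_sup_centralizer (dS.trans n2)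
      (h.S_le.trans (sup_le_sup_left h.cDD _)))) ((inf_le_left.trans vS).trans m3) ((d2.trans dS).trans m3))
  exact ((commutator_mono s3 le_rfl).trans (commutator_sup_le ((commutator_eq_bot_iff'.2 (le_centralizer_iff.1
    inf_le_right)).trans_le bot_le) (commutator_le_of_le_sup_centralizer (dS.trans n3) (h.S_le.trans (sup_le_sup_left
      (h.cDD.trans (centralizer_anti d3)) _))) ((inf_le_left.trans k.VS).trans n4) (((d3.trans d2).trans dS).trans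
        n4))).trans (commutator_mono (commutator_mono (commutator_mono dQ dQ) dQ) dQ)
theorem pw_le' (h3 : p = 3) : pw 9 S ≤ pw 9 (𝐎 p G) := pw_le_iff.2 fun s hs => by
  have k := h.r.rk
  have vS : ncl A G ⊔ VV p G ≤ S := h.VsQ.trans k.QS
  have nV := h.r.YS.trans (k.syl.le.trans h.nVs)
  obtain ⟨w, hw, d, hd, rfl⟩ := (mem_sup_of_le_normalizer ((sup_le h.r.YS vS).trans (k.syl.le.trans h.nD0))).1
    (h.S_le.trans (sup_comm _ _).le hs)
  have wS := sup_le h.r.YS vS hw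
  obtain ⟨y, hy, v, hv, rfl⟩ := (mem_sup_of_le_normalizer nV).1 hw
  have m : ⁅d, y * v⁆ ∈ VV p G ⊓ 𝐂 S := by
    rw [commutatorElement_mul_right_eq_mul_conj, commutatorElement_eq_one_iff_mul_comm.2 (h.VsD hv d hd)]
    simpa using k.VS_le (h.DY1 (commutator_mem_commutator hd hy))
  have w3 := inv_pow_mul_pow_mem (nV hy) hv p
  rw [(isElementaryAbelian_iff.1 h.r.Yea).2 y hy, inv_one, one_mul] at w3
  have c : Commute ((y * v) ^ p) (d ^ p) := Commute.pow_right (h.VsD w3 d hd).symm p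
  have e : (y * v * d) ^ p = (y * v) ^ p * d ^ p := by
    rw [H3.mul_pow_class_two (m.2 _ wS) (m.2 d (k.QS hd.1.1)), show p.choose 2 = p by rw [h3]; rfl,
      (isElementaryAbelian_iff.1 k.Vea).2 _ m.1, one_mul]
  rw [show 9 = p * p by rw [h3], pow_mul, e, c.mul_pow, h.Vs_pow (by omega) _ w3, one_mul, ← pow_mul]
  exact pow_mem_pw hd.1.1
end Win

theorem Cub.f2 (h : Cub p G S₀ S A A' Qa Qa' Y Y') (h2 : N ≤ 𝐍 S) (free : ∀ U ≤ S, G ≤ 𝐍 U → N ≤ 𝐍 U → U = ⊥) :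
    F2 p G S (𝐎 p G ⊓ Qa ⊓ Qa') := by
  have k := h.r.rk
  have q := k.QS
  have nq := k.nQ
  obtain ⟨x, hx, x1⟩ := h.exists_x
  obtain ⟨y, hy, y1⟩ := SetLike.not_le_iff_exists.1 h.l.cr
  have xS := h.r.YS hx
  have yS := h.AS' hy
  obtain ⟨F, _, _, _, e, ρ, ψ, st⟩ := h.nm
  refine ⟨k, h.three, h.VD, h.DE, h.cen, ⟨F, inferInstance, inferInstance, e, ρ, ψ, st.toNM⟩,
    free _ (commutator_le_of_le_normalizer' ?_) ?_ (le_normalizer_commutator (le_normalizer_commutator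
      (le_normalizer_commutator h2 h2) h2) h2), fun e => h.nq y hy y1 x hx x1 ?_, fun s hs =>
      (free _ (pw_le _ _) ?_ (n_pw _ h2)).le (pow_mem_pw hs), fun e => h.nq y hy y1 x hx x1
        (engel (e _ (mul_mem xS yS)) (e _ (mul_mem xS (inv_mem yS))) (e _ yS))⟩
  · exact (commutator_le_of_le_normalizer' ((commutator_le_of_le_normalizer le_normalizer).trans
      le_normalizer)).trans le_normalizer
  · rw [le_antisymm h.cl_le (commutator_mono (commutator_mono (commutator_mono q q) q) q)]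
    exact le_normalizer_commutator (le_normalizer_commutator (le_normalizer_commutator nq nq) nq) nq
  · exact mem_bot.1 (comm_mem_symm.1 (e.le (commutator_mem_commutator (commutator_mem_commutator xS yS) xS)))
  · rw [le_antisymm (h.pw_le' h.three) (pw_mono _ q)]; exact n_pw _ nq

theorem F2.comap {X' : Type*} [Group X'] [Finite X'] {f : X →* X'} (hf : Function.Injective f) {D' : Subgroup X'}
    (h : F2 p (G.map f) (S.map f) D') : F2 p G S (D'.comap f) := by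
  obtain ⟨F, _, _, c, ρ, ψ, k⟩ := h.nm
  have e : (D'.comap f).map f = D' := map_comap_eq_self (k.le.trans (h.QG.trans (map_le_range f G)))
  have r := (RK_map hf).1 h.toRK
  rw [← map_pCoreOf hf] at k c
  refine ⟨r, h.three, ?_, ?_, ?_, ⟨F, inferInstance, inferInstance, ?_, _, _, k.comap f r.nQ ?_ fun _ _ => Iff.rfl⟩,
    ?_, ?_, fun s hs => hf ?_, fun a => h.nex ?_⟩
  · rw [← map_le_map_iff_of_injective hf, e, map_VV hf]; exact h.VD
  · rw [← map_le_map_iff_of_injective hf, map_commutator, e, map_VV hf, map_pResidualOf]; exact h.DE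
  · refine map_injective hf ?_
    rw [map_inf_centralizer hf, map_VV hf, map_pCoreOf hf]; exact h.cen
  · rw [c, relIndex_map_map_of_injective _ _ hf]
  · rw [← map_le_map_iff_of_injective hf, e]; exact k.le
  · rw [← map_eq_bot_iff_of_injective _ hf, map_commutator, map_commutator, map_commutator]; exact h.cl
  · rw [Ne, ← map_eq_bot_iff_of_injective _ hf, map_commutator, map_commutator]; exact h.ncl
  · rw [map_pow, map_one]; exact h.ex _ (mem_map_of_mem f hs)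
  · rintro _ ⟨s, hs, rfl⟩; rw [← map_pow, a s hs, map_one]

theorem RK.final (h : RK p G S) (hf : Free G S) : (∃ A, F1 p G S A) ∨ ∃ D, F2 p G S D := by
  have hi : Function.Injective (MulAction.toPermHom X X) := MulAction.toPerm_injective
  obtain ⟨s, -, k⟩ | ⟨_, _, _, _, _, _, _, k⟩ := ((RK_map hi).2 h).dich le_normalizer le_rfl hf.emb
  · exact .inl ⟨_, (k.f1 le_rfl hf.emb).comap hi⟩
  · exact .inr ⟨_, (k.f2 le_rfl hf.emb).comap hi⟩

theorem exists_ic_le (hW : G ≤ 𝐍 W) (hW' : 𝐎 p G ≤ 𝐍 W) : ∀ U ≤ 𝐎 p G, G ≤ 𝐍 U → W ≤ U →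
    ⁅U, pResidualOf p G⁆ ≤ W → ∃ k, iterCommutator U G k ≤ W := fun U => by
  refine subgroup_card_induction (Q := fun U => U ≤ 𝐎 p G → G ≤ 𝐍 U → W ≤ U → ⁅U, pResidualOf p G⁆ ≤ W →
    ∃ k, iterCommutator U G k ≤ W) U fun U _ ih h1 h2 h3 h4 => ?_
  rcases h3.eq_or_lt with rfl | l
  · exact ⟨0, le_rfl⟩
  have := commutator_sup_lt_of_pResidualOf ((isPGroup_pCoreOf p G).to_le h1) h2 (h1.trans hW') hW h4 l
  obtain ⟨k, hk⟩ := ih _ this (this.le.trans h1) (le_normalizer_sup (le_normalizer_commutator_right _ _) hW)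
    le_sup_right ((commutator_mono this.le le_rfl).trans h4)
  exact ⟨k + 1, by rw [H27.ic_succ']; exact (H27.ic_mono le_sup_left le_rfl k).trans hk⟩

section Chief
variable {F : Type*} [Field F] {ρ : X → SL(2, F)} {ψ : X → Fin 2 → F}

theorem chief_of_nm (k : NM ⊤ ⊤ A B ρ ψ) : IsChiefFactor A B ∧ ¬ ⁅A, ⊤⁆ ≤ B :=
  ⟨⟨lt_of_le_of_ne k.le k.ne, normal_of_top_le_normalizer k.nm, normal_of_top_le_normalizer k.nm₀, fun N n a b =>
    (k.irred b (normalizer_eq_top N).ge).imp (le_antisymm · a) fun e => le_antisymm b (e.trans (sup_le le_rfl a))⟩,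
    fun e => k.ne (le_antisymm k.le (k.le_comm.trans (sup_le e le_rfl)))⟩

variable (h : IsChiefFactor U W)
include h
theorem chief_res (h1 : U ≤ 𝐎 p ⊤) (h2 : ¬ ⁅U, ⊤⁆ ≤ W) : ¬ ⁅U, pResidualOf p ⊤⁆ ≤ W := fun e => by
  obtain ⟨a, b, c, d⟩ := h
  have := commutator_sup_lt_of_pResidualOf ((isPGroup_pCoreOf p ⊤).to_le h1) (normalizer_eq_top U).ge
    (le_top.trans (normalizer_eq_top W).ge) (normalizer_eq_top W).ge e a
  exact h2 (le_sup_left.trans ((d _ inferInstance le_sup_right this.le).resolve_right this.ne).le)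

theorem cover_triv {E : Subgroup X} (h2 : ¬ ⁅U, E⁆ ≤ W) (hB : ⊤ ≤ 𝐍 B) (h3 : ⁅A, E⁆ ≤ B) (c : U ≤ W ⊔ U ⊓ A) :
    U ≤ W ⊔ U ⊓ B := by
  have := normal_of_top_le_normalizer hB
  have := h.2.1; have := h.2.2.1
  exact (H27.chief_cover_or h B).resolve_right fun e => h2 ((commutator_mono c le_rfl).trans (commutator_sup_le
    (commutator_le_left _ _) ((le_inf ((commutator_mono inf_le_left le_rfl).trans (commutator_le_left _ _))
      ((commutator_mono inf_le_right le_rfl).trans h3)).trans e) (H27.le_normalizer_of_normal' _ _)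
        (H27.le_normalizer_of_normal' _ _)))

theorem cover_nm [W.Normal] (k : NM ⊤ ⊤ A B ρ ψ) (c : U ≤ W ⊔ U ⊓ A) : U ≤ W ⊔ U ⊓ B ∨
    IsNaturalSL2Module F (U.map (QuotientGroup.mk' W)) ⊤ := by
  have := normal_of_top_le_normalizer k.nm₀
  have := normal_of_top_le_normalizer k.nm
  have := h.2.1
  refine (H27.chief_cover_or h B).imp_right fun e => ?_
  have n := h.1.not_ge
  have a1 : A ≤ U ⊓ A ⊔ B := (k.irred inf_le_right (normalizer_eq_top _).ge).resolve_left fun a =>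
    n (c.trans (sup_le le_rfl ((le_inf inf_le_left a).trans e)))
  have a2 : W ⊓ A ≤ B := (k.irred inf_le_right (normalizer_eq_top _).ge).resolve_right fun a => by
    have := le_inf (inf_le_right.trans a) (inf_le_left : U ⊓ A ≤ U)
    rw [dedekind_left (inf_le_left.trans h.1.le) (H27.le_normalizer_of_normal' _ _), inf_comm B] at this
    exact n (c.trans (sup_le le_rfl (this.trans (sup_le inf_le_left e))))
  obtain ⟨ρ', ψ', k', -⟩ := (k.sub inf_le_right (normalizer_eq_top _).ge a1).map (QuotientGroup.mk' W) (by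
    rw [QuotientGroup.ker_mk']
    exact le_inf inf_le_left ((le_inf inf_le_right (inf_le_left.trans inf_le_right)).trans a2))
  have w : W.map (QuotientGroup.mk' W) = ⊥ := (Subgroup.map_eq_bot_iff _).2 (QuotientGroup.ker_mk' W).ge
  rw [map_top_of_surjective _ (QuotientGroup.mk'_surjective W), le_bot_iff.1 ((map_mono ((inf_le_inf_right _
    inf_le_left).trans e)).trans w.le), le_antisymm (map_mono inf_le_left) ((map_mono c).trans (by
      rw [Subgroup.map_sup, w, bot_sup_eq]))] at k'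
  exact isNat_iff.2 ⟨_, _, k'⟩
end Chief

theorem RK.nmF (h : RK p G S) {F : Type*} [Field F] [Fintype F] (e : (𝐎 p G).relIndex S = Nat.card F) :
    ∃ ρ ψ, NM (F := F) ⊤ G (VV p G) (VV p G ⊓ 𝐂 G) ρ ψ := by
  obtain ⟨_, _, _, _, _, _, _, k⟩ := h.rd
  exact NM_card (by rw [← Nat.card_eq_fintype_card, k.card, e, Nat.card_eq_fintype_card]) k.std.toNM

theorem RK.rho_iff {F : Type*} [Field F] {ρ : X → SL(2, F)} {ψ : X → Fin 2 → F} (h : RK p G S)
    (k : NM ⊤ G (VV p G) (VV p G ⊓ 𝐂 G) ρ ψ) (c : G ⊓ 𝐂 (VV p G) = 𝐎 p G) : ∀ x ∈ G, ρ x = 1 ↔ x ∈ 𝐎 p G := by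
  obtain ⟨_, _, _, _, _, _, _, k'⟩ := h.rd
  exact fun x hx => ⟨fun e => c.le ⟨hx, k'.ker x hx ((k'.std.ρ_eq_one hx).2 ((k.ρ_eq_one hx).1 e))⟩,
    fun e => k.ρ_eq_one_of hx (h.QV e)⟩

theorem quot_of_nm {F : Type*} [Field F] {ρ : X → SL(2, F)} {ψ : X → Fin 2 → F} (h : RK p ⊤ S)
    (k : NM ⊤ ⊤ (VV p ⊤) (VV p ⊤ ⊓ 𝐂 ⊤) ρ ψ) (c : ⊤ ⊓ 𝐂 (VV p ⊤) = 𝐎 p (⊤ : Subgroup X)) :
    Nonempty (X ⧸ pCore p X ≃* SL(2, F)) := by
  have e : pCore p X = (k.ρh.comp topEquiv.symm.toMonoidHom).ker := Subgroup.ext fun x => by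
    rw [← pCoreOf_top, ← h.rho_iff k c x (mem_top x)]; rfl
  exact ⟨(QuotientGroup.quotientMulEquivOfEq e).trans (QuotientGroup.quotientKerEquivOfSurjective _
    (k.ρh_surj.comp topEquiv.symm.surjective))⟩

theorem rk_hyp {K : Subgroup X} [K.Normal] {F : Type*} [Field F] [Finite F] [CharP F p] (hS : IsSyl p S ⊤)
    (h1 : centralizer (pCore p X : Set X) ≤ pCore p X) (h2 : ∃! M : Subgroup X, IsCoatom M ∧ S ≤ M)
    (e : Nonempty (X ⧸ K ≃* PSL(2, F))) (h3 : ∀ U ≤ S, (U = 𝛀 p S ∨ U = 𝐉𝐉 p S) → ⊤ ≤ 𝐍 U → U = ⊥) :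
    RK p ⊤ S ∧ (𝐎 p ⊤).relIndex S = Nat.card F := by
  obtain ⟨π, hπ, -⟩ := exists_pi e.some
  obtain ⟨M, hu⟩ := existsUnique_coatom_iff.1 h2
  exact ⟨rk_of (charPOf_top.2 h1) hS hu (ab_pi hπ hS hu) (ne_bot_pi hπ hS) h3, rel_pi hπ hS hu⟩

theorem Free.two (h : Free G S) : ∀ U ≤ S, (U = 𝛀 p S ∨ U = 𝐉𝐉 p S) → G ≤ 𝐍 U → U = ⊥ :=
  fun U h1 h2 => h U h1 (by rcases h2 with rfl | rfl; exacts [char_oc S, char_J S])

theorem exp_dvd {n : ℕ} : Monoid.exponent S ∣ n ↔ ∀ s ∈ S, s ^ n = 1 :=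
  Monoid.exponent_dvd_iff_forall_pow_eq_one.trans ⟨fun h s hs => congrArg Subtype.val (h ⟨s, hs⟩),
    fun h s => Subtype.ext (h s s.2)⟩

theorem exp_eq {n : ℕ} (h1 : ∀ s ∈ S, s ^ p ^ (n + 1) = 1) (h2 : ¬ ∀ s ∈ S, s ^ p ^ n = 1) :
    Monoid.exponent S = p ^ (n + 1) := by
  obtain ⟨k, hk, e⟩ := (Nat.dvd_prime_pow hp.out).1 (exp_dvd.2 h1)
  rw [e, hk.eq_or_lt.resolve_right fun l => h2 (exp_dvd.1 (e ▸ pow_dvd_pow _ (by omega)))]

theorem RK.nab (h : RK p G S) : ⁅S, S⁆ ≠ ⊥ := fun e =>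
  h.nVS (h.VS.trans (commutator_eq_bot_iff'.1 e))

end H118
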