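import Cfsg.Agent.H18.PA7
/-! Pushing up in rank one: recognition of `Qd(q)`, the residual. -/
set_option autoImplicit false
set_option linter.unusedSectionVars false
namespace H118
open Subgroup H26 H4 Cfsg Matrix H18.PU
open scoped commutatorElement MatrixGroups

variable {X : Type*} [Group X] {p : ℕ} {G S M A L W : Subgroup X} {F : Type*} [Field F]
  {ρ : X → SL(2, F)} {ψ : X → Fin 2 → F}

/-- an affine matrix -/
def aff (m : SL(2, F)) (c : Fin 2 → F) : SL(3, F) :=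
  slOf !![m.1 0 0, m.1 0 1, c 0; m.1 1 0, m.1 1 1, c 1; 0, 0, 1] (by simp [det_fin_three, sl_det])

theorem aff_mul (m n : SL(2, F)) (c d : Fin 2 → F) : aff m c * aff n d = aff (m * n) (m • d + c) := by
  ext i j
  fin_cases i <;> fin_cases j <;> simp [aff, mul_apply, Fin.sum_univ_succ, sl_smul_zero, sl_smul_one, add_assoc]

theorem aff_inj {m n : SL(2, F)} {c d : Fin 2 → F} (h : aff m c = aff n d) : m = n ∧ c = d := by
  have e : ∀ i j, (aff m c).1 i j = (aff n d).1 i j := fun i j => by rw [h]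
  refine ⟨?_, vec_ext (e 0 2) (e 1 2)⟩
  ext i j
  fin_cases i <;> fin_cases j
  exacts [e 0 0, e 0 1, e 1 0, e 1 1]

theorem qd_of_nm (k : NM ⊤ L W ⊥ ρ ψ) (h1 : W ≤ L) (h2 : ∀ e ∈ L, ρ e = 1 → e ∈ W) (h3 : (2 : F) ≠ 0) :
    Nonempty (L ≃* qdOver F) := by
  obtain ⟨t, ht, e⟩ := k.ρs (ng F)
  have m : ∀ g ∈ L, ⁅g, t⁆ ∈ W := fun g hg => h2 _ (mul_mem (mul_mem (mul_mem hg ht) (inv_mem hg)) (inv_mem ht)) (by
    rw [commutatorElement_def, k.ρmul _ (mul_mem (mul_mem hg ht) (inv_mem hg)) _ (inv_mem ht), k.ρ_conj hg ht,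
      k.ρ_inv ht, e, ng_comm]; group)
  have w1 : ∀ w ∈ W, ρ w = 1 := fun w hw => (k.ρ_eq_one (h1 hw)).2 fun u hu => k.comm_le (commutator_mem_commutator hu hw)
  have w2 : ∀ w ∈ W, ψ ⁅w, t⁆ = (2 : F) • ψ w := fun w hw => by rw [k.ψ_comm ht hw, e, ng_smul, two_smul]; abel
  let φ : L →* SL(3, F) := MonoidHom.mk' (fun g => aff (ρ g) (ψ ⁅(g : X), t⁆)) fun a b => by
    rw [aff_mul, coe_mul, k.ρmul _ a.2 _ b.2, commutatorElement_mul_left_eq_conj_mul,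
      k.ψmul _ (k.conj_mem a.2 (m _ b.2)) _ (m _ a.2), k.act _ a.2 _ (m _ b.2)]
  have i : Function.Injective φ := (injective_iff_map_eq_one φ).2 fun g hg => by
    obtain ⟨a, b⟩ := aff_inj (hg.trans (map_one φ).symm)
    rw [coe_one, k.ρ_one] at a
    rw [coe_one, commutatorElement_one_left, k.ψ_one, w2 _ (h2 _ g.2 a), smul_eq_zero] at b
    exact Subtype.ext ((k.ker _ (h2 _ g.2 a)).1 (b.resolve_left h3))
  have r : φ.range = qdOver F := le_antisymm (by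
    rintro _ ⟨g, rfl⟩; exact Subgroup.subset_closure ⟨rfl, rfl, rfl⟩) ((closure_le _).2 fun x hx => by
      obtain ⟨a, b, c⟩ := hx
      have d := x.2
      rw [det_fin_three, a, b, c] at d
      obtain ⟨g, hg, e1⟩ := k.ρs (slOf !![x.1 0 0, x.1 0 1; x.1 1 0, x.1 1 1] (by simpa [det_fin_two] using d))
      obtain ⟨w, hw, e2⟩ := k.ψs ((2 : F)⁻¹ • (![x.1 0 2, x.1 1 2] - ψ ⁅g, t⁆))
      refine ⟨⟨w, h1 hw⟩ * ⟨g, hg⟩, ?_⟩
      rw [map_mul]
      show aff (ρ w) (ψ ⁅w, t⁆) * aff (ρ g) (ψ ⁅g, t⁆) = x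
      rw [aff_mul, w1 w hw, w2 w hw, e2, smul_inv_smul₀ h3, one_smul, one_mul, add_sub_cancel, e1]
      ext i j
      fin_cases i <;> fin_cases j <;> simp [aff, a, b, c])
  exact ⟨(MonoidHom.ofInjective i).trans (MulEquiv.subgroupCongr r)⟩

variable [Finite X] [hp : Fact p.Prime]

theorem RK.S_le {U U₀ : Subgroup X} (h : RK p G S) (k : Std G U U₀ S ρ ψ) (c : ∀ e ∈ G, ρ e = 1 → e ∈ 𝐎 p G) {a : F}
    (h0 : a ≠ 0) (h1 : a ^ 2 ≠ 1) : G ≤ pResidualOf p G ⊔ 𝐎 p G := by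
  have n := le_normalizer_sup h.nE h.nQ
  have l : ⁅G, S⁆ ≤ pResidualOf p G ⊔ 𝐎 p G := (commutator_mono h.syl.pResidualOf_sup.ge le_rfl).trans
    (commutator_sup_le (le_sup_of_le_left (commutator_le_of_le_normalizer (h.syl.le.trans h.nE)))
      (le_sup_of_le_right h.ab) (h.EG.trans n) (h.syl.le.trans n))
  refine h.syl.le_of_pResidualOf_le le_sup_left fun s hs => ?_
  obtain ⟨r, e⟩ := mem_uT.1 (k.up s hs)
  obtain ⟨g, hg, e1⟩ := k.ρs (dg a h0)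
  obtain ⟨x, hx, e2⟩ := k.onto (r / (a ^ 2 - 1))
  have xG := h.syl.le hx
  have m : ⁅g, x⁆ ∈ G := mul_mem (mul_mem (mul_mem hg xG) (inv_mem hg)) (inv_mem xG)
  have := mul_mem (l (commutator_mem_commutator hg hx)) (mem_sup_right (c _ (mul_mem (inv_mem m) (h.syl.le hs)) (by
    rw [k.ρmul _ (inv_mem m) _ (h.syl.le hs), k.ρ_inv m, inv_mul_eq_one, commutatorElement_def,
      k.ρmul _ (mul_mem (mul_mem hg xG) (inv_mem hg)) _ (inv_mem xG), k.ρ_conj hg xG, k.ρ_inv xG, e1, e2,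
      conj_tvU (by simp [dg]), mul_inv_eq_iff_eq_mul, ← e, ← tvU_add]
    congr 1
    have := sub_ne_zero.2 h1
    simp only [dg, of_apply, cons_val', cons_val_zero]
    field_simp; ring)))
  rwa [mul_inv_cancel_left] at this

theorem CI.qd (h : CI p G S A) (h5 : 5 ≤ p) (hQ : 𝐎 p G ≤ VV p G) [Fintype F] (e : (𝐎 p G).relIndex S = Nat.card F)
    [CharP F p] : IsInternalDirectProduct (pResidualOf p G) (VV p G ⊓ 𝐂 G) G ∧
      Nonempty (pResidualOf p G ≃* qdOver F) := by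
  obtain ⟨ρ, ψ, k⟩ := h.nmF e
  obtain ⟨ρ, ψ, k⟩ := k.exists_std h.syl
  have c := h.rho_iff k.toNM h.cen
  have nz : ∀ n : ℕ, 0 < n → n < 5 → (n : F) ≠ 0 := fun n a b e =>
    absurd (Nat.le_of_dvd a ((CharP.cast_eq_zero_iff F p n).1 e)) (by omega)
  have t2 : (2 : F) ≠ 0 := by exact_mod_cast nz 2 (by omega) (by omega)
  have l := h.S_le k (fun x hx => (c x hx).1) t2 fun e => nz 3 (by omega) (by omega) (by
    push_cast; linear_combination e)
  have wE : ⁅VV p G, pResidualOf p G⁆ ≤ pResidualOf p G := commutator_le_of_le_normalizer' (h.VG.trans h.nE)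
  have q : pResidualOf p G ⊓ 𝐎 p G = ⁅VV p G, pResidualOf p G⁆ := by rw [← h.coreE, pCoreOf_eq_inf_of_normal h.EG h.nE]
  have z : ⁅VV p G, pResidualOf p G⁆ ⊓ (VV p G ⊓ 𝐂 G) = ⊥ := le_bot_iff.1 ((inf_le_inf (commutator_mono le_rfl h.EG)
    inf_le_right).trans (h.odd_split (by omega)).le)
  refine ⟨⟨h.EG, inf_le_left.trans h.VG, fun a ha b hb => hb.2 a (h.EG ha), le_bot_iff.1 ((le_inf ((inf_le_inf_left _
    (inf_le_left.trans h.VQ)).trans q.le) inf_le_right).trans z.le), le_antisymm (sup_le h.EG (inf_le_left.trans h.VG))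
      (l.trans (sup_le le_sup_left (hQ.trans (h.V_le.trans (sup_le_sup_right wE _)))))⟩, ?_⟩
  have k' := (k.res h.EG (R' := ⊤) fun m => ⟨fun _ => ?_, fun _ => trivial⟩).sub h.WV (h.EG.trans h.nW) h.V_le
  · rw [z] at k'
    exact qd_of_nm k' wE (fun x hx a => q.le ⟨hx, (c x (h.EG hx)).1 a⟩) t2
  obtain ⟨g, hg, rfl⟩ := k.ρs m
  obtain ⟨x, hx, u, hu, rfl⟩ := (mem_sup_of_le_normalizer (h.EG.trans h.nQ)).1 (l hg)
  exact ⟨x, hx, by rw [k.ρmul _ (h.EG hx) _ (h.QG hu), (c u (h.QG hu)).2 hu, mul_one]⟩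

end H118
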