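import Cfsg.Agent.H18.PA8
import Cfsg.Agent.H4.CL
import Cfsg.Agent.H4.Frattini
/-! Glauberman's pushing up situation: offenders on `Z(O_p(G))` (`RA`, `RZ`), the abelian Thompson subgroup,
Baumann's lemma in general form. -/
set_option autoImplicit false
set_option linter.unusedSectionVars false
namespace H118
open Subgroup H26 H4 Cfsg Matrix H18.PU
open scoped commutatorElement MatrixGroups

variable {X : Type*} [Group X] [Finite X] {p : ℕ} [hp : Fact p.Prime] {G S M A B N T R U : Subgroup X} {b : X}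

/-- the centre -/
abbrev ZZ (T : Subgroup X) : Subgroup X := T ⊓ 𝐂 T

theorem cen_of_omega (hA : A ≤ 𝐂 A) (hp' : IsPGroup p A) (hn : R ≤ 𝐍 A) (h : pResidualOf p R ≤ 𝐂 (omegaOne p A)) :
    pResidualOf p R ≤ 𝐂 A := by
  have n := (pResidualOf_le p R).trans hn
  by_contra c
  obtain ⟨a, ha, h1, h2⟩ : ∃ a ∈ A, a ∉ 𝐂 (pResidualOf p R) ∧ a ^ p ∈ 𝐂 (pResidualOf p R) := by
    by_contra! k
    refine c (le_centralizer_iff.1 fun a ha => ?_)
    obtain ⟨j, hj⟩ := isPGroup_iff_mem.1 hp' a ha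
    induction j generalizing a with
    | zero => rw [pow_zero, pow_one] at hj; exact hj ▸ one_mem _
    | succ j ih => exact by_contra fun e => k a ha e (ih _ (Subgroup.pow_mem _ ha p) (by rwa [← pow_mul, ← pow_succ']))
  refine h1 (zpowers_le.1 (le_centralizer_iff.1 (le_centralizer_of_stab (pResidualOf_pResidualOf _ _)
    (hp'.to_le (omegaOne_le p A)) (commutator_zpowers_le (fun x hx => ?_)
      (le_normalizer_of_le_centralizer (hA.trans (centralizer_anti (omegaOne_le _ _))) ha)) h)))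
  have m := conj_mem_of_mem_normalizer (n hx) (inv_mem ha)
  rw [show ⁅a, x⁆ = a * (x * a⁻¹ * x⁻¹) by rw [commutatorElement_def]; group]
  refine mem_omegaOne (mul_mem ha m) ?_
  rw [Commute.mul_pow (hA m a ha), conj_pow, inv_pow, inv_mem h2 x hx]; group

/-- rank one situation without hypothesis on the centre -/
structure R0 (p : ℕ) (G S : Subgroup X) : Prop where
  cp : CharPOf p G
  syl : IsSyl p S G
  um : ∃ M, UMax S M G
  ab : ⁅S, S⁆ ≤ 𝐎 p G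
  pw : ∀ s ∈ S, s ^ p ∈ 𝐎 p G
  nn : ¬ G ≤ 𝐍 S

structure RA (p : ℕ) (G S : Subgroup X) : Prop extends R0 p G S where
  ncV : ¬ pResidualOf p G ≤ 𝐂 (VV p G)

namespace R0
variable (h : R0 p G S)
include h
theorem QS : 𝐎 p G ≤ S := h.syl.pCoreOf_le
theorem nQ : G ≤ 𝐍 (𝐎 p G) := le_normalizer_pCoreOf _ _
theorem nV : G ≤ 𝐍 (VV p G) := le_n_oc h.nQ
theorem nZ : G ≤ 𝐍 (ZZ (𝐎 p G)) := le_normalizer_inf h.nQ (le_normalizer_centralizer h.nQ)
theorem VZ : VV p G ≤ ZZ (𝐎 p G) := omegaOne_le _ _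
theorem QZ : 𝐎 p G ≤ 𝐂 (ZZ (𝐎 p G)) := le_centralizer_iff.1 inf_le_right
theorem QV : 𝐎 p G ≤ 𝐂 (VV p G) := le_c_oc _ _
theorem Vea : IsElementaryAbelian p (VV p G) := oc_ea _ _
theorem ZS : ZZ (𝐎 p G) ≤ S := inf_le_left.trans h.QS
theorem QG : 𝐎 p G ≤ G := pCoreOf_le _ _
theorem Zea : IsElementaryAbelian 0 (ZZ (𝐎 p G)) := elemAb_zero.2 (isMulCommutative_iff'.2 (inf_le_left.trans h.QZ))
theorem zS : ZZ S = ZZ (𝐎 p G) ⊓ 𝐂 S := le_antisymm (le_inf (h.cp.center_le h.syl) inf_le_right)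
  (inf_le_inf_right _ h.ZS)
theorem nSQ : ¬ S ≤ 𝐎 p G := fun e => h.nn (le_antisymm e h.QS ▸ h.nQ)
theorem nc : ncl S G = G := h.um.elim fun _ k => k.ncl_eq_of_isSyl h.syl h.nn
theorem nE : G ≤ 𝐍 (pResidualOf p G) := le_normalizer_pResidualOf _ _
theorem EG : pResidualOf p G ≤ G := pResidualOf_le _ _
theorem res_le (h1 : G ≤ 𝐍 N) (h2 : ¬ S ⊓ N ≤ 𝐎 p G) : pResidualOf p G ≤ N := by
  obtain ⟨M, hu⟩ := h.um
  have n : G ≤ 𝐍 (G ⊓ N) := le_normalizer_inf le_normalizer h1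
  exact ((hu.le_or_pResidualOf_le h.syl inf_le_left n).resolve_left fun e => h2 ((le_inf inf_le_left
    (inf_le_inf_right _ h.syl.le)).trans (le_pCoreOf (h.syl.isP.to_le inf_le_left) (inf_le_left.trans h.syl.le)
      (hu.le_normalizer_inf h.syl e n)))).trans inf_le_right
theorem cen_of (h1 : G ≤ 𝐍 N) (h2 : A ≤ S) (h3 : ¬ A ≤ 𝐎 p G) (h4 : A ≤ 𝐂 N) : G ≤ 𝐂 (N ⊓ 𝐂 S) :=
  h.syl.le_of_pResidualOf_le ((h.res_le (le_normalizer_centralizer h1) fun e => h3 ((le_inf h2 h4).trans e)).trans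
    (centralizer_anti inf_le_left)) (le_centralizer_iff.1 inf_le_right)
theorem ra (h1 : ¬ G ≤ 𝐂 (ZZ S)) : RA p G S := ⟨h, fun e => h1 (h.syl.le_of_pResidualOf_le ((cen_of_omega
  (inf_le_left.trans h.QZ) ((isPGroup_pCoreOf p G).to_le inf_le_left) h.nZ e).trans (centralizer_anti
    (h.zS.le.trans inf_le_left))) (le_centralizer_iff.1 inf_le_right))⟩
theorem rel_le (hA : A ≤ S) : (𝐎 p G).relIndex A ≤ (𝐎 p G).relIndex S :=
  relIndex_le_of_le_right hA index_ne_zero_of_finite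
theorem sup_of_rel (hA : A ≤ S) (h1 : (𝐎 p G).relIndex S ≤ (𝐎 p G).relIndex A) : S ≤ A ⊔ 𝐎 p G := by
  refine (eq_of_le_of_card_ge (sup_le hA h.QS) ?_).ge
  rw [← card_mul_relIndex_of_le h.QS, ← card_mul_relIndex_of_le (le_sup_right : _ ≤ A ⊔ 𝐎 p G),
    relIndex_sup_of_le_normalizer (hA.trans (h.syl.le.trans h.nQ))]
  exact Nat.mul_le_mul_left _ h1
theorem rel_eq (hA : A ≤ S) (h1 : S ≤ A ⊔ 𝐎 p G) : (𝐎 p G).relIndex A = (𝐎 p G).relIndex S := by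
  rw [← relIndex_sup_of_le_normalizer (hA.trans (h.syl.le.trans h.nQ)), le_antisymm (sup_le hA h.QS) h1]

/-- Baumann's argument -/
theorem sylL (BS : B ≤ S) (nB : S ≤ 𝐍 B) (SB : S ≤ B ⊔ 𝐎 p G) (nQB : G ≤ 𝐍 (B ⊓ 𝐎 p G))
    (hB : ∀ T, B ≤ T → T ≤ S → 𝐍 T ≤ 𝐍 B) : IsSyl p B (ncl B G) := by
  have BG := BS.trans h.syl.le
  have LG : ncl B G ≤ G := ncl_le_self BG
  have hT := h.syl.inf_of_normal (le_normalizer_ncl B G) LG
  have G_le : G ≤ ncl B G ⊔ 𝐎 p G := h.syl.le_of_pResidualOf_le (le_sup_of_le_left (h.res_le (le_normalizer_ncl _ _)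
    fun e => h.nSQ (SB.trans (sup_le ((le_inf BS (le_ncl _ _)).trans e) le_rfl))))
    (SB.trans (sup_le_sup_right (le_ncl _ _) _))
  have QL : ⁅𝐎 p G, ncl B G⁆ ≤ B ⊓ 𝐎 p G := (le_commStab_iff' inf_le_right).1 (ncl_le ((le_commStab_iff'
    inf_le_right).2 (le_inf (commutator_le_of_le_normalizer' (h.QS.trans nB)) (commutator_le_of_le_normalizer
      (BG.trans h.nQ)))) (le_normalizer_commStab h.nQ nQB))
  have bT : B ≤ S ⊓ ncl B G := le_inf BS (le_ncl _ _)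
  suffices e : S ⊓ ncl B G ≤ B by rwa [le_antisymm e bT] at hT
  intro c hc
  obtain ⟨b, hb, u, hu, rfl⟩ := (mem_sup_of_le_normalizer (BG.trans h.nQ)).1 (SB hc.1)
  have uL : u ∈ ncl B G := by simpa using mul_mem (inv_mem (le_ncl _ G hb)) hc.2
  have tt : ⁅S ⊓ ncl B G, S ⊓ ncl B G⁆ ≤ B ⊓ 𝐎 p G := le_inf ((commutator_mono (inf_le_left.trans SB)
    le_rfl).trans (commutator_sup_le (commutator_le_of_le_normalizer (inf_le_left.trans nB)) ((commutator_mono le_rfl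
      inf_le_right).trans (QL.trans inf_le_left)) le_normalizer (h.QS.trans nB)))
    ((commutator_mono inf_le_left inf_le_left).trans h.ab)
  refine mul_mem hb (mem_of_transfer hT (tt.trans inf_le_left) ⟨h.QS hu, uL⟩ (fun t ht => ?_) ?_)
  · have := (QL (commutator_mem_commutator (inv_mem hu) ht)).1
    exact ⟨bT this, this⟩
  · refine (ncl_le_iff.2 fun g hg x hx => Subgroup.subset_closure (And.intro (cj_le_ncl hg hx) fun t ht n m => ?_)) uL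
    obtain ⟨l, hl, v, hv, rfl⟩ := (mem_sup_of_le_normalizer (LG.trans h.nQ)).1 (G_le hg)
    rw [cj_mul, cj_eq_of_mem_normalizer (nB (h.QS hv))] at hx
    obtain ⟨a, ha, rfl⟩ := mem_cj'.1 hx
    have e : t⁻¹ * (l * a * l⁻¹) ^ n * t = t⁻¹ * l * a ^ n * (t⁻¹ * l)⁻¹ := by rw [conj_pow]; group
    rw [e] at m ⊢
    exact burnside_mod hT (LG.trans nQB) tt inf_le_left (inf_le_right.trans (hB _ bT inf_le_left))
      (bT (Subgroup.pow_mem _ ha n)) (Subgroup.pow_mem _ ha n) (mul_mem (inv_mem ht) hl) m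
end R0

theorem RA.cV (h : RA p G S) : S ⊓ 𝐂 (VV p G) = 𝐎 p G := le_antisymm (by_contra fun e => h.ncV (h.res_le
  (h.nV.trans (le_normalizer_centralizer le_rfl)) e)) (le_inf h.QS h.QV)

/-- the natural case -/
structure RZ (p : ℕ) (G S : Subgroup X) : Prop extends RA p G S where
  ZV : ZZ (𝐎 p G) ≤ VV p G ⊔ ZZ S
  lin : ∃ (F : Type) (_ : Field F) (_ : Fintype F) (_ : CharP F p), Nat.card F = (𝐎 p G).relIndex S ∧
    ∃ (ρ : X → SL(2, F)) (ψ : X → Fin 2 → F) (k : Std G (VV p G) (VV p G ⊓ 𝐂 G) S ρ ψ), k.ln = VV p G ⊓ 𝐂 S ∧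
      ∀ e ∈ G, ρ e = 1 → e ∈ 𝐂 (VV p G)

theorem RA.rz (h : RA p G S) (aS : A ≤ S) (h1 : ¬ A ≤ 𝐎 p G)
    (h2 : (𝐂 A).relIndex (ZZ (𝐎 p G)) ≤ (𝐎 p G).relIndex A) : RZ p G S := by
  obtain ⟨M, hu⟩ := h.um
  have i : A ⊓ 𝐂 (VV p G) = A ⊓ 𝐎 p G := by rw [← h.cV, ← inf_assoc, inf_eq_left.2 aS]
  have c0 : (𝐂 A).relIndex (VV p G) ≤ (𝐂 A).relIndex (ZZ (𝐎 p G)) := relIndex_le_of_le_right h.VZ index_ne_zero_of_finite
  have c : (VV p G ⊓ 𝐂 A).relIndex (VV p G) ≤ (𝐂 (VV p G)).relIndex A := by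
    rw [inf_relIndex_left, ← inf_relIndex_left A, i, inf_relIndex_left]; exact c0.trans h2
  obtain ⟨s, F, _, _, e, ρ, ψ, k, k'⟩ := nat_of_off h.syl hu h.nc h.Vea h.nV (h.ab.trans h.QV) h.ncV h.QV aS
    (fun e => h1 ((le_inf le_rfl e).trans (i.le.trans inf_le_right))) (fun a ha => h.QV (h.pw a (aS ha))) le_rfl c
  have := k.charP (elemAb_isPGroup h.Vea)
  obtain ⟨ρ', ψ', st⟩ := k.exists_std h.syl
  rw [← Nat.card_eq_fintype_card] at e
  have l : VV p G ⊓ 𝐂 S ≤ st.ln := st.le_ln_of inf_le_left ((commutator_eq_bot_iff'.2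
    (le_centralizer_iff.1 inf_le_right)).trans_le bot_le)
  have l3 : ZZ (𝐎 p G) ⊓ 𝐂 A ≤ 𝐂 S := le_centralizer_iff.1 (s.trans (sup_le
    (le_centralizer_iff.1 inf_le_right) (h.QZ.trans (centralizer_anti inf_le_left))))
  have l2 : VV p G ⊓ 𝐂 A ≤ VV p G ⊓ 𝐂 S := le_inf inf_le_left ((inf_le_inf_right _ h.VZ).trans l3)
  have r : st.ln.relIndex (VV p G) = (𝐎 p G).relIndex S := by
    refine Nat.eq_of_mul_eq_mul_left (card_pos' st.ln) ?_
    rw [card_mul_relIndex_of_le st.ln_le, ← e, st.card_ln, st.card, mul_assoc, pow_two]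
  have r2 : st.ln.relIndex (VV p G) ≤ (𝐂 A).relIndex (VV p G) := by
    rw [← inf_relIndex_left (VV p G) (𝐂 A)]; exact relIndex_le_of_le_left (l2.trans l) index_ne_zero_of_finite
  have r3 := h2.trans (h.rel_le aS)
  refine ⟨h, (eq_of_le_of_card_ge (sup_le h.VZ (h.zS.le.trans inf_le_left)) ?_).ge, F, inferInstance, inferInstance,
    this, e, ρ', ψ', st, (eq_of_le_of_card_ge l ((Nat.le_of_mul_le_mul_right ?_ (Nat.pos_of_ne_zero
      (show st.ln.relIndex (VV p G) ≠ 0 from index_ne_zero_of_finite))).trans (card_le_of_le l2))).symm,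
    fun x hx r => k' x hx ((k.ρ_eq_one hx).2 ((st.ρ_eq_one hx).1 r))⟩
  · have z : ZZ (𝐎 p G) ⊓ 𝐂 A = ZZ S := le_antisymm (h.zS.ge.trans' (le_inf inf_le_left l3))
      (h.zS.le.trans (inf_le_inf_left _ (centralizer_anti aS)))
    rw [← card_mul_relIndex (𝐂 A) (ZZ (𝐎 p G)), inf_comm, z, ← card_mul_relIndex_of_le (le_sup_right : _ ≤ VV p G ⊔ ZZ S),
      relIndex_sup_of_le_normalizer ((h.VZ.trans h.ZS).trans (le_normalizer_of_le_centralizer (le_centralizer_iff.1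
        inf_le_right)))]
    refine Nat.mul_le_mul_left _ (r3.trans (r.ge.trans (r2.trans (relIndex_le_of_le_left ?_ index_ne_zero_of_finite))))
    exact inf_le_right.trans (centralizer_anti aS)
  · rw [card_mul_relIndex_of_le st.ln_le, ← card_mul_relIndex (𝐂 A) (VV p G), inf_comm]
    exact Nat.mul_le_mul_left _ (c0.trans (r3.trans r.ge))

namespace RZ
variable (h : RZ p G S)
include h
theorem cenV (hA : A ≤ S) (h1 : ¬ A ≤ 𝐎 p G) : VV p G ⊓ 𝐂 A ≤ 𝐂 S := fun w hw => by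
  obtain ⟨F, _, _, _, -, ρ, ψ, k, l, c⟩ := h.lin
  obtain ⟨a, ha, h2⟩ := SetLike.not_le_iff_exists.1 h1
  have aG := h.syl.le (hA ha)
  exact (l.le (k.mem_ln_of_comm aG (k.up a (hA ha)) (fun e => h2 (h.cV.le ⟨hA ha, c a aG e⟩)) hw.1
    (comm_eq_one hw.2 ha ▸ one_mem _))).2
theorem cenZ (hA : A ≤ S) (h1 : ¬ A ≤ 𝐎 p G) : ZZ (𝐎 p G) ⊓ 𝐂 A = ZZ S := by
  have l : ZZ S ≤ 𝐂 A := inf_le_right.trans (centralizer_anti hA)
  refine le_antisymm ((inf_le_inf_right _ (h.ZV.trans (sup_comm _ _).le)).trans ?_)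
    (le_inf (h.zS.le.trans inf_le_left) l)
  rw [dedekind_left l (le_normalizer_of_le_centralizer (inf_le_right.trans (centralizer_anti (h.VZ.trans h.ZS))))]
  exact sup_le le_rfl (le_inf (inf_le_left.trans (h.VZ.trans h.ZS)) (h.cenV hA h1))
theorem relV (hA : A ≤ S) (h1 : ¬ A ≤ 𝐎 p G) : (𝐂 A).relIndex (VV p G) = (𝐎 p G).relIndex S := by
  obtain ⟨F, _, _, _, e, ρ, ψ, k, l, -⟩ := h.lin
  rw [← inf_relIndex_left, le_antisymm (le_inf inf_le_left (h.cenV hA h1)) (inf_le_inf_left _ (centralizer_anti hA)),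
    ← l]
  refine Nat.eq_of_mul_eq_mul_left (card_pos' k.ln) ?_
  rw [card_mul_relIndex_of_le k.ln_le, ← e, k.card_ln, k.card, mul_assoc, pow_two]
theorem relZ (hA : A ≤ S) (h1 : ¬ A ≤ 𝐎 p G) : (𝐂 A).relIndex (ZZ (𝐎 p G)) = (𝐎 p G).relIndex S := by
  rw [← inf_relIndex_left, h.cenZ hA h1, le_antisymm h.ZV (sup_le h.VZ (h.zS.le.trans inf_le_left)),
    relIndex_sup_of_le_normalizer ((h.VZ.trans h.ZS).trans (le_normalizer_of_le_centralizer (le_centralizer_iff.1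
      inf_le_right))), ← h.relV le_rfl h.nSQ, ← inf_relIndex_left, ← inf_assoc, inf_eq_left.2 (h.VZ.trans h.ZS),
    inf_relIndex_left]
end RZ

local notation "𝐘" => Cfsg.centerThompsonOf 0

theorem R0.best (h : R0 p G S) (hA : A ∈ MaxEA 0 S) : (𝐂 A).relIndex (ZZ (𝐎 p G)) ≤ (𝐎 p G).relIndex A := by
  have b := MaxEA.best hA h.ZS h.Zea (A ⊓ 𝐎 p G) inf_le_left
  rw [inf_eq_left.2 (le_centralizer_iff.1 (inf_le_right.trans h.QZ)), ← card_mul_relIndex (𝐂 A) (ZZ (𝐎 p G)),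
    ← card_mul_relIndex (𝐎 p G) A, inf_comm _ A, inf_comm (𝐂 A), mul_assoc, mul_comm ((𝐎 p G).relIndex A)] at b
  exact Nat.le_of_mul_le_mul_left (Nat.le_of_mul_le_mul_left b (card_pos' _)) (card_pos' _)

theorem zS_le_Y (S : Subgroup X) : ZZ S ≤ 𝐘 S := fun _ hx => mem_centerThompsonOf_of_center hx.1 hx.2 (pow_zero _)
theorem Y_le (hA : A ∈ MaxEA 0 S) : 𝐘 S ≤ A := fun _ hx => MaxEA.mem_of_mem_centerThompsonOf hA hx (pow_zero _)

theorem R0.tri (h : R0 p G S) : G ≤ 𝐂 (ZZ S) ∨ G ≤ 𝐍 (S ⊓ 𝐂 (𝐘 S)) ∨ (RZ p G S ∧ ¬ 𝐉𝐉 0 S ≤ 𝐎 p G) := by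
  refine or_iff_not_imp_left.2 fun c => ?_
  by_cases j : 𝐉𝐉 0 S ≤ 𝐎 p G
  · have n : G ≤ 𝐍 (𝐘 S) := by
      rw [← centerThompsonOf_eq_of_le j h.QS]; exact h.nQ.trans (normalizer_le_normalizer_centerThompsonOf _ _)
    have : S ⊓ 𝐂 (𝐘 S) ≤ 𝐎 p G := by_contra fun e => c ((h.cen_of n inf_le_left e inf_le_right).trans
      (centralizer_anti (le_inf (zS_le_Y S) inf_le_right)))
    rw [le_antisymm (le_inf this inf_le_right) (inf_le_inf_right _ h.QS)]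
    exact .inl (le_normalizer_inf h.nQ (le_normalizer_centralizer n))
  obtain ⟨A, hA, h1⟩ : ∃ A ∈ MaxEA 0 S, ¬ A ≤ 𝐎 p G := by by_contra! k; exact j (thompsonOf_le_iff.2 k)
  exact .inr ⟨(h.ra c).rz (MaxEA.le hA) h1 (h.best hA), j⟩

namespace RZ
variable (h : RZ p G S)
include h
theorem off (hA : A ∈ MaxEA 0 S) (h1 : ¬ A ≤ 𝐎 p G) : S ≤ A ⊔ 𝐎 p G :=
  h.sup_of_rel (MaxEA.le hA) ((h.relZ (MaxEA.le hA) h1).ge.trans (h.best hA))
theorem rep (hA : A ∈ MaxEA 0 S) : ZZ (𝐎 p G) ⊔ A ⊓ 𝐎 p G ∈ MaxEA 0 S := by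
  have aS := MaxEA.le hA
  refine MaxEA.of_card_ge hA (sup_le h.ZS (inf_le_left.trans aS)) (elemAb_zero.2 (isMulCommutative_iff'.2
    (le_centralizer_sup (sup_le (inf_le_left.trans h.QZ) (inf_le_right.trans h.QZ)) (sup_le (inf_le_right.trans
      (centralizer_anti inf_le_right)) (inf_le_left.trans ((elemAb_le_centralizer (MaxEA.elemAb hA)).trans
        (centralizer_anti inf_le_left))))))) ?_
  by_cases c : A ≤ 𝐎 p G
  · exact card_le_of_le (le_sup_of_le_right (le_inf le_rfl c))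
  rw [← card_mul_relIndex_of_le (le_sup_right : _ ≤ ZZ (𝐎 p G) ⊔ A ⊓ 𝐎 p G), relIndex_sup_of_le_normalizer
    (le_normalizer_of_le_centralizer (inf_le_right.trans (centralizer_anti inf_le_right))),
    ← card_mul_relIndex (𝐎 p G) A, inf_comm]
  exact Nat.mul_le_mul_left _ ((h.rel_le aS).trans ((h.relZ aS c).ge.trans (relIndex_le_of_le_left
    (inf_le_left.trans (elemAb_le_centralizer (MaxEA.elemAb hA))) index_ne_zero_of_finite)))
theorem repQ (hA : A ∈ MaxEA 0 S) : ZZ (𝐎 p G) ⊔ A ⊓ 𝐎 p G ∈ MaxEA 0 (𝐎 p G) :=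
  MaxEA.of_le (h.rep hA) (sup_le inf_le_left inf_le_right) h.QS
theorem u_le : ZZ (𝐎 p G) ⊔ 𝐘 S ≤ 𝐘 (𝐎 p G) := by
  obtain ⟨A, hA⟩ := exists_maxEA 0 S
  exact sup_le (zS_le_Y _) (le_inf ((Y_le (h.rep hA)).trans (MaxEA.le_thompsonOf (h.repQ hA))) (inf_le_right.trans
    (centralizer_anti (thompsonOf_mono_of_exists (h.rep hA) (MaxEA.le (h.repQ hA)) h.QS))))
theorem YQ : 𝐘 S ≤ 𝐎 p G := le_sup_right.trans (h.u_le.trans (centerThompsonOf_le _ _))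
variable (j : ¬ 𝐉𝐉 0 S ≤ 𝐎 p G)
include j
theorem nZY : G ≤ 𝐍 (ZZ (𝐎 p G) ⊔ 𝐘 S) := by
  have l := le_sup_left.trans h.u_le
  have z : ⁅𝐘 (𝐎 p G), 𝐉𝐉 0 S⁆ ≤ ZZ (𝐎 p G) := (le_commStab_iff' l).1 (thompsonOf_le_iff.2 fun A hA =>
    (le_commStab_iff' l).2 (commutator_le_of_le_sup_centralizer' (Y_le (h.repQ hA))
      (inf_le_left.trans (elemAb_le_centralizer (MaxEA.elemAb hA))) (inf_le_right.trans (h.QG.trans h.nZ))
      ((MaxEA.le hA).trans (h.syl.le.trans h.nZ))))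
  exact h.syl.le_of_pResidualOf_le (le_normalizer_of_commutator_le ((commutator_mono h.u_le le_rfl).trans
    (le_sup_of_le_left ((le_commStab_iff' l).1 (h.res_le (le_normalizer_commStab (h.nQ.trans
      (normalizer_le_normalizer_centerThompsonOf _ _)) h.nZ) fun e => j
      ((le_inf (thompsonOf_le _ _) ((le_commStab_iff' l).2 z)).trans e))))))
    (le_normalizer_sup (h.syl.le.trans h.nZ) (le_normalizer_centerThompsonOf _ _))
theorem SJ : S ≤ 𝐉𝐉 0 S ⊔ 𝐎 p G := by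
  obtain ⟨A, hA, h1⟩ : ∃ A ∈ MaxEA 0 S, ¬ A ≤ 𝐎 p G := by by_contra! k; exact j (thompsonOf_le_iff.2 k)
  exact (h.off hA h1).trans (sup_le_sup_right (MaxEA.le_thompsonOf hA) _)
theorem sylY : IsSyl p (S ⊓ 𝐂 (𝐘 S)) (ncl (S ⊓ 𝐂 (𝐘 S)) G) := by
  have jB : 𝐉𝐉 0 S ≤ S ⊓ 𝐂 (𝐘 S) := le_inf (thompsonOf_le _ _) (le_centralizer_iff.1 inf_le_right)
  refine h.sylL inf_le_left (le_normalizer_inf le_normalizer (le_normalizer_centralizer
    (le_normalizer_centerThompsonOf _ _))) ((h.SJ j).trans (sup_le_sup_right jB _)) ?_ fun T a b => ?_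
  · rw [inf_right_comm, inf_eq_right.2 h.QS, ← inf_eq_left.2 h.QZ, inf_assoc, ← centralizer_sup']
    exact le_normalizer_inf h.nQ (le_normalizer_centralizer (h.nZY j))
  · rw [le_antisymm (le_inf a inf_le_right) (inf_le_inf_right _ b), ← centerThompsonOf_eq_of_le (jB.trans a) b]
    exact le_normalizer_inf le_rfl (le_normalizer_centralizer (normalizer_le_normalizer_centerThompsonOf _ _))
theorem cenY : G ≤ 𝐂 (⁅𝐘 S, S⁆ ⊓ 𝐂 S) := by
  have n := le_normalizer_commutator (h.nZY j) h.nQ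
  have e : ⁅𝐘 S, S⁆ = ⁅ZZ (𝐎 p G) ⊔ 𝐘 S, 𝐎 p G⁆ := le_antisymm ((commutator_le_of_le_sup_centralizer
    (h.QS.trans (le_normalizer_centerThompsonOf _ _)) ((h.SJ j).trans ((sup_comm _ _).le.trans (sup_le_sup_left
      (le_centralizer_iff.1 inf_le_right) _)))).trans (commutator_mono le_sup_right le_rfl))
    (commutator_sup_le ((commutator_eq_bot_iff'.2 h.QZ).trans_le bot_le) (commutator_mono le_rfl h.QS)
      (h.ZS.trans (le_normalizer_commutator_right _ _)) (le_normalizer_commutator_left _ _))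
  exact h.cen_of (e ▸ n) (thompsonOf_le 0 S) j (le_centralizer_iff.1 ((commutator_le_of_le_normalizer
    (le_normalizer_centerThompsonOf _ _)).trans inf_le_right))
omit j
theorem pwZ : pw p (ZZ S) = pw p (ZZ (𝐎 p G)) := le_antisymm (pw_mono _ (h.zS.le.trans inf_le_left))
  (pw_le_iff.2 fun x hx => by
    obtain ⟨v, hv, z, hz, rfl⟩ := (mem_sup_of_le_normalizer ((h.VZ.trans h.ZS).trans (le_normalizer_of_le_centralizer
      (le_centralizer_iff.1 inf_le_right)))).1 (h.ZV hx)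
    rw [Commute.mul_pow (hz.2 v (h.ZS (h.VZ hv))), (isElementaryAbelian_iff.1 h.Vea).2 v hv, one_mul]
    exact pow_mem_pw hz)
end RZ

theorem r0_hyp {K : Subgroup X} [K.Normal] {F : Type*} [Field F] [Fintype F] {n : ℕ} (hF : Fintype.card F = p ^ n)
    (hS : IsSyl p S ⊤) (h1 : centralizer (pCore p X : Set X) ≤ pCore p X) (h2 : ∃! M : Subgroup X, IsCoatom M ∧ S ≤ M)
    (e : Nonempty (X ⧸ K ≃* PSL(2, F))) : R0 p ⊤ S := by
  have : CharP F p := charP_of_card (Nat.card_eq_fintype_card.trans hF)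
  obtain ⟨π, hπ, -⟩ := exists_pi e.some
  obtain ⟨M, hu⟩ := existsUnique_coatom_iff.1 h2
  refine ⟨charPOf_top.2 h1, hS, ⟨M, hu⟩, ab_pi hπ hS hu, fun s hs => (inf_ker hπ hS hu).le ⟨Subgroup.pow_mem _ hs p, ?_⟩,
    fun e => psl_nn (syl_pi hπ hS) ((map_top_of_surjective _ hπ).ge.trans (map_le_normalizer_map _ e))⟩
  obtain ⟨m, e⟩ := psl_lift (syl_pi hπ hS)
  obtain ⟨_, ⟨u, hu, rfl⟩, e⟩ := e.ge (mem_map_of_mem π hs)
  obtain ⟨t, rfl⟩ := mem_uT.1 hu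
  show π (s ^ p) = 1
  rw [map_pow, ← e, ← map_pow, ← map_pow, tvU_pow, CharP.cast_eq_zero, zero_mul, tvU_zero, map_one, map_one]

theorem r0_sit (h : IsPushingUpSituation p S) : R0 p ⊤ S := by
  obtain ⟨-, ⟨P, rfl⟩, h1, h2, K, _, F, _, _, n, hF, e⟩ := h
  exact r0_hyp hF (isSyl_top P) h1 h2 e

theorem normal_of_cen (h : ⊤ ≤ 𝐂 U) (h1 : N ≤ U) : N.Normal :=
  normal_of_top_le_normalizer (le_normalizer_of_le_centralizer (h.trans (centralizer_anti h1)))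

theorem powerClosure_one (T : Subgroup X) : powerClosure p 1 T = pw p T := by
  simp only [powerClosure, pw, pow_one, eq_comm]

end H118
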