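import Cfsg.Agent.H18.PB1
/-! Glauberman's pushing up situation: minimal centrally large subgroups (`MCL`). -/
set_option autoImplicit false
set_option linter.unusedSectionVars false
namespace H118
open Subgroup H26 H4 Cfsg Matrix H18.PU
open scoped commutatorElement MatrixGroups

variable {X : Type*} [Group X] [Finite X] {p : ℕ} [hp : Fact p.Prime] {G S M A B N T R R' U : Subgroup X} {g : X}

/-- minimal centrally large subgroups of `S`, in the ambient group -/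
def MCL (S R : Subgroup X) : Prop := ∃ R₀ : Subgroup S, IsMinimalCentrallyLarge R₀ ∧ R₀.map S.subtype = R

theorem card_sub (R₀ : Subgroup S) : Nat.card (R₀.map S.subtype) = Nat.card R₀ := card_map_of_injective S.subtype_injective

theorem le_f (h1 : R ≤ S) (h2 : B ≤ S) (h3 : B ≤ 𝐂 R) : Nat.card R * Nat.card B ≤ maxCentralizerProduct S := by
  refine le_trans ?_ (cd_le (R.subgroupOf S))
  rw [← card_sub, ← card_sub (𝐂 _), map_subtype_centralizer, map_subgroupOf_eq_of_le h1]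
  exact Nat.mul_le_mul_left _ (card_le_of_le (le_inf h2 h3))

namespace MCL
variable (h : MCL S R)
include h
theorem le : R ≤ S := by obtain ⟨R, -, rfl⟩ := h; exact map_subtype_le _
theorem cle : S ⊓ 𝐂 R ≤ R := by
  obtain ⟨R, a, rfl⟩ := h
  rw [← map_subtype_centralizer]; exact map_mono (cl_iff.1 a.1).2
theorem cc : S ⊓ 𝐂 (S ⊓ 𝐂 R) = R := by
  obtain ⟨R, a, rfl⟩ := h
  rw [← map_subtype_centralizer, ← map_subtype_centralizer, (cd_cent (cl_iff.1 a.1).1).2]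
theorem card : Nat.card R * Nat.card ↥(S ⊓ 𝐂 R) = maxCentralizerProduct S := by
  obtain ⟨R, a, rfl⟩ := h
  rw [← map_subtype_centralizer, card_sub, card_sub]; exact (cl_iff.1 a.1).1
theorem of (h1 : R' ≤ S) (h2 : B ≤ R') (h3 : B ≤ 𝐂 R') (h4 : maxCentralizerProduct S ≤ Nat.card R' * Nat.card B) :
    S ⊓ 𝐂 R' = B ∧ (R' ≤ R → R' = R) ∧ (Nat.card R' ≤ Nat.card R → MCL S R') := by
  obtain ⟨R, a, rfl⟩ := h
  have hf := S.subtype_injective
  obtain ⟨R', rfl⟩ : ∃ R₀ : Subgroup S, R₀.map S.subtype = R' := ⟨_, map_subgroupOf_eq_of_le h1⟩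
  obtain ⟨B, rfl⟩ : ∃ R₀ : Subgroup S, R₀.map S.subtype = B := ⟨_, map_subgroupOf_eq_of_le (h2.trans h1)⟩
  rw [card_sub, card_sub] at h4
  obtain ⟨b, c⟩ := cl_of_comm ((map_le_map_iff_of_injective hf).1 h2) ((map_le_centralizer_map_iff hf).1 h3) h4
  exact ⟨by rw [← map_subtype_centralizer, c], fun e => by rw [a.2 _ ((map_le_map_iff_of_injective hf).1 e) b],
    fun e => ⟨_, mcl_of_card a b (by rwa [card_sub, card_sub] at e), rfl⟩⟩
theorem der (h' : MCL S R') : ⁅R, R⁆ = ⁅R', R'⁆ := by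
  obtain ⟨R, a, rfl⟩ := h; obtain ⟨R', b, rfl⟩ := h'
  rw [← map_commutator, ← map_commutator, mcl_der a b]
theorem conj (h1 : cj g R ≤ S) : MCL S (cj g R) ∧ S ⊓ 𝐂 (cj g R) = cj g (S ⊓ 𝐂 R) := by
  have := h.of h1 (cj_mono g h.cle) (cj_le_c g inf_le_right) (by rw [card_cj, card_cj, h.card])
  exact ⟨this.2.2 (card_cj _ _).le, this.1⟩
end MCL

theorem RA.mcl (h : RA p G S) (k : MCL S R) (h1 : ¬ R ≤ 𝐎 p G) : RZ p G S ∧ S ≤ S ⊓ 𝐂 R ⊔ 𝐎 p G ∧
    MCL S (ZZ (𝐎 p G) ⊔ R ⊓ 𝐎 p G) ∧ S ⊓ 𝐂 (ZZ (𝐎 p G) ⊔ R ⊓ 𝐎 p G) = ZZ (𝐎 p G) ⊔ S ⊓ 𝐂 R ⊓ 𝐎 p G := by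
  set C := S ⊓ 𝐂 R
  have cd : ∀ Y : Subgroup X, Nat.card ↥(ZZ (𝐎 p G) ⊔ Y ⊓ 𝐎 p G) = Nat.card ↥(𝐎 p G ⊓ Y) * Y.relIndex (ZZ (𝐎 p G)) :=
    fun Y => by
      rw [← card_mul_relIndex_of_le (le_sup_right : _ ≤ ZZ (𝐎 p G) ⊔ Y ⊓ 𝐎 p G), relIndex_sup_of_le_normalizer
        (le_normalizer_of_le_centralizer (inf_le_right.trans (centralizer_anti inf_le_right))), inf_comm Y,
        ← inf_relIndex_left, ← inf_assoc, inf_eq_left.2 (inf_le_left : ZZ (𝐎 p G) ≤ _), inf_relIndex_left]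
  have e1 : R.relIndex (ZZ (𝐎 p G)) = (𝐂 C).relIndex (ZZ (𝐎 p G)) := by
    rw [← inf_relIndex_left, ← k.cc, ← inf_assoc, inf_eq_left.2 h.ZS, inf_relIndex_left]
  have e2 : C.relIndex (ZZ (𝐎 p G)) = (𝐂 R).relIndex (ZZ (𝐎 p G)) := by
    rw [← inf_relIndex_left, ← inf_assoc, inf_eq_left.2 h.ZS, inf_relIndex_left]
  have l1 : ZZ (𝐎 p G) ⊔ R ⊓ 𝐎 p G ≤ S := sup_le h.ZS (inf_le_left.trans k.le)
  have l2 : ZZ (𝐎 p G) ⊔ C ⊓ 𝐎 p G ≤ ZZ (𝐎 p G) ⊔ R ⊓ 𝐎 p G := sup_le_sup_left (inf_le_inf_right _ k.cle) _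
  have l3 : ZZ (𝐎 p G) ⊔ C ⊓ 𝐎 p G ≤ 𝐂 (ZZ (𝐎 p G) ⊔ R ⊓ 𝐎 p G) := le_centralizer_sup (sup_le (inf_le_left.trans h.QZ)
    (inf_le_right.trans h.QZ)) (sup_le (inf_le_right.trans (centralizer_anti inf_le_right))
      (inf_le_left.trans (inf_le_right.trans (centralizer_anti inf_le_left))))
  have f := le_f l1 (l2.trans l1) l3
  have f' := k.of l1 l2 l3
  rw [← k.card, cd, cd, e1, e2, ← card_mul_relIndex (𝐎 p G) R, ← card_mul_relIndex (𝐎 p G) C] at f f'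
  have p1 := card_pos' (𝐎 p G ⊓ R)
  have p2 := card_pos' (𝐎 p G ⊓ C)
  have p3 : 0 < (𝐂 C).relIndex (ZZ (𝐎 p G)) := Nat.pos_of_ne_zero index_ne_zero_of_finite
  have p4 : 0 < (𝐎 p G).relIndex S := Nat.pos_of_ne_zero index_ne_zero_of_finite
  have a1 := h.rel_le k.le
  have a2 := h.rel_le (inf_le_left : C ≤ S)
  have b0 : (𝐂 C).relIndex (ZZ (𝐎 p G)) * (𝐂 R).relIndex (ZZ (𝐎 p G)) ≤ (𝐎 p G).relIndex R * (𝐎 p G).relIndex C :=
    Nat.le_of_mul_le_mul_left (c := Nat.card ↥(𝐎 p G ⊓ R) * Nat.card ↥(𝐎 p G ⊓ C)) (by linarith) (Nat.mul_pos p1 p2)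
  have z : RZ p G S := by
    by_cases c : (𝐂 R).relIndex (ZZ (𝐎 p G)) ≤ (𝐎 p G).relIndex R
    · exact h.rz k.le h1 c
    · have : (𝐂 C).relIndex (ZZ (𝐎 p G)) < (𝐎 p G).relIndex C := by by_contra! d; nlinarith
      exact h.rz inf_le_left (fun e => by rw [relIndex_eq_one.2 e] at this; omega) this.le
  rw [z.relZ k.le h1] at b0 f'
  have c : ¬ C ≤ 𝐎 p G := fun c => by
    rw [relIndex_eq_one.2 c] at b0 f'
    have e : (𝐂 C).relIndex (ZZ (𝐎 p G)) = 1 := by nlinarith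
    rw [e] at f'
    have l := sup_le (relIndex_eq_one.1 (e1.trans e)) (inf_le_left : R ⊓ 𝐎 p G ≤ R)
    exact h1 (((f' (by nlinarith [Nat.mul_le_mul_left (Nat.card ↥(𝐎 p G ⊓ R) * Nat.card ↥(𝐎 p G ⊓ C)) a1])).2.1
      l).ge.trans (sup_le inf_le_left inf_le_right))
  rw [z.relZ inf_le_left c] at b0 f'
  have b1 : (𝐎 p G).relIndex R = (𝐎 p G).relIndex S := by nlinarith
  have b2 : (𝐎 p G).relIndex C = (𝐎 p G).relIndex S := by nlinarith
  rw [b1, b2] at f'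
  exact ⟨z, h.sup_of_rel inf_le_left b2.ge, (f' le_rfl).2.2 le_rfl, (f' le_rfl).1⟩

theorem map_mclJoin_le : (minimalCentrallyLargeJoin S).map S.subtype ≤ U ↔ ∀ R, MCL S R → R ≤ U := by
  rw [map_le_iff_le_comap, minimalCentrallyLargeJoin, sSup_le_iff]
  exact ⟨by rintro h _ ⟨R, a, rfl⟩; exact map_le_iff_le_comap.2 (h R a),
    fun h R a => map_le_iff_le_comap.1 (h _ ⟨R, a, rfl⟩)⟩

theorem R0.mclD (h : R0 p G S) (k : MCL S R) : G ≤ 𝐂 (ZZ S ⊓ ⁅R, R⁆) ∨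
    G ≤ 𝐍 ((minimalCentrallyLargeJoin S).map S.subtype) := by
  by_cases c : G ≤ 𝐂 (ZZ S)
  · exact .inl (c.trans (centralizer_anti inf_le_left))
  by_cases d : ∀ R, MCL S R → R ≤ 𝐎 p G
  · exact .inr (le_normalizer_iff_cj.2 fun g hg => cj_le_iff.2 (map_mclJoin_le.2 fun R a => cj_le_iff.1
      (map_mclJoin_le.1 le_rfl _ (a.conj ((cj_le_of_mem_normalizer (d R a) (h.nQ hg)).trans h.QS)).1)))
  push Not at d
  obtain ⟨R', a, b⟩ := d
  obtain ⟨-, e1, e2, -⟩ := (h.ra c).mcl a b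
  have n : G ≤ 𝐍 ⁅R, R⁆ := fun g hg => cj_eq_iff.1 (by
    rw [k.der e2, cj_commutator]
    exact (e2.conj ((cj_le_of_mem_normalizer (sup_le inf_le_left inf_le_right) (h.nQ hg)).trans h.QS)).1.der e2)
  exact .inl ((h.cen_of n inf_le_left (fun e => h.nSQ (e1.trans (sup_le e le_rfl))) (inf_le_right.trans
    (centralizer_anti ((k.der a).le.trans (commutator_le_of_le_normalizer le_normalizer))))).trans
      (centralizer_anti (le_inf inf_le_right (inf_le_left.trans inf_le_right))))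

theorem oc_le_mz (k : MCL S R) : Nat.card (𝛀 p R) ≤ maxOmegaCenterOfMinimalCL p S := by
  obtain ⟨R, a, rfl⟩ := k
  rw [← map_oc S.subtype_injective, card_sub]
  exact le_csSup ⟨Nat.card S, by rintro _ ⟨Q, -, rfl⟩; exact card_le_card_group _⟩ ⟨R, a, rfl⟩

theorem exists_mz (p : ℕ) (S : Type*) [Group S] [Finite S] : ∃ Q : Subgroup S, IsMinimalCentrallyLarge Q ∧
    Nat.card (𝛀 p Q) = maxOmegaCenterOfMinimalCL p S :=
  Nat.sSup_mem (s := {k : ℕ | ∃ Q : Subgroup S, IsMinimalCentrallyLarge Q ∧ Nat.card (𝛀 p Q) = k})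
    (exists_mcl.elim fun Q a => ⟨_, Q, a, rfl⟩) ⟨Nat.card S, by rintro _ ⟨Q, -, rfl⟩; exact card_le_card_group _⟩

theorem map_phiJoin_le (hS : IsPGroup p S) : (frattiniOfMinimalCLJoin p S).map S.subtype ≤ U ↔
    ∀ R, MCL S R → Nat.card (𝛀 p R) = maxOmegaCenterOfMinimalCL p S → phi p R ≤ U := by
  rw [map_le_iff_le_comap, frattiniOfMinimalCLJoin, iSup_le_iff]
  refine ⟨?_, fun h Q => ?_⟩
  · rintro h _ ⟨R, a, rfl⟩ b
    rw [← map_oc S.subtype_injective, card_sub] at b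
    rw [← map_phi, phi_eq_frattini (hS.to_subgroup R)]
    exact map_le_iff_le_comap.2 (h ⟨R, a, b⟩)
  · rw [← map_le_iff_le_comap, ← phi_eq_frattini (hS.to_subgroup _), map_phi]
    exact h _ ⟨_, Q.2.1, rfl⟩ (by rw [← map_oc S.subtype_injective, card_sub, Q.2.2])

theorem RA.mz (h : RA p G S) (k : MCL S R) (e : Nat.card (𝛀 p R) = maxOmegaCenterOfMinimalCL p S) :
    ∃ R' ≤ 𝐎 p G, MCL S R' ∧ Nat.card (𝛀 p R') = maxOmegaCenterOfMinimalCL p S ∧ phi p R ≤ phi p R' := by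
  by_cases c : R ≤ 𝐎 p G
  · exact ⟨R, c, k, e, le_rfl⟩
  obtain ⟨z, -, a, -⟩ := h.mcl k c
  have l : VV p G ⊔ 𝛀 p R ⊓ 𝐎 p G ≤ 𝛀 p (ZZ (𝐎 p G) ⊔ R ⊓ 𝐎 p G) := sup_le (le_oc h.Vea (le_sup_of_le_left h.VZ)
    (h.VZ.trans (inf_le_right.trans (centralizer_anti (sup_le inf_le_left inf_le_right)))))
    (le_oc (elemAb_mono (oc_ea _ _) inf_le_left) (le_sup_of_le_right (inf_le_inf_right _ (oc_le _ _)))
      (le_centralizer_sup (inf_le_right.trans h.QZ) (inf_le_left.trans ((oc_le_c _ _).trans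
        (centralizer_anti inf_le_left)))))
  have oS := (oc_le p R).trans k.le
  have b := (card_le_of_le l).trans (oc_le_mz a)
  have b' := card_le_of_le l
  have d : (𝐎 p G).relIndex S ≤ (𝛀 p R ⊓ 𝐎 p G).relIndex (VV p G) := (z.relV k.le c).ge.trans
    (relIndex_le_of_le_left (inf_le_left.trans (oc_le_c _ _)) index_ne_zero_of_finite)
  rw [← card_mul_relIndex_of_le (le_sup_right : _ ≤ VV p G ⊔ 𝛀 p R ⊓ 𝐎 p G), relIndex_sup_of_le_normalizer
    (le_normalizer_of_le_centralizer (le_centralizer_iff.1 (inf_le_right.trans h.QV)))] at b b'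
  rw [← e, ← card_mul_relIndex (𝐎 p G) (𝛀 p R), inf_comm (𝐎 p G)] at b
  have s := h.sup_of_rel oS (d.trans (Nat.le_of_mul_le_mul_left b (card_pos' _)))
  have r := le_inf (k.le.trans s) le_rfl
  rw [dedekind_left (oc_le _ _) (oS.trans (h.syl.le.trans h.nQ)), inf_comm] at r
  refine ⟨_, sup_le inf_le_left inf_le_right, a, le_antisymm (oc_le_mz a) (le_trans ?_ b'),
    le_trans (phi_le_iff.2 ⟨?_, fun x hx => ?_⟩) (phi_mono le_sup_right)⟩
  · rw [← e, ← card_mul_relIndex (𝐎 p G) (𝛀 p R), inf_comm (𝐎 p G)]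
    exact Nat.mul_le_mul_left _ ((h.rel_le oS).trans d)
  · rw [le_antisymm r (sup_le (oc_le _ _) inf_le_left), sup_comm, der_sup_cent ((oc_le_c _ _).trans (centralizer_anti
      (sup_le inf_le_left (oc_le _ _)))), ← sup_comm, ← le_antisymm r (sup_le (oc_le _ _) inf_le_left)]
    exact commutator_le_phi _ _
  · obtain ⟨v, hv, y, hy, rfl⟩ := (mem_sup_of_le_normalizer (le_normalizer_of_le_centralizer ((oc_le_c _ _).trans
      (centralizer_anti inf_le_left)))).1 (r hx)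
    rw [Commute.mul_pow (oc_le_c _ _ hv y hy.1).symm, (isElementaryAbelian_iff.1 (oc_ea p R)).2 v hv, one_mul]
    exact pow_mem_phi hy

theorem RA.nPhi (h : RA p G S) : G ≤ 𝐍 ((frattiniOfMinimalCLJoin p S).map S.subtype) :=
  le_normalizer_iff_cj.2 fun g hg => cj_le_iff.2 ((map_phiJoin_le h.syl.isP).2 fun R a b => cj_le_iff.1 (by
    obtain ⟨R', c, d, e, f⟩ := h.mz a b
    refine (cj_mono g f).trans ?_
    rw [map_phi]
    exact (map_phiJoin_le h.syl.isP).1 le_rfl _ (d.conj ((cj_le_of_mem_normalizer c (h.nQ hg)).trans h.QS)).1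
      (by rw [← cj_oc, card_cj, e])))

theorem der_char {Y : Type*} [Group Y] [Finite Y] {Q : Subgroup Y} (h : IsMinimalCentrallyLarge Q) :
    (⁅Q, Q⁆).Characteristic := characteristic_iff_map_eq.2 fun φ => by
  have c : IsCentrallyLarge (Q.map φ.toMonoidHom) := (cl_of_comm (map_mono (cl_iff.1 h.1).2)
    (map_le_centralizer_map _ le_rfl) (by
      rw [card_map_of_injective φ.injective, card_map_of_injective φ.injective]; exact (cl_iff.1 h.1).1.ge)).1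
  rw [map_commutator, mcl_der (mcl_of_card h c (card_map_of_injective φ.injective).le) h]

theorem phi_bot {Y : Type*} [Group Y] [Finite Y] (hp' : IsPGroup p Y) (h : frattiniOfMinimalCLJoin p Y = ⊥) :
    ∃ Q : Subgroup Y, IsMinimalCentrallyLarge Q ∧ IsElementaryAbelian p Q := by
  obtain ⟨Q, a, b⟩ := exists_mz p Y
  refine ⟨Q, a, phi_eq_bot_iff.1 (le_bot_iff.1 ?_)⟩
  rw [phi_eq_frattini (hp'.to_subgroup Q), ← h]
  exact le_iSup_of_le (f := fun Q : {Q : Subgroup Y // IsMinimalCentrallyLarge Q ∧ Nat.card (𝛀 p Q) =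
    maxOmegaCenterOfMinimalCL p Y} => (frattini (Q : Subgroup Y)).map (Q : Subgroup Y).subtype) ⟨Q, a, b⟩ le_rfl

end H118
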