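import Cfsg.Agent.H18.PB2
/-! The Chermak–Delgado lattice in an ambient group (`CD`) and the core case of the Glauberman–Niles theorem (`CO`). -/
set_option autoImplicit false
set_option linter.unusedSectionVars false
namespace H118
open Subgroup H26 H4 Cfsg Matrix H18.PU
open scoped commutatorElement MatrixGroups Pointwise

variable {X : Type*} [Group X] [Finite X] {p : ℕ} [hp : Fact p.Prime] {G S S' M M' A B H N T T' R U Y : Subgroup X}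
  {g x a b d : X}

theorem mcp_le {Y Y' : Type*} [Group Y] [Group Y'] [Finite Y] [Finite Y'] {f : Y →* Y'} (hf : Function.Injective f) :
    maxCentralizerProduct Y ≤ maxCentralizerProduct Y' := by
  obtain ⟨R, h⟩ := exists_cd (G := Y)
  rw [← h, ← card_map_of_injective (K := R) hf, ← card_map_of_injective (K := 𝐂 R) hf]
  exact (Nat.mul_le_mul_left _ (card_le_of_le (map_le_centralizer_map f le_rfl))).trans (cd_le _)
theorem mcp_congr {Y Y' : Type*} [Group Y] [Group Y'] [Finite Y] [Finite Y'] (e : Y ≃* Y') :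
    maxCentralizerProduct Y = maxCentralizerProduct Y' :=
  le_antisymm (mcp_le (f := e.toMonoidHom) e.injective) (mcp_le (f := e.symm.toMonoidHom) e.symm.injective)

/-- members of the Chermak–Delgado lattice of `S` -/
def CD (S T : Subgroup X) : Prop := T ≤ S ∧ Nat.card T * Nat.card ↥(S ⊓ 𝐂 T) = maxCentralizerProduct S

theorem cd_iff : CD S T ↔ ∃ R : Subgroup S, IsCentralizerLarge R ∧ R.map S.subtype = T := by
  refine ⟨fun h => ⟨T.subgroupOf S, ?_, map_subgroupOf_eq_of_le h.1⟩, ?_⟩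
  · rw [IsCentralizerLarge, ← card_sub, ← card_sub (𝐂 _), map_subtype_centralizer, map_subgroupOf_eq_of_le h.1, h.2]
  · rintro ⟨R, h, rfl⟩
    exact ⟨map_subtype_le _, by rw [← map_subtype_centralizer, card_sub, card_sub, h]⟩

theorem CD.map {X' : Type*} [Group X'] [Finite X'] {f : X →* X'} (hf : Function.Injective f) (h : CD S T) :
    CD (S.map f) (T.map f) := ⟨map_mono h.1, by
  rw [← map_inf_centralizer hf, card_map_of_injective hf, card_map_of_injective hf, h.2,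
    mcp_congr (S.equivMapOfInjective f hf)]⟩

theorem cd_of (h1 : R ≤ S) (h2 : B ≤ S) (h3 : B ≤ 𝐂 R) (h4 : maxCentralizerProduct S ≤ Nat.card R * Nat.card B) :
    CD S R ∧ S ⊓ 𝐂 R = B := by
  have f := le_f h1 (inf_le_left : S ⊓ 𝐂 R ≤ S) inf_le_right
  have e := eq_of_le_of_card_ge (le_inf h2 h3) (Nat.le_of_mul_le_mul_left (f.trans h4) (card_pos' _))
  exact ⟨⟨h1, le_antisymm f (e ▸ h4)⟩, e.symm⟩

theorem cd_sSup' {𝒮 : Set (Subgroup X)} (h : ∀ T ∈ 𝒮, CD S T) (ne : 𝒮.Nonempty) : CD S (sSup 𝒮) := by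
  refine cd_iff.2 ⟨_, cd_sSup (S := {R | IsCentralizerLarge R ∧ R.map S.subtype ∈ 𝒮}) (fun _ k => k.1) ?_, ?_⟩
  · obtain ⟨T, hT⟩ := ne
    obtain ⟨R, a, rfl⟩ := cd_iff.1 (h T hT)
    exact ⟨R, a, hT⟩
  · refine le_antisymm (map_le_iff_le_comap.2 (sSup_le fun R k => map_le_iff_le_comap.1 (le_sSup k.2)))
      (sSup_le fun T hT => ?_)
    obtain ⟨R, a, rfl⟩ := cd_iff.1 (h T hT)
    exact map_mono (le_sSup ⟨a, hT⟩)

theorem cd_ncl (h : ∀ g ∈ H, CD S (cj g T)) : CD S (ncl T H) := by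
  have : ncl T H = sSup {Y | ∃ g ∈ H, cj g T = Y} := le_antisymm (ncl_le_iff.2 fun g hg => le_sSup ⟨g, hg, rfl⟩)
    (sSup_le (by rintro _ ⟨g, hg, rfl⟩; exact cj_le_ncl hg))
  rw [this]
  exact cd_sSup' (by rintro _ ⟨g, hg, rfl⟩; exact h g hg) ⟨_, 1, one_mem _, rfl⟩

namespace CD
variable (h : CD S T)
include h
theorem conj (g : X) : CD (cj g S) (cj g T) := h.map (conj_injective' g)
theorem conj' (hg : g ∈ 𝐍 S) : CD S (cj g T) := cj_eq_of_mem_normalizer hg ▸ h.conj g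
theorem c : CD S (S ⊓ 𝐂 T) := by
  obtain ⟨R, a, rfl⟩ := cd_iff.1 h
  exact cd_iff.2 ⟨_, (cd_cent a).1, map_subtype_centralizer _⟩
theorem cc : S ⊓ 𝐂 (S ⊓ 𝐂 T) = T := by
  obtain ⟨R, a, rfl⟩ := cd_iff.1 h
  rw [← map_subtype_centralizer, ← map_subtype_centralizer, (cd_cent a).2]
variable (h' : CD S T')
include h'
theorem lat : CD S (T ⊔ T') ∧ CD S (T ⊓ T') ∧ S ⊓ 𝐂 (T ⊓ T') = S ⊓ 𝐂 T ⊔ S ⊓ 𝐂 T' ∧
    ((T ⊔ T' : Subgroup X) : Set X) = (T : Set X) * (T' : Set X) := by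
  obtain ⟨R, a, rfl⟩ := cd_iff.1 h
  obtain ⟨R', a', rfl⟩ := cd_iff.1 h'
  obtain ⟨b1, b2, -, b3⟩ := cd_lattice a a'
  rw [← Subgroup.map_sup, ← map_inf _ _ _ S.subtype_injective, ← map_subtype_centralizer, ← map_subtype_centralizer,
    ← map_subtype_centralizer, ← Subgroup.map_sup, b3, coe_map, coe_map, coe_map, cd_coe_sup a a', Set.image_mul]
  exact ⟨cd_iff.2 ⟨_, b1, rfl⟩, cd_iff.2 ⟨_, b2, rfl⟩, rfl, rfl⟩
theorem sup : CD S (T ⊔ T') := (h.lat h').1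
theorem inf : CD S (T ⊓ T') := (h.lat h').2.1
theorem c_inf : S ⊓ 𝐂 (T ⊓ T') = S ⊓ 𝐂 T ⊔ S ⊓ 𝐂 T' := (h.lat h').2.2.1
theorem mem_sup (hx : x ∈ T ⊔ T') : ∃ a ∈ T, ∃ b ∈ T', a * b = x := mem_of_coe_eq_mul (h.lat h').2.2.2 hx
theorem ded (h1 : T ≤ Y) : (T ⊔ T') ⊓ Y = T ⊔ T' ⊓ Y := by
  refine le_antisymm (fun x hx => ?_) (sup_le (le_inf le_sup_left h1) (inf_le_inf_right _ le_sup_right))
  obtain ⟨a, ha, b, hb, rfl⟩ := h.mem_sup h' hx.1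
  exact mul_mem (mem_sup_left ha) (mem_sup_right ⟨hb, by simpa using mul_mem (inv_mem (h1 ha)) hx.2⟩)
end CD

/-- no member of the lattice lies strictly between -/
structure Cov (S T T' : Subgroup X) : Prop where
  lo : CD S T
  hi : CD S T'
  lt : T < T'
  all : ∀ Y, CD S Y → T ≤ Y → Y ≤ T' → Y = T ∨ Y = T'

theorem Cov.conj (h : Cov S T T') (h1 : g ∈ 𝐍 S) (h2 : g ∈ 𝐍 T) : Cov S T (cj g T') := by
  have e := cj_eq_of_mem_normalizer h2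
  refine ⟨h.lo, h.hi.conj' h1, e ▸ cj_lt_cj_iff.2 h.lt, fun Y a b c => ?_⟩
  refine (h.all _ (a.conj' (inv_mem h1)) (cj_le_iff.1 (e.le.trans b)) (le_cj_iff.1 c)).imp (fun k => ?_) fun k => ?_
  · rw [← e, ← k, cj_cj_inv]
  · rw [← k, cj_cj_inv]

theorem CD.cov_up (h : CD S T) (h' : CD S R) (h1 : T < R) : ∃ T' ≤ R, Cov S T T' := by
  obtain ⟨T', a, ⟨b, c⟩, d⟩ := exists_minimal_le (Q := fun Y => CD S Y ∧ T < Y) R ⟨h', h1⟩
  exact ⟨T', a, h, b, c, fun Y e f k => f.eq_or_lt.imp Eq.symm fun l => d Y k ⟨e, l⟩⟩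

theorem CD.cov_dn (h : CD S T) (h' : CD S R) (h1 : R < T) : ∃ T', R ≤ T' ∧ Cov S T' T := by
  obtain ⟨T', a, -, ⟨b, c⟩, d⟩ := exists_maximal_ge (Q := fun Y => CD S Y ∧ Y < T) h1.le ⟨h', h1⟩
  exact ⟨T', a, b, h, c, fun Y e f k => k.eq_or_lt.symm.imp_left fun l => d Y f k ⟨e, l⟩⟩

theorem R0.conj (h : R0 p G S) (hg : g ∈ G) : R0 p G (cj g S) where
  cp := h.cp
  syl := h.syl.cj_of_mem hg
  um := h.um.elim fun _ k => ⟨_, k.cj_of_mem (le_normalizer hg)⟩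
  ab := by rw [← cj_commutator]; exact cj_le_of_mem_normalizer h.ab (h.nQ hg)
  pw := fun s hs => by
    obtain ⟨t, ht, rfl⟩ := mem_cj'.1 hs
    rw [conj_pow]; exact conj_mem_of_mem_normalizer (h.nQ hg) (h.pw t ht)
  nn := fun e => h.nn (by rw [← cj_normalizer, le_cj_iff, cj_eq_of_mem (inv_mem hg)] at e; exact e)

theorem R0.ti (h : R0 p G S) (hu : UMax S M G) (hg : g ∈ G) (h1 : g ∉ M) (hb : b ∈ cj g S) (h2 : b ∈ M) :
    b ∈ 𝐎 p G := by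
  have mG := hu.lt.le
  have bp : IsPGroup p (zpowers b) := (isPGroup_cj g h.syl.isP).to_le (zpowers_le.2 hb)
  obtain ⟨m, hm, h3⟩ := (h.syl.mono hu.le mG).exists_le_cj bp (zpowers_le.2 h2)
  have k : ∀ x ∈ G, b ∈ cj x S → cj x S ≤ 𝐍 (zpowers b ⊔ 𝐎 p G) := fun x hx hb =>
    le_normalizer_of_commutator_le ((commutator_mono (sup_le (zpowers_le.2 hb) (h.conj hx).QS) le_rfl).trans
      ((h.conj hx).ab.trans le_sup_right))
  have e := hu.sup_cj_eq h.nc (mul_mem (inv_mem (mG hm)) hg) fun e => h1 (by simpa using mul_mem hm e)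
  have e2 : cj m S ⊔ cj g S = G := by
    rw [← cj_eq_of_mem (mG hm), ← e, cj_sup, ← cj_mul, mul_inv_cancel_left]
  have bG := cj_le_of_mem h.syl.le hg hb
  exact le_pCoreOf (isPGroup_sup bp (isPGroup_pCoreOf _ _) ((zpowers_le.2 bG).trans h.nQ))
    (sup_le (zpowers_le.2 bG) h.QG) (e2.ge.trans (sup_le (k m (mG hm) (h3 (mem_zpowers b))) (k g hg hb)))
    (mem_sup_left (mem_zpowers b))

/-- the large abelian subgroups and `S` itself lie in the lattice, and the centre is elementary -/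
structure SC (p : ℕ) (S : Subgroup X) : Prop where
  ze : IsElementaryAbelian p (ZZ S)
  cs : CD S S
  mx : ∀ A ∈ MaxEA 0 S, CD S A
  sj : S ≤ 𝐉𝐉 0 S

theorem SC.map {X' : Type*} [Group X'] [Finite X'] {f : X →* X'} (hf : Function.Injective f) (h : SC p S) :
    SC p (S.map f) where
  ze := by rw [ZZ, ← map_inf_centralizer hf]; exact elemAb_map h.ze f
  cs := h.cs.map hf
  mx := fun A hA => by
    obtain ⟨B, hB, rfl⟩ := exists_of_mem_maxEA_map hf hA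
    exact (h.mx B hB).map hf
  sj := map_thompsonOf hf S ▸ map_mono h.sj

theorem mx_c (hA : A ∈ MaxEA 0 S) : S ⊓ 𝐂 A = A := le_antisymm (fun _ h => MaxEA.mem_of_centralizes hA h.1 h.2
  (pow_zero _)) (le_inf (MaxEA.le hA) (elemAb_le_centralizer (MaxEA.elemAb hA)))

/-- the core case, with a large abelian subgroup `A` outside `O_p(G)` -/
structure CO (p : ℕ) (G S M A : Subgroup X) : Prop extends RZ p G S, SC p S where
  hu : UMax S M G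
  hA : A ∈ MaxEA 0 S
  nA : ¬ A ≤ 𝐎 p G

theorem co_of (h : RA p G S) (k : SC p S) (hu : UMax S M G) (hA : A ∈ MaxEA 0 S) (nA : ¬ A ≤ 𝐎 p G) : CO p G S M A :=
  ⟨h.rz (MaxEA.le hA) nA (h.best hA), k, hu, hA, nA⟩

/-- `A* = Z(Q)(A ∩ Q)` -/
abbrev st (p : ℕ) (G A : Subgroup X) : Subgroup X := ZZ (𝐎 p G) ⊔ A ⊓ 𝐎 p G
/-- `[O_p(G), O^p(G)]` -/
abbrev TT (p : ℕ) (G : Subgroup X) : Subgroup X := ⁅𝐎 p G, pResidualOf p G⁆
/-- `A*[O_p(G), O^p(G)]` -/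
abbrev RR (p : ℕ) (G A : Subgroup X) : Subgroup X := st p G A ⊔ TT p G

namespace CO
variable (h : CO p G S M A)
include h
theorem re (hB : B ∈ MaxEA 0 S) (nB : ¬ B ≤ 𝐎 p G) : CO p G S M B := ⟨h.toRZ, h.toSC, h.hu, hB, nB⟩
theorem conj (hg : g ∈ G) : CO p G (cj g S) (cj g M) (cj g A) :=
  co_of ⟨h.toR0.conj hg, h.ncV⟩ (h.toSC.map (conj_injective' g)) (h.hu.cj_of_mem (le_normalizer hg))
    (MaxEA.cj h.hA g) fun e => h.nA ((cj_le_iff.1 e).trans (cj_eq_of_mem_normalizer (h.nQ (inv_mem hg))).le)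
theorem cj_st (hg : g ∈ G) : cj g (st p G A) = st p G (cj g A) := by
  rw [cj_sup, cj_inf g A, cj_eq_of_mem_normalizer (h.nZ hg), cj_eq_of_mem_normalizer (h.nQ hg)]
theorem AS : A ≤ S := MaxEA.le h.hA
theorem AG : A ≤ G := h.AS.trans h.syl.le
theorem AA : A ≤ 𝐂 A := elemAb_le_centralizer (MaxEA.elemAb h.hA)
theorem sp : S ≤ A ⊔ 𝐎 p G := h.off h.hA h.nA
theorem zZ : ZZ S ≤ ZZ (𝐎 p G) := h.zS.le.trans inf_le_left
theorem ZeV : ZZ (𝐎 p G) = VV p G := le_antisymm (h.ZV.trans (sup_le le_rfl (le_oc h.ze (h.zZ.trans inf_le_left)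
  (h.zZ.trans inf_le_right)))) h.VZ
theorem Zp : IsElementaryAbelian p (ZZ (𝐎 p G)) := h.ZeV ▸ h.Vea
theorem lin' : ∃ (F : Type) (_ : Field F) (_ : Fintype F) (_ : CharP F p), Nat.card F = (𝐎 p G).relIndex S ∧
    ∃ (ρ : X → SL(2, F)) (ψ : X → Fin 2 → F) (k : Std G (ZZ (𝐎 p G)) (ZZ (𝐎 p G) ⊓ 𝐂 G) S ρ ψ), k.ln = ZZ S ∧
      ∀ e ∈ G, ρ e = 1 → e ∈ 𝐂 (ZZ (𝐎 p G)) := by
  rw [h.zS, h.ZeV]; exact h.lin
theorem cdQ : CD S (𝐎 p G) ∧ S ⊓ 𝐂 (𝐎 p G) = ZZ (𝐎 p G) := cd_of h.QS h.ZS inf_le_right (by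
  rw [← h.cs.2, ← card_mul_relIndex_of_le h.QS, ← card_mul_relIndex (𝐂 S) (ZZ (𝐎 p G)), h.relZ le_rfl h.nSQ,
    inf_comm (𝐂 S), ← h.zS]
  exact le_of_eq (by ring))
theorem cZ : S ⊓ 𝐂 (ZZ (𝐎 p G)) = 𝐎 p G := h.cdQ.2 ▸ h.cdQ.1.cc
theorem cdZ : CD S (ZZ (𝐎 p G)) := h.cdQ.2 ▸ h.cdQ.1.c
theorem mQ : maxCentralizerProduct (𝐎 p G) = maxCentralizerProduct S := le_antisymm (mcp_le (inclusion_injective h.QS))
  (by rw [← h.cdQ.1.2, h.cdQ.2]; exact le_f le_rfl inf_le_left inf_le_right)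
theorem up (k : CD (𝐎 p G) T) : CD S T ∧ S ⊓ 𝐂 T = 𝐎 p G ⊓ 𝐂 T :=
  cd_of (k.1.trans h.QS) (inf_le_left.trans h.QS) inf_le_right (by rw [k.2, h.mQ])
theorem dn (k : CD S T) (h1 : ZZ (𝐎 p G) ≤ T) (h2 : T ≤ 𝐎 p G) : CD (𝐎 p G) T := ⟨h2, by
  rw [h.mQ, ← k.2, le_antisymm (inf_le_inf_right _ h.QS) (le_inf ((inf_le_inf_left _ (centralizer_anti h1)).trans
    h.cZ.le) inf_le_right)]⟩
omit h in
theorem Z_le (k : CD (𝐎 p G) T) : ZZ (𝐎 p G) ≤ T := k.cc ▸ inf_le_inf_left _ (centralizer_anti inf_le_left)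
theorem coat (k : CD S T) : T ≤ 𝐎 p G ∨ S ≤ T ⊔ 𝐎 p G := or_iff_not_imp_left.2 fun c => by
  rw [← (k.sup h.cdQ.1).cc, centralizer_sup', inf_comm (𝐂 T), ← inf_assoc, h.cdQ.2, h.cenZ k.1 c]
  exact le_inf le_rfl (le_centralizer_iff.1 inf_le_right)
theorem ZS_le : ⁅ZZ (𝐎 p G), S⁆ ≤ ZZ S := by
  obtain ⟨F, _, _, _, -, ρ, ψ, k, l, -⟩ := h.lin'
  exact l ▸ k.comm_le_ln
theorem cG : 𝐂 (pResidualOf p G) ⊓ 𝐂 S ≤ 𝐂 G := le_centralizer_iff.1 (h.syl.le_of_pResidualOf_le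
  (le_centralizer_iff.1 inf_le_left) (le_centralizer_iff.1 inf_le_right))
theorem nat (hd : d ∈ ZZ (𝐎 p G)) (hb : b ∈ S) (e : ⁅b, d⁆ ∈ 𝐂 (pResidualOf p G)) : d ∈ ZZ S ∨ b ∈ 𝐎 p G := by
  obtain ⟨F, _, _, _, -, ρ, ψ, k, l, c⟩ := h.lin'
  have m := h.ZS_le (commutator_mem_commutator hd hb)
  exact or_iff_not_imp_right.2 fun n => l.le (k.mem_ln_of_comm (h.syl.le hb) (k.up b hb)
    (fun e => n (h.cZ.le ⟨hb, c b (h.syl.le hb) e⟩)) hd ⟨h.zZ m, h.cG ⟨comm_mem_symm.1 e, m.2⟩⟩)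
theorem Z_sup (hg : g ∈ G) (h1 : g ∉ M) : ZZ (𝐎 p G) = ZZ S ⊔ cj g (ZZ S) := by
  obtain ⟨F, _, _, _, -, ρ, ψ, k, l, -⟩ := h.lin'
  rw [← l, k.sup_cj_ln hg fun e => h1 (mem_M k h.hu hg e)]
theorem cdA : CD S A := h.mx A h.hA
theorem stm : st p G A ∈ MaxEA 0 (𝐎 p G) := h.repQ h.hA
theorem stQ : st p G A ≤ 𝐎 p G := MaxEA.le h.stm
theorem cds : CD (𝐎 p G) (st p G A) := h.dn (h.mx _ (h.rep h.hA)) le_sup_left h.stQ
theorem stA : ⁅st p G A, A⁆ ≤ ZZ (𝐎 p G) := commutator_le_of_le_sup_centralizer' le_rfl (inf_le_left.trans h.AA)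
  (inf_le_left.trans (h.AG.trans h.nZ)) (h.AG.trans h.nZ)
theorem sup_inf (k : CD (𝐎 p G) T) : (T ⊔ A) ⊓ 𝐎 p G = T ⊔ st p G A := by
  rw [(h.up k).1.ded h.cdA k.1, ← sup_assoc, sup_eq_left.2 (Z_le k)]
theorem nrm (k : CD (𝐎 p G) T) (h1 : st p G A ≤ T) : A ≤ 𝐍 T := by
  have := le_normalizer_inf (le_sup_right.trans (le_normalizer (H := T ⊔ A))) (h.AG.trans h.nQ)
  rwa [h.sup_inf k, sup_eq_left.2 h1] at this
theorem push (k : Cov (𝐎 p G) T T') : ⁅T', A⁆ ≤ T ⊔ st p G A := by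
  have a := ((h.up k.lo).1).sup h.cdA
  have a' := ((h.up k.hi).1).sup h.cdA
  have l : T ⊔ A ≤ T' ⊔ A := sup_le_sup_right k.lt.le _
  have b : CD S (ncl (T ⊔ A) (T' ⊔ A)) := cd_ncl fun g hg => a.conj' (le_normalizer (a'.1 hg))
  rw [← h.sup_inf k.lo]
  refine le_inf ?_ ((commutator_mono k.hi.1 le_rfl).trans (commutator_le_of_le_normalizer (h.AG.trans h.nQ)))
  have lT : T ≤ T' ⊓ ncl (T ⊔ A) (T' ⊔ A) := le_inf k.lt.le (le_sup_left.trans (le_ncl _ _))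
  obtain e | e := k.all _ (h.dn ((h.up k.hi).1.inf b) ((Z_le k.lo).trans lT) (inf_le_left.trans k.hi.1)) lT inf_le_left
  · have := h.cdA.ded (h.up k.hi).1 (le_sup_right.trans (le_ncl (T ⊔ A) (T' ⊔ A)))
    rw [e, sup_comm A, inf_eq_right.2 (ncl_le_self l), sup_comm A] at this
    rw [← this, commutator_comm]
    exact (commutator_mono le_sup_right le_sup_left).trans (commutator_le_ncl _ _)
  · refine (Subgroup.commutator_le_sup _ _).trans (l.eq_or_lt.resolve_right fun c => ?_).ge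
    obtain ⟨N, n1, n2, n3⟩ := exists_normal_lt_of_isPGroup (h.syl.isP.to_le a'.1) c
    exact n2.not_ge (sup_le ((inf_eq_left.1 e).trans (ncl_le n1 n3)) (le_sup_right.trans n1))
theorem resM (h1 : A ≤ Y) (h2 : Y ≤ G) (h3 : ¬ Y ≤ M) : ¬ pResidualOf p Y ≤ M := fun e => by
  obtain ⟨P, a, b⟩ := exists_isSyl_ge (h.syl.isP.to_le h.AS) h1
  have := h.syl.eq_of_le (isPGroup_sup a.isP (isPGroup_pCoreOf p G) (a.le.trans (h2.trans h.nQ)))
    (h.sp.trans (sup_le_sup_right b _)) (sup_le (a.le.trans h2) h.QG)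
  exact h3 (a.le_of_pResidualOf_le e (le_sup_left.trans (this.le.trans h.hu.le)))
theorem resN (h1 : A ≤ Y) (h2 : Y ≤ G) (h3 : ¬ Y ≤ M) (h4 : G ≤ 𝐍 N) (h5 : pResidualOf p Y ≤ N) :
    pResidualOf p G ≤ N :=
  ((h.hu.le_or_pResidualOf_le h.syl inf_le_left (le_normalizer_inf le_normalizer h4)).resolve_left fun e =>
    h.resM h1 h2 h3 ((le_inf ((pResidualOf_le _ _).trans h2) h5).trans e)).trans inf_le_right
theorem G_eq (h1 : A ≤ Y) (h2 : Y ≤ G) (h3 : ¬ Y ≤ M) : Y ⊔ 𝐎 p G = G :=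
  h.hu.eq_of_not_le (h.sp.trans (sup_le_sup_right h1 _)) (sup_le h2 h.QG) fun e => h3 (le_sup_left.trans e)
theorem exists_x : ∃ x ∈ pResidualOf p G, x ∉ M := SetLike.not_le_iff_exists.1 (h.resM h.AG le_rfl h.hu.lt.not_ge)
theorem exists_a : ∃ a ∈ A, a ∉ 𝐎 p G := SetLike.not_le_iff_exists.1 h.nA
theorem TQ : TT p G ≤ 𝐎 p G := commutator_le_of_le_normalizer (h.EG.trans h.nQ)
theorem TK : TT p G ≤ pResidualOf p G := commutator_le_of_le_normalizer' (h.QG.trans h.nE)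
theorem nT : G ≤ 𝐍 (TT p G) := le_normalizer_commutator h.nQ h.nE
theorem RQ : RR p G A ≤ 𝐎 p G := sup_le h.stQ h.TQ
theorem nAB (hg : g ∈ G) (h1 : g ∉ M) : ¬ A ⊔ cj g A ≤ M := fun e => (h.conj hg).nA fun _ hb =>
  h.ti h.hu hg h1 ((h.conj hg).AS hb) (e (mem_sup_right hb))

theorem T_le (h' : CO p G S' M' B) (h1 : ¬ A ⊔ B ≤ M) : TT p G ≤ ⁅𝐎 p G, pResidualOf p (A ⊔ B)⁆ ∧
    TT p G ≤ st p G A ⊔ st p G B := by
  have l := sup_le h.AG h'.AG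
  have q := commutator_le_of_le_normalizer ((pResidualOf_le p _).trans (l.trans h.nQ))
  have a : TT p G ≤ ⁅𝐎 p G, pResidualOf p (A ⊔ B)⁆ := (le_commStab_iff' q).1 (h.resN le_sup_left l h1
    (le_normalizer_commStab h.nQ ((h.G_eq le_sup_left l h1).ge.trans (sup_le (le_normalizer_commutator (l.trans h.nQ)
      (le_normalizer_pResidualOf _ _)) (le_normalizer_commutator_left _ _)))) ((le_commStab_iff' q).2 le_rfl))
  refine ⟨a, a.trans ?_⟩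
  have c := h.cds.sup h'.cds
  obtain ⟨T, -, ⟨b1, b2, b3⟩, b4⟩ := exists_minimal_le (Q := fun T => CD (𝐎 p G) T ∧ st p G A ⊔ st p G B ≤ T ∧
    ⁅𝐎 p G, pResidualOf p (A ⊔ B)⁆ ≤ T) (𝐎 p G) ⟨h.dn h.cdQ.1 inf_le_left le_rfl, c.1, q⟩
  refine b3.trans (b2.eq_or_lt.resolve_right fun e => ?_).ge
  obtain ⟨T', d1, d2⟩ := b1.cov_dn c e
  refine d2.lt.ne (b4 T' d2.lt.le ⟨d2.lo, d1, ?_⟩)
  rw [← commutator_commutator_pResidualOf (isPGroup_pCoreOf p G) (l.trans h.nQ)]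
  exact (commutator_mono b3 (pResidualOf_le _ _)).trans (commutator_sup_le'
    ((h.push d2).trans (sup_le le_rfl (le_sup_left.trans d1))) ((h'.push d2).trans (sup_le le_rfl
      (le_sup_right.trans d1))) (h.nrm d2.lo (le_sup_left.trans d1)) (h'.nrm d2.lo (le_sup_right.trans d1)))
end CO

end H118
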