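import Cfsg.Agent.H18.PC1
import Cfsg.Agent.H27.KInf
/-! The core case of the Glauberman–Niles theorem: the structure of `R = A*[Q, O^p(G)]`. -/
set_option autoImplicit false
set_option linter.unusedSectionVars false
namespace H118
open Subgroup H26 H4 Cfsg Matrix H18.PU
open scoped commutatorElement MatrixGroups Pointwise

variable {X : Type*} [Group X] [Finite X] {p : ℕ} [hp : Fact p.Prime] {G S S' M M' A B H N T T' R U Y : Subgroup X}
  {T₁ T₂ T₁' T₂' : Subgroup X} {g x a b d r u : X}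

/-- the centre of `R` -/
abbrev Zr (p : ℕ) (G A : Subgroup X) : Subgroup X := ZZ (RR p G A)
/-- the part of `Z(R)` centralizing `O^p(G)` -/
abbrev EE (p : ℕ) (G A : Subgroup X) : Subgroup X := Zr p G A ⊓ 𝐂 (pResidualOf p G)

theorem comm_mul (a x y : X) : ⁅a, x * y⁆ = ⁅a, x⁆ * (x * ⁅a, y⁆ * x⁻¹) := by simp only [commutatorElement_def]; group
theorem mem_c_sup (h1 : x ∈ 𝐂 H) (h2 : x ∈ 𝐂 U) : x ∈ 𝐂 (H ⊔ U) := (centralizer_sup' H U).ge ⟨h1, h2⟩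

namespace CO
variable (h : CO p G S M A)
include h
theorem R_eq (hx : x ∈ pResidualOf p G) (h1 : x ∉ M) : RR p G A = st p G A ⊔ cj x (st p G A) := by
  refine le_antisymm (sup_le le_sup_left ?_) (sup_le le_sup_left fun y hy => ?_)
  · rw [h.cj_st (h.EG hx)]; exact (h.T_le (h.conj (h.EG hx)) (h.nAB (h.EG hx) h1)).2
  · obtain ⟨d, hd, rfl⟩ := mem_cj'.1 hy
    rw [show x * d * x⁻¹ = ⁅x, d⁆ * d by rw [commutatorElement_def]; group]
    exact mul_mem (mem_sup_right (comm_mem_symm.1 (commutator_mem_commutator (h.stQ hd) hx))) (mem_sup_left hd)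
theorem RK_le : ⁅RR p G A, pResidualOf p G⁆ ≤ TT p G := commutator_mono h.RQ le_rfl
theorem nKR : pResidualOf p G ≤ 𝐍 (RR p G A) := le_normalizer_of_commutator_le (h.RK_le.trans le_sup_right)
theorem nKZ : pResidualOf p G ≤ 𝐍 (Zr p G A) := le_normalizer_inf h.nKR (le_normalizer_centralizer h.nKR)
theorem cdR : CD (𝐎 p G) (RR p G A) := by
  obtain ⟨x, hx, h1⟩ := h.exists_x
  rw [h.R_eq hx h1]; exact h.cds.sup (h.cds.conj' (h.nQ (h.EG hx)))
theorem nAR : A ≤ 𝐍 (RR p G A) := h.nrm h.cdR le_sup_left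
theorem nAZ : A ≤ 𝐍 (Zr p G A) := le_normalizer_inf h.nAR (le_normalizer_centralizer h.nAR)
theorem cst : 𝐎 p G ⊓ 𝐂 (st p G A) = st p G A := mx_c h.stm
theorem QcR : 𝐎 p G ⊓ 𝐂 (RR p G A) = Zr p G A := le_antisymm (le_inf ((inf_le_inf_left _ (centralizer_anti
  le_sup_left)).trans (h.cst.le.trans le_sup_left)) inf_le_right) (inf_le_inf_right _ h.RQ)
theorem Zr_eq (hx : x ∈ pResidualOf p G) (h1 : x ∉ M) : Zr p G A = st p G A ⊓ cj x (st p G A) := by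
  rw [← h.QcR, h.R_eq hx h1, centralizer_sup', inf_inf_distrib_left, h.cst,
    mx_c (MaxEA.cj_of_mem_normalizer h.stm (h.nQ (h.EG hx)))]
theorem Zr_st : Zr p G A ≤ st p G A := h.exists_x.elim fun _ k => (h.Zr_eq k.1 k.2).le.trans inf_le_left
theorem cdZr : CD (𝐎 p G) (Zr p G A) := h.QcR ▸ h.cdR.c
theorem ZZr : ZZ (𝐎 p G) ≤ Zr p G A := Z_le h.cdZr
theorem cZr : S ⊓ 𝐂 (Zr p G A) = RR p G A := by rw [(h.up h.cdZr).2, ← h.QcR, h.cdR.cc]
theorem nRZ : RR p G A ≤ 𝐍 (Zr p G A) := le_normalizer_of_le_centralizer (le_centralizer_iff.1 inf_le_right)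
theorem RR_cj (hx : x ∈ pResidualOf p G) : RR p G (cj x A) = RR p G A := by
  rw [← cj_eq_of_mem_normalizer (h.nKR hx), cj_sup x (st p G A), h.cj_st (h.EG hx),
    cj_eq_of_mem_normalizer (h.nT (h.EG hx))]
theorem fix (hd : d ∈ st p G A) (hg : g ∈ G) (h1 : g ∉ M) (h2 : g ∈ 𝐍 (Zr p G A)) (h3 : ⁅g, d⁆ ∈ Zr p G A) :
    d ∈ Zr p G A := by
  obtain ⟨y, hy, h4⟩ := SetLike.not_le_iff_exists.1 (h.resM (Y := G ⊓ commStab {d} (Zr p G A)) (fun a ha => ⟨h.AG ha,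
    h.nAZ ha, fun _ e => e ▸ h.ZZr (comm_mem_symm.1 (h.stA (commutator_mem_commutator hd ha)))⟩) inf_le_left
    fun e => h1 (e ⟨hg, h2, fun _ e => e ▸ h3⟩))
  rw [h.Zr_eq (inv_mem (pResidualOf_mono inf_le_left hy)) fun e => h4 (inv_mem_iff.1 e)]
  refine ⟨hd, mem_cj.2 ?_⟩
  rw [inv_inv, show y * d * y⁻¹ = ⁅y, d⁆ * d by rw [commutatorElement_def]; group]
  exact mul_mem (h.Zr_st ((pResidualOf_le _ _ hy).2.2 d rfl)) hd
theorem fixB (hx : x ∈ pResidualOf p G) (h1 : x ∉ M) (hd : d ∈ cj x (st p G A)) (hu : u ∈ S) (h2 : u ∉ 𝐎 p G)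
    (h3 : u ∈ 𝐍 (Zr p G A)) (h4 : ⁅u, d⁆ ∈ Zr p G A) : d ∈ Zr p G A := by
  obtain ⟨d, hd', rfl⟩ := mem_cj'.1 hd
  have xG := h.EG hx
  have n := h.nKZ hx
  refine conj_mem_of_mem_normalizer n (h.fix (g := x⁻¹ * u * x) hd' (mul_mem (mul_mem (inv_mem xG) (h.syl.le hu)) xG)
    (fun e => h2 ?_) (mul_mem (mul_mem (inv_mem n) h3) n) ?_)
  · simpa [mul_assoc] using conj_mem_of_mem_normalizer (h.nQ xG) (h.ti h.hu (inv_mem xG) (fun e => h1 (inv_mem_iff.1 e))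
      (mem_cj.2 (by simpa [mul_assoc] using hu)) e)
  · convert conj_mem_of_mem_normalizer' n h4 using 1
    simp only [commutatorElement_def]; group
theorem fixR (hr : r ∈ RR p G A) (ha : a ∈ A) (h1 : a ∉ 𝐎 p G) (h2 : ⁅a, r⁆ ∈ Zr p G A) : r ∈ st p G A := by
  obtain ⟨x, hx, h3⟩ := h.exists_x
  obtain ⟨d, hd, e, he, rfl⟩ := h.cds.mem_sup (h.cds.conj' (h.nQ (h.EG hx))) ((h.R_eq hx h3).le hr)
  rw [comm_mul, mul_mem_cancel_left (h.ZZr (comm_mem_symm.1 (h.stA (commutator_mem_commutator hd ha))))] at h2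
  have := conj_mem_of_mem_normalizer' (h.nRZ (mem_sup_left hd)) h2
  exact mul_mem hd (h.Zr_st (h.fixB hx h3 he (h.AS ha) h1 (h.nAZ ha) (by simpa [mul_assoc] using this)))
theorem zA : ZZ S ≤ A := (inf_le_inf_left _ (centralizer_anti h.AS)).trans (mx_c h.hA).le
theorem fixA (hr : r ∈ st p G A) (ha : a ∈ A) (h1 : a ∉ 𝐎 p G) (h2 : ⁅a, r⁆ ∈ 𝐂 (pResidualOf p G)) : r ∈ A := by
  obtain ⟨v, hv, d, hd, rfl⟩ := (mem_sup_of_le_normalizer' (inf_le_right.trans (h.QG.trans h.nZ))).1 hr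
  rw [comm_mul, comm_eq_one (h.AA ha) hd.1, mul_one, mul_inv_cancel, mul_one] at h2
  exact mul_mem (h.zA ((h.nat hv (h.AS ha) h2).resolve_right h1)) hd.1
theorem EA : EE p G A ≤ A := fun e he => by
  obtain ⟨a, ha, h1⟩ := h.exists_a
  exact h.fixA (h.Zr_st he.1) ha h1 (commutator_le_of_le_normalizer' (h.AG.trans (le_normalizer_centralizer h.nE))
    (commutator_mem_commutator ha he.2))
theorem cK (hx : x ∈ G) (h1 : x ∉ M) : 𝐂 (A ⊔ cj x A) ⊓ 𝐂 (TT p G) ≤ 𝐂 (pResidualOf p G) := by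
  have l := sup_le h.AG (h.conj hx).AG
  have l' : pResidualOf p (A ⊔ cj x A) ⊔ TT p G ≤ pResidualOf p G := sup_le (pResidualOf_mono l) h.TK
  refine le_centralizer_iff.1 ((h.resN (N := pResidualOf p (A ⊔ cj x A) ⊔ TT p G) le_sup_left l (h.nAB hx h1)
    ((h.G_eq le_sup_left l (h.nAB hx h1)).ge.trans (sup_le (le_normalizer_sup (le_normalizer_pResidualOf _ _)
    (l.trans h.nT)) (le_normalizer_of_commutator_le ((commutator_comm _ _).le.trans ((commutator_mono le_rfl l').trans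
      le_sup_right))))) le_sup_left).trans (sup_le ((pResidualOf_le _ _).trans (le_centralizer_iff.1 inf_le_left))
        (le_centralizer_iff.1 inf_le_right)))
theorem Zr_le : Zr p G A ≤ ZZ (𝐎 p G) ⊔ EE p G A := fun z hz => by
  obtain ⟨x, hx, h1⟩ := h.exists_x
  have xG := h.EG hx
  have k := h.conj xG
  have n : ∀ Y : Subgroup X, Y ⊓ 𝐎 p G ≤ 𝐍 (ZZ (𝐎 p G)) := fun _ => inf_le_right.trans (h.QG.trans h.nZ)
  obtain ⟨v, hv, d, hd, rfl⟩ := (mem_sup_of_le_normalizer' (n A)).1 (h.Zr_st hz)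
  have dZ := (mul_mem_cancel_left (h.ZZr hv)).1 hz
  obtain ⟨w, hw, e, he, a⟩ := (mem_sup_of_le_normalizer' (n _)).1 ((h.cj_st xG).le ((h.Zr_eq hx h1).le dZ).2)
  obtain ⟨s, hs, t, ht, rfl⟩ := (mem_sup_of_le_normalizer (le_normalizer_of_le_centralizer (h.zZ.trans
    ((elemAb_le_centralizer h.Zp).trans (centralizer_anti (cj_le_of_mem_normalizer h.zZ (h.nZ xG))))))).1
    ((h.Z_sup xG h1).le hw)
  have m := mul_mem (inv_mem (h.ZZr (h.zZ hs))) dZ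
  rw [show v * d = v * s * (s⁻¹ * d) by group]
  refine mul_mem (mem_sup_left (mul_mem hv (h.zZ hs))) (mem_sup_right ⟨m, h.cK xG h1 ⟨mem_c_sup
    (h.AA (mul_mem (inv_mem (h.zA hs)) hd.1)) (k.AA ?_), centralizer_anti le_sup_right m.2⟩⟩)
  rw [← a, mul_assoc, inv_mul_cancel_left]
  exact mul_mem (k.zA (by rwa [cj_inf, cj_centralizer] at ht)) he.1
theorem ito : ⁅A ⊔ RR p G A, A ⊔ RR p G A⁆ ≤ 𝐂 ⁅A ⊔ RR p G A, A ⊔ RR p G A⁆ := by
  obtain ⟨x, hx, h1⟩ := h.exists_x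
  have c := h.cds.conj' (h.nQ (h.EG hx))
  have e : A ⊔ RR p G A = A ⊔ cj x (st p G A) := by
    rw [h.R_eq hx h1]
    exact le_antisymm (sup_le le_sup_left (sup_le (sup_le (le_sup_of_le_right (Z_le c)) (le_sup_of_le_left inf_le_left))
      le_sup_right)) (sup_le_sup_left le_sup_right _)
  rw [e]
  exact comm_le_centralizer (ito_comm (MaxEA.comm h.hA) (MaxEA.comm (MaxEA.cj h.stm x)) (h.cdA.lat (h.up c).1).2.2.2)
theorem XX : ⁅RR p G A, A⁆ ≤ 𝐂 ⁅RR p G A, A⁆ := (commutator_mono le_sup_right le_sup_left).trans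
  (h.ito.trans (centralizer_anti (commutator_mono le_sup_right le_sup_left)))
theorem TH (hx : x ∈ G) (h1 : x ∉ M) : TT p G ≤ ⁅RR p G A, A ⊔ cj x A⁆ := by
  have l := sup_le h.AG (h.conj hx).AG
  refine (h.T_le (h.conj hx) (h.nAB hx h1)).1.trans ?_
  rw [← commutator_commutator_pResidualOf (isPGroup_pCoreOf p G) (l.trans h.nQ)]
  exact commutator_mono (le_sup_of_le_right (commutator_mono le_rfl (pResidualOf_mono l))) (pResidualOf_le _ _)
theorem cT : RR p G A ⊓ 𝐂 (TT p G) = Zr p G A := by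
  refine le_antisymm (by_contra fun c => ?_) (inf_le_inf_left _ (centralizer_anti le_sup_right))
  obtain ⟨y, hy, h1, h2⟩ := H27.exists_mem_not_mem_commutator_le ((isPGroup_pCoreOf p G).to_le (inf_le_left.trans h.RQ))
    (h.syl.isP.to_le h.AS) (le_normalizer_inf h.nAR (le_normalizer_centralizer (h.AG.trans h.nT))) c
  obtain ⟨a, ha, h3⟩ := h.exists_a
  have := h.fixR hy.1 ha h3 (comm_mem_symm.1 (h2 (commutator_mem_commutator (mem_zpowers y) ha)))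
  exact h1 ⟨hy.1, mem_c_sup (h.cst.ge this).2 hy.2⟩
theorem RZr : ⁅RR p G A, RR p G A⁆ ≤ Zr p G A := by
  obtain ⟨x, hx, h1⟩ := h.exists_x
  have k : ∀ {S M B}, CO p G S M B → ⁅RR p G B, B⁆ ≤ 𝐂 ⁅RR p G B, RR p G B⁆ ∧ B ≤ 𝐍 (𝐂 ⁅RR p G B, RR p G B⁆) :=
    fun k => ⟨(commutator_mono le_sup_right le_sup_left).trans (k.ito.trans (centralizer_anti
      (commutator_mono le_sup_right le_sup_right))), le_normalizer_centralizer (le_normalizer_commutator k.nAR k.nAR)⟩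
  have a := k (h.conj (h.EG hx))
  rw [h.RR_cj hx] at a
  exact (le_inf (commutator_le_of_le_normalizer le_normalizer) (le_centralizer_iff.1 ((h.TH (h.EG hx) h1).trans
    (commutator_sup_le' (k h).1 a.1 (k h).2 a.2)))).trans h.cT.le
theorem nR (h1 : Zr p G A ≤ T) (h2 : T ≤ RR p G A) : RR p G A ≤ 𝐍 T :=
  le_normalizer_of_commutator_le' (h.RZr.trans h1) h2
theorem cnt (h1 : Zr p G A ≤ T) (h2 : T ≤ RR p G A) : Nat.card T * Nat.card (Zr p G A) ≤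
    Nat.card ↥(st p G A ⊓ T) * Nat.card ↥(⁅T, A⁆ ⊔ Zr p G A) := by
  obtain ⟨a, ha, h3⟩ := h.exists_a
  rw [← card_mul_relIndex (st p G A) T, ← card_mul_relIndex_of_le (le_sup_right : _ ≤ ⁅T, A⁆ ⊔ Zr p G A), mul_assoc,
    mul_comm _ (Nat.card (Zr p G A))]
  refine Nat.mul_le_mul_left _ (Nat.mul_le_mul_left _ (relIndex_le_of_fun (fun t => ⁅a, t⁆) (fun t ht => mem_sup_left
    (comm_mem_symm.1 (commutator_mem_commutator ht ha))) fun x hx y hy e => h.fixR (h2 (mul_mem (inv_mem hx) hy)) ha h3 ?_))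
  convert conj_mem_of_mem_normalizer' (h.nRZ (h2 hx)) e using 1
  simp only [commutatorElement_def]; group
theorem qq (h1 : Zr p G A ≤ T) (h2 : T ≤ RR p G A) (h3 : A ≤ 𝐍 T) (h4 : ⁅T', A⁆ ≤ T ⊔ st p G A) : ⁅⁅T', A⁆, A⁆ ≤ T :=
  (commutator_mono h4 le_rfl).trans (commutator_sup_le (commutator_le_of_le_normalizer h3) (h.stA.trans (h.ZZr.trans h1))
    le_normalizer (le_sup_left.trans (h.nR h1 h2)))
theorem pushN (k : Cov (𝐎 p G) T T') (h1 : Zr p G A ≤ T) (h2 : T' ≤ RR p G A) (h3 : H ≤ G) (h4 : H ≤ 𝐍 T)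
    (h5 : H ≤ 𝐍 (RR p G A)) : ⁅ncl T' H, A⁆ ≤ T ⊔ st p G A := by
  have n := h.nR (le_sup_of_le_left h1) (sup_le (k.lt.le.trans h2) le_sup_left)
  exact ((le_cmod n).1 (ncl_le_iff.2 fun g hg => (le_cmod n).2 ⟨cj_le_of_mem_normalizer h2 (h5 hg),
    h.push (k.conj (h.nQ (h3 hg)) (h4 hg))⟩)).2
end CO

/-- two large abelian subgroups in general position -/
structure PR (p : ℕ) (G S M A S' M' B : Subgroup X) : Prop where
  l : CO p G S M A
  r : CO p G S' M' B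
  e : RR p G B = RR p G A
  i : st p G A ⊓ st p G B ≤ Zr p G A
  t : TT p G ≤ ⁅RR p G A, A ⊔ B⁆
  c : 𝐂 (A ⊔ B) ⊓ 𝐂 (TT p G) ≤ 𝐂 (pResidualOf p G)

theorem CO.pr (h : CO p G S M A) (hx : x ∈ pResidualOf p G) (h1 : x ∉ M) :
    PR p G S M A (cj x S) (cj x M) (cj x A) :=
  ⟨h, h.conj (h.EG hx), h.RR_cj hx, by rw [h.Zr_eq hx h1, h.cj_st (h.EG hx)], h.TH (h.EG hx) h1, h.cK (h.EG hx) h1⟩

/-- invariant members of the interval `[Z(R), R]` -/
structure IV (p : ℕ) (G A B T : Subgroup X) : Prop where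
  cd : CD (𝐎 p G) T
  lo : Zr p G A ≤ T
  hi : T ≤ RR p G A
  nm : A ⊔ B ≤ 𝐍 T

namespace PR
variable (h : PR p G S M A S' M' B)
include h
theorem symm : PR p G S' M' B S M A :=
  ⟨h.r, h.l, h.e.symm, by rw [inf_comm, Zr, h.e]; exact h.i, by rw [h.e, sup_comm B]; exact h.t, by rw [sup_comm]; exact h.c⟩
theorem nBR : B ≤ 𝐍 (RR p G A) := h.e ▸ h.r.nAR
theorem le_comm (k : IV p G A B T) : T ≤ (⁅T, A⁆ ⊔ Zr p G A) ⊔ (⁅T, B⁆ ⊔ Zr p G A) := by
  have a := h.l.cnt k.lo k.hi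
  have b := h.r.cnt (T := T) (by rw [Zr, h.e]; exact k.lo) (h.e ▸ k.hi)
  rw [show Zr p G B = Zr p G A by rw [Zr, h.e]] at b
  have c := (card_mul_card_le (st p G A ⊓ T) (st p G B ⊓ T)).trans (Nat.mul_le_mul (card_le_of_le (sup_le inf_le_right
    inf_le_right)) (card_le_of_le ((inf_le_inf inf_le_left inf_le_left).trans h.i)))
  have q : ∀ {S M A S' M' B}, PR p G S M A S' M' B → ⁅RR p G A, A⁆ ⊔ Zr p G A ≤ RR p G A ⊓ 𝐂 ⁅RR p G A, A⁆ :=
    fun h => sup_le (le_inf (commutator_le_of_le_normalizer h.l.nAR) h.l.XX) (inf_le_inf_left _ (centralizer_anti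
      (commutator_le_of_le_normalizer h.l.nAR)))
  have q' := q h.symm
  rw [Zr, h.e] at q'
  have l : (⁅T, A⁆ ⊔ Zr p G A) ⊓ (⁅T, B⁆ ⊔ Zr p G A) ≤ Zr p G A := by
    refine (inf_le_inf ((sup_le_sup_right (commutator_mono k.hi le_rfl) _).trans (q h))
      ((sup_le_sup_right (commutator_mono k.hi le_rfl) _).trans q')).trans (le_trans ?_ h.l.cT.le)
    rw [← inf_inf_distrib_left, ← centralizer_sup']
    have n := sup_le (commutator_le_of_le_normalizer h.l.nAR) (commutator_le_of_le_normalizer h.nBR)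
    exact inf_le_inf_left _ (centralizer_anti (h.t.trans (commutator_sup_le' le_sup_left le_sup_right
      (le_normalizer_of_commutator_le' le_sup_left n) (le_normalizer_of_commutator_le' le_sup_right n))))
  have d := (card_mul_card_le (⁅T, A⁆ ⊔ Zr p G A) (⁅T, B⁆ ⊔ Zr p G A)).trans (Nat.mul_le_mul_left _ (card_le_of_le l))
  have m := le_sup_left.trans k.nm
  have m' := le_sup_right.trans k.nm
  refine (eq_of_le_of_card_ge (sup_le (sup_le (commutator_le_of_le_normalizer m) k.lo) (sup_le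
    (commutator_le_of_le_normalizer m') k.lo)) ?_).ge
  have z := card_pos' (Zr p G A)
  refine Nat.le_of_mul_le_mul_right (Nat.le_of_mul_le_mul_left ((Nat.mul_le_mul a b).trans ?_)
    (Nat.mul_pos (card_pos' T) z)) z
  rw [mul_mul_mul_comm]; exact Nat.mul_le_mul c d
theorem zr : Zr p G B = Zr p G A := by rw [Zr, h.e]
theorem ee : EE p G B = EE p G A := by rw [EE, h.zr]
theorem iv (k : IV p G A B T) : IV p G B A T := ⟨k.cd, h.zr ▸ k.lo, h.e ▸ k.hi, sup_comm A B ▸ k.nm⟩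
theorem ivR : IV p G A B (RR p G A) := ⟨h.l.cdR, inf_le_left, le_rfl, sup_le h.l.nAR h.nBR⟩
theorem ivZ : IV p G A B (Zr p G A) := ⟨h.l.cdZr, le_rfl, inf_le_left, sup_le h.l.nAZ (h.zr ▸ h.r.nAZ)⟩
theorem next (k : IV p G A B T) (h1 : T ≠ RR p G A) : ∃ T', IV p G A B T' ∧ T < T' ∧ ⁅⁅T', A⁆, A⁆ ≤ T ∧ ⁅⁅T', B⁆, B⁆ ≤ T := by
  obtain ⟨T', a, b⟩ := k.cd.cov_up h.l.cdR (k.hi.lt_of_ne h1)
  have l := sup_le h.l.AG h.r.AG
  have k' := h.iv k
  exact ⟨ncl T' (A ⊔ B), ⟨cd_ncl fun g hg => b.hi.conj' (h.l.nQ (l hg)), k.lo.trans (b.lt.le.trans (le_ncl _ _)),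
    ncl_le a h.ivR.nm, le_normalizer_ncl _ _⟩, b.lt.trans_le (le_ncl _ _),
    h.l.qq k.lo k.hi (le_sup_left.trans k.nm) (h.l.pushN b k.lo a l k.nm h.ivR.nm),
    h.r.qq k'.lo k'.hi (le_sup_left.trans k'.nm) (h.r.pushN b k'.lo (h.e ▸ a) l k.nm (h.e ▸ h.ivR.nm))⟩
theorem nRE : RR p G A ≤ 𝐍 (EE p G A) :=
  le_normalizer_of_le_centralizer (le_centralizer_iff.1 (inf_le_left.trans inf_le_right))
theorem half (h1 : U ≤ ⁅RR p G A, A⁆) (h2 : Y ≤ RR p G A) (h3 : ⁅⁅U, A⁆, Y⁆ ≤ EE p G A) : ⁅U, Y⁆ ≤ 𝐂 A := by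
  have uR := h1.trans (commutator_le_of_le_normalizer h.l.nAR)
  have a : ⁅⁅U, Y⁆, A⁆ ≤ EE p G A := three_subgroups (uR.trans h.nRE) (h2.trans h.nRE)
    (le_normalizer_of_le_centralizer (le_centralizer_iff.1 (h.l.EA.trans h.l.AA)))
    ((commutator_eq_bot_iff'.2 (h1.trans (h.l.XX.trans (centralizer_anti (commutator_mono h2 le_rfl))))).trans_le bot_le)
    (by rwa [commutator_comm A])
  obtain ⟨x, hx, h4⟩ := h.l.exists_a
  exact fun c hc => h.l.AA (h.l.fixA (h.l.Zr_st (h.l.RZr (commutator_mono uR h2 hc))) hx h4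
    (comm_mem_symm.1 (a (commutator_mem_commutator hc hx))).2)
theorem step (k1 : IV p G A B T₁') (k2 : IV p G A B T₂') (h1 : ⁅⁅T₁', A⁆, A⁆ ≤ T₁) (h2 : ⁅⁅T₂', B⁆, B⁆ ≤ T₂)
    (h3 : ⁅T₁, T₂'⁆ ≤ EE p G A) (h4 : ⁅T₁', T₂⁆ ≤ EE p G A) : ⁅⁅T₁', A⁆, ⁅T₂', B⁆⁆ ≤ EE p G A := by
  have a := commutator_le_of_le_normalizer (le_sup_left.trans k1.nm)
  have b := commutator_le_of_le_normalizer (le_sup_right.trans k2.nm)
  have z := (commutator_mono (a.trans k1.hi) (b.trans k2.hi)).trans h.l.RZr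
  have c := h.symm.half (U := ⁅T₂', B⁆) (Y := ⁅T₁', A⁆) (commutator_mono (h.iv k2).hi le_rfl) (a.trans (h.iv k1).hi)
    (by rw [h.ee, commutator_comm]; exact (commutator_mono a h2).trans h4)
  rw [commutator_comm] at c
  exact le_inf z ((le_inf (le_centralizer_sup (h.half (commutator_mono k1.hi le_rfl) (b.trans k2.hi)
    ((commutator_mono h1 b).trans h3)) c) (z.trans (inf_le_right.trans (centralizer_anti le_sup_right)))).trans h.c)
theorem kap : ⁅RR p G A, RR p G A⁆ ≤ EE p G A := by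
  have z : ∀ T ≤ RR p G A, ⁅T, Zr p G A⁆ ≤ EE p G A := fun T k => (commutator_eq_bot_iff'.2 (inf_le_right.trans
    (centralizer_anti k))).trans_le bot_le
  obtain ⟨T₁, -, -, ⟨a1, a2⟩, a3⟩ := exists_maximal_ge (Q := fun T => IV p G A B T ∧ ⁅T, RR p G A⁆ ≤ EE p G A)
    h.ivZ.hi ⟨h.ivZ, (commutator_comm _ _).le.trans (z _ le_rfl)⟩
  by_contra c
  obtain ⟨T₁', b1, b2, b3, b4⟩ := h.next a1 fun e => c (e ▸ a2)
  obtain ⟨T₂, -, -, ⟨c1, c2⟩, c3⟩ := exists_maximal_ge (Q := fun T => IV p G A B T ∧ ⁅T₁', T⁆ ≤ EE p G A)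
    h.ivZ.hi ⟨h.ivZ, z _ b1.hi⟩
  obtain ⟨T₂', d1, d2, d3, d4⟩ := h.next c1 fun e => b2.ne' (a3 _ b2.le b1.hi ⟨b1, e ▸ c2⟩)
  refine d2.ne' (c3 _ d2.le d1.hi ⟨d1, ?_⟩)
  have e := (commutator_mono le_rfl d1.hi).trans a2
  have n : ∀ {T}, IV p G A B T → ⁅T, A⁆ ≤ RR p G A ∧ ⁅T, B⁆ ≤ RR p G A := fun k =>
    ⟨(commutator_le_of_le_normalizer (le_sup_left.trans k.nm)).trans k.hi,
      (commutator_le_of_le_normalizer (le_sup_right.trans k.nm)).trans k.hi⟩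
  have f : ∀ {U U₁ U₂ : Subgroup X}, U ≤ RR p G A → U₁ ≤ RR p G A → U₂ ≤ RR p G A → ⁅U, U₁⁆ ≤ EE p G A →
      ⁅U, U₂⁆ ≤ EE p G A → ⁅U, (U₁ ⊔ Zr p G A) ⊔ (U₂ ⊔ Zr p G A)⁆ ≤ EE p G A := fun k k1 k2 k3 k4 =>
    have m := (inf_le_left : Zr p G A ≤ _).trans h.nRE
    commutator_sup_le' (commutator_sup_le' k3 (z _ k) (k1.trans h.nRE) m) (commutator_sup_le' k4 (z _ k)
      (k2.trans h.nRE) m) (sup_le (k1.trans h.nRE) m) (sup_le (k2.trans h.nRE) m)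
  have s := h.symm.step (h.iv b1) (h.iv d1) b4 d3 (h.ee ▸ e) (h.ee ▸ c2)
  have x := h.r.XX
  rw [h.ee] at s
  rw [h.e] at x
  refine (commutator_mono (h.le_comm b1) le_rfl).trans ((commutator_comm _ _).le.trans (f d1.hi (n b1).1 (n b1).2
    ((commutator_comm _ _).le.trans ((commutator_mono le_rfl (h.le_comm d1)).trans (f (n b1).1 (n d1).1 (n d1).2 ?_
      (h.step b1 d1 b3 d4 e c2)))) ((commutator_comm _ _).le.trans ((commutator_mono le_rfl (h.le_comm d1)).trans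
        (f (n b1).2 (n d1).1 (n d1).2 s ?_)))))
  · exact (commutator_eq_bot_iff'.2 ((commutator_mono d1.hi le_rfl).trans (h.l.XX.trans (centralizer_anti
      (commutator_mono b1.hi le_rfl))))).trans_le bot_le
  · exact (commutator_eq_bot_iff'.2 ((commutator_mono d1.hi le_rfl).trans (x.trans (centralizer_anti
      (commutator_mono b1.hi le_rfl))))).trans_le bot_le
end PR

namespace CO
variable (h : CO p G S M A)
include h
theorem kap : ⁅RR p G A, RR p G A⁆ ≤ EE p G A := h.exists_x.elim fun _ k => (h.pr k.1 k.2).kap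
theorem quad : ⁅RR p G A, A⁆ ≤ st p G A := by
  have l := (commutator_le_of_le_normalizer h.nAR).trans h.RQ
  refine (le_inf l (le_centralizer_sup (l.trans h.QZ) (three_subgroups_centralizer ((commutator_eq_bot_iff'.2
    (inf_le_left.trans h.AA)).trans_le bot_le) ((commutator_mono (le_sup_of_le_left le_sup_right) le_rfl).trans
      (h.kap.trans (h.EA.trans h.AA)))))).trans h.cst.le
theorem RA_le : ⁅RR p G A, A⁆ ≤ TT p G ⊔ Zr p G A := by
  have n := h.nR le_sup_right (sup_le le_sup_right inf_le_left : TT p G ⊔ Zr p G A ≤ _)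
  exact commutator_sup_le (le_sup_of_le_right (h.stA.trans h.ZZr)) (le_sup_of_le_left (commutator_le_of_le_normalizer
    (h.AG.trans h.nT))) (le_sup_left.trans n) (le_sup_right.trans n)
theorem R_le : RR p G A ≤ TT p G ⊔ Zr p G A := by
  obtain ⟨x, hx, h1⟩ := h.exists_x
  have k := h.pr hx h1
  have a := k.r.RA_le
  rw [k.zr, k.e] at a
  exact (k.le_comm k.ivR).trans (sup_le (sup_le h.RA_le le_sup_right) (sup_le a le_sup_right))
theorem fixD (hr : r ∈ RR p G A) (ha : a ∈ A) (h1 : a ∉ 𝐎 p G) (h2 : ⁅a, r⁆ ∈ 𝐂 (pResidualOf p G)) : r ∈ A :=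
  h.fixA (h.fixR hr ha h1 (h.cT.le ⟨commutator_le_of_le_normalizer' h.nAR (commutator_mem_commutator ha hr),
    centralizer_anti h.TK h2⟩)) ha h1 h2
end CO

end H118
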