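import Cfsg.Agent.H18.PC2
/-! The core case of the Glauberman–Niles theorem: two groups on the same Sylow subgroup (`CO.two`). -/
set_option autoImplicit false
set_option linter.unusedSectionVars false
namespace H118
open Subgroup H26 H4 Cfsg Matrix H18.PU
open scoped commutatorElement MatrixGroups Pointwise

variable {X : Type*} [Group X] [Finite X] {p : ℕ} [hp : Fact p.Prime] {G G' S M M' A A' B F N R U Y : Subgroup X}
  {g x a b d r u : X}

theorem pow_sup (h1 : ⁅R, R⁆ ≤ N) (h2 : R ≤ 𝐍 N) (h3 : U ≤ R) (h4 : Y ≤ R) (h5 : ∀ x ∈ U, x ^ p ∈ N)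
    (h6 : ∀ x ∈ Y, x ^ p ∈ N) : ∀ x ∈ U ⊔ Y, x ^ p ∈ N := by
  obtain ⟨W, _, _, π, s⟩ := exists_sec_action (E := ⊥) h1 h2 bot_le bot_le
  let T : Subgroup X := {
    carrier := {v | v ∈ R ∧ v ^ p ∈ N}
    one_mem' := ⟨one_mem _, by simp⟩
    mul_mem' := fun {a b} ha hb => ⟨mul_mem ha.1 hb.1, by
      have := (s.ker _ (Subgroup.pow_mem _ ha.1 p)).2 ha.2
      have := (s.ker _ (Subgroup.pow_mem _ hb.1 p)).2 hb.2
      rw [← s.ker _ (Subgroup.pow_mem _ (mul_mem ha.1 hb.1) p), s.pow (mul_mem ha.1 hb.1), s.mul _ ha.1 _ hb.1, smul_add,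
        ← s.pow ha.1, ← s.pow hb.1]
      simp [*]⟩
    inv_mem' := fun {a} ha => ⟨inv_mem ha.1, by rw [inv_pow]; exact inv_mem ha.2⟩ }
  exact fun x hx => ((sup_le (fun y hy => ⟨h3 hy, h5 y hy⟩) fun y hy => ⟨h4 hy, h6 y hy⟩ : U ⊔ Y ≤ T) hx).2

namespace CO
variable (h : CO p G S M A)
include h
theorem nC : G ≤ 𝐍 (𝐂 (pResidualOf p G)) := le_normalizer_centralizer h.nE
theorem stab (h1 : U ≤ 𝐎 p G) (h2 : ⁅U, pResidualOf p G⁆ ≤ 𝐂 (pResidualOf p G)) : U ≤ 𝐂 (pResidualOf p G) :=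
  le_centralizer_iff.1 (le_centralizer_of_stab (pResidualOf_pResidualOf _ _) ((isPGroup_pCoreOf p G).to_le
    ((commutator_mono h1 le_rfl).trans h.TQ)) le_rfl (le_centralizer_iff.1 h2))
theorem good1 (h1 : ⁅TT p G, 𝐎 p G⁆ ≤ 𝐂 (pResidualOf p G)) (h2 : ∀ t ∈ TT p G, t ^ p ∈ 𝐂 (pResidualOf p G)) :
    phi p (𝐎 p G) ≤ 𝐂 (pResidualOf p G) := by
  have n := h.QG.trans h.nC
  have a := h.stab (commutator_le_self _) (three_subgroups n n (h.EG.trans h.nC) h1 (by rwa [commutator_comm (pResidualOf p G)]))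
  obtain ⟨W, _, _, π, s⟩ := exists_sec_action a n h.nQ h.nC
  refine phi_le_iff.2 ⟨a, fun u hu => zpowers_le.1 (h.stab (zpowers_le.2 (Subgroup.pow_mem _ hu p))
    (commutator_zpowers_le (fun k hk => comm_mem_symm.1 ?_) (n (Subgroup.pow_mem _ hu p))))⟩
  have m := comm_mem_symm.1 (commutator_mem_commutator hu hk)
  have := (s.ker _ (Subgroup.pow_mem _ (h.TQ m) p)).2 (h2 _ m)
  rw [s.pow (h.TQ m), s.comm h.nQ ⟨k, h.EG hk⟩ hu] at this
  rw [← s.ker _ (h.TQ (comm_mem_symm.1 (commutator_mem_commutator (Subgroup.pow_mem _ hu p) hk))),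
    s.comm h.nQ ⟨k, h.EG hk⟩ (Subgroup.pow_mem _ hu p), s.pow hu, smul_comm, ← smul_sub, this]
theorem good2 (h1 : F ≤ S) (h2 : ¬ F ≤ 𝐎 p G) (h3 : ⁅TT p G, F⁆ ≤ ZZ (𝐎 p G)) : phi p (𝐎 p G) ≤ 𝐂 (pResidualOf p G) := by
  have a : TT p G ≤ ZZ (𝐎 p G) := by
    rw [TT, ← commutator_commutator_pResidualOf (isPGroup_pCoreOf p G) h.nQ]
    exact ((le_commStab_iff' inf_le_left).1 (h.res_le (le_normalizer_commStab h.nT (le_normalizer_inf h.nT h.nZ))
      fun e => h2 ((le_inf h1 ((le_commStab_iff' inf_le_left).2 (le_inf (commutator_le_of_le_normalizer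
        (h1.trans (h.syl.le.trans h.nT))) h3))).trans e))).trans inf_le_right
  exact h.good1 ((commutator_eq_bot_iff'.2 (h.QZ.trans (centralizer_anti a))).trans_le bot_le) fun t ht =>
    (isElementaryAbelian_iff.1 h.Zp).2 t (a ht) ▸ one_mem _
theorem ZrK : ⁅Zr p G A, pResidualOf p G⁆ ≤ ZZ (𝐎 p G) := commutator_le_of_le_sup_centralizer' h.Zr_le inf_le_right
  ((inf_le_left.trans (inf_le_left.trans h.RQ)).trans (h.QG.trans h.nZ)) (h.EG.trans h.nZ)
theorem stS (hx : x ∈ G) : cj x (st p G A) ∈ MaxEA 0 S :=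
  MaxEA.of_exists (h.rep h.hA) h.stQ h.QS (MaxEA.cj_of_mem_normalizer h.stm (h.nQ hx))

variable (h' : CO p G' S M' A') (nb : ¬ phi p (𝐎 p G) ≤ 𝐂 (pResidualOf p G))
include h' nb
theorem ZQ : ZZ (𝐎 p G') ≤ 𝐎 p G := by_contra fun c => nb (h.good2 h'.ZS c ((commutator_comm _ _).le.trans
  ((commutator_mono le_rfl (h.TQ.trans h.QS)).trans (h'.ZS_le.trans h.zZ))))

theorem main (nb' : ¬ phi p (𝐎 p G') ≤ 𝐂 (pResidualOf p G')) (hR : ZZ (𝐎 p G') ≤ RR p G A) :
    ZZ (𝐎 p G') ≤ Zr p G A := by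
  obtain ⟨x, hx, x1⟩ := h.exists_x
  obtain ⟨a, ha, a1⟩ := h.exists_a
  have xG := h.EG hx
  have e := h.Zr_eq hx x1
  have hB := h.stS xG
  have bR : cj x (st p G A) ≤ RR p G A := h.R_eq hx x1 ▸ le_sup_right
  have z1 : ZZ (𝐎 p G') ≤ st p G A := fun v hv => h.fixR (hR hv) ha a1 (h.ZZr (h.zZ (comm_mem_symm.1 (h'.ZS_le
    (commutator_mem_commutator hv (h.AS ha))))))
  by_contra c
  have k := h'.re hB fun q => c (e ▸ le_inf z1 ((le_inf h'.ZS (inf_le_right.trans (centralizer_anti q))).trans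
    (mx_c hB).le))
  have zq : Zr p G A ≤ cj x (st p G A) ⊓ 𝐎 p G' := le_inf (e.le.trans inf_le_right) ((le_inf (inf_le_left.trans
    (h.RQ.trans h.QS)) (inf_le_right.trans (centralizer_anti hR))).trans h'.cZ.le)
  have om : ⁅ZZ (𝐎 p G'), S⁆ ≤ 𝐂 G := (le_inf ((commutator_le_of_le_sup_centralizer (k.AG.trans k.nZ) (k.sp.trans
    (sup_le_sup_left k.QZ _))).trans ((commutator_mono hR bR).trans (h.kap.trans inf_le_right)))
    (h'.ZS_le.trans inf_le_right)).trans h.cG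
  have om' : ⁅cj x (ZZ (𝐎 p G')), 𝐎 p G⁆ = ⁅ZZ (𝐎 p G'), 𝐎 p G⁆ := by
    conv_lhs => rw [← cj_eq_of_mem_normalizer (h.nQ xG), ← cj_commutator]
    exact cj_eq_of_mem_centralizer (le_centralizer_iff.1 ((commutator_mono le_rfl h.QS).trans om) xG)
  have bq : cj x (st p G A) ⊓ 𝐎 p G' ≤ RR p G' (cj x (st p G A)) := le_sup_of_le_left le_sup_right
  by_cases t : TT p G' ≤ 𝐎 p G
  · have f := cj_mono x z1
    by_cases q : cj x (ZZ (𝐎 p G')) ≤ 𝐎 p G'
    · have kv : ∀ U ≤ 𝐎 p G, ⁅U, cj x (ZZ (𝐎 p G'))⁆ ≤ 𝐂 (pResidualOf p G') → cj x (ZZ (𝐎 p G')) ≤ 𝐂 U := by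
        intro U l1 l2 v hv' u hu'
        have m := l2 (commutator_mem_commutator hu' hv')
        obtain ⟨v, hv, rfl⟩ := mem_cj'.1 hv'
        obtain ⟨u, hu, rfl⟩ := mem_cj'.1 ((cj_eq_of_mem_normalizer (h.nQ xG)).ge (l1 hu'))
        have o := om (commutator_mem_commutator hv (h.QS hu))
        have o' : x * ⁅u, v⁆ * x⁻¹ = ⁅u, v⁆ := by rw [comm_mem_symm.1 o x xG, mul_inv_cancel_right]
        rw [← conjugate_commutatorElement, o'] at m
        rw [← commutatorElement_eq_one_iff_mul_comm, ← conjugate_commutatorElement, o']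
        exact commutatorElement_eq_one_iff_mul_comm.2 ((h'.nat hv (h.QS hu) m).elim (fun l => l.2 u (h.QS hu))
          fun l => hv.2 u l)
      have f1 := (le_inf f q).trans bq
      have f2 := (le_inf f1 (kv _ t ((commutator_mono le_sup_right f1).trans (k.kap.trans inf_le_right)))).trans
        (k.cT.le.trans k.Zr_le)
      have f3 := kv (𝐎 p G ⊓ 𝐎 p G') inf_le_left ((commutator_mono inf_le_right f2).trans (commutator_sup_le'
        ((commutator_eq_bot_iff'.2 inf_le_right).trans_le bot_le) ((commutator_mono le_rfl inf_le_right).trans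
          (commutator_le_of_le_normalizer' (k.QG.trans k.nC))) (inf_le_left.trans (k.QG.trans k.nC))
          (inf_le_right.trans le_normalizer)))
      have f4 := le_inf (q.trans k.QS) f3
      rw [h.cdQ.1.c_inf k.cdQ.1, h.cdQ.2, k.cdQ.2] at f4
      exact c ((cj_le_iff.1 (e ▸ le_inf (f4.trans (sup_le le_sup_left z1)) f)).trans
        (cj_eq_of_mem_normalizer (h.nKZ (inv_mem hx))).le)
    · exact nb' (k.good2 (f.trans k.AS) q ((commutator_mono t le_rfl).trans ((commutator_comm _ _).le.trans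
        (om'.le.trans ((commutator_mono le_rfl h.QS).trans (k.ZS_le.trans k.zZ))))))
  obtain ⟨u, hu, u1⟩ := SetLike.not_le_iff_exists.1 t
  have k2 := h'.re (MaxEA.cj_of_mem_normalizer hB (le_normalizer (h.AS ha))) fun q => k.nA ((cj_le_iff.1 q).trans
    (cj_eq_of_mem_normalizer (k.nQ (inv_mem (k.syl.le (h.AS ha))))).le)
  have tt : ⁅TT p G', TT p G'⁆ ≤ Zr p G A := fun d hd => by
    have d1 := k.EA (k.kap (commutator_mono le_sup_right le_sup_right hd))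
    obtain ⟨d, d2, rfl⟩ := mem_cj'.1 (k2.EA (k2.kap (commutator_mono le_sup_right le_sup_right hd)))
    exact conj_mem_of_mem_normalizer (h.nAZ ha) (h.fixB hx x1 d2 (h.AS ha) a1 (h.nAZ ha) (e ▸ ⟨comm_mem_symm.1 (h.quad
      (commutator_mem_commutator (bR d2) ha)), Subgroup.mul_mem _ d1 (Subgroup.inv_mem _ d2)⟩))
  have tb : ⁅TT p G', cj x (st p G A) ⊓ 𝐎 p G'⁆ ≤ Zr p G A := (commutator_le_of_le_sup_centralizer le_normalizer
    (bq.trans (k.R_le.trans (sup_le_sup_left (inf_le_right.trans (centralizer_anti le_sup_right)) _)))).trans tt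
  have e1 : cj x (st p G A) ⊓ 𝐎 p G' = Zr p G A := le_antisymm (fun d hd => h.fixB hx x1 hd.1 (k.QS (k.TQ hu)) u1
    (le_normalizer_of_commutator_le ((commutator_comm _ _).le.trans ((commutator_mono le_rfl zq).trans tb)) hu)
    (tb (commutator_mem_commutator hu hd))) zq
  have e2 := k.cdA.c_inf k.cdQ.1
  rw [e1, h.cZr, mx_c hB, k.cdQ.2, sup_comm] at e2
  have e3 : st p G A ≤ ZZ (𝐎 p G') ⊔ Zr p G A := by
    rw [e, inf_comm, ← k.cdZ.ded k.cdA z1, ← e2]; exact le_inf le_sup_left le_rfl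
  have e4 := cj_mono x e3
  rw [cj_sup x (ZZ (𝐎 p G')), cj_eq_of_mem_normalizer (h.nKZ hx)] at e4
  have e5 : TT p G ≤ (ZZ (𝐎 p G') ⊔ cj x (ZZ (𝐎 p G'))) ⊔ (ZZ (𝐎 p G) ⊔ EE p G A) := le_sup_right.trans (e2.le.trans
    (sup_le (le_sup_of_le_left le_sup_left) (e4.trans (sup_le_sup le_sup_right h.Zr_le))))
  have r1 := (cj_mono x z1).trans bR
  have r2 : ZZ (𝐎 p G) ≤ RR p G A := h.ZZr.trans inf_le_left
  have r3 : EE p G A ≤ RR p G A := inf_le_left.trans inf_le_left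
  have n := h.RQ.trans (h.QG.trans h.nC)
  have o := ((commutator_mono le_rfl h.QS).trans om).trans (centralizer_anti h.EG)
  have w : ∀ {U}, IsElementaryAbelian p U → ∀ x ∈ U, x ^ p ∈ 𝐂 (pResidualOf p G) := fun k x hx =>
    (isElementaryAbelian_iff.1 k).2 x hx ▸ one_mem _
  have v := h.kap.trans inf_le_right
  exact nb (h.good1 ((commutator_mono e5 le_rfl).trans (commutator_sup_le (commutator_sup_le o (om'.le.trans o)
    (hR.trans n) (r1.trans n)) (commutator_sup_le ((commutator_eq_bot_iff'.2 h.QZ).trans_le bot_le) ((commutator_mono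
      inf_le_right le_rfl).trans (commutator_le_of_le_normalizer (h.QG.trans h.nC))) (r2.trans n) (r3.trans n))
      ((sup_le hR r1).trans n) ((sup_le r2 r3).trans n))) fun t ht => pow_sup v n (sup_le hR r1) (sup_le r2 r3)
    (pow_sup v n hR r1 (w k.Zp) (w (elemAb_cj k.Zp x))) (pow_sup v n r2 r3 (w h.Zp) fun x hx =>
      Subgroup.pow_mem _ hx.2 p) t (e5 ht))

theorem two (nb' : ¬ phi p (𝐎 p G') ≤ 𝐂 (pResidualOf p G')) : ⁅ZZ (𝐎 p G'), pResidualOf p G⁆ ≤ ZZ (𝐎 p G) := by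
  by_cases c : Zr p G A ≤ 𝐎 p G'
  · exact (commutator_mono (h.main h' nb nb' ((le_inf h'.ZS (inf_le_right.trans (centralizer_anti c))).trans h.cZr.le))
      le_rfl).trans h.ZrK
  have z := h'.ZQ h nb'
  have s := ((h'.coat (h.up h.cdZr).1).resolve_left c).trans (sup_le (h.Zr_le.trans (sup_le (le_sup_of_le_right z)
    le_sup_left)) le_sup_right : _ ≤ EE p G A ⊔ 𝐎 p G')
  have eQ : EE p G A ≤ 𝐎 p G := inf_le_left.trans (inf_le_left.trans h.RQ)
  have k := h.re (h'.rep h.hA) fun q => h.nA ((le_inf (h.AS.trans s) le_rfl).trans ((dedekind_left h.EA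
    (eQ.trans (h.QS.trans (h'.syl.le.trans h'.nQ)))).le.trans (sup_le eQ ((inf_comm _ _).le.trans
      (le_sup_right.trans q)))))
  exact (commutator_mono (k.main h' nb nb' (le_sup_of_le_left (le_sup_of_le_right (le_inf le_sup_left
    (h.ZQ h' nb))))) le_rfl).trans k.ZrK
end CO

end H118
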