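import Cfsg.Agent.H18.PC3
import Cfsg.Agent.H4.PSol
/-! The core case of the Glauberman–Niles theorem: the structure of `S` modulo `C(O^p(G))` (`CO.good`). -/
set_option autoImplicit false
set_option linter.unusedSectionVars false
namespace H118
open Subgroup H26 H4 Cfsg Matrix H18.PU
open scoped commutatorElement MatrixGroups Pointwise

section Ring
variable {R : Type*} [Ring R] {a b : R}
theorem ring_ql (ha : (a - 1) * (a - 1) = 0) (hb : (b - 1) * (b - 1) = 0) (h : a * b * a = b * a * b)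
    (fx : ∀ z, a * z = z → b * z = z → z = 0) : a * b * (a * b) - a * b + 1 = 0 := by
  obtain ⟨α, rfl⟩ : ∃ α, a = 1 + α := ⟨a - 1, by noncomm_ring⟩
  obtain ⟨β, rfl⟩ : ∃ β, b = 1 + β := ⟨b - 1, by noncomm_ring⟩
  rw [add_sub_cancel_left] at ha hb
  have e : α + α * β * α = β + β * α * β := by linear_combination (norm := noncomm_ring) h - ha + hb
  have e1 : α + α * β * α = 0 := fx _ (by linear_combination (norm := noncomm_ring) ha + ha * (β * α))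
    (by rw [e]; linear_combination (norm := noncomm_ring) hb + hb * (α * β))
  rw [e1] at e
  have g : 1 + α * β + β * α = 0 := fx _ (by linear_combination (norm := noncomm_ring) e1 + ha * β)
    (by linear_combination (norm := noncomm_ring) hb * α - e)
  linear_combination (norm := noncomm_ring) g + ha + hb + ha * β - e + e1 + α * hb + e1 * β

theorem ring_tl (h : a * b * a = b * a * b) (h2 : a * b * (a * b) - a * b + 1 = 0)
    (h3 : (a - 1) * ((a - 1) * (a - 1)) = 0) (fx : ∀ z, a * z = z → b * z = z → z = 0) : (a - 1) * (a - 1) = 0 := by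
  obtain ⟨w, hw⟩ : ∃ w, w = a * b * a := ⟨_, rfl⟩
  have w2 : w * w = -1 := by
    rw [hw]; nth_rewrite 2 [h]
    linear_combination (norm := noncomm_ring) (a * b + 1) * h2
  have bw : b * w = w * a := by rw [hw]; linear_combination (norm := noncomm_ring) -h * a
  obtain ⟨c, hc⟩ : ∃ c, c = a * b := ⟨_, rfl⟩
  rw [← hc] at hw h2
  have e : a = w - c * w := by rw [hw]; linear_combination (norm := noncomm_ring) h2 * a
  have i1 : a * (w * c) = -1 := by rw [e]; linear_combination (norm := noncomm_ring) (1 - c) * w2 * c + h2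
  have i2 : w * c * a = -1 := by rw [mul_assoc, ← hw, w2]
  have t1 : (a - 1) * (a - w * c - (1 + 1)) = 0 := by
    linear_combination (norm := noncomm_ring) -(w * c) * h3 - i1 + i2 * (a * a - a - a - a + 1 + 1 + 1)
  have t2 : w * (a - w * c - (1 + 1)) = (a - w * c - (1 + 1)) * w := by
    rw [e]; linear_combination (norm := noncomm_ring) c * w2 - w2 * c
  obtain ⟨t, ht⟩ : ∃ t, t = a - w * c - (1 + 1) := ⟨_, rfl⟩
  rw [← ht] at t1 t2
  have := fx t (by linear_combination (norm := noncomm_ring) t1) (by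
    linear_combination (norm := noncomm_ring) (b - 1) * w2 * t - (b - 1) * w * t2 - bw * (t * w) - w * t1 * w)
  rw [this] at ht
  linear_combination (norm := noncomm_ring) i1 - a * ht
end Ring

section Mod
variable {W E : Type*} [AddCommGroup W] [Group E] [DistribMulAction E W] {a b : E}
theorem mod_ql (ha : ∀ w : W, a • (a • w - w) = a • w - w) (hb : ∀ w : W, b • (b • w - w) = b • w - w)
    (h : ∀ w : W, (a * b * a) • w = (b * a * b) • w) (fx : ∀ w : W, a • w = w → b • w = w → w = 0) (w : W) :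
    (a * b) • (a * b) • w - (a * b) • w + w = 0 := by
  let φ := DistribMulAction.toAddMonoidEnd E W
  have := ring_ql (a := φ a) (b := φ b) (AddMonoidHom.ext fun w => sub_eq_zero.2 (ha w))
    (AddMonoidHom.ext fun w => sub_eq_zero.2 (hb w)) (by simp only [← map_mul]; exact AddMonoidHom.ext h)
    fun z k l => AddMonoidHom.ext fun w => fx _ (DFunLike.congr_fun k w) (DFunLike.congr_fun l w)
  rw [← map_mul] at this
  exact DFunLike.congr_fun this w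
theorem mod_tl (h : ∀ w : W, (a * b * a) • w = (b * a * b) • w) (h2 : ∀ w : W, (a * b) • (a * b) • w - (a * b) • w + w = 0)
    (h3 : ∀ w : W, a • (a • (a • w - w) - (a • w - w)) = a • (a • w - w) - (a • w - w))
    (fx : ∀ w : W, a • w = w → b • w = w → w = 0) (w : W) : a • (a • w - w) = a • w - w := by
  let φ := DistribMulAction.toAddMonoidEnd E W
  exact sub_eq_zero.1 (DFunLike.congr_fun (ring_tl (a := φ a) (b := φ b) (by simp only [← map_mul]; exact AddMonoidHom.ext h)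
    (by rw [← map_mul]; exact AddMonoidHom.ext h2) (AddMonoidHom.ext fun w => sub_eq_zero.2 (h3 w))
    fun z k l => AddMonoidHom.ext fun w => fx _ (DFunLike.congr_fun k w) (DFunLike.congr_fun l w)) w)
theorem mod_cube (h : ∀ w : W, a • a • w - a • w + w = 0) (w : W) : (a * a * a) • w = -w := by
  have := congrArg (a • ·) (h w)
  simp only [smul_add, smul_sub, smul_zero] at this
  rw [mul_smul, mul_smul, eq_neg_iff_add_eq_zero, ← this, ← add_zero (_ + a • w), ← h w]; abel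
end Mod

variable {X : Type*} [Group X] [Finite X] {p : ℕ} [hp : Fact p.Prime] {G S M A B N V U Y : Subgroup X}
  {g x a b d r u v : X}

theorem mem_of_pw {n : ℕ} (hV : IsPGroup p V) (hv : v ∈ V) (h0 : 0 < n) (hn : n < p) (h : v ^ n ∈ N) : v ∈ N :=
  let ⟨k, e⟩ := isPGroup_iff_mem.1 hV v hv
  mem_of_pow_mem_coprime (Nat.Coprime.pow_right k (Nat.coprime_of_lt_prime h0.ne' hn hp.out).symm) h (e ▸ one_mem _)

theorem sec_q (hZ : ⁅V, V⁆ ≤ N) (hV : V ≤ 𝐍 N) (h1 : G ≤ 𝐍 V) (h2 : G ≤ 𝐍 N) (hp' : IsPGroup p V) (h3 : 3 < p)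
    (ha : a ∈ G) (hb : b ∈ G) (qa : ∀ v ∈ V, ⁅a, ⁅a, v⁆⁆ ∈ N) (qb : ∀ v ∈ V, ⁅b, ⁅b, v⁆⁆ ∈ N)
    (br : ∀ v ∈ V, ⁅(b * a * b)⁻¹ * (a * b * a), v⁆ ∈ N) (fx : ∀ v ∈ V, ⁅a, v⁆ ∈ N → ⁅b, v⁆ ∈ N → v ∈ N) {c z : X}
    (hc : c = a * b) (hz : z = c * c * c) : (∀ g ∈ G, ∀ v ∈ V, ⁅⁅z, g⁆, v⁆ ∈ N) ∧ (∀ v ∈ V, ⁅z * z, v⁆ ∈ N) ∧
      (∀ v ∈ V, ⁅z, v⁆ ∈ N → v ∈ N) ∧ ∀ v ∈ V, c * v * c⁻¹ * v ∈ N → v ∈ N := by
  obtain ⟨W, _, _, π, s⟩ := exists_sec_action hZ hV h1 h2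
  have cm : ∀ (g : G), ∀ v ∈ V, ⁅(g : X), v⁆ ∈ V := fun g v hv =>
    commutator_le_of_le_normalizer' h1 (commutator_mem_commutator g.2 hv)
  have k : ∀ (g : G), ∀ v ∈ V, ⁅(g : X), v⁆ ∈ N ↔ g • π v = π v := fun g v hv => by
    rw [← s.ker _ (cm g v hv), s.comm h1 g hv, sub_eq_zero]
  lift a to G using ha
  lift b to G using hb
  have q : ∀ a : G, (∀ v ∈ V, ⁅(a : X), ⁅(a : X), v⁆⁆ ∈ N) → ∀ w : W, a • (a • w - w) = a • w - w := fun a qa w => by
    obtain ⟨v, hv, rfl⟩ := s.sur w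
    rw [← s.comm h1 a hv, ← k a _ (cm a v hv)]; exact qa v hv
  have f := mod_ql (q a qa) (q b qb) (fun w => by
    obtain ⟨v, hv, rfl⟩ := s.sur w
    rw [← inv_smul_eq_iff, ← mul_smul, ← k _ v hv]; exact br v hv) fun w k1 k2 => by
      obtain ⟨v, hv, rfl⟩ := s.sur w
      exact (s.ker v hv).2 (fx v hv ((k a v hv).2 k1) ((k b v hv).2 k2))
  have e := mod_cube f
  subst hc hz
  refine ⟨fun g hg v hv => (k ⁅a * b * (a * b) * (a * b), ⟨g, hg⟩⁆ v hv).2 ?_, fun v hv => (k (a * b * (a * b) * (a * b) *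
    (a * b * (a * b) * (a * b))) v hv).2 (by rw [mul_smul, e, e, neg_neg]), fun v hv l => mem_of_pw hp' hv two_pos
      (by omega) ?_, fun v hv l => mem_of_pw hp' hv three_pos h3 ?_⟩
  · rw [commutatorElement_def, mul_assoc, mul_assoc, mul_smul, e, mul_smul, mul_smul, inv_smul_eq_iff.2 ((e _).trans
      (neg_neg _)).symm, smul_neg, neg_neg, smul_inv_smul]
  · have := (k (a * b * (a * b) * (a * b)) v hv).1 l
    rw [e, neg_eq_iff_add_eq_zero] at this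
    rw [← s.ker _ (Subgroup.pow_mem _ hv 2), s.pow hv, two_nsmul, this]
  · have m := conj_mem_of_mem_normalizer (h1 (a * b).2) hv
    have := (s.ker _ (mul_mem m hv)).2 l
    rw [s.mul _ m _ hv, s.act _ _ hv, add_eq_zero_iff_eq_neg] at this
    have t := f (π v)
    rw [this, smul_neg, this] at t
    rw [← s.ker _ (Subgroup.pow_mem _ hv 3), s.pow hv, ← t]; abel

theorem sec_pw {W : Type*} [AddCommGroup W] [DistribMulAction G W] {π : X → W} (s : SecAct V N G π) (h1 : G ≤ 𝐍 V)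
    (a : G) (hu : u ∈ V) (q : a • (a • π u - π u) = a • π u - π u) (h2 : p ≠ 2) (e : ∀ w : W, p • w = 0) :
    (u * a) ^ p * ((a : X) ^ p)⁻¹ ∈ V ∧ π ((u * a) ^ p * ((a : X) ^ p)⁻¹) = 0 := by
  have k : ∀ n : ℕ, (u * a) ^ n * ((a : X) ^ n)⁻¹ ∈ V ∧
      π ((u * a) ^ n * ((a : X) ^ n)⁻¹) = n • π u + n.choose 2 • (a • π u - π u) := fun n => by
    induction n with
    | zero => simpa using s.one
    | succ n ih =>
      have m := conj_mem_of_mem_normalizer (h1 (a ^ n).2) hu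
      rw [show (u * a) ^ (n + 1) * ((a : X) ^ (n + 1))⁻¹ = (u * a) ^ n * ((a : X) ^ n)⁻¹ * ((a ^ n : G) * u * ((a ^ n : G) : X)⁻¹)
        by rw [pow_succ, pow_succ, coe_pow]; group]
      refine ⟨mul_mem ih.1 m, ?_⟩
      rw [s.mul _ ih.1 _ m, ih.2, s.act _ _ hu, sub_eq_iff_eq_add.1 (pow_sub_one n (sub_eq_zero.2 q)),
        Nat.choose_succ_succ' n 1, Nat.choose_one_right, add_nsmul, add_nsmul, one_nsmul]
      abel
  obtain ⟨c, hc⟩ := hp.out.dvd_choose_self two_ne_zero (lt_of_le_of_ne hp.out.two_le (Ne.symm h2))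
  exact ⟨(k p).1, by rw [(k p).2, e, hc, mul_comm, mul_nsmul, e, add_zero]⟩

/-- the subgroup `S₀` of Glauberman and Niles -/
def S0 (p : ℕ) (S : Subgroup X) : Subgroup X := if p = 2 then ⁅phi p S, S⁆ ⊔ phi p (phi p S) else
  if p = 3 then ⁅⁅phi p S, S⁆, S⁆ ⊔ phi p (phi p S) else ⁅phi p S, S⁆ ⊔ pw p S

theorem R0.le_Q (h : R0 p G S) (h1 : N ≤ G) (h2 : G ≤ 𝐍 N) (h3 : pResidualOf p N ≤ 𝐂 (𝐎 p G)) : N ≤ 𝐎 p G :=
  le_pCoreOf (isPGroup_of_pResidualOf_le (isPGroup_pCoreOf p G) ((le_inf ((pResidualOf_le _ _).trans h1) h3).trans h.cp))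
    h1 h2

namespace CO
variable (h : CO p G S M A)
include h
theorem nL : G ≤ 𝐍 (G ⊓ 𝐂 (ZZ (𝐎 p G))) := le_normalizer_inf le_normalizer (le_normalizer_centralizer h.nZ)
theorem sylL' : IsSyl p (𝐎 p G) (G ⊓ 𝐂 (ZZ (𝐎 p G))) := by
  have := h.syl.inf_of_normal h.nL inf_le_left
  rwa [← inf_assoc, inf_eq_left.2 h.syl.le, h.cZ] at this
theorem LLp (hg : g ∈ G ⊓ 𝐂 (ZZ (𝐎 p G))) {k : ℕ} (e : g ^ p ^ k ∈ 𝐎 p G) : g ∈ 𝐎 p G := by
  obtain ⟨j, hj⟩ := isPGroup_iff_mem.1 (isPGroup_pCoreOf p G) _ e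
  rw [← pow_mul, ← pow_add] at hj
  exact (h.sylL'.eq_of_le (isPGroup_sup (isPGroup_zpowers hj) (isPGroup_pCoreOf p G) ((zpowers_le.2 hg.1).trans h.nQ))
    le_sup_right (sup_le (zpowers_le.2 hg) h.sylL'.le)).le (mem_sup_left (mem_zpowers g))
theorem nZC : G ≤ 𝐍 (ZZ (𝐎 p G) ⊔ 𝐂 (pResidualOf p G)) := le_normalizer_sup h.nZ h.nC
theorem lift (hg : g ∈ G) (h1 : ∀ v ∈ ZZ (𝐎 p G), ⁅g, v⁆ ∈ 𝐂 (pResidualOf p G))
    (h2 : ∀ t ∈ TT p G, ⁅g, t⁆ ∈ ZZ (𝐎 p G) ⊔ 𝐂 (pResidualOf p G)) : g ∈ 𝐎 p G := by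
  set D := G ⊓ commStab (ZZ (𝐎 p G) : Set X) (𝐂 (pResidualOf p G)) ⊓
    commStab (TT p G : Set X) (ZZ (𝐎 p G) ⊔ 𝐂 (pResidualOf p G))
  have l : D ≤ G := inf_le_left.trans inf_le_left
  have k : pResidualOf p D ≤ pResidualOf p G := pResidualOf_mono l
  have e := pResidualOf_pResidualOf p D
  have c : pResidualOf p D ≤ 𝐂 (𝐂 (pResidualOf p G)) := k.trans (le_centralizer_iff.1 le_rfl)
  have q := isPGroup_pCoreOf p G
  have z : pResidualOf p D ≤ 𝐂 (ZZ (𝐎 p G)) := le_centralizer_of_stab e (q.to_le (inf_le_left.trans inf_le_left))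
    (le_inf (commutator_le_of_le_normalizer (k.trans (h.EG.trans h.nZ))) ((commutator_comm _ _).le.trans
      (le_commStab_iff.1 ((pResidualOf_le _ _).trans (inf_le_left.trans inf_le_right))).2))
    (c.trans (centralizer_anti inf_le_right))
  refine h.le_Q l (le_normalizer_inf (le_normalizer_inf le_normalizer (le_normalizer_commStab h.nZ h.nC))
    (le_normalizer_commStab h.nT h.nZC)) (le_centralizer_of_stab e (q.to_le h.TQ) (commutator_mono le_rfl k)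
      (le_centralizer_of_stab e (q.to_le (inf_le_left.trans h.TQ)) (le_inf (commutator_le_of_le_normalizer
        (k.trans (h.EG.trans h.nT))) ((commutator_comm _ _).le.trans (le_commStab_iff.1 ((pResidualOf_le _ _).trans
          inf_le_right)).2)) ((le_centralizer_sup z c).trans (centralizer_anti inf_le_right))))
    ⟨⟨hg, h.nC hg, h1⟩, h.nZC hg, h2⟩
theorem stA' : ⁅st p G A, A⁆ ≤ ZZ S := commutator_sup_le ((commutator_mono le_rfl h.AS).trans h.ZS_le)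
  ((commutator_eq_bot_iff'.2 (h.AA.trans (centralizer_anti inf_le_left))).trans_le bot_le)
  (le_normalizer_of_le_centralizer (le_centralizer_iff.1 (inf_le_right.trans (centralizer_anti h.ZS))))
  (le_normalizer_of_le_centralizer (le_centralizer_iff.1 (inf_le_right.trans (centralizer_anti (inf_le_left.trans h.AS)))))
theorem q2 (ha : a ∈ A) (hr : r ∈ TT p G) : ⁅a, ⁅a, r⁆⁆ ∈ ZZ S := comm_mem_symm.1 (h.stA' (commutator_mem_commutator
  (comm_mem_symm.1 (h.quad (commutator_mem_commutator (mem_sup_right hr) ha))) ha))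
theorem pst (h3 : 3 < p) (hg : g ∈ G ⊓ 𝐂 (ZZ (𝐎 p G))) (ha : a ∈ A) : ⁅g, a⁆ ∈ 𝐎 p G := by
  obtain ⟨_, hk⟩ := exists_quot h.nZC
  set f := QuotientGroup.mk' ((ZZ (𝐎 p G) ⊔ 𝐂 (pResidualOf p G)).subgroupOf G)
  have aG := h.AG ha
  have tG := h.TQ.trans h.QG
  have l : G ⊓ 𝐂 (ZZ (𝐎 p G)) ⊔ zpowers a ≤ G := sup_le inf_le_left (zpowers_le.2 aG)
  obtain ⟨j, hj⟩ := isPGroup_iff_mem.1 h.syl.isP a (h.AS ha)
  have s : PSol p (G ⊓ 𝐂 (ZZ (𝐎 p G)) ⊔ zpowers a) := sup_comm (zpowers a) _ ▸ PSol.sup (pSol_of_isPGroup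
    (isPGroup_zpowers hj)) (fun K k1 k2 k3 => pSol_of_isPGroup (isPGroup_pCoreOf p G) K (k3.ge.trans
      (pElementClosure_le_iff.2 fun x hx k e => h.LLp (k1 hx) (e ▸ one_mem _))) k2 k3) ((zpowers_le.2 aG).trans h.nL)
  have n : iM f (G ⊓ 𝐂 (ZZ (𝐎 p G)) ⊔ zpowers a) ≤ 𝐍 (iM f (TT p G)) := iM_n (l.trans h.nT)
  have za : iM f (zpowers a) = zpowers (f ⟨a, aG⟩) := by
    rw [← MonoidHom.map_zpowers, iM]; congr 1
    exact map_injective G.subtype_injective (by rw [map_subgroupOf_eq_of_le (zpowers_le.2 aG), MonoidHom.map_zpowers]; rfl)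
  have c1 : ⁅TT p G, zpowers a⁆ ≤ G := (Subgroup.commutator_le_sup _ _).trans (sup_le tG (zpowers_le.2 aG))
  have m := mem_opMod_of_not_sec_SL2 (p := p) (by omega) ((((isPGroup_pCoreOf p G).to_le h.TQ).comap_of_injective
    G.subtype G.subtype_injective).map f) n ((((pSol_subgroupOf_iff l).2 s).map f).not_sec_SL2 (by
      have := hp.out.eq_two_or_odd; omega)) (mem_iM (a := ⟨a, aG⟩) (mem_sup_right (mem_zpowers a))) (by
      rw [← za]
      show ⁅⁅iM f _, _⁆, _⁆ = ⊥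
      rw [← iM_comm tG (zpowers_le.2 aG), ← iM_comm c1 (zpowers_le.2 aG), iM_eq_bot hk
        ((Subgroup.commutator_le_sup _ _).trans (sup_le c1 (zpowers_le.2 aG)))]
      exact le_sup_of_le_left ((commutator_mono ((commutator_mono le_sup_right (zpowers_le.2 ha)).trans h.quad)
        (zpowers_le.2 ha)).trans h.stA))
  have y : ⁅g, a⁆ ∈ G ⊓ 𝐂 (ZZ (𝐎 p G)) := commutator_le_of_le_normalizer h.nL (commutator_mem_commutator hg aG)
  obtain ⟨k, e⟩ := exists_pow_mem_of_mem_opMod (le_normalizer_centralizer n) (commutator_le_of_le_normalizer'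
    (le_normalizer_opMod _ _ _) (commutator_mem_commutator (mem_iM (a := ⟨g, hg.1⟩) (mem_sup_left hg)) m))
  have y' := Subgroup.pow_mem _ y (p ^ k)
  refine h.LLp y (h.lift y'.1 (fun v hv => comm_eq_one y'.2 hv ▸ one_mem _) fun t ht => ?_)
  rw [← map_commutatorElement, ← map_pow] at e
  have := e _ (mem_iM (a := ⟨t, tG ht⟩) ht)
  rw [eq_comm, ← commutatorElement_eq_one_iff_mul_comm, ← map_commutatorElement] at this
  exact hk.le this
theorem LK : G ⊓ 𝐂 (ZZ (𝐎 p G)) ≤ pResidualOf p G ⊔ 𝐎 p G :=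
  h.sylL'.le_of_pResidualOf_le (le_sup_of_le_left (pResidualOf_mono inf_le_left)) le_sup_right
theorem G_le {F : Type*} [Field F] {ρ : X → SL(2, F)} {ψ : X → Fin 2 → F} (k : Std G U V S ρ ψ)
    (c : ∀ e ∈ G, ρ e = 1 → e ∈ 𝐂 (ZZ (𝐎 p G))) {a : F} (h0 : a ≠ 0) (h1 : a ^ 2 ≠ 1) : G ≤ pResidualOf p G ⊔ 𝐎 p G := by
  have n := le_normalizer_sup h.nE h.nQ
  have l : ⁅G, S⁆ ≤ pResidualOf p G ⊔ 𝐎 p G := (commutator_mono h.syl.pResidualOf_sup.ge le_rfl).trans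
    (commutator_sup_le (le_sup_of_le_left (commutator_le_of_le_normalizer (h.syl.le.trans h.nE)))
      (le_sup_of_le_right h.ab) (h.EG.trans n) (h.syl.le.trans n))
  refine h.syl.le_of_pResidualOf_le le_sup_left fun s hs => ?_
  obtain ⟨r, e⟩ := mem_uT.1 (k.up s hs)
  obtain ⟨g, hg, e1⟩ := k.ρs (dg a h0)
  obtain ⟨x, hx, e2⟩ := k.onto (r / (a ^ 2 - 1))
  have xG := h.syl.le hx
  have m : ⁅g, x⁆ ∈ G := mul_mem (mul_mem (mul_mem hg xG) (inv_mem hg)) (inv_mem xG)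
  have m' := mul_mem (inv_mem m) (h.syl.le hs)
  have := mul_mem (l (commutator_mem_commutator hg hx)) (h.LK ⟨m', c _ m' (by
    rw [k.ρmul _ (inv_mem m) _ (h.syl.le hs), k.ρ_inv m, inv_mul_eq_one, commutatorElement_def,
      k.ρmul _ (mul_mem (mul_mem hg xG) (inv_mem hg)) _ (inv_mem xG), k.ρ_conj hg xG, k.ρ_inv xG, e1, e2,
      conj_tvU (by simp [dg]), mul_inv_eq_iff_eq_mul, ← e, ← tvU_add]
    congr 1
    have := sub_ne_zero.2 h1
    simp only [dg, of_apply, cons_val', cons_val_zero]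
    field_simp; ring)⟩)
  rwa [mul_inv_cancel_left] at this
theorem dich' : G ≤ pResidualOf p G ⊔ 𝐎 p G ∨ ∀ a ∈ S, a ∉ 𝐎 p G → ∀ b ∈ S, b ∈ 𝐎 p G ∨ a⁻¹ * b ∈ 𝐎 p G ∨ a * b ∈ 𝐎 p G := by
  obtain ⟨F, _, _, _, -, ρ, ψ, k, -, c⟩ := h.lin'
  by_cases e : ∃ a : F, a ≠ 0 ∧ a ^ 2 ≠ 1
  · exact e.elim fun a e => .inl (h.G_le k c e.1 e.2)
  push Not at e
  have q : ∀ b ∈ S, ρ b = 1 → b ∈ 𝐎 p G := fun b hb l => h.cZ.le ⟨hb, c b (h.syl.le hb) l⟩
  refine .inr fun a ha n b hb => ?_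
  obtain ⟨s, e1⟩ := mem_uT.1 (k.up a ha)
  obtain ⟨t, e2⟩ := mem_uT.1 (k.up b hb)
  have aG := h.syl.le ha
  by_cases t0 : t = 0
  · exact .inl (q b hb (by rw [← e2, t0, tvU_zero]))
  have := (e t t0).trans (e s fun l => n (q a ha (by rw [← e1, l, tvU_zero]))).symm
  refine .inr ((sq_eq_sq_iff_eq_or_eq_neg.1 this).imp (fun l => q _ (mul_mem (inv_mem ha) hb) ?_)
    fun l => q _ (mul_mem ha hb) ?_)
  · rw [k.ρmul _ (inv_mem aG) _ (h.syl.le hb), k.ρ_inv aG, ← e1, ← e2, l, inv_mul_cancel]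
  · rw [k.ρmul _ aG _ (h.syl.le hb), ← e1, ← e2, l, ← tvU_add, add_neg_cancel, tvU_zero]
theorem exists_br (h3 : 3 < p) (ha : a ∈ A) (h1 : a ∉ 𝐎 p G) : G ≤ pResidualOf p G ⊔ 𝐎 p G ∧ ∃ x ∈ pResidualOf p G, x ∉ M ∧
    (x * a * x⁻¹ * a * (x * a * x⁻¹))⁻¹ * (a * (x * a * x⁻¹) * a) ∈ 𝐎 p G := by
  obtain ⟨F, _, _, _, -, ρ, ψ, k, -, c⟩ := h.lin'
  have nz : ∀ n : ℕ, 0 < n → n ≤ 3 → (n : F) ≠ 0 := fun n a b e =>
    absurd (Nat.le_of_dvd a ((CharP.cast_eq_zero_iff F p n).1 e)) (by omega)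
  have l := h.G_le k c (a := 2) (by exact_mod_cast nz 2 (by omega) (by omega)) fun e => nz 3 (by omega) (by omega) (by
    push_cast; linear_combination e)
  have aG := h.AG ha
  obtain ⟨s, e1⟩ := mem_uT.1 (k.up a (h.AS ha))
  have s0 : s ≠ 0 := fun l => h1 (h.cZ.le ⟨h.AS ha, c a aG (by rw [← e1, l, tvU_zero])⟩)
  obtain ⟨y, hy, e2⟩ := k.ρs (slOf !![0, s; -s⁻¹, 0] (by simp [det_fin_two, s0]))
  obtain ⟨x, hx, u, hu, rfl⟩ := (mem_sup_of_le_normalizer (h.EG.trans h.nQ)).1 (l hy)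
  have xG := h.EG hx
  rw [k.ρmul _ xG _ (h.QG hu), k.ρ_eq_one_of (h.QG hu) (h.QZ hu), mul_one] at e2
  refine ⟨l, x, hx, fun m => s0 (by simpa [e2] using ent_M k h.hu h.syl m), ?_⟩
  have bG := mul_mem (mul_mem xG aG) (inv_mem xG)
  have e3 := k.ρ_conj xG aG
  have lG := mul_mem (inv_mem (mul_mem (mul_mem bG aG) bG)) (mul_mem (mul_mem aG bG) aG)
  have m : _ ∈ G ⊓ _ := ⟨lG, c _ lG (by
    rw [k.ρmul _ (inv_mem (mul_mem (mul_mem bG aG) bG)) _ (mul_mem (mul_mem aG bG) aG), k.ρ_inv (mul_mem (mul_mem bG aG) bG),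
      inv_mul_eq_one, k.ρmul _ (mul_mem bG aG) _ bG, k.ρmul _ bG _ aG, k.ρmul _ (mul_mem aG bG) _ aG, k.ρmul _ aG _ bG, e3,
      e2, ← e1]
    ext i j
    fin_cases i <;> fin_cases j <;>
      simp [tvU_val, mul_apply, Fin.sum_univ_two, adjugate_fin_two, vecMul, dotProduct, s0])⟩
  have c1 := h.pst h3 m ha
  have c2 := conj_mem_of_mem_normalizer (h.nQ xG) (h.pst h3 (conj_mem_of_mem_normalizer' (h.nL xG) m) ha)
  have p1 := h.pw a (h.AS ha)
  have p2 := conj_mem_of_mem_normalizer (h.nQ xG) p1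
  rw [← conj_pow] at p2
  rw [conjugate_commutatorElement, show ∀ l : X, x * (x⁻¹ * l * x) * x⁻¹ = l from fun l => by group] at c2
  generalize x * a * x⁻¹ = b at *
  obtain ⟨_, hk⟩ := exists_quot h.nQ
  set f := QuotientGroup.mk' ((𝐎 p G).subgroupOf G)
  lift a to G using aG
  lift b to G using bG
  have d1 : Commute (f ((b * a * b)⁻¹ * (a * b * a))) (f a) := commutatorElement_eq_one_iff_mul_comm.1
    (by rw [← map_commutatorElement]; exact hk.ge c1)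
  have d2 : Commute (f ((b * a * b)⁻¹ * (a * b * a))) (f b) := commutatorElement_eq_one_iff_mul_comm.1
    (by rw [← map_commutatorElement]; exact hk.ge c2)
  have d3 : f (a * b * a) * f a * (f (a * b * a))⁻¹ = f b * f ((b * a * b)⁻¹ * (a * b * a)) := by
    rw [mul_inv_eq_iff_eq_mul, map_mul f (a * b), map_mul f a, mul_assoc (f b), ((d1.mul_right d2).mul_right d1).eq,
      mul_assoc (f a * f b) (f a) (f (_⁻¹ * _)), ← d1.eq]
    simp only [map_mul, map_inv]; group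
  have d4 := congrArg (· ^ p) d3
  simp only [conj_pow, d2.symm.mul_pow] at d4
  rw [← map_pow, ← map_pow, ← map_pow, show f (a ^ p) = 1 from hk.ge p1, show f (b ^ p) = 1 from hk.ge p2, mul_one,
    mul_inv_cancel, one_mul] at d4
  exact h.LLp m (k := 1) (by rw [pow_one]; exact hk.le d4.symm)

variable (gd : phi p (𝐎 p G) ≤ 𝐂 (pResidualOf p G))
include gd
theorem QQ : ⁅𝐎 p G, 𝐎 p G⁆ ≤ 𝐂 (pResidualOf p G) := (commutator_le_phi _ _).trans gd
theorem big (h3 : 3 < p) (ha : a ∈ A) :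
    (∀ u ∈ 𝐎 p G, ⁅a, ⁅a, u⁆⁆ ∈ 𝐂 (pResidualOf p G)) ∧ a ^ p ∈ 𝐂 (pResidualOf p G) := by
  have qq := h.QQ gd
  have aG := h.AG ha
  by_cases h1 : a ∈ 𝐎 p G
  · exact ⟨fun u hu => commutator_le_of_le_normalizer' h.nC (commutator_mem_commutator aG
      (qq (commutator_mem_commutator h1 hu))), gd (pow_mem_phi h1)⟩
  obtain ⟨l, x, hx, x1, br⟩ := h.exists_br h3 ha h1
  have k := h.pr hx x1
  have hb := conj_mem_cj x ha
  have b1 : x * a * x⁻¹ ∉ 𝐎 p G := fun e => h1 (by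
    simpa [mul_assoc] using conj_mem_of_mem_normalizer' (h.nQ (h.EG hx)) e)
  generalize x * a * x⁻¹ = b at br hb b1
  have bG := k.r.AG hb
  have q := isPGroup_pCoreOf p G
  have tz : ∀ t ∈ TT p G, t ∈ st p G A → t ∈ st p G (cj x A) → t ∈ Zr p G A := fun t _ k1 k2 => k.i ⟨k1, k2⟩
  have rz : ∀ r ∈ RR p G A, r ∈ ZZ (𝐎 p G) ⊔ 𝐂 (pResidualOf p G) → r ∈ Zr p G A := fun r hr e => by
    obtain ⟨v, hv, c, hc, rfl⟩ := (mem_sup_of_le_normalizer ((inf_le_left.trans h.QG).trans h.nC)).1 e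
    have := h.ZZr hv
    exact mul_mem this (h.cT.le ⟨(Subgroup.mul_mem_cancel_left _ this.1).1 hr, centralizer_anti h.TK hc⟩)
  obtain ⟨u1, u2, u3, u4⟩ := sec_q (V := TT p G) (N := ZZ (𝐎 p G) ⊔ 𝐂 (pResidualOf p G)) (le_sup_of_le_right
    ((commutator_mono h.TQ h.TQ).trans qq)) (h.TQ.trans (h.QG.trans h.nZC)) h.nT h.nZC (q.to_le h.TQ) h3 aG bG
    (fun v hv => mem_sup_left (h.zZ (h.q2 ha hv))) (fun v hv => mem_sup_left (k.r.zZ (k.r.q2 hb hv)))
    (fun v hv => mem_sup_right (qq (commutator_mem_commutator br (h.TQ hv)))) (fun v hv k1 k2 => (h.Zr_le.trans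
      (sup_le_sup_left inf_le_right _)) ((tz v hv (h.fixR (mem_sup_right hv) ha h1 (rz _ (mem_sup_right (commutator_le_of_le_normalizer'
        h.nT (commutator_mem_commutator aG hv))) k1)) (k.r.fixR (mem_sup_right hv) hb b1 (k.zr ▸ rz _ (mem_sup_right
          (commutator_le_of_le_normalizer' h.nT (commutator_mem_commutator bG hv))) k2))))) rfl rfl
  have zq : ∀ {S M A a}, CO p G S M A → a ∈ A → ∀ v ∈ ZZ (𝐎 p G), ⁅a, ⁅a, v⁆⁆ ∈ 𝐂 (pResidualOf p G) := fun h ha v hv =>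
    comm_mem_symm.1 (comm_eq_one (comm_mem_symm.1 (h.ZS_le (commutator_mem_commutator hv (h.AS ha)))).2 (h.AS ha) ▸ one_mem _)
  obtain ⟨v1, v2, v3, v4⟩ := sec_q (V := ZZ (𝐎 p G)) (N := 𝐂 (pResidualOf p G)) ((commutator_mono inf_le_left
    inf_le_left).trans qq) (inf_le_left.trans (h.QG.trans h.nC)) h.nZ h.nC (q.to_le inf_le_left) h3 aG bG (zq h ha) (zq k.r hb)
    (fun v hv => qq (commutator_mem_commutator br hv.1)) (fun v hv k1 k2 => k.c ⟨mem_c_sup (h.AA (h.zA ((h.nat hv (h.AS ha)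
      k1).resolve_right h1))) (k.r.AA (k.r.zA ((k.r.nat hv (k.r.AS hb) k2).resolve_right b1))),
        centralizer_anti h.TQ hv.2⟩) rfl rfl
  lift a to G using aG
  lift b to G using bG
  rw [← coe_mul] at u4 v4
  simp only [← coe_mul] at u1 u2 u3 v1 v2 v3 br
  obtain ⟨c, hc⟩ : ∃ c, c = a * b := ⟨_, rfl⟩
  rw [← hc] at u1 u2 u3 u4 v1 v2 v3 v4
  obtain ⟨z, hz⟩ : ∃ z, z = c * c * c := ⟨_, rfl⟩
  rw [← hz] at u1 u2 u3 v1 v2 v3
  have z2 := h.lift (z * z).2 v2 u2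
  have zg : ∀ g : G, ((⁅z, g⁆ : G) : X) ∈ 𝐎 p G := fun g => h.lift (⁅z, g⁆ : G).2 (v1 g g.2) (u1 g g.2)
  obtain ⟨W, _, _, π, s⟩ := exists_sec_action qq (h.QG.trans h.nC) h.nQ h.nC
  have cm : ∀ (g : G), ∀ v ∈ 𝐎 p G, ⁅(g : X), v⁆ ∈ 𝐎 p G := fun g v hv =>
    commutator_le_of_le_normalizer' h.nQ (commutator_mem_commutator g.2 hv)
  have kk : ∀ (g : G), ∀ v ∈ 𝐎 p G, ⁅(g : X), v⁆ ∈ 𝐂 (pResidualOf p G) ↔ g • π v = π v := fun g v hv => by
    rw [← s.ker _ (cm g v hv), s.comm h.nQ g hv, sub_eq_zero]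
  have tr : ∀ g : G, (g : X) ∈ 𝐎 p G → ∀ w : W, g • w = w := fun g hg w => by
    obtain ⟨v, hv, rfl⟩ := s.sur w
    exact (kk g v hv).1 (qq (commutator_mem_commutator hg hv))
  have pw : ∀ w : W, p • w = 0 := fun w => by
    obtain ⟨v, hv, rfl⟩ := s.sur w
    rw [← s.pow hv, s.ker _ (Subgroup.pow_mem _ hv p)]; exact gd (pow_mem_phi hv)
  have dn : ∀ t ∈ TT p G, t ∈ ZZ (𝐎 p G) ⊔ 𝐂 (pResidualOf p G) → ∃ v ∈ ZZ (𝐎 p G), π t = π v := fun t ht e => by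
    obtain ⟨v, hv, c, hc, rfl⟩ := (mem_sup_of_le_normalizer ((inf_le_left.trans h.QG).trans h.nC)).1 e
    exact ⟨v, hv, ((s.eq hv.1 (h.TQ ht)).2 (by rwa [inv_mul_cancel_left])).symm⟩
  have iz : ∀ t ∈ TT p G, z • π t = π t → π t = 0 := fun t ht e => by
    obtain ⟨v, hv, e'⟩ := dn t ht (u3 t ht (mem_sup_right ((kk z t (h.TQ ht)).2 e)))
    rw [e'] at e ⊢
    exact (s.ker v hv.1).2 (v3 v hv ((kk z v hv.1).2 e))
  have zc : ∀ (g : G) (w : W), z • g • w = g • z • w := fun g w => by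
    rw [← mul_smul, ← mul_smul, ← tr _ (zg g) ((g * z) • w), ← mul_smul, commutatorElement_def]; group
  have zn : ∀ w : W, z • w = -w := fun w => by
    obtain ⟨u, hu, e⟩ := s.sur (z • w + w)
    have e1 : z • π u = π u := by rw [e, smul_add, ← mul_smul, tr _ z2, add_comm]
    rw [eq_neg_iff_add_eq_zero, ← e, s.ker u hu]
    refine zpowers_le.1 (h.stab (zpowers_le.2 hu) (commutator_zpowers_le (fun g hg => comm_mem_symm.1 ?_) (h.nC (h.QG hu))))
    have m := comm_mem_symm.1 (commutator_mem_commutator hu hg)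
    rw [← s.ker _ (h.TQ m)]
    refine iz _ m ?_
    rw [s.comm h.nQ ⟨g, h.EG hg⟩ hu, smul_sub, zc, e1]
  have wt : ∀ w : W, ∃ t ∈ TT p G, π t = w := fun w => by
    obtain ⟨u, hu, rfl⟩ := s.sur w
    obtain ⟨y, hy, v, hv, e⟩ := (mem_sup_of_le_normalizer (h.EG.trans h.nQ)).1 (l z.2)
    obtain ⟨m, hm⟩ := hp.out.odd_of_ne_two (by omega)
    have m1 := comm_mem_symm.1 (commutator_mem_commutator hu hy)
    have := zn (π u)
    rw [show z = ⟨y, h.EG hy⟩ * ⟨v, h.QG hv⟩ from Subtype.ext e.symm, mul_smul, tr ⟨v, _⟩ hv] at this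
    refine ⟨_, Subgroup.pow_mem _ m1 m, ?_⟩
    rw [s.pow (h.TQ m1), s.comm h.nQ ⟨y, h.EG hy⟩ hu, this, ← add_zero (m • _), ← pw (π u), hm]
    module
  have cc : ∀ v ∈ 𝐎 p G, c • π v = -π v → (c : X) * v * (c : X)⁻¹ * v ∈ 𝐂 (pResidualOf p G) := fun v hv e => by
    have m := conj_mem_of_mem_normalizer (h.nQ c.2) hv
    rw [← s.ker _ (mul_mem m hv), s.mul _ m _ hv, s.act _ _ hv, e, neg_add_cancel]
  have f : ∀ w : W, c • c • w - c • w + w = 0 := fun w => by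
    obtain ⟨t, ht, e⟩ := wt (c • c • w - c • w + w)
    have e1 : c • π t = -π t := by
      have := zn w
      rw [hz, mul_smul, mul_smul] at this
      rw [e, smul_add, smul_sub, this]; abel
    obtain ⟨v, hv, e'⟩ := dn t ht (u4 t ht (mem_sup_right (cc t (h.TQ ht) e1)))
    rw [e'] at e1
    rw [← e, e']
    exact (s.ker v hv.1).2 (v4 v hv (cc v hv.1 e1))
  have tl := mod_tl (W := W) (a := a) (b := b) (fun w => by rw [← inv_smul_eq_iff, ← mul_smul]; exact tr _ br w)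
    (hc ▸ f) (fun w => by
      obtain ⟨t, ht, rfl⟩ := wt w
      have m := h.q2 ha ht
      rw [← s.comm h.nQ a (h.TQ ht), ← s.comm h.nQ a (cm a t (h.TQ ht)), ← kk a _ (h.zZ m).1]
      exact comm_mem_symm.1 (comm_eq_one m.2 (h.AS ha) ▸ one_mem _)) fun w k1 k2 => by
      obtain ⟨t, ht, rfl⟩ := wt w
      have tQ := h.TQ ht
      have t1 := h.fixD (mem_sup_right ht) ha h1 ((kk a t tQ).2 k1)
      have t2 := k.r.fixD (mem_sup_right ht) hb b1 ((kk b t tQ).2 k2)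
      exact (s.ker t tQ).2 (k.c ⟨mem_c_sup (h.AA t1) (k.r.AA t2), centralizer_anti le_sup_right
        (tz t ht (mem_sup_right ⟨t1, tQ⟩) (mem_sup_right ⟨t2, tQ⟩)).2⟩)
  refine ⟨fun u hu => (kk a _ (cm a u hu)).2 (by rw [s.comm h.nQ a hu, tl]), ?_⟩
  have ap := h.pw a (h.AS ha)
  have := (sec_pw s h.nQ a (zg a) (tl _) (by omega) pw).2
  rw [show ((⁅z, a⁆ : G) : X) * a = z * a * (z : X)⁻¹ by simp [commutatorElement_def], conj_pow,
    s.mul _ (conj_mem_of_mem_normalizer (h.nQ z.2) ap) _ (inv_mem ap), s.act _ _ ap, zn, s.inv ap] at this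
  refine mem_of_pw q ap two_pos (by omega) ?_
  rw [← s.ker _ (Subgroup.pow_mem _ ap 2), s.pow ap, two_nsmul, ← neg_eq_zero, neg_add, this]

theorem good : S0 p S ≤ 𝐂 (pResidualOf p G) := by
  have qq := h.QQ gd
  obtain ⟨W, _, _, π, s⟩ := exists_sec_action qq (h.QG.trans h.nC) h.nQ h.nC
  have cm : ∀ g ∈ G, ∀ v ∈ 𝐎 p G, ⁅g, v⁆ ∈ 𝐎 p G := fun g hg v hv =>
    commutator_le_of_le_normalizer' h.nQ (commutator_mem_commutator hg hv)
  have kk : ∀ (g : G), ∀ v ∈ 𝐎 p G, ⁅(g : X), v⁆ ∈ 𝐂 (pResidualOf p G) ↔ g • π v = π v := fun g v hv => by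
    rw [← s.ker _ (cm g g.2 v hv), s.comm h.nQ g hv, sub_eq_zero]
  have tr : ∀ g : G, (g : X) ∈ 𝐎 p G → ∀ w : W, g • w = w := fun g hg w => by
    obtain ⟨v, hv, rfl⟩ := s.sur w
    exact (kk g v hv).1 (qq (commutator_mem_commutator hg hv))
  have pw : ∀ w : W, p • w = 0 := fun w => by
    obtain ⟨v, hv, rfl⟩ := s.sur w
    rw [← s.pow hv, s.ker _ (Subgroup.pow_mem _ hv p)]; exact gd (pow_mem_phi hv)
  have dc : ∀ {Y : Subgroup X} (l : Y ≤ G) (g : G), (g : X) ∈ Y ⊔ 𝐎 p G → ∃ y : G, (y : X) ∈ Y ∧ ∀ w : W, g • w = y • w :=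
    fun l g hg => by
      obtain ⟨y, hy, v, hv, e⟩ := (mem_sup_of_le_normalizer (l.trans h.nQ)).1 hg
      exact ⟨⟨y, l hy⟩, hy, fun w => by
        rw [show g = ⟨y, l hy⟩ * ⟨v, h.QG hv⟩ from Subtype.ext e.symm, mul_smul, tr ⟨v, _⟩ hv]⟩
  have kf : ∀ a : G, (a : X) ∈ A → ∀ w : W, a • (a • w - w) = a • w - w → ∀ g : G, (g : X) ∈ S →
      g • (a • w - w) = a • w - w := fun a ha w e g hg => by
    by_cases n : (a : X) ∈ 𝐎 p G
    · rw [tr a n, sub_self, smul_zero]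
    obtain l | l := h.dich'
    · obtain ⟨y, hy, e1⟩ := dc h.EG a (l a.2)
      obtain ⟨b, hb, e2⟩ := dc h.AG g (h.sp hg)
      obtain ⟨u, hu, rfl⟩ := s.sur w
      have m := comm_mem_symm.1 (commutator_mem_commutator hu hy)
      rw [e1 (π u), ← s.comm h.nQ y hu] at e ⊢
      rw [e2, ← kk b _ (h.TQ m), comm_eq_one (h.AA hb) (h.fixD (mem_sup_right m) ha n ((kk a _ (h.TQ m)).2 e))]
      exact one_mem _
    obtain l | l | l := l a (h.AS ha) n g hg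
    · exact tr g l _
    · rw [← mul_inv_cancel_left a g, mul_smul, tr (a⁻¹ * g) l, e]
    · rw [← inv_mul_cancel_left a g, mul_smul, tr (a * g) l, inv_smul_eq_iff, e]
  have nS := h.syl.le.trans h.nC
  have n1 : S ≤ 𝐍 (cmod (𝐎 p G) S (𝐂 (pResidualOf p G))) := le_normalizer_inf (h.syl.le.trans h.nQ)
    (le_normalizer_commStab le_normalizer nS)
  have m1 : ∀ u ∈ 𝐎 p G, (∀ g : G, (g : X) ∈ S → g • π u = π u) → u ∈ cmod (𝐎 p G) S (𝐂 (pResidualOf p G)) :=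
    fun u hu e => ⟨hu, nS (h.QS hu), fun g hg => comm_mem_symm.1 ((kk ⟨g, h.syl.le hg⟩ u hu).2 (e _ hg))⟩
  have ph : ∀ N, S ≤ 𝐍 N → cmod (𝐎 p G) S (𝐂 (pResidualOf p G)) ≤ N → ⁅𝐎 p G, S⁆ ≤ N → phi p S ≤ N := fun N n l c => by
    have c' : ⁅S, S⁆ ≤ N := (commutator_mono h.sp le_rfl).trans (commutator_sup_le ((commutator_mono le_rfl h.sp).trans
      (commutator_sup_le' ((commutator_eq_bot_iff'.2 h.AA).trans_le bot_le) ((commutator_comm _ _).le.trans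
        ((commutator_mono le_rfl h.AS).trans c)) (h.AS.trans n) (h.QS.trans n))) c (h.AS.trans n) (h.QS.trans n))
    refine phi_le_iff.2 ⟨c', fun x hx => pow_sup c' n h.AS h.QS (fun a ha => l (m1 _ (h.pw a (h.AS ha)) fun g hg => ?_))
      (fun u hu => l (m1 _ (Subgroup.pow_mem _ hu p) fun g _ => by rw [s.pow hu, pw, smul_zero])) x (h.sp hx)⟩
    obtain ⟨b, hb, e⟩ := dc h.AG g (h.sp hg)
    rw [e, ← kk b _ (h.pw a (h.AS ha)), comm_eq_one (h.AA hb) (Subgroup.pow_mem _ ha p)]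
    exact one_mem _
  have pp : phi p (phi p S) ≤ 𝐂 (pResidualOf p G) := (phi_mono (phi_le_iff.2 ⟨h.ab, h.pw⟩)).trans gd
  have f2 : (∀ a : G, (a : X) ∈ A → ∀ w : W, a • (a • w - w) = a • w - w) → ⁅phi p S, S⁆ ≤ 𝐂 (pResidualOf p G) :=
    fun e => ((le_cmod (h.QG.trans h.nC)).1 (ph _ n1 le_rfl (commutator_le.2 fun u hu x hx => comm_mem_symm.1
      (m1 _ (cm x (h.syl.le hx) u hu) fun g hg => by
        obtain ⟨a, ha, e1⟩ := dc h.AG ⟨x, h.syl.le hx⟩ (h.sp hx)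
        rw [s.comm h.nQ ⟨x, h.syl.le hx⟩ hu, e1]
        exact kf a ha _ (e a ha _) g hg)))).2
  rw [S0]
  split_ifs with p2 p3
  · refine sup_le (f2 fun a ha w => ?_) pp
    have e := tr (a ^ p) (h.pw a (h.AS ha)) w
    have e' := pw (a • w - w)
    rw [p2, pow_two, mul_smul] at e
    rw [p2, two_nsmul] at e'
    rw [smul_sub, e, eq_neg_of_add_eq_zero_left e', neg_sub]
  · have l := h.QS.trans n1
    refine sup_le ((le_cmod (h.QG.trans h.nC)).1 ((le_cmod l).1 (ph _ (le_normalizer_inf (h.syl.le.trans h.nQ)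
      (le_normalizer_commStab le_normalizer n1)) ((le_cmod l).2 ⟨inf_le_left, commutator_le_of_le_normalizer n1⟩)
      (commutator_le.2 fun u hu x hx => comm_mem_symm.1 ?_))).2).2 pp
    have m := cm x (h.syl.le hx) u hu
    refine ⟨m, l m, fun y hy => comm_mem_symm.1 (m1 _ (cm y (h.syl.le hy) _ m) fun g hg => ?_)⟩
    obtain ⟨b, hb, e1⟩ := dc h.AG ⟨x, h.syl.le hx⟩ (h.sp hx)
    obtain ⟨a, ha, e2⟩ := dc h.AG ⟨y, h.syl.le hy⟩ (h.sp hy)
    rw [s.comm h.nQ ⟨y, h.syl.le hy⟩ m, s.comm h.nQ ⟨x, h.syl.le hx⟩ hu, e1, e2]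
    refine kf a ha _ ?_ g hg
    have e := tr (a ^ p) (h.pw a (h.AS ha)) (π u)
    have e' := pw (a • a • π u - a • π u)
    rw [p3, pow_three, mul_smul, mul_smul] at e
    have := kf a ha (a • π u - π u) (by
      simp only [smul_sub, e]
      rw [← sub_eq_zero, ← neg_zero, ← e', p3]; abel) b (h.AS hb)
    have c : ∀ w : W, b • a • w = a • b • w := fun w => by
      rw [← mul_smul, ← mul_smul, show b * a = a * b from Subtype.ext (h.AA ha b hb)]
    simp only [smul_sub, c] at this ⊢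
    rw [← sub_eq_zero] at this ⊢
    rw [← this]; abel
  · have h3 : 3 < p := by have := hp.out.two_le; omega
    have e : ∀ a : G, (a : X) ∈ A → ∀ w : W, a • (a • w - w) = a • w - w := fun a ha w => by
      obtain ⟨u, hu, rfl⟩ := s.sur w
      rw [← s.comm h.nQ a hu, ← kk a _ (cm a a.2 u hu)]
      exact (h.big gd h3 ha).1 u hu
    refine sup_le (f2 e) (pw_le_iff.2 fun x hx => ?_)
    obtain ⟨u, hu, a, ha, rfl⟩ := (mem_sup_of_le_normalizer' (h.AG.trans h.nQ)).1 ((h.sp.trans (sup_comm _ _).le) hx)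
    obtain ⟨k1, k2⟩ := sec_pw s h.nQ ⟨a, h.AG ha⟩ hu (e _ ha _) p2 pw
    simpa using mul_mem ((s.ker _ k1).1 k2) (h.big gd h3 ha).2
end CO

end H118
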