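import Cfsg.Agent.H18.PC4
/-! The Glauberman–Niles theorem (`gn`). -/
set_option autoImplicit false
set_option linter.unusedSectionVars false
namespace H118
open Subgroup H26 H4 Cfsg Matrix H18.PU
open scoped commutatorElement MatrixGroups Pointwise
universe u

theorem exists_dec {S G : Type*} [Group S] [Group G] {τ : S →* G} (hτ : Function.Injective τ) :
    ∃ (c : G → S) (r : G → G), (∀ g, τ (c g) * r g = g) ∧ (∀ s g, r (τ s * g) = r g) ∧ (∀ s g, c (τ s * g) = s * c g) ∧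
      (∀ g, r (r g) = r g) ∧ ∀ g, c (r g) = 1 := by
  let r : G → G := fun x => (Quotient.mk (QuotientGroup.rightRel τ.range) x).out
  have h1 : ∀ x, ∃ s, τ s = x * (r x)⁻¹ := fun x =>
    QuotientGroup.rightRel_apply.1 (Quotient.mk_out (s := QuotientGroup.rightRel τ.range) x)
  choose c hc using h1
  have h2 : ∀ s x, r (τ s * x) = r x := fun s x =>
    congrArg Quotient.out (Quotient.sound (QuotientGroup.rightRel_apply.2 ⟨s⁻¹, by simp⟩))
  have h3 : ∀ x, r (r x) = r x := fun x => congrArg Quotient.out (Quotient.out_eq _)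
  exact ⟨c, r, fun g => by rw [hc, inv_mul_cancel_right], h2, fun s g => hτ (by rw [hc, h2, map_mul, hc, mul_assoc]), h3,
    fun g => hτ (by rw [hc, h3, map_one, mul_inv_cancel])⟩

theorem exists_amal {S G G' : Type*} [Group S] [Group G] [Group G'] {τ : S →* G} {τ' : S →* G'}
    (hτ : Function.Injective τ) (hτ' : Function.Injective τ') : ∃ (f : G →* Equiv.Perm (G × G'))
      (f' : G' →* Equiv.Perm (G × G')), Function.Injective f ∧ Function.Injective f' ∧ f.comp τ = f'.comp τ' := by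
  obtain ⟨c, r, a1, a2, a3, a4, a5⟩ := exists_dec hτ
  obtain ⟨c', r', b1, b2, b3, b4, b5⟩ := exists_dec hτ'
  let σ : Equiv.Perm (G × G') := Function.Involutive.toPerm (fun x => (τ (c' x.2) * r x.1, τ' (c x.1) * r' x.2))
    fun x => by simp [*]
  let f : G →* Equiv.Perm (G × G') := MonoidHom.mk' (fun g => (Equiv.mulLeft g).prodCongr (Equiv.refl _))
    fun a b => by ext <;> simp [mul_assoc]
  let f' : G' →* Equiv.Perm (G × G') := MonoidHom.mk' (fun g => (Equiv.refl _).prodCongr (Equiv.mulLeft g))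
    fun a b => by ext <;> simp [mul_assoc]
  refine ⟨(MulAut.conj σ).toMonoidHom.comp f, f', (MulAut.conj σ).injective.comp fun a b e => ?_, fun a b e => ?_,
    MonoidHom.ext fun s => ?_⟩
  · simpa [f] using congrArg (fun x : Equiv.Perm (G × G') => (x (1, 1)).1) e
  · simpa [f'] using congrArg (fun x : Equiv.Perm (G × G') => (x (1, 1)).2) e
  · show σ * f (τ s) * σ⁻¹ = f' (τ' s)
    rw [mul_inv_eq_iff_eq_mul]
    ext x <;> simp [σ, f, f', Function.Involutive.toPerm, a2, a3, mul_assoc]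

variable {p : ℕ} [hp : Fact p.Prime]
section Map
variable {X X' : Type*} [Group X] [Finite X] [Group X'] [Finite X'] {f : X →* X'} {G S T Q : Subgroup X}

theorem map_pw (k : ℕ) : (pw k T).map f = pw k (T.map f) := le_antisymm (map_le_iff_le_comap.2 (pw_le_iff.2 fun x hx => by
  rw [mem_comap, map_pow]; exact pow_mem_pw (mem_map_of_mem f hx))) (pw_le_iff.2 (by
    rintro _ ⟨x, hx, rfl⟩; rw [← map_pow]; exact mem_map_of_mem f (pow_mem_pw hx)))
theorem map_S0 : (S0 p T).map f = S0 p (T.map f) := by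
  unfold S0; split_ifs <;> simp only [Subgroup.map_sup, map_commutator, map_phi, map_pw]
theorem S0_le : S0 p T ≤ T := by
  have a := commutator_le_of_le_normalizer (le_normalizer.trans (normalizer_le_normalizer_phi p T))
  have b := (phi_le p _).trans (phi_le p T)
  unfold S0; split_ifs
  exacts [sup_le (a.trans (phi_le _ _)) b, sup_le ((commutator_mono (a.trans (phi_le _ _)) le_rfl).trans
    (commutator_le_self _)) b, sup_le (a.trans (phi_le _ _)) (pw_le _ _)]
theorem exists_co (h : R0 p G S) (k : SC p S) (c : ¬ G ≤ 𝐂 (ZZ S)) : ∃ M A, CO p G S M A := by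
  obtain ⟨M, hu⟩ := h.um
  obtain ⟨A, hA, h1⟩ : ∃ A ∈ MaxEA 0 S, ¬ A ≤ 𝐎 p G := by
    by_contra! l; exact h.nSQ (k.sj.trans (thompsonOf_le_iff.2 l))
  exact ⟨M, A, co_of (h.ra c) k hu hA h1⟩
theorem cd_top : CD ⊤ T ↔ IsCentralizerLarge T := by
  rw [CD, top_inf_eq, mcp_congr topEquiv]; exact and_iff_right le_top
theorem zz_top : ZZ (⊤ : Subgroup X) = center X := by rw [ZZ, top_inf_eq, coe_top, centralizer_univ]

variable (hf : Function.Injective f)
include hf
theorem R0.map (h : R0 p G S) : R0 p (G.map f) (S.map f) where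
  cp := (charPOf_map_iff hf).2 h.cp
  syl := (isSyl_map_iff hf).2 h.syl
  um := h.um.elim fun _ k => ⟨_, k.map_of_injective hf⟩
  ab := by rw [← map_commutator, ← map_pCoreOf hf]; exact map_mono h.ab
  pw := by rintro _ ⟨s, hs, rfl⟩; rw [← map_pCoreOf hf, ← map_pow]; exact mem_map_of_mem f (h.pw s hs)
  nn := fun e => h.nn ((map_le_normalizer_map_iff hf).1 e)
theorem map_zz : (ZZ T).map f = ZZ (T.map f) := map_inf_centralizer hf _ _
theorem CD.of_map (h : CD (S.map f) (T.map f)) : CD S T := ⟨(map_le_map_iff_of_injective hf).1 h.1, by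
  have := h.2
  rwa [← map_inf_centralizer hf, card_map_of_injective hf, card_map_of_injective hf,
    ← mcp_congr (S.equivMapOfInjective f hf)] at this⟩
omit hf
theorem cl_map (e : X ≃* X') (h : IsCentrallyLarge Q) : IsCentrallyLarge (Q.map e.toMonoidHom) :=
  (cl_of_comm (map_mono (cl_iff.1 h).2) (map_le_centralizer_map _ le_rfl) (by
    rw [card_map_of_injective e.injective, card_map_of_injective e.injective, ← mcp_congr e]; exact (cl_iff.1 h).1.ge)).1
theorem mcl_map (e : X ≃* X') (h : IsMinimalCentrallyLarge Q) : IsMinimalCentrallyLarge (Q.map e.toMonoidHom) :=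
  ⟨cl_map e h.1, fun R a b => by
    rw [← h.2 _ (map_le_iff_le_comap.2 (a.trans fun _ ⟨x, hx, k⟩ => by simpa [← k] using hx)) (cl_map e.symm b),
      Subgroup.map_map]
    simp⟩
theorem map_map_symm (e : X ≃* X') (R : Subgroup X') : (R.map e.symm.toMonoidHom).map e.toMonoidHom = R := by
  rw [Subgroup.map_map]; simp
theorem map_join (e : X ≃* X') : (minimalCentrallyLargeJoin X).map e.toMonoidHom = minimalCentrallyLargeJoin X' :=
  le_antisymm (map_le_iff_le_comap.2 (sSup_le fun _ a => map_le_iff_le_comap.1 (le_sSup (mcl_map e a))))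
    (sSup_le fun R a => (map_map_symm e R).ge.trans (map_mono (le_sSup (mcl_map e.symm a))))
theorem mz_le (e : X ≃* X') : maxOmegaCenterOfMinimalCL p X ≤ maxOmegaCenterOfMinimalCL p X' := by
  obtain ⟨Q, a, b⟩ := exists_mz p X
  rw [← b, ← card_map_of_injective (f := e.toMonoidHom) e.injective, map_oc e.injective]
  exact le_csSup ⟨Nat.card X', by rintro _ ⟨Q, -, rfl⟩; exact card_le_card_group _⟩ ⟨_, mcl_map e a, rfl⟩
theorem map_pjoin_le (h : IsPGroup p X) (e : X ≃* X') :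
    (frattiniOfMinimalCLJoin p X).map e.toMonoidHom ≤ frattiniOfMinimalCLJoin p X' :=
  map_le_iff_le_comap.2 (iSup_le fun Q => map_le_iff_le_comap.1 (by
    rw [← phi_eq_frattini (h.to_subgroup _), map_phi, phi_eq_frattini ((h.of_equiv e).to_subgroup _)]
    exact le_iSup_of_le (f := fun Q : {Q : Subgroup X' // IsMinimalCentrallyLarge Q ∧ Nat.card (𝛀 p Q) =
      maxOmegaCenterOfMinimalCL p X'} => (frattini (Q : Subgroup X')).map (Q : Subgroup X').subtype)
      ⟨_, mcl_map e Q.2.1, by rw [← map_oc e.injective, card_map_of_injective e.injective, Q.2.2,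
        le_antisymm (mz_le e) (mz_le e.symm)]⟩ le_rfl))
theorem map_pjoin (h : IsPGroup p X) (e : X ≃* X') :
    (frattiniOfMinimalCLJoin p X).map e.toMonoidHom = frattiniOfMinimalCLJoin p X' :=
  le_antisymm (map_pjoin_le h e) ((map_map_symm e _).ge.trans (map_mono (map_pjoin_le (h.of_equiv e) e.symm)))
theorem char_sub (h : T.Characteristic) (e : S = ⊤) : (T.subgroupOf S).Characteristic := by
  subst e
  exact characteristic_iff_le_comap.2 fun φ x hx =>
    characteristic_iff_le_comap.1 h ((topEquiv.symm.trans φ).trans topEquiv) hx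
end Map

variable {S : Type u} [Group S] [Finite S] {S₁ S₂ Y Y' : Subgroup S}

/-- `C_S(Z(J(S)))` -/
abbrev JT (S : Type*) [Group S] : Subgroup S := 𝐂 (thompsonSubgroupA S ⊓ 𝐂 (thompsonSubgroupA S))

theorem zj_eq : thompsonSubgroupA S ⊓ 𝐂 (thompsonSubgroupA S) = centerThompsonOf 0 ⊤ := by
  rw [thompsonSubgroupA_eq, ← thompsonOf_top, centerThompsonOf_def]

/-- a pushing up pair -/
structure GP (p : ℕ) (S₁ S₂ : Subgroup S) : Prop where
  n1 : S₁ ≠ ⊥
  n2 : S₂ ≠ ⊥
  c1 : S₁.Characteristic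
  c2 : S₂.Characteristic
  l1 : S₁ ≤ center S
  l2 : S₂ ≤ JT S
  cs : (S₂.subgroupOf (JT S)).Characteristic
  gn : ∀ (G : Type u) [Group G] [Finite G] (τ : S →* G), Function.Injective τ → R0 p ⊤ (map τ ⊤) →
    (S₁.map τ).Normal ∨ (S₂.map τ).Normal

/-- an embedding in which `Φ(O_p(G))` does not centralize `O^p(G)` -/
structure Bad (p : ℕ) {G : Type*} [Group G] (τ : S →* G) (Y : Subgroup S) : Prop where
  inj : Function.Injective τ
  r : R0 p ⊤ (map τ ⊤)
  nz : ¬ ⊤ ≤ 𝐂 (ZZ (map τ ⊤))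
  nb : ¬ phi p (𝐎 p ⊤) ≤ 𝐂 (pResidualOf p (⊤ : Subgroup G))
  e : Y.map τ = ZZ (𝐎 p ⊤)

theorem Bad.co {G X : Type*} [Group G] [Finite G] [Group X] [Finite X] {τ : S →* G} (h : Bad p τ Y) (k : SC p (⊤ : Subgroup S))
    {f : G →* X} (hf : Function.Injective f) : (∃ M A, CO p (map f ⊤) (map (f.comp τ) ⊤) M A) ∧
      ¬ phi p (𝐎 p (map f ⊤)) ≤ 𝐂 (pResidualOf p (map f ⊤)) ∧ Y.map (f.comp τ) = ZZ (𝐎 p (map f ⊤)) := by
  rw [← Subgroup.map_map, ← Subgroup.map_map, h.e, ← map_pCoreOf hf, ← map_phi, ← map_pResidualOf,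
    map_le_centralizer_map_iff hf]
  exact ⟨exists_co (h.r.map hf) ((k.map h.inj).map hf) (by rw [← map_zz hf, map_le_centralizer_map_iff hf]; exact h.nz),
    h.nb, map_zz hf⟩

theorem Bad.two {G G' : Type*} [Group G] [Finite G] [Group G'] [Finite G'] {τ : S →* G} {τ' : S →* G'} (h : Bad p τ Y)
    (h' : Bad p τ' Y') (k : SC p (⊤ : Subgroup S)) : Y' ≤ 𝐂 Y ∧ ⁅Y'.map τ, pResidualOf p ⊤⁆ ≤ Y.map τ := by
  obtain ⟨f, f', hf, hf', e⟩ := exists_amal h.inj h'.inj
  obtain ⟨⟨M, A, a1⟩, a2, a3⟩ := h.co k hf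
  obtain ⟨⟨M', A', b1⟩, b2, b3⟩ := h'.co k hf'
  rw [← e] at b1 b3
  refine ⟨(map_le_centralizer_map_iff (f := f.comp τ) (hf.comp h.inj)).1 ?_,
    (map_le_map_iff_of_injective hf).1 ?_⟩
  · rw [a3, b3]; exact (a1.ZQ b1 a2).trans a1.QZ
  · rw [map_commutator, Subgroup.map_map, Subgroup.map_map, a3, b3, map_pResidualOf]; exact a1.two b1 a2 b2

theorem jt_top (h : thompsonSubgroupA S = ⊤) : JT S = ⊤ := by
  rw [JT, h]; exact top_le_iff.1 (le_centralizer_iff.1 inf_le_right)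

theorem gp_core (hS : IsPGroup p S) (k : SC p (⊤ : Subgroup S)) (h0 : S0 p (⊤ : Subgroup S) ≠ ⊥) :
    ∃ S₁ S₂ : Subgroup S, GP p S₁ S₂ ∧ maxCentralizerProduct S₂ = maxCentralizerProduct (JT S) := by
  let 𝒮 : Set (Subgroup S) := {Y | Y = ZZ ⊤ ∨ ∃ (G : Type u) (_ : Group G) (_ : Finite G) (τ : S →* G), Bad p τ Y}
  have j : JT S = ⊤ := jt_top (by rw [thompsonSubgroupA_eq, ← thompsonOf_top]; exact top_le_iff.1 k.sj)
  have zc : ∀ Y : Subgroup S, ZZ ⊤ ≤ 𝐂 Y := fun Y => inf_le_right.trans (centralizer_anti le_top)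
  have c0 : (S0 p (⊤ : Subgroup S)).Characteristic := characteristic_iff_map_eq.2 fun φ => by
    rw [map_S0, map_top_of_surjective _ φ.surjective]
  have c1 : (sSup 𝒮).Characteristic := characteristic_iff_map_le.2 fun φ => map_le_iff_le_comap.2 (sSup_le fun Y hY =>
    map_le_iff_le_comap.1 (le_sSup (by
      obtain rfl | ⟨G, _, _, τ, h⟩ := hY
      · exact .inl (by rw [map_zz φ.injective, map_top_of_surjective _ φ.surjective])
      have e : map (τ.comp φ.symm.toMonoidHom) ⊤ = map τ ⊤ := by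
        rw [← Subgroup.map_map, map_top_of_surjective _ φ.symm.surjective]
      exact .inr ⟨G, _, ‹_›, τ.comp φ.symm.toMonoidHom, h.inj.comp φ.symm.injective, e ▸ h.r, e ▸ h.nz, h.nb, by
        rw [← Subgroup.map_map, ← h.e]; exact congrArg _ (map_map_symm φ.symm Y)⟩)))
  have cd : CD ⊤ (sSup 𝒮) := cd_sSup' (by
    rintro Y (rfl | ⟨G, _, _, τ, h⟩)
    · exact k.cs.c
    · obtain ⟨⟨M, A, a⟩, -, e⟩ := h.co k (f := MonoidHom.id G) Function.injective_id
      exact CD.of_map (f := (MonoidHom.id G).comp τ) h.inj (e ▸ a.cdZ)) ⟨_, .inl rfl⟩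
  have ab : sSup 𝒮 ≤ 𝐂 (sSup 𝒮) := sSup_le (by
    rintro Y (rfl | ⟨G, _, _, τ, h⟩)
    · exact zc _
    refine le_centralizer_iff.1 (sSup_le ?_)
    rintro Y' (rfl | ⟨G', _, _, τ', h'⟩)
    exacts [zc _, (h.two h' k).1])
  have n1 : S0 p ⊤ ⊓ 𝐂 (⊤ : Subgroup S) ≠ ⊥ := inf_centralizer_ne_bot (hS.to_subgroup _) (hS.to_subgroup _)
    (normalizer_eq_top _).ge h0
  have ct : 𝐂 (⊤ : Subgroup S) = center S := by rw [coe_top, centralizer_univ]
  refine ⟨S0 p ⊤ ⊓ 𝐂 (⊤ : Subgroup S), 𝐂 (sSup 𝒮), ⟨n1, fun e => n1 (le_bot_iff.1 ((inf_le_right.trans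
    (centralizer_anti le_top)).trans e.le)), by rw [ct]; infer_instance, inferInstance, inf_le_right.trans ct.le,
    j ▸ le_top, char_sub inferInstance j, fun G _ _ τ hτ r => ?_⟩, le_antisymm (mcp_le (inclusion_injective (j ▸ le_top)))
      (by rw [j, ← cd.2, top_inf_eq, mul_comm]; exact le_f le_rfl ab (le_centralizer_iff.1 le_rfl))⟩
  rw [map_inf_centralizer hτ, map_S0]
  by_cases c : ⊤ ≤ 𝐂 (ZZ (map τ ⊤))
  · exact .inl (normal_of_cen c (inf_le_inf_right _ S0_le))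
  obtain ⟨M, A, a⟩ := exists_co r (k.map hτ) c
  by_cases nb : phi p (𝐎 p ⊤) ≤ 𝐂 (pResidualOf p (⊤ : Subgroup G))
  · exact .inl (normal_of_cen (le_centralizer_iff.1 a.cG) (inf_le_inf_right _ (a.good nb)))
  have h : Bad p τ ((ZZ (𝐎 p ⊤)).comap τ) := ⟨hτ, r, c, nb, map_comap_eq_self (a.ZS.trans (map_le_range _ _))⟩
  have l : ZZ (𝐎 p ⊤) ≤ (sSup 𝒮).map τ := h.e.ge.trans (map_mono (le_sSup (.inr ⟨G, _, ‹_›, τ, h⟩)))
  have n : ⊤ ≤ 𝐍 ((sSup 𝒮).map τ) := a.syl.le_of_pResidualOf_le (le_normalizer_of_commutator_le (le_trans ?_ l))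
    (map_le_normalizer_map τ (normalizer_eq_top _).ge)
  · rw [← top_inf_eq (𝐂 (sSup 𝒮)), map_inf_centralizer hτ, le_antisymm (le_inf ((inf_le_inf_left _
      (centralizer_anti l)).trans a.cZ.le) inf_le_right) (inf_le_inf_right _ a.QS)]
    exact .inr (normal_of_top_le_normalizer (le_normalizer_inf a.nQ (le_normalizer_centralizer n)))
  refine (le_commStab_iff.1 (map_le_iff_le_comap.2 (sSup_le fun Y hY => map_le_iff_le_comap.1
    (le_commStab_iff.2 ⟨le_top.trans a.nZ, ?_⟩)))).2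
  obtain rfl | ⟨G', _, _, τ', h'⟩ := hY
  · rw [map_zz hτ]; exact (commutator_mono a.zZ le_rfl).trans (commutator_le_of_le_normalizer (le_top.trans a.nZ))
  · exact h.e ▸ (h.two h' k).2

theorem cen_ne [Nontrivial S] (hS : IsPGroup p S) : center S ≠ ⊥ := by
  rw [← zz_top, ZZ]
  exact inf_centralizer_ne_bot (hS.to_subgroup _) (hS.to_subgroup _) le_normalizer top_ne_bot
theorem cen_le_jt : center S ≤ JT S := zz_top.ge.trans (inf_le_right.trans (centralizer_anti le_top))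

theorem gp_jt [Nontrivial S] (hS : IsPGroup p S) (n1 : S₁ ≠ ⊥) (c1 : S₁.Characteristic) (l1 : S₁ ≤ center S)
    (h : ∀ (G : Type u) [Group G] [Finite G] (τ : S →* G), Function.Injective τ → RZ p ⊤ (map τ ⊤) →
      ¬ 𝐉𝐉 0 (map τ ⊤) ≤ 𝐎 p ⊤ → (S₁.map τ).Normal) : GP p S₁ (JT S) := by
  refine ⟨n1, fun e => cen_ne hS (le_bot_iff.1 (cen_le_jt.trans e.le)), c1, ?_, l1, le_rfl,
    by rw [subgroupOf_self]; infer_instance, fun G _ _ τ hτ r => ?_⟩
  · rw [JT, thompsonSubgroupA_eq]; infer_instance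
  obtain a | a | ⟨a, j⟩ := r.tri
  · exact .inl (normal_of_cen a (by rw [← map_zz hτ, zz_top]; exact map_mono l1))
  · rw [JT, zj_eq, ← top_inf_eq (𝐂 _), map_inf_centralizer hτ, map_centerThompsonOf hτ]
    exact .inr (normal_of_top_le_normalizer a)
  · exact .inl (h G τ hτ a j)

theorem map_sub {G : Type*} [Group G] {τ : S →* G} (hτ : Function.Injective τ) :
    ∃ e : S ≃* map τ ⊤, ∀ T : Subgroup S, (T.map e.toMonoidHom).map (map τ ⊤).subtype = T.map τ :=
  ⟨topEquiv.symm.trans (equivMapOfInjective ⊤ τ hτ), fun T => by rw [Subgroup.map_map]; rfl⟩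

theorem gn [Nontrivial S] (hS : IsPGroup p S) : (¬ IsMulCommutative S ∧ SC p (⊤ : Subgroup S) ∧ S0 p (⊤ : Subgroup S) = ⊥) ∨
    ∃ S₁ S₂ : Subgroup S, GP p S₁ S₂ ∧ maxCentralizerProduct S₂ = maxCentralizerProduct (JT S) := by
  have ct : 𝐂 (⊤ : Subgroup S) = center S := by rw [coe_top, centralizer_univ]
  by_cases c0 : IsMulCommutative S
  · refine .inr ⟨_, _, gp_jt hS (cen_ne hS) inferInstance le_rfl fun G _ _ τ hτ a _ => (a.nSQ fun x hx => a.cp ⟨trivial,
      centralizer_anti a.QS (isMulCommutative_iff'.1 (comm_map (isMulCommutative_iff'.2 fun x _ y _ => c0.1.1 y x) τ) hx)⟩).elim,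
      rfl⟩
  by_cases c1 : ⁅centerThompsonOf 0 (⊤ : Subgroup S), (⊤ : Subgroup S)⁆ = ⊥
  swap
  · have : (centerThompsonOf 0 (⊤ : Subgroup S)).Characteristic := by rw [← zj_eq, thompsonSubgroupA_eq]; infer_instance
    refine .inr ⟨_, _, gp_jt hS (inf_centralizer_ne_bot (hS.to_subgroup _) (hS.to_subgroup ⊤) (normalizer_eq_top _).ge c1)
      (by rw [ct]; infer_instance) (inf_le_right.trans ct.le) fun G _ _ τ hτ a j => normal_of_cen (a.cenY j) ?_, rfl⟩
    rw [map_inf_centralizer hτ, map_commutator, map_centerThompsonOf hτ]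
  by_cases c2 : IsElementaryAbelian p (ZZ (⊤ : Subgroup S))
  swap
  · refine .inr ⟨_, _, gp_jt hS (S₁ := pw p (ZZ ⊤)) (fun e => c2 (isElementaryAbelian_iff.2 ⟨inf_le_right.trans
      (centralizer_anti le_top), fun x hx => mem_bot.1 (e.le (pow_mem_pw hx))⟩)) (characteristic_iff_map_eq.2 fun φ => by
        rw [map_pw, map_zz φ.injective, map_top_of_surjective _ φ.surjective]) ((pw_le _ _).trans zz_top.le)
      fun G _ _ τ hτ a j => ?_, rfl⟩
    rw [map_pw, map_zz hτ]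
    exact normal_of_top_le_normalizer (a.pwZ ▸ n_pw _ a.nZ)
  have j : JT S = ⊤ := by rw [JT, zj_eq]; exact top_le_iff.1 (commutator_eq_bot_iff'.1 c1)
  obtain ⟨Q, hQ⟩ := exists_mcl (G := S)
  by_cases c3 : ⁅Q, Q⁆ = ⊥
  swap
  · have := der_char hQ
    have c : (minimalCentrallyLargeJoin S).Characteristic := characteristic_iff_map_eq.2 map_join
    have l : Q ≤ minimalCentrallyLargeJoin S := le_sSup hQ
    refine .inr ⟨⁅Q, Q⁆ ⊓ 𝐂 (⊤ : Subgroup S), _, ⟨inf_centralizer_ne_bot (hS.to_subgroup _) (hS.to_subgroup ⊤)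
      (normalizer_eq_top _).ge c3, fun e => c3 (le_bot_iff.1 ((commutator_le_self _).trans (l.trans e.le))),
      by rw [ct]; infer_instance, c, inf_le_right.trans ct.le, j ▸ le_top, char_sub c j, fun G _ _ τ hτ r => ?_⟩,
      le_antisymm (mcp_le (inclusion_injective (j ▸ le_top))) (by
        rw [j, mcp_congr topEquiv, ← (cl_iff.1 hQ.1).1]; exact le_f l ((cl_iff.1 hQ.1).2.trans l) le_rfl)⟩
    obtain ⟨e, he⟩ := map_sub hτ
    refine (r.mclD ⟨_, mcl_map e hQ, he Q⟩).imp (fun a => normal_of_cen a ?_) fun a => normal_of_top_le_normalizer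
      (by rwa [← map_join e, he] at a)
    rw [map_inf_centralizer hτ, map_commutator]
    exact le_inf (inf_le_inf_right _ ((commutator_le_self _).trans (map_mono le_top))) inf_le_left
  have q := commutator_self_eq_bot_iff.1 c3
  obtain ⟨a, b⟩ := cl_sup_thompsonA hQ.1
  rw [sup_eq_right.2 (le_thompsonA (maxAb_of_cl hQ.1 q))] at a b
  have e := top_le_iff.1 (j.ge.trans b)
  have k : SC p (⊤ : Subgroup S) := ⟨c2, cd_top.2 (e ▸ (cl_iff.1 a).1), fun A hA => cd_top.2 (cl_iff.1 ((mcl_iff_maxAb hQ q).2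
    (by rwa [maxEA_top, maxElementaryAbelianSubgroups_zero] at hA)).1).1, by
      rw [thompsonOf_top, ← thompsonSubgroupA_eq, e]⟩
  exact (em _).imp (fun h => ⟨c0, k, h⟩) (gp_core hS k)

theorem exc_of [Nontrivial S] (hS : IsPGroup p S) (k : SC p (⊤ : Subgroup S)) (h : S0 p (⊤ : Subgroup S) = ⊥) :
    thompsonSubgroupA S = ⊤ ∧ IsElementaryAbelian p (center S) ∧ IsElementaryAbelian p (frattini S) ∧
    (p = 2 → frattini S ≤ center S) ∧ (p = 3 → frattini S ≤ Subgroup.upperCentralSeries S 2) ∧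
    (3 < p → frattini S ≤ center S ∧ Monoid.exponent S = p) ∧ ∀ A ∈ maxAbelianSubgroups S, ∀ B ∈ maxAbelianSubgroups S,
      ∀ Q : Subgroup S, Nat.card A ^ 2 = Nat.card S * Nat.card (center S) ∧ Nat.card Q * Nat.card (center Q) ≤
        Nat.card S * Nat.card (center S) ∧ ((A ⊔ B : Subgroup S) : Set S) = (A : Set S) * (B : Set S) ∧ A ⊔ B = 𝐂 (A ⊓ B) := by
  have z : ∀ T : Subgroup S, ⁅T, ⊤⁆ = ⊥ → T ≤ center S := fun T e => (le_inf le_top (le_centralizer_iff.1
    (commutator_eq_bot_iff'.1 e))).trans zz_top.le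
  have m := k.cs.2
  rw [mcp_congr topEquiv, show (⊤ : Subgroup S) ⊓ 𝐂 ⊤ = center S from zz_top, card_top] at m
  have x : ∀ A ∈ maxAbelianSubgroups S, IsCentralizerLarge A := fun A hA => cd_top.1 (k.mx A (by
    rwa [maxEA_top, maxElementaryAbelianSubgroups_zero]))
  rw [S0, phi_top_eq_frattini hS] at h
  refine ⟨by rw [thompsonSubgroupA_eq, ← thompsonOf_top]; exact top_le_iff.1 k.sj,
    zz_top (X := S) ▸ k.ze, phi_eq_bot_iff.1 ?_,
    fun e => ?_, fun e => ?_, fun e => ?_, fun A hA B hB Q => ⟨?_, ?_, cd_coe_sup (x A hA) (x B hB), ?_⟩⟩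
  · split_ifs at h
    exacts [(sup_eq_bot_iff.1 h).2, (sup_eq_bot_iff.1 h).2, le_bot_iff.1 ((phi_le_iff.2 ⟨le_sup_of_le_left
      (commutator_mono le_rfl le_top), fun x _ => mem_sup_right (pow_mem_pw (mem_top x))⟩).trans h.le)]
  · rw [if_pos e] at h; exact z _ (sup_eq_bot_iff.1 h).1
  · rw [if_neg (by omega), if_pos e] at h
    exact fun x hx => Subgroup.mem_upperCentralSeries_succ_iff.2 fun y => Subgroup.upperCentralSeries_one S ▸
      z _ (sup_eq_bot_iff.1 h).1 (commutator_mem_commutator hx trivial)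
  · rw [if_neg (by omega), if_neg (by omega)] at h
    refine ⟨z _ (sup_eq_bot_iff.1 h).1, ((Nat.dvd_prime hp.out).1 (Monoid.exponent_dvd_of_forall_pow_eq_one fun x =>
      mem_bot.1 ((sup_eq_bot_iff.1 h).2.le (pow_mem_pw trivial)))).resolve_left Monoid.one_lt_exponent.ne'⟩
  · rw [m, ← x A hA, centralizer_eq_of_maxAb hA, pow_two]
  · rw [m, ← maxCentralProduct_eq, card_center_eq]; exact cl_le Q
  · rw [(cd_lattice (x A hA) (x B hB)).2.2.2, centralizer_eq_of_maxAb hA, centralizer_eq_of_maxAb hB]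

theorem gp_phi [Nontrivial S] (hS : IsPGroup p S) (j : thompsonSubgroupA S = ⊤) (h : frattiniOfMinimalCLJoin p S ≠ ⊥) :
    GP p (center S) (frattiniOfMinimalCLJoin p S) := by
  have c : (frattiniOfMinimalCLJoin p S).Characteristic := characteristic_iff_map_eq.2 (map_pjoin hS)
  refine ⟨cen_ne hS, h, inferInstance, c, le_rfl, jt_top j ▸ le_top, char_sub c (jt_top j), fun G _ _ τ hτ r => ?_⟩
  obtain ⟨e, he⟩ := map_sub hτ
  by_cases c : ⊤ ≤ 𝐂 (ZZ (map τ ⊤))
  · exact .inl (normal_of_cen c (by rw [← map_zz hτ, zz_top]))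
  · exact .inr (normal_of_top_le_normalizer (by rw [← he, map_pjoin hS e]; exact (r.ra c).nPhi))

theorem GP.sit (h : GP p S₁ S₂) (G : Type u) [Group G] [Finite G] (P : Subgroup G) (e : S ≃* P)
    (k : IsPushingUpSituation p P) : (S₁.map (P.subtype.comp e.toMonoidHom)).Normal ∨
      (S₂.map (P.subtype.comp e.toMonoidHom)).Normal :=
  h.gn G _ (P.subtype_injective.comp e.injective) (by
    rw [← Subgroup.map_map, map_top_of_surjective _ e.surjective, map_subtype_top]; exact r0_sit k)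

end H118
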