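import Cfsg.Agent.H18.PUDef
import Cfsg.Agent.H18.PU1
import Cfsg.Agent.H1.BGCop
/-! Pushing up, part 2: two non-commuting normal four-groups of a `2`-group `B`, each with an element of order three
(`Hf`), give `B = D₈ × D` with `|D| ≤ 2` if the `2`-local subgroups are solvable (`fin`). -/
set_option autoImplicit false
namespace H118
open Subgroup Cfsg H26 H4 H18.PU
open scoped commutatorElement

variable {G : Type*} [Group G] {B W W' U X : Subgroup G} {k g s t w x y ρ ρ' : G}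

/-- `k` induces an automorphism of order three on `W` -/
structure Th (W : Subgroup G) (k : G) : Prop where
  n : k ∈ 𝐍 W
  cube : k ^ 3 ∈ 𝐂 W
  nc : k ∉ 𝐂 W

theorem Th.conj (h : Th W k) (g : G) : Th (cj g W) (g * k * g⁻¹) :=
  ⟨cj_normalizer g W ▸ conj_mem_cj g h.n, by rw [conj_pow, ← cj_centralizer]; exact conj_mem_cj g h.cube,
    by rw [← cj_centralizer, conj_mem_cj_iff]; exact h.nc⟩

theorem Th.mul (h : Th W k) (hc : x ∈ 𝐂 W) : Th W (x * k) := by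
  have n := normalizer_le_normalizer_centralizer W h.n
  refine ⟨mul_mem (centralizer_le_normalizer _ hc) h.n, ?_, fun e => h.nc ((mul_mem_cancel_left hc).1 e)⟩
  simpa using mul_mem (mul_pow_mul_inv_mem n hc 3) h.cube

namespace Th
variable (f : Four W) (h : Th W k)
include f h

theorem fix (hw : w ∈ W) (e : k * w = w * k) : w = 1 := by
  by_contra w1
  have z : zpowers k ≤ 𝐍 W := zpowers_le.2 h.n
  have m : w ∈ W ⊓ 𝐂 (zpowers k) := ⟨hw, by rw [centralizer_zpowers]; exact mem_centralizer_singleton_iff.2 e.symm⟩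
  have c : k ∈ 𝐂 (W ⊓ 𝐂 (zpowers k)) := le_centralizer_iff.1 inf_le_right (mem_zpowers k)
  rcases f.card_cases (inf_le_left : W ⊓ 𝐂 (zpowers k) ≤ W) with e | e | e
  · exact w1 (mem_bot.1 (e ▸ m))
  · have l := f.commutator_le_of_card inf_le_left e z (zpowers_le.2 (centralizer_le_normalizer _ c))
    refine h.nc (mem_of_pow_mem_coprime (by norm_num : Nat.Coprime 2 3) (mem_centralizer_iff'.2 fun x hx => ?_) h.cube)
    have u := l (commutator_mem_commutator (inv_mem hx) (mem_zpowers k))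
    have e1 : k * x * k⁻¹ = x * ⁅x⁻¹, k⁆ := by simp [commutatorElement_def, mul_assoc]
    calc k ^ 2 * x * (k ^ 2)⁻¹ = k * (k * x * k⁻¹) * k⁻¹ := by rw [pow_two]; group
      _ = k * x * k⁻¹ * (k * ⁅x⁻¹, k⁆ * k⁻¹) := by nth_rewrite 1 [e1]; group
      _ = x := by rw [mem_centralizer_iff'.1 c _ u, e1, mul_assoc, f.sq _ u.1, mul_one]
  · exact h.nc (e ▸ c)

theorem tr (hx : x ∈ W) (hy : y ∈ W) (x1 : x ≠ 1) (y1 : y ≠ 1) : ∃ e ∈ zpowers k, e * x * e⁻¹ = y := by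
  have n1 := conj_mem_of_mem_normalizer h.n hx
  have a : ∀ x ∈ W, x ≠ 1 → x ≠ k * x * k⁻¹ := fun x hx x1 e => x1 (h.fix f hx (mul_inv_eq_iff_eq_mul.1 e.symm))
  have c1 : k * x * k⁻¹ ≠ 1 := by simpa using x1
  rcases f.mem_three hx n1 (conj_mem_of_mem_normalizer h.n n1) hy x1 c1 (by simpa using x1) y1 (a x hx x1) (fun e => by
    refine a x hx x1 ?_
    calc x = k ^ 3 * x * (k ^ 3)⁻¹ := (mem_centralizer_iff'.1 h.cube x hx).symm
      _ = k * (k * (k * x * k⁻¹) * k⁻¹) * k⁻¹ := by rw [pow_succ, pow_two]; group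
      _ = _ := by rw [← e]) (a _ n1 c1) with e | e | e
  · exact ⟨1, one_mem _, by simp [e]⟩
  · exact ⟨k, mem_zpowers k, e.symm⟩
  · exact ⟨k * k, mul_mem (mem_zpowers k) (mem_zpowers k), by rw [e]; group⟩

theorem le_comm : W ≤ ⁅W, zpowers k⁆ := fun y hy => by
  obtain ⟨x, hx, x1⟩ := exists_ne_one_of_card (U := W) (by rw [f.card]; norm_num)
  have m := commutator_mem_commutator hx (mem_zpowers k)
  by_cases y1 : y = 1
  · exact y1 ▸ one_mem _
  obtain ⟨e, he, rfl⟩ := h.tr f (commutator_le_of_le_normalizer (zpowers_le.2 h.n) m) hy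
    (fun e => x1 (h.fix f hx (commutatorElement_eq_one_iff_mul_comm.1 e).symm)) y1
  exact conj_mem_of_mem_normalizer (le_normalizer_commutator_right _ _ he) m

theorem odd [Finite G] (ht : t ∈ 𝐍 W) (t2 : t * t = 1) (tc : t ∉ 𝐂 W) :
    ∃ ρ ∈ zpowers ⁅k, t⁆, Th W ρ ∧ (orderOf ρ).Coprime 2 ∧ t * ρ * t⁻¹ = ρ⁻¹ := by
  obtain ⟨j, hj⟩ := exists_pow_coprime (p := 2) (isOfFinOrder_of_finite ⁅k, t⁆)
  obtain ⟨c1, c2⟩ := f.comm_three h.n ht h.cube h.nc (t2 ▸ one_mem _) tc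
  refine ⟨_, pow_mem (mem_zpowers _) _, ⟨pow_mem (mul_mem (mul_mem (mul_mem h.n ht) (inv_mem h.n)) (inv_mem ht)) _,
    by rw [← pow_mul, mul_comm, pow_mul]; exact pow_mem c1 _,
    fun e => c2 (mem_of_pow_mem_coprime (Nat.Coprime.pow_left j (by norm_num)) e c1)⟩, hj, ?_⟩
  rw [← conj_pow, ← inv_pow]
  congr 1
  have : t⁻¹ = t := inv_eq_of_mul_eq_one_right t2
  simp only [commutatorElement_def, mul_inv_rev, inv_inv, this, mul_assoc, t2, mul_one]

end Th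

/-- the four-group `W ⊴ B` with an element `ρ` of odd order acting on `C_B(W)` -/
structure Hf (B W : Subgroup G) (ρ : G) : Prop where
  isP : IsPGroup 2 B
  four : Four W
  le : W ≤ B
  nW : B ≤ 𝐍 W
  th : Th W ρ
  odd : (orderOf ρ).Coprime 2
  nQ : ρ ∈ 𝐍 (B ⊓ 𝐂 W)
  cm : ⁅B ⊓ 𝐂 W, zpowers ρ⁆ ≤ W
  inv : ∃ b ∈ B, b ∉ 𝐂 W ∧ b * ρ * b⁻¹ = ρ⁻¹

abbrev dd (B W : Subgroup G) (ρ : G) : Subgroup G := B ⊓ 𝐂 W ⊓ 𝐂 (zpowers ρ)

theorem Hf.conj (h : Hf B W ρ) (hs : s ∈ 𝐍 B) : Hf B (cj s W) (s * ρ * s⁻¹) := by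
  have e := cj_eq_iff.2 hs
  have e2 : B ⊓ 𝐂 (cj s W) = cj s (B ⊓ 𝐂 W) := by rw [cj_inf, e, cj_centralizer]
  obtain ⟨b, hb, b1, b2⟩ := h.inv
  refine ⟨h.isP, h.four.conj s, cj_le_of_mem_normalizer h.le hs, e ▸ cj_le_n s h.nW, h.th.conj s,
    by rw [orderOf_cj]; exact h.odd, by rw [e2, ← cj_normalizer]; exact conj_mem_cj s h.nQ,
    by rw [e2, ← cj_zpowers, ← cj_commutator]; exact cj_mono s h.cm, s * b * s⁻¹, conj_mem_of_mem_normalizer hs hb,
    by rwa [← cj_centralizer, conj_mem_cj_iff], ?_⟩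
  rw [show s * b * s⁻¹ * (s * ρ * s⁻¹) * (s * b * s⁻¹)⁻¹ = s * (b * ρ * b⁻¹) * s⁻¹ by group, b2]; group

variable [Finite G]

theorem four_inf (f : Four W) (f' : Four W') (n : W ≤ 𝐍 W') (n' : W' ≤ 𝐍 W) (nc : ¬ W' ≤ 𝐂 W) :
    W' ⊓ 𝐂 W = W ⊓ W' ∧ Nat.card ↥(W ⊓ W') = 2 := by
  have c := f'.card_inf_c f.isP n (fun e => nc (le_centralizer_iff.1 e))
  have := (eq_bot_or_eq_of_card c (le_inf inf_le_right (inf_le_left.trans f.le_c) : W ⊓ W' ≤ _)).resolve_left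
    fun e => nc (commutator_eq_bot_iff'.1 (le_bot_iff.1 (e ▸ commutator_le_inf_of_le_normalizer n n')))
  exact ⟨this.symm, this ▸ c⟩

namespace Hf
variable (h : Hf B W ρ)
include h

theorem q_le : B ⊓ 𝐂 W ≤ W ⊔ dd B W ρ := by
  obtain ⟨n, hn⟩ := (h.isP.to_inf_left (K := 𝐂 W)).exists_card_eq
  exact H1.Cop.le_sup_of_comm_le ⟨zpowers_le.2 h.nQ, by rw [hn, Nat.card_zpowers]; exact h.odd.pow_right n,
    Or.inl H18.abel_zpowers.solv⟩ h.cm

omit [Finite G] in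
theorem inf_dd : W ⊓ dd B W ρ = ⊥ :=
  eq_bot_iff.2 fun _ hx => h.th.fix h.four hx.1 (hx.2.2 ρ (mem_zpowers ρ))

theorem two (hx : x ∈ B) (hy : y ∈ B) (y1 : y ∉ 𝐂 W) : x ∈ 𝐂 W ∨ x * y ∈ 𝐂 W :=
  or_iff_not_imp_left.2 fun x1 => h.four.two_of_isP h.isP h.nW x hx y hy x1 y1

theorem n_dd : B ≤ 𝐍 (dd B W ρ) := fun x hx => by
  obtain ⟨b, hb, b1, b2⟩ := h.inv
  have q : B ⊓ 𝐂 W ≤ 𝐍 (dd B W ρ) := h.q_le.trans (sup_le (le_normalizer_of_le_centralizer
    (le_centralizer_iff.1 (inf_le_left.trans inf_le_right))) le_normalizer)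
  have bz : b ∈ 𝐍 (zpowers ρ) := cj_eq_iff.1 (by rw [cj_zpowers, b2, zpowers_inv])
  have bn : b ∈ 𝐍 (dd B W ρ) := zpowers_le.1 (le_normalizer_inf (le_normalizer_inf
    (zpowers_le.2 (le_normalizer hb)) (le_normalizer_centralizer (zpowers_le.2 (h.nW hb))))
    (le_normalizer_centralizer (zpowers_le.2 bz)))
  rcases h.two hx hb b1 with e | e
  · exact q ⟨hx, e⟩
  · exact (mul_mem_cancel_right bn).1 (q ⟨mul_mem hx hb, e⟩)

variable (h' : Hf B W' ρ') (nc : ¬ W' ≤ 𝐂 W)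
include h' nc

theorem inf : W' ⊓ 𝐂 W = W ⊓ W' ∧ Nat.card ↥(W ⊓ W') = 2 :=
  four_inf h.four h'.four (h.le.trans h'.nW) (h'.le.trans h.nW) nc

theorem dd_c : dd B W ρ ≤ 𝐂 W' := by
  refine commutator_eq_bot_iff'.1 (le_bot_iff.1 ((commutator_le_inf_of_le_normalizer (h'.le.trans h.n_dd)
    ((inf_le_left.trans inf_le_left).trans h'.nW)).trans (le_trans (le_inf ?_ inf_le_right) h.inf_dd.le)))
  exact (inf_le_inf_left _ (inf_le_left.trans inf_le_right)).trans ((h.inf h' nc).1.le.trans inf_le_left)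

theorem sup_eq : W ⊔ W' ⊔ dd B W ρ = B := by
  refine le_antisymm (sup_le (sup_le h.le h'.le) (inf_le_left.trans inf_le_left)) fun x hx => ?_
  obtain ⟨y, hy, y1⟩ := SetLike.not_le_iff_exists.1 nc
  have q := h.q_le.trans (sup_le_sup_right (le_sup_left : W ≤ W ⊔ W') _)
  rcases h.two hx (h'.le hy) y1 with e | e
  · exact q ⟨hx, e⟩
  · exact (mul_mem_cancel_right (mem_sup_left (mem_sup_right hy))).1 (q ⟨mul_mem hx (h'.le hy), e⟩)

theorem perf (h1 : W ≤ X) (h2 : W' ≤ X) (h3 : ρ ∈ X) : W ⊔ zpowers ρ ≤ ⁅X, X⁆ := by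
  have l : W ≤ ⁅X, X⁆ := (h.th.le_comm h.four).trans (commutator_mono h1 (zpowers_le.2 h3))
  obtain ⟨y, hy, y1⟩ := SetLike.not_le_iff_exists.1 nc
  obtain ⟨b, hb, b1, b2⟩ := h.inv
  obtain ⟨w, hw, d, hd, e⟩ := (mem_sup_of_le_normalizer (h.le.trans h.n_dd)).1 (h.q_le (mem_inf.2 ⟨mul_mem (h'.le hy)
    (inv_mem hb), (h.two (h'.le hy) (inv_mem hb) (by rwa [inv_mem_iff])).resolve_left y1⟩))
  obtain rfl : y = w * d * b := by rw [e]; group
  refine sup_le l (zpowers_le.2 (mem_of_pow_mem_coprime_orderOf h.odd ?_))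
  have c := mem_centralizer_iff'.1 hd.2 ρ⁻¹ (inv_mem (mem_zpowers ρ))
  have : ρ ^ 2 = ⁅ρ, w * d * b⁆ * (w * (ρ⁻¹ * w⁻¹ * ρ)) := by
    calc ρ ^ 2 = ⁅ρ, w * d * b⁆ * (w * (d * (b * ρ * b⁻¹) * d⁻¹) * w⁻¹ * ρ) := by rw [commutatorElement_def, pow_two]; group
      _ = _ := by rw [b2, c]; group
  rw [this]
  exact mul_mem (commutator_mem_commutator h3 (h2 hy))
    (l (mul_mem hw (conj_mem_of_mem_normalizer' h.th.n (inv_mem hw))))

theorem card_dd (sol : ∀ L : Subgroup G, IsTwoLocal L → Group.IsSolvable L) : Nat.card (dd B W ρ) ≤ 2 := by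
  have nc' : ¬ W ≤ 𝐂 W' := fun e => nc (le_centralizer_iff.1 e)
  have lD : dd B W ρ ≤ B := inf_le_left.trans inf_le_left
  have e0 : dd B W ρ ⊓ dd B W' ρ' = ⊥ := by
    by_contra hn
    have l : W ⊔ zpowers ρ ⊔ (W' ⊔ zpowers ρ') ≤ 𝐂 (dd B W ρ ⊓ dd B W' ρ') := le_centralizer_iff.1 (le_centralizer_sup
      (inf_le_left.trans (le_centralizer_sup (inf_le_left.trans inf_le_right) inf_le_right))
      (inf_le_right.trans (le_centralizer_sup (inf_le_left.trans inf_le_right) inf_le_right)))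
    have := H17.eq_bot_of_perfect_of_solvable (H17.solvable_of_le (l.trans (centralizer_le_normalizer _))
      (sol _ ⟨_, h.isP.to_le (inf_le_left.trans lD), hn, rfl⟩)) (le_antisymm (commutator_le_self _) (sup_le
      (h.perf h' nc (le_sup_of_le_left le_sup_left) (le_sup_of_le_right le_sup_left)
        (mem_sup_left (mem_sup_right (mem_zpowers _))))
      (h'.perf h nc' (le_sup_of_le_right le_sup_left) (le_sup_of_le_left le_sup_left)
        (mem_sup_right (mem_sup_right (mem_zpowers _))))))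
    exact h.four.ne_bot (le_bot_iff.1 (this ▸ le_sup_of_le_left le_sup_left))
  have l : dd B W ρ ≤ W ⊓ W' ⊔ dd B W' ρ' := by
    rw [← (h.inf h' nc).1, sup_comm, ← dedekind_left' (h'.dd_c h nc') (h'.le.trans h'.n_dd), sup_comm]
    exact le_inf ((le_inf lD (h.dd_c h' nc)).trans h'.q_le) (inf_le_left.trans inf_le_right)
  have c1 := card_sup_mul_card_inf (lD.trans h'.n_dd)
  have c2 := card_sup_mul_card_inf ((inf_le_left.trans h.le : W ⊓ W' ≤ B).trans h'.n_dd)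
  have c3 := card_le_of_le (sup_le l le_sup_right)
  rw [e0, card_bot, mul_one] at c1
  rw [(h.inf h' nc).2] at c2
  have p1 : 0 < Nat.card ↥(W ⊓ W' ⊓ dd B W' ρ') := Nat.card_pos
  have p2 : 0 < Nat.card (dd B W' ρ') := Nat.card_pos
  nlinarith

end Hf

/-- the final configuration -/
theorem fin {T P M : Subgroup G} (hT : IsPGroup 2 T) (f : Four W) (le : W ≤ T) (nW : T ≤ 𝐍 W) (hs : s ∈ 𝐍 T)
    (nc : ¬ cj s W ≤ 𝐂 W) (th : Th W g) (gQ : g ∈ 𝐍 (T ⊓ 𝐂 W))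
    (sol : ∀ L : Subgroup G, IsTwoLocal L → Group.IsSolvable L) (hP : T ≤ P) (gP : g ∈ P)
    (nM : ∀ k ∈ P, Th W k → k ∉ M) :
    ∃ D E, H18.PUOut T P M W (cj s W) D E ∧ T ⊓ 𝐂 W ≤ W ⊔ D := by
  have f' := f.conj s
  have le' := cj_le_of_mem_normalizer le hs
  have nW' : T ≤ 𝐍 (cj s W) := cj_eq_iff.2 hs ▸ cj_le_n s nW
  obtain ⟨b, hb, b1⟩ := SetLike.not_le_iff_exists.1 nc
  obtain ⟨ρ, hρ, t1, t2, t3⟩ := th.odd f (nW (le' hb)) (f'.sq b hb) b1
  have m : ∀ X : Subgroup G, g ∈ 𝐍 X → b ∈ X → ρ ∈ X := fun X h1 h2 =>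
    zpowers_le.2 (mul_mem (conj_mem_of_mem_normalizer h1 h2) (inv_mem h2)) hρ
  have nQ : T ≤ 𝐍 (T ⊓ 𝐂 W) := le_normalizer_inf_centralizer nW
  have lQ : W ≤ T ⊓ 𝐂 W := le_inf le f.le_c
  have h : Hf T W ρ := ⟨hT, f, le, nW, t1, t2, m _ (le_normalizer gQ) (nQ (le' hb)), (le_commStab_iff' lQ).1
    (zpowers_le.2 (m _ (zpowers_le.1 (le_normalizer_commStab (zpowers_le.2 gQ) (zpowers_le.2 th.n)))
      ((le_commStab_iff' lQ).2 ((commutator_le_inf_of_le_normalizer (inf_le_left.trans nW') (le'.trans nQ)).trans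
        ((le_inf inf_le_right (inf_le_left.trans inf_le_right)).trans
          ((four_inf f f' (le.trans nW') (le'.trans nW) nc).1.le.trans inf_le_left))) hb))), b, le' hb, b1, t3⟩
  have h' := h.conj hs
  have c := h.card_dd h' nc sol
  have ρP := m P (le_normalizer gP) (hP (le' hb))
  refine ⟨dd T W ρ, zpowers ρ, ⟨f, f', h.sup_eq h' nc, c, le_centralizer_iff.1 (h.n_dd.trans ?_), eq_bot_iff.2
    (le_trans (le_inf ?_ inf_le_right) h.inf_dd.le), (h.inf h' nc).2, fun e => nc (le_centralizer_iff.1 e), nW, nW',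
    ⟨s, hs, rfl⟩, zpowers_le.2 ρP, fun e => nM ρ ρP t1 (e (mem_zpowers ρ)), zpowers_le.2 t1.n,
    le_centralizer_iff.1 inf_le_right, fun x hx y hy => t1.tr f hx hy⟩, h.q_le⟩
  · rcases (show Nat.card (dd T W ρ) = 1 ∨ Nat.card (dd T W ρ) = 2 by
      have : 0 < Nat.card (dd T W ρ) := Nat.card_pos
      omega) with e | e
    · rw [card_eq_one.1 e, centralizer_bot']; exact le_top
    · exact normalizer_le_c_of_card_two e
  · refine (inf_le_inf_left _ (inf_le_left.trans inf_le_right)).trans ?_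
    rw [dedekind_left f.le_c (le.trans nW'), (h.inf h' nc).1]
    exact sup_le le_rfl inf_le_left

end H118
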