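import Cfsg.Agent.H18.PU2
/-! Pushing up, part 3: the Baumann argument and `H118.pul : H18.PUL`. -/
set_option autoImplicit false
set_option linter.unusedSectionVars false
namespace H118
open Subgroup Cfsg H26 H4 H18.PU
open scoped commutatorElement

local notation "𝐉" => thompsonSubgroupOf 2

variable {G : Type*} [Group G] [Finite G] {A T P M W : Subgroup G} {b g k s t w x y : G}

/-- a plane `W` of the failure of factorization module -/
structure St (T P M W : Subgroup G) : Prop where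
  isP : IsPGroup 2 T
  tp : T ≤ P
  four : Four W
  le : W ≤ T
  jn : 𝐉 T ≤ 𝐍 W
  jc : ¬ 𝐉 T ≤ 𝐂 W
  ti : ∀ t ∈ T, W ⊓ cj t W ≠ ⊥ → t ∈ 𝐍 W
  cm : ∀ t ∈ T, cj t W ≤ 𝐂 W
  ex : ∃ x ∈ P, Th W x ∧ x ∈ 𝐍 (T ⊓ 𝐂 W)
  nM : ∀ k ∈ P, Th W k → k ∉ M
  free : ∀ X ≤ T, X ≠ ⊥ → 𝐍 T ≤ 𝐍 X → P ⊓ 𝐍 X ≤ M

/-- the Baumann subgroup -/
abbrev bm (T : Subgroup G) : Subgroup G := T ⊓ 𝐂 (oz (𝐉 T))

theorem j_le_bm : 𝐉 T ≤ bm T := le_inf (thompsonOf_le 2 T) (le_c_oz _)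
theorem n_oz : 𝐍 T ≤ 𝐍 (oz (𝐉 T)) := le_n_oz (normalizer_le_normalizer_thompsonOf 2 T)
theorem n_bm : 𝐍 T ≤ 𝐍 (bm T) := le_normalizer_inf le_rfl (le_normalizer_centralizer n_oz)

namespace St
variable (h : St T P M W)
include h

theorem rep (hA : A ∈ MaxEA 2 T) : W ⊔ A ⊓ 𝐂 W ∈ MaxEA 2 T := by
  have n := (MaxEA.le_thompsonOf hA).trans h.jn
  refine (MaxEA.of_card_ge hA) (sup_le h.le (inf_le_left.trans (MaxEA.le hA))) (elemAb_sup h.four.ea (elemAb_mono (MaxEA.elemAb hA) inf_le_left)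
    (le_centralizer_iff.1 inf_le_right)) ?_
  by_cases c : A ≤ 𝐂 W
  · exact card_le_of_le (le_sup_of_le_right (le_inf le_rfl c))
  have p := elemAb_isPGroup (MaxEA.elemAb hA)
  have c1 := h.four.card_inf_c p n c
  have c2 := card_mul_relIndex (𝐂 W) A
  have c3 := card_sup_mul_card_inf (H := A ⊓ 𝐂 W) (inf_le_left.trans n)
  rw [(MaxEA.inf_centralizer_eq hA) h.le h.four.ea] at c1
  rw [h.four.relIndex_two p n c, inf_comm] at c2
  rw [inf_assoc, inf_eq_right.2 h.four.le_c, inf_comm A W, c1, h.four.card, sup_comm] at c3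
  omega

theorem repQ (hA : A ∈ MaxEA 2 T) : W ⊔ A ⊓ 𝐂 W ∈ MaxEA 2 (T ⊓ 𝐂 W) :=
  (MaxEA.of_le (h.rep hA)) (sup_le (le_inf h.le h.four.le_c) (inf_le_inf_right _ (MaxEA.le hA))) inf_le_left

theorem jQ : 𝐉 (T ⊓ 𝐂 W) ≤ 𝐉 T :=
  let ⟨_, hA⟩ := exists_maxEA 2 T
  thompsonOf_mono_of_exists (h.rep hA) (MaxEA.le (h.repQ hA)) inf_le_left

theorem wJ : W ≤ 𝐉 (T ⊓ 𝐂 W) :=
  let ⟨_, hA⟩ := exists_maxEA 2 T
  le_sup_left.trans (MaxEA.le_thompsonOf (h.repQ hA))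

theorem u_le : W ⊔ oz (𝐉 T) ≤ oz (𝐉 (T ⊓ 𝐂 W)) := by
  obtain ⟨A, hA⟩ := exists_maxEA 2 T
  refine sup_le (le_oz h.four.ea h.wJ (le_centralizer_iff.1 ((thompsonOf_le 2 _).trans inf_le_right)))
    (le_oz (elemAb_oz _) (le_trans ?_ (MaxEA.le_thompsonOf (h.repQ hA))) ((oz_le_c _).trans (centralizer_anti h.jQ)))
  exact (MaxEA.le_of_centralizes (h.rep hA)) ((oz_le _).trans (thompsonOf_le 2 T)) (elemAb_oz _)
    ((oz_le_c _).trans (centralizer_anti (MaxEA.le_thompsonOf (h.rep hA))))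

theorem z_comm (hA : A ∈ MaxEA 2 T) : ⁅oz (𝐉 (T ⊓ 𝐂 W)), A⁆ ≤ W :=
  commutator_le_of_le_sup_centralizer' ((MaxEA.le_of_centralizes (h.repQ hA)) ((oz_le _).trans (thompsonOf_le 2 _))
    (elemAb_oz _) ((oz_le_c _).trans (centralizer_anti (MaxEA.le_thompsonOf (h.repQ hA)))))
    (inf_le_left.trans (elemAb_le_centralizer (MaxEA.elemAb hA))) (le_normalizer_of_le_centralizer inf_le_right)
    ((MaxEA.le_thompsonOf hA).trans h.jn)

theorem wB : W ≤ bm T := h.wJ.trans (h.jQ.trans j_le_bm)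

theorem card_r : Nat.card ↥(W ⊓ 𝐂 (𝐉 T)) = 2 := h.four.card_inf_c (h.isP.to_le (thompsonOf_le 2 T)) h.jn h.jc

theorem r_le : W ⊓ 𝐂 (𝐉 T) ≤ oz (𝐉 T) :=
  le_oz (elemAb_mono h.four.ea inf_le_left) (inf_le_left.trans (h.wJ.trans h.jQ)) inf_le_right

theorem r_ne : W ⊓ 𝐂 (𝐉 T) ≠ ⊥ := fun e => by have := h.card_r; rw [e, card_bot] at this; omega

theorem bc : bm T ≤ 𝐂 (W ⊓ 𝐂 (𝐉 T)) := inf_le_right.trans (centralizer_anti h.r_le)

theorem bn : bm T ≤ 𝐍 W := fun t ht => h.ti t ht.1 fun e => h.r_ne (le_bot_iff.1 (e ▸ le_inf inf_le_left (by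
  rw [← cj_eq_of_mem_centralizer (h.bc ht)]; exact cj_mono t inf_le_left)))

theorem exists_g : ∃ b ∈ bm T, b ∉ 𝐂 W ∧ ∃ g ∈ P, Th W g ∧ (orderOf g).Coprime 2 ∧ b * g * b⁻¹ = g⁻¹ ∧
    g ∈ 𝐍 (W ⊔ oz (𝐉 T)) ∧ g ∈ 𝐍 (bm T ⊓ 𝐂 W) := by
  obtain ⟨A, hA, c⟩ : ∃ A ∈ MaxEA 2 T, ¬ A ≤ 𝐂 W := by
    by_contra e; push Not at e; exact h.jc (thompsonOf_le_iff.2 e)
  obtain ⟨b, hb, b1⟩ := SetLike.not_le_iff_exists.1 c
  obtain ⟨x, xP, th, xn⟩ := h.ex
  have bB := j_le_bm ((MaxEA.le_thompsonOf hA) hb)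
  obtain ⟨g, hg, t1, t2, t3⟩ := th.odd h.four (h.bn bB) (by rw [← pow_two]; exact (MaxEA.pow_eq hA) hb) b1
  have m : ∀ X : Subgroup G, x ∈ 𝐍 X → b ∈ X → g ∈ X := fun X h1 h2 =>
    zpowers_le.2 (mul_mem (conj_mem_of_mem_normalizer h1 h2) (inv_mem h2)) hg
  have lW := le_sup_left.trans h.u_le
  have g1 : g ∈ 𝐍 (W ⊔ oz (𝐉 T)) := zpowers_le.1 (le_normalizer_of_commutator_le ((commutator_mono h.u_le le_rfl).trans
    (le_sup_of_le_left ((le_commStab_iff' lW).1 (zpowers_le.2 (m _ (zpowers_le.1 (le_normalizer_commStab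
      (le_n_oz (zpowers_le.2 (normalizer_le_normalizer_thompsonOf 2 _ xn))) (zpowers_le.2 th.n)))
      ((le_commStab_iff' lW).2 (h.z_comm hA) hb)))))))
  have g2 : g ∈ 𝐍 (T ⊓ 𝐂 W) := m _ (le_normalizer xn) (zpowers_le.1 (le_normalizer_inf
    (zpowers_le.2 (le_normalizer bB.1)) (le_normalizer_centralizer (zpowers_le.2 (h.bn bB)))))
  refine ⟨b, bB, b1, g, m P (le_normalizer xP) (h.tp bB.1), t1, t2, t3, g1, ?_⟩
  have : bm T ⊓ 𝐂 W = T ⊓ 𝐂 W ⊓ 𝐂 (W ⊔ oz (𝐉 T)) := by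
    rw [centralizer_sup', ← inf_assoc, inf_assoc T (𝐂 W), inf_idem, inf_right_comm]
  rw [this]
  exact zpowers_le.1 (le_normalizer_inf (zpowers_le.2 g2) (le_normalizer_centralizer (zpowers_le.2 g1)))

theorem ax (hb : b ∈ bm T) (b1 : b ∉ 𝐂 W) (gP : g ∈ P) (th : Th W g) (o : (orderOf g).Coprime 2)
    (e : b * g * b⁻¹ = g⁻¹) (g1 : g ∈ 𝐍 (W ⊔ oz (𝐉 T))) (g2 : g ∈ 𝐍 (bm T ⊓ 𝐂 W)) :
    Ax (bm T ⊔ zpowers g) (bm T) (bm T ⊓ 𝐂 W) (W ⊔ oz (𝐉 T)) (oz (𝐉 T)) (𝐍 T) := by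
  have pB : IsPGroup 2 (bm T) := h.isP.to_inf_left
  have nY : bm T ≤ 𝐍 (oz (𝐉 T)) := le_normalizer_of_le_centralizer inf_le_right
  have yW : oz (𝐉 T) ≤ 𝐂 W := (oz_le_c _).trans (centralizer_anti (h.wJ.trans h.jQ))
  have wB : ⁅W, bm T⁆ ≤ W ⊓ 𝐂 (𝐉 T) :=
    h.four.commutator_le_of_card inf_le_left h.card_r h.bn (le_normalizer_of_le_centralizer h.bc)
  have gm : ∀ X : Subgroup G, b ∈ X → g * b * g⁻¹ ∈ X → g ∈ X := fun X h1 h2 =>
    mem_of_pow_mem_coprime_orderOf o (by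
      have := mul_mem h2 (inv_mem h1)
      rwa [show g * b * g⁻¹ * b⁻¹ = g * (b * g * b⁻¹)⁻¹ by group, e, inv_inv, ← pow_two] at this)
  have eQ : cj g (bm T) ⊓ 𝐂 W = bm T ⊓ 𝐂 W := by
    rw [← cj_eq_iff.2 g2, cj_inf g _ (𝐂 W), cj_centralizer, cj_eq_iff.2 th.n]
  refine ⟨inf_le_left, le_sup_left, sup_le (le_normalizer_inf_centralizer h.bn) (zpowers_le.2 g2),
    sup_le (le_normalizer_sup h.bn nY) (zpowers_le.2 g1), n_bm, n_oz,
    sup_le (le_inf h.wB h.four.le_c) (le_inf ((oz_le _).trans j_le_bm) yW),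
    le_centralizer_sup inf_le_right (inf_le_left.trans inf_le_right), le_sup_right, inf_le_right,
    commutator_sup_le (wB.trans h.r_le) (commutator_le_of_le_normalizer nY) (h.wB.trans nY) le_normalizer,
    fun w hw w1 c hc c1 k => ?_, ?_, ⟨g, mem_sup_right (mem_zpowers g), fun c hc c1 => ?_, fun c hc c1 => ?_⟩,
    fun U h1 h2 h3 => by_contra fun hn => h.nM g gP th (h.free U (h1.trans inf_le_left) hn h3
      ⟨gP, h2 (mem_sup_right (mem_zpowers g))⟩), fun e => h.r_ne (le_bot_iff.1 (e ▸ h.r_le))⟩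
  · obtain ⟨u, hu, y, hy, rfl⟩ := (mem_sup_of_le_normalizer (h.wB.trans nY)).1 hw
    have e1 : ⁅u * y, c⁆ = ⁅u, c⁆ := by
      rw [commutatorElement_mul_left_eq_conj_mul, commutatorElement_eq_one_iff_mul_comm.2 (hc.2 y hy)]; simp
    rw [e1] at k
    have e2 := commutatorElement_eq_one_iff_mul_comm.1 (th.fix h.four (wB (commutator_mem_commutator hu hc)).1
      (mem_centralizer_singleton_iff.1 (k (mem_sup_right (mem_zpowers g)))))
    have l : W ⊓ 𝐂 (𝐉 T) ≤ W ⊓ 𝐂 (zpowers c) := le_inf inf_le_left (le_centralizer_iff.1 (zpowers_le.2 (h.bc hc)))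
    rcases h.four.card_cases (inf_le_left : W ⊓ 𝐂 (zpowers c) ≤ W) with e3 | e3 | e3
    · exact h.r_ne (le_bot_iff.1 (e3 ▸ l))
    · refine w1 (mul_mem (h.r_le ((eq_of_le_of_card_ge l (e3.trans h.card_r.symm).le).ge ⟨hu, ?_⟩)) hy)
      rw [centralizer_zpowers]; exact mem_centralizer_singleton_iff.2 e2
    · exact c1 ⟨hc, zpowers_le.1 (le_centralizer_iff.1 (inf_eq_left.1 e3))⟩
  · rw [relIndex_sup_of_le_normalizer (h.wB.trans nY), inf_comm, inf_relIndex_right,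
      h.four.relIndex_two pB h.bn fun e => b1 (e hb), ← inf_relIndex_right,
      le_antisymm (le_inf inf_le_right (inf_le_left.trans (oz_le_c _))) (le_inf h.r_le inf_le_left),
      h.four.relIndex_of_card inf_le_left h.card_r]
  · have m := conj_mem_cj g hb
    have n : cj g (bm T) ≤ 𝐍 W := cj_eq_iff.2 th.n ▸ cj_le_n g h.bn
    have k := eQ.le ⟨mul_mem hc m, h.four.two_of_isP (isPGroup_cj g pB) n c hc _ m (fun k => c1 (eQ.le ⟨hc, k⟩))
      fun k => b1 (by rwa [← cj_eq_iff.2 th.n, ← cj_centralizer, conj_mem_cj_iff] at k)⟩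
    exact sup_le le_sup_left (zpowers_le.2 (gm _ (mem_sup_left hb)
      ((mul_mem_cancel_left (mem_sup_right (mem_zpowers c))).1 (mem_sup_left k.1))))
  · have k := eQ.ge ⟨mul_mem hc hb, h.four.two_of_isP pB h.bn c hc _ hb (fun k => c1 ⟨hc, k⟩) b1⟩
    have m := gm (cj g (bm T) ⊔ zpowers c) ((mul_mem_cancel_left (mem_sup_right (mem_zpowers c))).1 (mem_sup_left k.1))
      (mem_sup_left (conj_mem_cj g hb))
    exact sup_le ((cj_inv_cj g (bm T)).ge.trans (cj_le_of_mem le_sup_left (inv_mem m))) (zpowers_le.2 m)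

theorem out (sol : ∀ L : Subgroup G, IsTwoLocal L → Group.IsSolvable L) : ∃ W' D E, H18.PUOut T P M W W' D E := by
  obtain ⟨b, hb, b1, g, gP, th, o, e, g1, g2⟩ := h.exists_g
  obtain ⟨s, hs, k⟩ := (h.ax hb b1 gP th o e g1 g2).crit_two fun z hz => by
    rw [← pow_two]; exact (elemAb_oz _).2 z (h.u_le hz)
  have nc : ¬ cj s W ≤ 𝐂 W := fun c => k (by
    rw [cj_inf s _ (𝐂 W), cj_eq_iff.2 (n_bm hs), cj_centralizer]
    refine sup_le (le_inf h.wB (le_centralizer_iff.1 c)) (le_inf ((oz_le _).trans j_le_bm) ?_)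
    rw [← cj_eq_iff.2 (n_oz hs)]
    exact cj_le_c s ((oz_le_c _).trans (centralizer_anti (h.wJ.trans h.jQ))))
  obtain ⟨D, E, d, l⟩ := fin h.isP.to_inf_left h.four h.wB h.bn (n_bm hs) nc th g2 sol (inf_le_left.trans h.tp) gP h.nM
  have nW : T ≤ 𝐍 W := fun t ht => h.ti t ht fun e => by
    have l2 := (le_inf (cj_le_of_mem_normalizer h.wB (n_bm (le_normalizer ht))) (h.cm t ht)).trans l
    have c1 := card_sup_mul_card_inf (H := cj t W) (le_normalizer_of_le_centralizer (h.cm t ht))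
    have c2 := card_sup_mul_card_inf (H := D) (K := W)
      (le_normalizer_of_le_centralizer (d.cen.trans (centralizer_anti h.wB)))
    have c3 := card_le_of_le (sup_le (l2.trans (sup_comm W D).le) le_sup_right)
    rw [inf_comm, e, card_bot, card_cj, h.four.card] at c1
    rw [h.four.card] at c2
    have p : 0 < Nat.card ↥(D ⊓ W) := Nat.card_pos
    have := d.card
    nlinarith
  obtain ⟨x, xP, tx, xn⟩ := h.ex
  obtain ⟨D, E, d, -⟩ := fin h.isP h.four h.le nW hs nc tx xn sol h.tp xP h.nM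
  exact ⟨_, D, E, d⟩

end St

theorem exists_st (hT : IsSyl 2 T P) (hs : Group.IsSolvable P) (hc : CharPOf 2 P) (h1 : T ≤ M) (h2 : ¬ P ≤ M)
    (free : ∀ X ≤ T, X ≠ ⊥ → 𝐍 T ≤ 𝐍 X → P ⊓ 𝐍 X ≤ M) (h0 : T ≠ ⊥) : ∃ W, St T P M W := by
  have r := (pRed_omegaOne_center T).ncl hc hT le_rfl hT.le
  set V := ncl (oz T) P
  have f := FFD.of_mF r.elemAb (sup_le ((thompsonOf_le 2 P).trans r.norm) (inf_le_left.trans r.norm))
    (ffd_thompson r.elemAb r.le r.norm (pSol_of_solvable hs) r.red)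
  set E := 𝐉 P ⊔ P ⊓ 𝐂 V
  have eP : E ≤ P := sup_le (thompsonOf_le 2 P) inf_le_left
  have nE : P ≤ 𝐍 E := le_normalizer_sup (le_normalizer_thompsonOf 2 P) (le_normalizer_inf_centralizer r.norm)
  have cM : P ⊓ 𝐂 V ≤ M := (inf_le_inf_left _ ((centralizer_anti (le_ncl _ _)).trans (centralizer_le_normalizer _))).trans
    (free _ (oz_le T) (omegaOne_center_ne_bot hT.isP h0) (le_n_oz le_rfl))
  have jM := free _ (thompsonOf_le 2 T) (thompson_ne_bot hT.isP h0) (normalizer_le_normalizer_thompsonOf 2 T)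
  have jE : 𝐉 T ≤ E := (thompsonOf_le_of_isSyl hT).trans le_sup_left
  obtain ⟨W, hW, wM⟩ : ∃ W ∈ Pl 2 V E, ¬ plE V E W ≤ M := by
    by_contra k
    push Not at k
    have l : sSup (plE V E '' Pl 2 V E) ≤ P := sSup_le (by rintro _ ⟨W, -, rfl⟩; exact plE_le.trans eP)
    have : E ≤ M := (le_inf f.gen eP).trans ((dedekind_left l (le_normalizer_centralizer (l.trans r.norm))).le.trans
      (sup_le (sSup_le (by rintro _ ⟨W, hW, rfl⟩; exact k W hW)) ((inf_comm _ _).le.trans cM)))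
    refine h2 fun g hg => ?_
    obtain ⟨c, hc, e⟩ := exists_mul_mem_normalizer_thompsonOf hT nE jE hg
    exact (mul_mem_cancel_left (this hc.2)).1 (jM ⟨mul_mem hc.1 hg, e⟩)
  have four := four_of_natSL hW.2
  have nW := f.le_normalizer hW
  have sE := hT.inf_of_normal nE eP
  have sW := sE.inf_of_normal (f.le_normalizer_plE hW) plE_le
  have nS := inf_le_right.trans hW.2.le_normalizer (a := T ⊓ E ⊓ plE V E W)
  have tc : ¬ T ⊓ E ⊓ plE V E W ≤ 𝐂 W := fun k => hW.2.not_le_centralizer (hW.2.le_pElementClosure_sup.trans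
    (sup_le (pElementClosure_le_iff.2 fun x hx n hn => by
      obtain ⟨g, hg, e⟩ := sW.exists_conj_mem hx hn
      have := k e
      rwa [← cj_eq_iff.2 (hW.2.le_normalizer hg), ← cj_centralizer, conj_mem_cj_iff] at this) le_rfl))
  have lT : V ≤ T := r.le_pCoreOf.trans hT.pCoreOf_le
  have pl : ∀ g ∈ P, cj g W ∈ Pl 2 V E := fun g hg => Pl.conj hW (r.norm hg) (nE hg)
  refine ⟨W, hT.isP, hT.le, four, hW.1.trans lT, jE.trans nW, fun k => hW.2.not_le_centralizer (plE_le.trans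
    (sup_le (thompsonOf_le_iff.2 fun A hA => ?_) (inf_le_right.trans (centralizer_anti hW.1)))), fun t ht k => ?_,
    fun t ht => (pl t (hT.le ht)).1.trans ((elemAb_le_centralizer r.elemAb).trans (centralizer_anti hW.1)), ?_,
    fun k hk th kM => wM ?_, free⟩
  · obtain ⟨g, hg, l⟩ := hT.exists_cj_le (elemAb_isPGroup (MaxEA.elemAb hA)) (MaxEA.le hA)
    obtain ⟨c, hc, e⟩ := exists_mul_mem_normalizer_thompsonOf hT nE jE (inv_mem hg)
    have l2 := MaxEA.le_thompsonOf (MaxEA.of_le (MaxEA.cj_of_mem_normalizer hA (le_normalizer hg)) l hT.le)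
    have l3 := cj_mono (c * g⁻¹) l2
    rw [cj_eq_iff.2 e, ← cj_mul, inv_mul_cancel_right] at l3
    have := cj_le_iff.1 (l3.trans k)
    rwa [cj_centralizer, cj_eq_iff.2 (inv_mem (nW hc.2))] at this
  · by_contra n
    have p := pl t (hT.le ht)
    exact k (le_bot_iff.1 (p.2.inf_centralizer ▸ le_inf inf_le_right (inf_le_left.trans (le_centralizer_iff.1
      (f.cent W hW _ p fun e => n (cj_eq_iff.1 e.symm))))))
  · obtain ⟨e, he, e1, e2⟩ := four.exists_three hW.2.le_normalizer fun k => by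
      have c := four.card_inf_c sW.isP nS tc
      rcases hW.2.eq_bot_or_eq inf_le_left (sW.le_of_pResidualOf_le (K := 𝐍 (W ⊓ 𝐂 (T ⊓ E ⊓ plE V E W)))
        (le_normalizer_of_le_centralizer (k.trans (centralizer_anti inf_le_left)))
        (le_normalizer_of_le_centralizer (le_centralizer_iff.1 inf_le_right))) with e | e
      · rw [e, card_bot] at c; omega
      · rw [e, four.card] at c; omega
    have s1 := isSyl_sup_of_inf (T := T ⊓ 𝐍 W) hT.isP.to_inf_left ((inf_le_left.trans hT.le).trans nE)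
      (by rwa [inf_assoc, inf_eq_right.2 nW])
    have n1 : T ⊓ 𝐍 W ⊔ E ≤ 𝐍 W := sup_le inf_le_right nW
    have s2 := s1.inf_of_le_normalizer (le_normalizer_centralizer n1)
    rw [inf_assoc, inf_eq_right.2 (centralizer_le_normalizer _)] at s2
    obtain ⟨n, hn, k⟩ := s2.frattini_mem (le_normalizer_inf_centralizer n1 (mem_sup_right (plE_le he)))
    exact ⟨n * e, mul_mem (sup_le (inf_le_left.trans hT.le) eP hn.1) (eP (plE_le he)),
      Th.mul ⟨hW.2.le_normalizer he, e1, e2⟩ hn.2, k⟩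
  · obtain ⟨t, ht, t1⟩ := SetLike.not_le_iff_exists.1 tc
    have t2 := four.sq_mem_of_isP sW.isP nS ht
    obtain ⟨c1, c2⟩ := four.comm_three th.n (nS ht) th.cube th.nc t2 t1
    have kn : k ∈ 𝐍 (plE V E W) := cj_eq_iff.1 (by rw [cj_plE hW.1 (r.norm hk) (nE hk), cj_eq_iff.2 th.n])
    have tM := h1 ht.1.1
    have m : ⁅k, t⁆ ∈ M ⊓ plE V E W := mem_inf.2 ⟨mul_mem (mul_mem (mul_mem kM tM) (inv_mem kM)) (inv_mem tM),
      mul_mem (conj_mem_of_mem_normalizer kn ht.2) (inv_mem (mem_inf.1 ht).2)⟩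
    have l := four.le_sup_six (hW.2.le_normalizer m.2) (nS ht) c1 c2 t2 t1 m ⟨h1 ht.1.1, ht.2⟩
    refine (le_inf (hW.2.le_normalizer.trans l) le_rfl).trans ((dedekind_left inf_le_right
      (le_normalizer_centralizer (inf_le_right.trans hW.2.le_normalizer))).le.trans (sup_le inf_le_left ?_))
    exact (le_inf (inf_le_right.trans (plE_le.trans eP)) ((inf_comm _ _).le.trans (f.inf W hW))).trans cM

universe u in
theorem pul : H18.PUL.{u} := fun _ _ _ _ _ _ hT hs hc hM free sol h0 =>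
  let ⟨W, h⟩ := exists_st hT hs hc hM.le hM.lt.not_ge free h0
  ⟨W, h.out sol⟩

end H118
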