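import Cfsg.Agent.H18.BK1
import Cfsg.Agent.H18.PA6
/-! Quadratic or small irreducible `SL₂(F)`-modules are natural. -/
set_option autoImplicit false
set_option linter.unusedSectionVars false
namespace H118.QN
open Subgroup H26 H4 Cfsg Matrix H18.PU
open scoped commutatorElement MatrixGroups Pointwise

variable {F : Type*} [Field F]

/-- the Weyl elements -/
def nn (a : F) (ha : a ≠ 0) : SL(2, F) := ⟨!![0, a; -a⁻¹, 0], by simp [det_fin_two, ha]⟩
/-- the Weyl element taking `e₁` to `e₂` -/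
def ww (F : Type*) [Field F] : SL(2, F) := ⟨!![0, -1; 1, 0], by simp [det_fin_two]⟩

theorem ww_inv : ((ww F)⁻¹).1 = !![0, 1; -1, 0] := by
  rw [SpecialLinearGroup.SL2_inv_expl]; ext i j; fin_cases i <;> fin_cases j <;> simp [ww]

theorem nn_val (a : F) (ha : a ≠ 0) : (nn a ha).1 = !![0, a; -a⁻¹, 0] := rfl
theorem ww_val : (ww F).1 = !![0, -1; 1, 0] := rfl
theorem mul_val (a b : SL(2, F)) : (a * b).1 = a.1 * b.1 := rfl

theorem e1 (a : F) (ha : a ≠ 0) : nn a ha = tvU a * tvL (-a⁻¹) * tvU a := Subtype.ext <| by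
  simp only [mul_val, nn_val, tvU_val, tvL_val]; ext i j; fin_cases i <;> fin_cases j <;> simp [ha]
theorem e2 (a s : F) (ha : a ≠ 0) : tvU s * nn a ha = nn a ha * tvL (-(s * a⁻¹ * a⁻¹)) := Subtype.ext <| by
  simp only [mul_val, nn_val, tvU_val, tvL_val]; ext i j; fin_cases i <;> fin_cases j <;> simp [ha]
  field_simp
theorem e3 (c : F) : tvL c * ww F = ww F * tvU (-c) := Subtype.ext <| by
  simp only [mul_val, ww_val, tvU_val, tvL_val]; ext i j; fin_cases i <;> fin_cases j <;> simp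
theorem e4 (a b : F) (ha : a ≠ 0) (hb : b ≠ 0) : nn a ha * ww F * nn b hb = nn (a * b) (mul_ne_zero ha hb) := Subtype.ext <| by
  simp only [mul_val, ww_val, nn_val]; ext i j; fin_cases i <;> fin_cases j <;> simp [mul_comm]
theorem e5 (b : F) (hb : b ≠ 0) : ww F * ww F * nn b hb = nn (-b) (neg_ne_zero.2 hb) := Subtype.ext <| by
  simp only [mul_val, ww_val, nn_val]; ext i j; fin_cases i <;> fin_cases j <;> simp
theorem e6 (c : F) : tvL c = ww F * tvU (-c) * (ww F * ww F * ww F) := Subtype.ext <| by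
  simp only [mul_val, ww_val, tvU_val, tvL_val]; ext i j; fin_cases i <;> fin_cases j <;> simp
theorem bruhat {m : SL(2, F)} (h : m.1 1 0 ≠ 0) : ∃ b : SL(2, F), b.1 1 0 = 0 ∧ ∃ t, m = b * ww F * tvU t := by
  refine ⟨m * tvU (-(m.1 1 1 / m.1 1 0)) * (ww F)⁻¹, ?_, m.1 1 1 / m.1 1 0, ?_⟩
  · simp only [mul_val, ww_inv, tvU_val]; simp [Matrix.mul_apply, Fin.sum_univ_two]; field_simp; ring
  · rw [inv_mul_cancel_right, mul_assoc, ← tvU_add, neg_add_cancel, tvU_zero, mul_one]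
theorem ww_smul (v : Fin 2 → F) : ww F • v = ![-v 1, v 0] := by
  ext i; rw [sl_smul]; fin_cases i <;> simp [ww, mulVec, dotProduct, Fin.sum_univ_two]

theorem sl_ind {P : SL(2, F) → Prop} (h1 : ∀ s, P (tvU s)) (h2 : ∀ s, P (tvL s)) (h3 : ∀ a b, P a → P b → P (a * b))
    (m : SL(2, F)) : P m := by
  refine SL2.transvection_induction P (fun i j h c => ?_) h3 m
  fin_cases i <;> fin_cases j
  exacts [absurd rfl h, h1 c, h2 c, absurd rfl h]

theorem nat_quad {W : Type*} [AddCommGroup W] [DistribMulAction SL(2, F) W]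
    (irr : ∀ X : AddSubgroup W, (∀ m : SL(2, F), ∀ x ∈ X, m • x ∈ X) → X = ⊥ ∨ X = ⊤)
    (nt : ¬ ∀ (m : SL(2, F)) (w : W), m • w = w)
    (q : ∀ (s t : F) (w : W), tvU s • (tvU t • w - w) = tvU t • w - w) :
    ∃ j : (Fin 2 → F) ≃+ W, ∀ (m : SL(2, F)) v, m • j v = j (m • v) := by
  have wY : ∀ x : W, (∀ s : F, tvU s • x = x) → ∀ c : F, tvL c • ww F • x = ww F • x := fun x hx c => by
    rw [← mul_smul, e3, mul_smul, hx]
  have qL : ∀ (s t : F) (w : W), tvL s • (tvL t • w - w) = tvL t • w - w := fun s t w => by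
    obtain ⟨v, rfl⟩ : ∃ v, ww F • v = w := ⟨(ww F)⁻¹ • w, smul_inv_smul _ _⟩
    rw [← mul_smul, e3, mul_smul, ← smul_sub]
    exact wY _ (fun s => q s _ _) s
  have dis : ∀ x : W, (∀ s : F, tvU s • x = x) → (∀ s : F, tvL s • x = x) → x = 0 := fun x h1 h2 => by
    let X : AddSubgroup W :=
      { carrier := {x | ∀ m : SL(2, F), m • x = x}
        zero_mem' := fun m => smul_zero m
        add_mem' := fun h k m => by rw [smul_add, h m, k m]
        neg_mem' := fun h m => by rw [smul_neg, h m] }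
    have hx : x ∈ X := fun m => sl_ind (P := fun m => m • x = x) h1 h2 (fun a b ha hb => by rw [mul_smul, hb, ha]) m
    rcases irr X (fun m y hy => by rw [hy m]; exact hy) with e | e
    · rwa [e] at hx
    · exact absurd (fun m w => (show w ∈ X from e ▸ AddSubgroup.mem_top w) m) nt
  have key : ∀ y : W, (∀ s : F, tvL s • y = y) → ∀ (a : F) (ha : a ≠ 0), tvU a • y - y = nn a ha • y := fun y hy a ha => by
    have h1 : ∀ s : F, tvU s • nn a ha • y = nn a ha • y := fun s => by rw [← mul_smul, e2, mul_smul, hy]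
    have h2 : nn a ha • y = tvL (-a⁻¹) • tvU a • y := by
      have := h1 (-a)
      rw [← this, ← mul_smul, e1, ← mul_assoc, ← mul_assoc, ← tvU_add, neg_add_cancel, tvU_zero, one_mul, mul_smul]
    have h3 : nn a ha • y - (tvU a • y - y) = y + (tvL (-a⁻¹) • (tvU a • y - y) - (tvU a • y - y)) := by
      rw [h2, smul_sub, hy]; abel
    refine (sub_eq_zero.1 (dis _ (fun s => ?_) fun s => ?_)).symm
    · rw [smul_sub, h1, q]
    · rw [h3, smul_add, hy, qL]
  obtain ⟨x, hx, x0⟩ : ∃ x : W, (∀ s : F, tvU s • x = x) ∧ x ≠ 0 := by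
    by_contra! k
    have k1 : ∀ (s : F) (w : W), tvU s • w = w := fun s w => sub_eq_zero.1 (k _ fun t => q t s w)
    exact nt fun m w => by rw [k w fun s => k1 s w, smul_zero]
  have hy := wY x hx
  have y0 : ww F • x ≠ 0 := fun e => x0 ((smul_eq_zero_iff_eq _).1 e)
  generalize ww F • x = y at hy y0
  let φ : F →+ W := AddMonoidHom.mk' (fun a => tvU a • y - y) fun a b => by
    have := q a b y
    rw [smul_sub] at this
    rw [tvU_add, mul_smul, sub_eq_iff_eq_add.1 this]; abel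
  have φn : ∀ (a : F) (ha : a ≠ 0), φ a = nn a ha • y := key y hy
  have φU : ∀ a s : F, tvU s • φ a = φ a := fun a s => q s a y
  have φ0 : ∀ a, φ a = 0 → a = 0 := fun a e => by_contra fun ha => y0 ((smul_eq_zero_iff_eq _).1 ((φn a ha).symm.trans e))
  let j : (Fin 2 → F) →+ W := AddMonoidHom.mk' (fun v => φ (v 0) + ww F • φ (v 1)) fun u v => by
    simp only [Pi.add_apply, map_add, smul_add]; abel
  have jd : ∀ v, j v = φ (v 0) + ww F • φ (v 1) := fun v => rfl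
  have jU : ∀ (s : F) v, tvU s • j v = j (tvU s • v) := fun s v => by
    have : tvU s • ww F • φ (v 1) - ww F • φ (v 1) = φ (s * v 1) := by
      by_cases hs : s = 0
      · rw [hs, tvU_zero, one_smul, sub_self, zero_mul, map_zero]
      by_cases hb : v 1 = 0
      · simp [hb]
      rw [key _ (wY _ (φU _)) s hs, φn _ hb, φn _ (mul_ne_zero hs hb), ← e4 s _ hs hb, mul_smul, mul_smul]
    rw [jd, jd, tvU_smul, smul_add, φU, sub_eq_iff_eq_add.1 this]
    simp only [cons_val_zero, cons_val_one, map_add]; abel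
  have jw : ∀ v, ww F • j v = j (ww F • v) := fun v => by
    have : ww F • ww F • φ (v 1) = φ (-v 1) := by
      by_cases hb : v 1 = 0
      · simp [hb]
      rw [φn _ hb, φn _ (neg_ne_zero.2 hb), ← e5 _ hb, mul_smul, mul_smul]
    rw [jd, jd, ww_smul, smul_add, this]
    simp only [cons_val_zero, cons_val_one]; abel
  have mu : ∀ a b : SL(2, F), (∀ v, a • j v = j (a • v)) → (∀ v, b • j v = j (b • v)) → ∀ v, (a * b) • j v = j ((a * b) • v) :=
    fun a b ha hb v => by rw [mul_smul, mul_smul, hb, ha]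
  have je : ∀ (m : SL(2, F)) v, m • j v = j (m • v) :=
    sl_ind jU (fun s => e6 s ▸ mu _ _ (mu _ _ jw (jU _)) (mu _ _ (mu _ _ jw jw) jw)) mu
  have inj : Function.Injective j := (injective_iff_map_eq_zero j).2 fun v e => by
    rw [jd, add_eq_zero_iff_eq_neg] at e
    have a0 : φ (v 0) = 0 := dis _ (φU _) fun s => by rw [e, smul_neg, wY _ (φU _)]
    rw [a0, eq_comm, neg_eq_zero, smul_eq_zero_iff_eq] at e
    exact vec_ext (φ0 _ a0) (φ0 _ e)
  have sur : Function.Surjective j := by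
    rcases irr j.range (by rintro m _ ⟨v, rfl⟩; exact ⟨_, (je m v).symm⟩) with e | e
    · have : j ![1, 0] = j 0 := by rw [map_zero]; exact AddSubgroup.mem_bot.1 (e ▸ ⟨_, rfl⟩)
      simpa using congrFun (inj this) 0
    · exact AddMonoidHom.range_eq_top.1 e
  exact ⟨AddEquiv.ofBijective j ⟨inj, sur⟩, je⟩

variable {X : Type*} [Group X] [Finite X] {p : ℕ} [hp : Fact p.Prime] [Finite F] [CharP F p] {V : Subgroup X}

theorem quad_of_small (σ : SL(2, F) →* X) (hV : IsElementaryAbelian p V) (hn : σ.range ≤ 𝐍 V)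
    (irr : ∀ U ≤ V, σ.range ≤ 𝐍 U → U = ⊥ ∨ U = V) (nt : ¬ (uT F).map σ ≤ 𝐂 V)
    (h : Nat.card V ≤ Nat.card ↥(V ⊓ 𝐂 ((uT F).map σ)) ^ 2) : ⁅V, (uT F).map σ⁆ ≤ 𝐂 ((uT F).map σ) := by
  set S := (uT F).map σ with hS
  have hSn : S ≤ 𝐍 V := (map_le_range _ _).trans hn
  have hb : ∀ b : SL(2, F), b.1 1 0 = 0 → σ b ∈ 𝐍 S := fun b hb => mem_normalizer_fintype <| by
    rintro _ ⟨u, hu, rfl⟩
    exact ⟨_, conj_mem_uT hb hu, by simp⟩
  have ab : V ≤ 𝐂 V := elemAb_le_centralizer hV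
  set D := ⁅V, S⁆ ⊔ V ⊓ 𝐂 S with hD
  have DV : D ≤ V := sup_le (commutator_le_of_le_normalizer hSn) inf_le_left
  have nX : ∀ b : SL(2, F), b.1 1 0 = 0 → zpowers (σ b) ≤ 𝐍 (V ⊓ 𝐂 S) := fun b k =>
    le_normalizer_inf (zpowers_le.2 (hn ⟨b, rfl⟩)) (le_normalizer_centralizer (zpowers_le.2 (hb b k)))
  have nD : ∀ b : SL(2, F), b.1 1 0 = 0 → σ b ∈ 𝐍 D := fun b k => zpowers_le.1 <|
    le_normalizer_sup (le_normalizer_commutator (zpowers_le.2 (hn ⟨b, rfl⟩)) (zpowers_le.2 (hb b k))) (nX b k)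
  have hDV : ¬ V ≤ D := fun k => nt <| le_centralizer_iff.1 <| (le_of_le_comm_sup (p := p)
    (isPGroup_sup' (elemAb_isPGroup hV) (isPGroup_uT.map σ) hSn) (sup_le (le_normalizer_of_le_centralizer
      (ab.trans (centralizer_le inf_le_left))) (le_normalizer_inf hSn (le_normalizer_centralizer le_normalizer))) k).trans inf_le_right
  have k0 : (V ⊓ 𝐂 S) ⊓ cj (σ (ww F))⁻¹ D = ⊥ := by
    rcases irr (ncl ((V ⊓ 𝐂 S) ⊓ cj (σ (ww F))⁻¹ D) σ.range) (ncl_le (inf_le_left.trans inf_le_left) hn)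
      (le_normalizer_ncl _ _) with e | e
    · exact le_bot_iff.1 (e ▸ le_ncl _ _)
    refine absurd (e ▸ ncl_le_iff.2 ?_) hDV
    rintro _ ⟨m, rfl⟩
    by_cases hm : m.1 1 0 = 0
    · exact (cj_le_of_mem_normalizer inf_le_left (zpowers_le.1 (nX m hm))).trans le_sup_right
    obtain ⟨b, hb', t, rfl⟩ := bruhat hm
    rw [map_mul σ, map_mul σ, cj_mul, cj_mul, cj_eq_of_mem_centralizer (g := σ (tvU t))
      (centralizer_le (inf_le_left.trans inf_le_right) (le_centralizer_iff.1 (le_refl (𝐂 S)) ⟨_, mem_uT.2 ⟨t, rfl⟩, rfl⟩))]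
    exact cj_le_of_mem_normalizer (cj_le_iff.2 inf_le_right) (nD b hb')
  have k1 := card_sup_mul_card_inf (H := V ⊓ 𝐂 S) (K := cj (σ (ww F))⁻¹ D) (le_normalizer_of_le_centralizer
    (inf_le_left.trans (ab.trans (centralizer_le (cj_le_of_mem_normalizer DV (inv_mem (hn ⟨_, rfl⟩)))))))
  have k2 := card_le_of_le (sup_le (inf_le_left : V ⊓ 𝐂 S ≤ V) (cj_le_of_mem_normalizer DV (inv_mem (hn ⟨ww F, rfl⟩))))
  rw [k0, card_bot, mul_one, card_cj] at k1
  have k3 : Nat.card D ≤ Nat.card ↥(V ⊓ 𝐂 S) := Nat.le_of_mul_le_mul_left (by rw [← k1, ← sq]; omega) Nat.card_pos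
  exact le_sup_left.trans ((eq_of_le_of_card_ge (le_sup_right : V ⊓ 𝐂 S ≤ D) k3).ge.trans inf_le_right)

theorem nat_of (σ : SL(2, F) →* X) (inj : Function.Injective σ) (hV : IsElementaryAbelian p V) (hn : σ.range ≤ 𝐍 V)
    (irr : ∀ U ≤ V, σ.range ≤ 𝐍 U → U = ⊥ ∨ U = V) (nt : ¬ σ.range ≤ 𝐂 V)
    (h : ⁅V, (uT F).map σ⁆ ≤ 𝐂 ((uT F).map σ)) : ActsAsSL2OnSection F ⊤ σ.range V ⊥ := by
  obtain ⟨W, _, _, π, k⟩ := exists_sec_action (V := V) (Z := ⊥) (E := σ.range)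
    (commutator_eq_bot_iff'.2 (elemAb_le_centralizer hV)).le (by simp) hn (by simp)
  let e := MulEquiv.ofBijective σ.rangeRestrict ⟨fun a b h => inj (congrArg Subtype.val h), σ.rangeRestrict_surjective⟩
  letI : DistribMulAction SL(2, F) W := DistribMulAction.compHom W σ.rangeRestrict
  have sm : ∀ (m : SL(2, F)) (u : X), u ∈ V → m • π u = π (σ m * u * (σ m)⁻¹) := fun m u hu => (k.act (e m) u hu).symm
  have pi : ∀ u ∈ V, ∀ v ∈ V, π u = π v → u = v := fun u hu v hv h => inv_mul_eq_one.1 (mem_bot.1 ((k.eq hu hv).1 h))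
  refine (nat_quad (F := F) (W := W) (fun Y hY => ?_) (fun k1 => nt ?_) fun s t w => ?_).elim fun j hj =>
    nm_iff.2 (k.nm hn bot_le (ρ := e.symm.toMonoidHom) (j := j) e.symm.surjective fun g v => by
      obtain ⟨m, rfl⟩ := e.surjective g
      exact (hj m v).trans (by simp))
  · let U : Subgroup X :=
      { carrier := {u | u ∈ V ∧ π u ∈ Y}
        one_mem' := ⟨one_mem _, k.one ▸ zero_mem _⟩
        mul_mem' := fun a b => ⟨mul_mem a.1 b.1, k.mul _ a.1 _ b.1 ▸ add_mem a.2 b.2⟩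
        inv_mem' := fun a => ⟨inv_mem a.1, k.inv a.1 ▸ neg_mem a.2⟩ }
    rcases irr U (fun _ a => a.1) (by
      rintro _ ⟨m, rfl⟩
      exact mem_normalizer_of_conj_mem fun x hx => ⟨conj_mem_of_mem_normalizer (hn ⟨m, rfl⟩) hx.1, sm m x hx.1 ▸ hY m _ hx.2⟩) with e | e
    · refine .inl (eq_bot_iff.2 fun y hy => ?_)
      obtain ⟨u, hu, rfl⟩ := k.sur y
      exact (k.ker u hu).2 (e ▸ (⟨hu, hy⟩ : u ∈ U))
    · refine .inr (eq_top_iff.2 fun y _ => ?_)
      obtain ⟨u, hu, rfl⟩ := k.sur y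
      exact (show u ∈ U from e ▸ hu).2
  · rintro _ ⟨m, rfl⟩ u hu
    have := pi _ (conj_mem_of_mem_normalizer (hn ⟨m, rfl⟩) hu) _ hu ((sm m u hu).symm.trans (k1 m _))
    rw [mul_inv_eq_iff_eq_mul] at this
    exact this.symm
  · obtain ⟨u, hu, rfl⟩ := k.sur w
    have c1 : ⁅σ (tvU t), u⁆ ∈ ⁅V, (uT F).map σ⁆ :=
      comm_mem_symm.1 (commutator_mem_commutator hu ⟨_, mem_uT.2 ⟨t, rfl⟩, rfl⟩)
    have c2 := k.comm hn (e (tvU t)) hu
    have c3 : ⁅σ (tvU t), u⁆ ∈ V := commutator_le_of_le_normalizer ((map_le_range _ _).trans hn) c1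
    change π ⁅σ (tvU t), u⁆ = tvU t • π u - π u at c2
    rw [← c2, sm _ _ c3, h c1 _ ⟨_, mem_uT.2 ⟨s, rfl⟩, rfl⟩, mul_inv_cancel_right]

theorem main {G : Subgroup X} (e : G ≃* SL(2, F)) (hV : IsElementaryAbelian p V) (hn : G ≤ 𝐍 V)
    (irr : ∀ U ≤ V, G ≤ 𝐍 U → U = ⊥ ∨ U = V) (nt : ⁅V, G⁆ ≠ ⊥) (S : Sylow p G)
    (h : ⁅⁅V, (S : Subgroup G).map G.subtype⁆, (S : Subgroup G).map G.subtype⁆ = ⊥ ∨
      Nat.card V ≤ Nat.card ↥(V ⊓ 𝐂 ((S : Subgroup G).map G.subtype)) ^ 2) : ActsAsSL2OnSection F ⊤ G V ⊥ := by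
  have hS : IsSyl p ((S : Subgroup G).map e.toMonoidHom) ⊤ := by
    have := (isSyl_top S).map e.toMonoidHom
    rwa [map_top_of_surjective _ e.surjective] at this
  obtain ⟨m, -, hm⟩ := (isSyl_uT (F := F) (p := p)).exists_cj_eq hS
  let σ : SL(2, F) →* X := G.subtype.comp (e.symm.toMonoidHom.comp (MulAut.conj m).toMonoidHom)
  have inj : Function.Injective σ := G.subtype_injective.comp (e.symm.injective.comp (MulAut.conj m).injective)
  have hr : σ.range = G := by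
    rw [MonoidHom.range_comp, MonoidHom.range_eq_top.2 (e.symm.surjective.comp (MulAut.conj m).surjective),
      ← MonoidHom.range_eq_map, range_subtype]
  have hu : (uT F).map σ = (S : Subgroup G).map G.subtype := by
    rw [← Subgroup.map_map, ← Subgroup.map_map]
    congr 1
    change (cj m (uT F)).map _ = _
    rw [hm, Subgroup.map_map]; simp
  rw [← hu] at h
  clear_value σ
  clear hu hm hS S e
  subst hr
  have nt' : ¬ σ.range ≤ 𝐂 V := fun k => nt (commutator_eq_bot_iff'.2 k)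
  refine nat_of σ inj hV hn irr nt' (h.elim (fun k => le_centralizer_iff.1 (commutator_eq_bot_iff'.1 k))
    (quad_of_small σ hV hn irr fun k => nt' ?_))
  rintro _ ⟨m, rfl⟩
  have k1 : ∀ s, σ (tvU s) ∈ 𝐂 V := fun s => k ⟨_, mem_uT.2 ⟨s, rfl⟩, rfl⟩
  refine sl_ind (P := fun m => σ m ∈ 𝐂 V) k1 (fun s => ?_) (fun a b ha hb => map_mul σ a b ▸ mul_mem ha hb) m
  rw [eq_mul_inv_of_mul_eq (e3 s), map_mul, map_mul, map_inv]
  exact conj_mem_of_mem_normalizer (normalizer_le_normalizer_centralizer _ (hn ⟨_, rfl⟩)) (k1 _)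

end H118.QN
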