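import Cfsg.Agent.H18.LC1
import Cfsg.Agent.H4.FF
import Cfsg.Agent.H26.Four
import Cfsg.Agent.S0617

/-! Failure of factorization in solvable groups for the abelian Thompson subgroup. -/

set_option autoImplicit false
set_option linter.unusedSectionVars false
namespace H18.SF
open Subgroup H26 H4 Cfsg H118
open scoped commutatorElement

variable {G : Type*} [Group G] [Finite G] {p : ℕ} [hp : Fact p.Prime] {V H : Subgroup G}

theorem ex_tv (h : FF p V H) {A : Subgroup G} (hA : A ≤ H) (ab : IsMulCommutative A) (hP : IsPGroup p A) (h1 : A ≠ ⊥)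
    (ho : Nat.card V ≤ Nat.card A * Nat.card ↥(V ⊓ 𝐂 A)) : ∃ T ≤ A, Tv p V T := by
  obtain ⟨B, ⟨b1, b2⟩, hB⟩ := Set.Finite.exists_maximalFor (fun B : Subgroup G => Nat.card B * Nat.card ↥(V ⊓ 𝐂 B))
    {B | B ≤ A ∧ B ≠ ⊥} (Set.toFinite _) ⟨A, le_rfl, h1⟩
  have mx : ∀ B' ≤ A, Nat.card B' * Nat.card ↥(V ⊓ 𝐂 B') ≤ Nat.card B * Nat.card ↥(V ⊓ 𝐂 B) := fun B' c => by
    by_cases e : B' = ⊥
    · rw [e, centralizer_bot', inf_top_eq, card_bot, one_mul]
      exact ho.trans (le_of_not_gt fun k => (hB ⟨le_rfl, h1⟩ k.le).not_gt k)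
    · exact le_of_not_gt fun k => (hB ⟨c, e⟩ k.le).not_gt k
  have nB : B ≤ 𝐍 V := b1.trans (hA.trans h.nm)
  have aB : ⁅B, B⁆ = ⊥ := commutator_eq_bot_iff'.2 (comm_le_centralizer (H4.comm_mono ab b1))
  obtain ⟨e1, e2⟩ := replacement_eq h.ea.1 nB (aB.le.trans bot_le) (fun B' c => mx B' (c.trans b1)) le_rfl
  have q : ⁅⁅V, B ⊓ 𝐂 ⁅V, B⁆⁆, B ⊓ 𝐂 ⁅V, B⁆⁆ = ⊥ :=
    commutator_eq_bot_iff'.2 (inf_le_right.trans (centralizer_anti (commutator_mono le_rfl inf_le_left)))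
  obtain ⟨T, t1, t2⟩ := h.exists_tv (A := B ⊓ 𝐂 ⁅V, B⁆) (inf_le_left.trans (b1.trans hA))
    ⟨fun B' c => e2 ▸ mx B' (c.trans (inf_le_left.trans b1)), quadratic_commutator_le q,
      fun a ha => quadratic_pow_mem h.ea.2 (inf_le_left.trans nB) q ha⟩ fun e => b2 (by
      rw [e, centralizer_bot', inf_top_eq] at e1
      have c := commutator_le_of_le_normalizer nB
      refine h.eq_bot (b1.trans hA) (commutator_eq_bot_iff'.1 (eq_bot_of_le_commutator' (h.isP.to_le c)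
        (normalizer_commutator_ge_right _ _) (pow_mem_of_isPGroup (hP.to_le b1) _) ?_))
      conv_lhs => rw [e1]
      rw [commutator_sup_eq_of_comm h.ea.1 nB c inf_le_left, commutator_eq_bot_iff_le_centralizer.2
        (inf_le_right : V ⊓ 𝐂 B ≤ 𝐂 B), sup_bot_eq])
  exact ⟨T, t1.trans (inf_le_left.trans b1), t2⟩

theorem idx_le {W A : Subgroup G} (hW : IsElementaryAbelian p W) (hc : Nat.card W = p ^ 2) (hP : IsPGroup p A)
    (hn : A ≤ 𝐍 W) : Nat.card A ≤ p * Nat.card ↥(A ⊓ 𝐂 W) := by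
  have wp := isPGroup_of_isElementaryAbelian hW
  have w1 : W ≠ ⊥ := fun e => by
    rw [e, card_bot] at hc; exact absurd hc.symm (Nat.one_lt_pow two_ne_zero hp.out.one_lt).ne'
  have lt := commutator_lt_of_isPGroup wp hP hn w1
  have c1 : Nat.card ↥⁅W, A⁆ ≤ p := Nat.le_of_mul_le_mul_left ((mul_card_le_of_lt wp lt).trans_eq (hc.trans (sq p))) hp.out.pos
  by_cases e : ⁅W, A⁆ = ⊥
  · rw [inf_eq_left.2 (commutator_eq_bot_iff'.1 e)]; exact Nat.le_mul_of_pos_left _ hp.out.pos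
  have c2 : Nat.card ↥⁅W, A⁆ = p := le_antisymm c1 (Nat.le_of_dvd (H4.card_pos' _) (dvd_card_of_ne_bot (wp.to_le lt.le) e))
  have q : A ≤ 𝐂 ⁅W, A⁆ := commutator_eq_bot_iff'.1 ((eq_bot_or_eq_of_card c2 (commutator_le_of_le_normalizer
    (normalizer_commutator_ge_right _ _))).resolve_right (commutator_lt_of_isPGroup (wp.to_le lt.le) hP
      (normalizer_commutator_ge_right _ _) e).ne)
  obtain ⟨w, hw, hw'⟩ := SetLike.exists_of_lt lt
  have g : ⁅W, A⁆ ⊔ zpowers w = W := by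
    have l : ⁅W, A⁆ ⊔ zpowers w ≤ W := sup_le lt.le (zpowers_le.2 hw)
    have := mul_card_le_of_lt (wp.to_le l) (le_sup_left.lt_of_ne fun k => hw' (k ▸ mem_sup_right (mem_zpowers w)))
    exact eq_of_le_of_card_ge l (by rw [hc, sq]; rwa [c2] at this)
  let f : A →* ↥⁅W, A⁆ := MonoidHom.mk' (fun a => ⟨⁅w, (a : G)⁆, commutator_mem_commutator hw a.2⟩) fun a b =>
    Subtype.ext (by
      have := q a.2 _ (commutator_mem_commutator hw b.2)
      change ⁅w, (a : G) * b⁆ = ⁅w, (a : G)⁆ * ⁅w, (b : G)⁆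
      rw [commutatorElement_mul_right_eq_mul_conj, mul_assoc, mul_assoc, ← mul_assoc (a : G), ← this, mul_inv_cancel_right])
  have k : f.ker ≤ (A ⊓ 𝐂 W).subgroupOf A := fun a ha => ⟨a.2, by
    rw [← g, centralizer_sup']
    exact ⟨q a.2, mem_centralizer_zpowers.2 (commutatorElement_eq_one_iff_mul_comm.1 (congrArg Subtype.val ha))⟩⟩
  rw [← card_mul_index f.ker, mul_comm, index_ker]
  exact Nat.mul_le_mul ((card_le_card_group _).trans c2.le) ((card_le_of_le k).trans_eq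
    (Nat.card_congr (subgroupOfEquivOfLe inf_le_left).toEquiv))

theorem ab_off (h : FF p V H) (A : Subgroup G) : A ≤ H → IsMulCommutative A → IsPGroup p A →
    Nat.card V ≤ Nat.card A * Nat.card ↥(V ⊓ 𝐂 A) → A ≤ sSup {T | T ≤ A ∧ Tv p V T} := by
  induction A using WellFoundedLT.induction with | _ A ih => ?_
  intro hA ab hP ho
  by_cases h1 : A = ⊥
  · exact h1.le.trans bot_le
  obtain ⟨T, t1, t⟩ := ex_tv h hA ab hP h1 ho
  have tH := t1.trans hA
  have n := h.natSL tH t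
  have wV := h.comm_le (FF.ffE_le (p := p) tH)
  have nT : A ≤ 𝐍 T := le_normalizer_of_le_comm ab le_rfl t1
  have nW : A ≤ 𝐍 ⁅V, ffE p H T⁆ := le_normalizer_commutator (hA.trans h.nm) (le_normalizer_sup
    (le_normalizer_commutator (hA.trans (H17.le_normalizer_oQ p H)) nT) nT)
  have i := idx_le (isElementaryAbelian_mono h.ea wV) n.card hP nW
  set B := A ⊓ 𝐂 ⁅V, ffE p H T⁆
  have tB : ¬ T ≤ B := fun c => t.ne_bot (le_bot_iff.1 ((le_inf le_sup_right (c.trans inf_le_right)).trans_eq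
    (h.inf_ffE tH t)))
  have lt : B < A := inf_le_left.lt_of_ne fun e => tB (t1.trans e.ge)
  have l2 : V ⊓ 𝐂 A < V ⊓ 𝐂 B := (inf_le_inf_left _ (centralizer_anti lt.le)).lt_of_ne fun e => lt.ne
    (inf_eq_left.2 (le_centralizer_iff.1 ((le_inf wV (le_centralizer_iff.1 inf_le_right)).trans (e.ge.trans inf_le_right))))
  have l3 := mul_card_le_of_lt (h.isP.to_le inf_le_left) l2
  have e : T ⊔ B = A := eq_of_le_of_card_ge (sup_le t1 lt.le) (i.trans (mul_card_le_of_lt (hP.to_le (sup_le t1 lt.le))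
    (le_sup_right.lt_of_ne fun k => tB (k ▸ le_sup_left))))
  refine e.ge.trans (sup_le (le_sSup ⟨t1, t⟩) ((ih B lt (lt.le.trans hA) (H4.comm_mono ab lt.le) (hP.to_le lt.le)
    (ho.trans ?_)).trans (sSup_tv_mono lt.le)))
  calc _ ≤ p * Nat.card B * Nat.card ↥(V ⊓ 𝐂 A) := Nat.mul_le_mul_right _ i
    _ = Nat.card B * (p * Nat.card ↥(V ⊓ 𝐂 A)) := by ring
    _ ≤ _ := Nat.mul_le_mul_left _ l3

theorem prod_s3 (hV : IsElementaryAbelian 2 V) (hn : H ≤ 𝐍 V) (hf : H ⊓ 𝐂 V = ⊥)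
    (hs : 𝐂 (pPrimeCore 2 H) ≤ pPrimeCore 2 H) (g : H ≤ sSup {T | T ≤ H ∧ Tv 2 V T}) (h1 : H ≠ ⊥) :
    ∃ n : ℕ, 1 ≤ n ∧ Nonempty (H ≃* (Fin n → Equiv.Perm (Fin 3))) := by
  classical
  obtain ⟨-, a, b, c, -⟩ := Cfsg.Agent.S0617.result V H hV hn hf hs (le_antisymm (g.trans (sSup_le fun T t =>
    le_iSup_of_le ⟨T, t.1, t.2.best hV.1 (t.1.trans hn)⟩ le_rfl)) (iSup_le fun A => A.2.1)) h1
  have h := FF.of hV hn hf hs
  revert a b c
  set ι := {E : Subgroup G // ∃ A : Subgroup G, A ≤ H ∧ IsBestOffenderOn 2 V A ∧ ⁅V, A⁆ ≠ ⊥ ∧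
    (∀ B : Subgroup G, B ≤ A → IsBestOffenderOn 2 V B → ⁅V, B⁆ ≠ ⊥ → B = A) ∧
    E = ⁅((pPrimeCore 2 ↥H).map H.subtype), A⁆ ⊔ A}
  intro a b c
  letI : Fintype ι := Fintype.ofFinite ι
  have le : ∀ E : ι, E.1 ≤ H := fun E => (le_iSup (fun E : ι => E.1) E).trans c.le
  have cm : Pairwise fun E F : ι => ∀ x y : G, x ∈ E.1 → y ∈ F.1 → Commute x y := fun E F ne x y hx hy =>
    commutatorElement_eq_one_iff_commute.1 (mem_bot.1 ((b.pairwiseDisjoint ne).le_bot (le_inf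
      (commutator_le_of_le_normalizer ((le F).trans (a E).1)) (commutator_le_of_le_normalizer' ((le E).trans (a F).1))
        (commutator_mem_commutator hx hy))))
  have e : ∀ E : ι, Nonempty (E.1 ≃* Equiv.Perm (Fin 3)) := fun E => by
    obtain ⟨-, ⟨e⟩, c4⟩ := a E
    obtain ⟨A, a1, a2, a3, a4, a5⟩ := E.2
    have w := isElementaryAbelian_mono hV (h.comm_le (le E))
    obtain ⟨φ, hφ⟩ := Four.exists_hom (W := ⁅V, E.1⁆) ⟨c4, fun x hx => (sq x).symm.trans (w.2 x hx)⟩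
    refine H10.equiv_perm_of_injective (φ.comp (inclusion (normalizer_commutator_ge_right _ _)))
      ((injective_iff_map_eq_one _).2 fun x hx => Subtype.ext (mem_bot.1 ?_))
      (by rw [Nat.card_congr e.toEquiv, H10.card_SL2]; rfl)
    have k := h.inf_ffE a1 (h.tv_of_min a1 a2 a3 a4)
    rw [show ffE 2 H A = E.1 from a5.symm] at k
    exact k.le ⟨x.2, (hφ _).1 hx⟩
  refine ⟨Fintype.card ι, Fintype.card_pos_iff.2 ?_, ⟨?_⟩⟩
  · by_contra k
    haveI := not_nonempty_iff.1 k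
    exact h1 (c.symm.trans (iSup_of_empty _))
  · exact (((MonoidHom.ofInjective (injective_noncommPiCoprod_of_iSupIndep (hcomm := cm) b)).trans
      (MulEquiv.subgroupCongr ((noncommPiCoprod_range (hcomm := cm)).trans c))).symm.trans
      (MulEquiv.piCongrRight fun E => (e E).some)).trans (MulEquiv.arrowCongr (Fintype.equivFin ι) (MulEquiv.refl _))

theorem main [Group.IsSolvable G] (hC : CharPOf 2 (⊤ : Subgroup G)) {T : Subgroup G} (hT : IsSyl 2 T ⊤)
    (h1 : ¬ normalClosure (thompsonSubgroupOf 0 T : Set G) ≤ (𝐂 (T ⊓ 𝐂 T)).normalCore) :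
    ∃ n : ℕ, 1 ≤ n ∧ Nonempty (↥(normalClosure (thompsonSubgroupOf 0 T : Set G)) ⧸
      ((𝐂 (T ⊓ 𝐂 T)).normalCore).subgroupOf (normalClosure (thompsonSubgroupOf 0 T : Set G)) ≃*
        (Fin n → Equiv.Perm (Fin 3))) := by
  set Y := normalClosure (thompsonSubgroupOf 0 T : Set G)
  set Z := T ⊓ 𝐂 T
  let V := ncl Z ⊤
  have vO : V ≤ pCoreOf 2 ⊤ ⊓ 𝐂 (pCoreOf 2 (⊤ : Subgroup G)) := ncl_le (hC.center_le hT)
    (le_normalizer_inf (le_normalizer_pCoreOf _ _) (le_normalizer_centralizer (le_normalizer_pCoreOf _ _)))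
  have vc : V ≤ 𝐂 V := vO.trans (inf_le_right.trans (centralizer_anti (vO.trans inf_le_left)))
  have vp : IsPGroup 2 V := (isPGroup_pCoreOf _ _).to_le (vO.trans inf_le_left)
  let W := omegaOne 2 V
  have nW : ∀ A : Subgroup G, A ≤ 𝐍 W := fun A => le_normalizer_omegaOne le_normalizer_of_normal
  have we : IsElementaryAbelian 2 W := elemAb_omegaOne vc
  have wT : W ≤ T := (omegaOne_le _ _).trans ((vO.trans inf_le_left).trans hT.pCoreOf_le)
  have key : ∀ D : Subgroup G, D.Normal → pResidualOf 2 D ≤ 𝐂 W → D ≤ (𝐂 Z).normalCore := fun D _ hD => by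
    refine normal_le_normalCore.2 ((hT.inf_of_normal le_normalizer_of_normal le_top).le_of_pResidualOf_le
      (pResidualOf_le_iff.2 fun r hr ro => centralizer_anti (le_ncl Z ⊤) ?_)
      (inf_le_left.trans (le_centralizer_iff.1 inf_le_right)))
    haveI : IsMulCommutative V := comm_iff.2 fun a ha b hb => vc hb a ha
    obtain ⟨k, hk⟩ := vp.exists_card_eq
    have := H1.inf_centralizer_inf_commutator_eq_bot (V := V) (A := zpowers r) le_normalizer_of_normal
      (by rw [Nat.card_zpowers, hk]; exact ro.pow_right k)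
    have c := commutator_le_of_le_normalizer (H := V) (K := zpowers r) le_normalizer_of_normal
    refine zpowers_le.1 (commutator_eq_bot_iff'.1 (by_contra fun k => omegaOne_ne_bot (vp.to_le c) k
      (le_bot_iff.1 (le_trans (le_inf (le_inf ((omegaOne_le _ _).trans c) ?_) (omegaOne_le _ _)) this.le))))
    exact (omegaOne_mono c).trans (le_centralizer_iff.1 (zpowers_le.2 (hD (mem_pResidualOf hr ro))))
  haveI : W.Normal := normal_of_top_le_normalizer (nW ⊤)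
  have cW : (𝐂 Z).normalCore = 𝐂 W := le_antisymm ((le_centralizer_iff.1 (ncl_le_centralizer (le_centralizer_iff.1
    (normalCore_le _)) le_normalizer_of_normal)).trans (centralizer_anti (omegaOne_le _ _)))
    (key _ inferInstance (pResidualOf_le _ _))
  let φ : G →* Hol W := (aF W).comp ((MonoidHom.id G).codRestrict _ fun x => nW ⊤ (mem_top x))
  have fm : ∀ A : Subgroup G, mF W A = A.map φ := fun A => le_antisymm
    (fun x hx => by obtain ⟨a, ha, rfl⟩ := mem_mF.1 hx; exact ⟨a, ha, rfl⟩)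
    (by rintro _ ⟨a, ha, rfl⟩; exact aF_mem_mF ha)
  have fk : φ.ker = 𝐂 W := Subgroup.ext fun x => by
    change (⟨x, nW ⊤ trivial⟩ : 𝐍 W) ∈ (aF W).ker ↔ _
    rw [aF_ker]; rfl
  have nY : ∀ g, cj (φ g) (mF W Y) = mF W Y := fun g => by rw [fm, ← map_cj, cj_eq_of_normal]
  have o2 : pCore 2 (mF W Y) = ⊥ := by
    have : pCoreOf 2 (mF W Y) = ⊥ := by
      have nD : ((pCoreOf 2 (mF W Y)).comap φ).Normal := normal_of_top_le_normalizer (le_normalizer_comap φ
        (le_normalizer_pCoreOf_of_le (by rintro _ ⟨g, -, rfl⟩; exact H26.cj_eq_iff.1 (nY g))))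
      have := key _ nD (fk ▸ isPGroup_map_iff_pResidualOf_le.1 ((isPGroup_pCoreOf _ _).to_le (map_comap_le _ _)))
      refine (eq_bot_iff_forall _).2 fun x hx => ?_
      obtain ⟨y, -, rfl⟩ := (fm Y).le (pCoreOf_le _ _ hx)
      exact fk.ge (cW.le (this hx))
    exact (map_eq_bot_iff_of_injective _ (mF W Y).subtype_injective).1 this
  haveI : Group.IsSolvable (mF W Y) := Group.isSolvable_of_surjective (rF_surj (nW Y))
  have hs : 𝐂 (pPrimeCore 2 (mF W Y)) ≤ pPrimeCore 2 (mF W Y) :=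
    (centralizer_anti (H1.fitting_le_pPrimeCore o2)).trans ((H1.centralizer_fitting_le _).trans
      (H1.fitting_le_pPrimeCore o2))
  have hn : mF W Y ≤ 𝐍 (mI W W) := (mF_le_normalizer le_rfl (nW Y)).2 (nW Y)
  have h := FF.of (elemAb_mI we) hn (mF_faithful (nW Y)) hs
  obtain ⟨n, n1, e⟩ := prod_s3 (elemAb_mI we) hn (mF_faithful (nW Y)) hs (by
    have nK : ((sSup {T | T ≤ mF W Y ∧ Tv 2 (mI W W) T}).comap φ).Normal := by
      refine normal_of_top_le_normalizer (le_normalizer_comap φ (le_normalizer_iff_cj.2 ?_))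
      rintro _ ⟨g, -, rfl⟩
      refine H26.cj_le_iff.2 (sSup_le fun A hA => H26.cj_le_iff.1 (le_sSup ⟨(H26.cj_mono _ hA.1).trans (nY g).le, hA.2.conj ?_⟩))
      exact (mF_le_normalizer le_rfl (nW ⊤)).2 (nW ⊤) ((fm ⊤).ge ⟨g, trivial, rfl⟩)
    rw [fm Y, map_le_iff_le_comap, ← fm Y]
    refine normalClosure_le_normal (thompsonOf_le_iff.2 fun A hA => map_le_iff_le_comap.1 ?_)
    have aY : mF W A ≤ mF W Y := mF_mono ((MaxEA.le_thompsonOf hA).trans le_normalClosure)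
    rw [← fm]
    refine (ab_off h _ aY (fm A ▸ comm_map (MaxEA.comm hA) φ) (fm A ▸ (hT.isP.to_le (MaxEA.le hA)).map φ) ?_).trans
      (sSup_tv_mono aY)
    have := MaxEA.best hA wT (elemAb_zero.2 we.1) (A ⊓ 𝐂 W) inf_le_left
    rw [inf_eq_left.2 (le_centralizer_iff.1 inf_le_right), ← card_mF (nW A), mul_right_comm, mul_comm] at this
    rw [← mI_inf_centralizer le_rfl (nW A), card_mI le_rfl, card_mI inf_le_left]
    exact Nat.le_of_mul_le_mul_right this (H4.card_pos' _)) fun e => h1 (cW ▸ (mF_eq_bot (nW Y)).1 e)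
  obtain ⟨_, ⟨e⟩⟩ := quot_mF (nW Y) e
  exact ⟨n, n1, ⟨(QuotientGroup.quotientMulEquivOfEq (by rw [cW])).trans e⟩⟩

end H18.SF
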