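import Cfsg.Agent.H18.BK3
import Cfsg.Agent.H21.Extra
import Cfsg.Agent.H16.Q8Aut
import Cfsg.Agent.H17.Gen
import Cfsg.Agent.H20.G3
/-! A noncyclic abelian group of odd prime power order acting on a `2`-group with at most one involution fixed by each
element. -/
set_option autoImplicit false
set_option linter.unusedSectionVars false
namespace H118.TQ
open Subgroup H26 H4 Cfsg
open scoped commutatorElement Pointwise

variable {G : Type*} [Group G] [Finite G] {p : ℕ} [hp : Fact p.Prime] {W E D Z : Subgroup G} {e f : G}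

theorem card_sup_le (h1 : Nat.card Z = 2) (h2 : ⁅W, W⁆ ≤ Z) (h3 : Z ≤ W) (s : Finset (Subgroup G))
    (h : ∀ X ∈ s, Z ≤ X ∧ X ≤ W ∧ Nat.card X ≤ 8) : Nat.card ↥(s.sup id ⊔ Z) ≤ 2 * 4 ^ s.card := by
  classical
  induction s using Finset.induction_on with
  | empty => simp [h1]
  | insert X s hX ih =>
    obtain ⟨x1, x2, x3⟩ := h X (Finset.mem_insert_self _ _)
    have k := fun Y hY => h Y (Finset.mem_insert_of_mem hY)
    have k1 : s.sup id ⊔ Z ≤ W := sup_le (Finset.sup_le fun Y hY => (k Y hY).2.1) h3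
    have k2 := card_sup_mul_card_inf (H := X) (K := s.sup id ⊔ Z) (x2.trans (le_normalizer_of_commutator_le
      ((commutator_mono k1 le_rfl).trans (h2.trans le_sup_right))))
    have k3 := card_le_of_le (le_inf x1 (le_sup_right : Z ≤ s.sup id ⊔ Z))
    have := ih k
    rw [Finset.sup_insert, Finset.card_insert_of_notMem hX, id, sup_assoc, pow_succ]
    nlinarith

/-- the hypotheses -/
structure HH (p : ℕ) (W E : Subgroup G) : Prop where
  hW : IsPGroup 2 W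
  hE : IsPGroup p E
  p2 : p ≠ 2
  nm : E ≤ 𝐍 W
  ab : E ≤ 𝐂 E
  nc : ¬ IsCyclic E
  fa : E ⊓ 𝐂 W = ⊥
  fx : ∀ e ∈ E, e ≠ 1 → ∀ v ∈ W ⊓ centralizer {e}, ∀ w ∈ W ⊓ centralizer {e}, orderOf v = 2 → orderOf w = 2 → v = w

theorem ce_le (he : e ∈ E) : 𝐂 E ≤ centralizer {e} := centralizer_le (Set.singleton_subset_iff.2 he)

namespace HH
variable (h : HH p W E)
include h

theorem gen (h1 : D ≤ W) (h2 : E ≤ 𝐍 D) {X : Subgroup G} (k : ∀ e ∈ E, e ≠ 1 → D ⊓ centralizer {e} ≤ X) : D ≤ X := by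
  haveI : Fact (Nat.Prime 2) := ⟨Nat.prime_two⟩
  haveI := (h.hW.to_le h1).isNilpotent
  exact H17.le_of_elt h.ab h.nc ⟨h2, IsPGroup.coprime_card_of_ne p 2 h.p2 _ _ h.hE (h.hW.to_le h1),
    .inr (inferInstance : Group.IsSolvable D)⟩ k

theorem nC (he : e ∈ E) : E ≤ 𝐍 (W ⊓ centralizer {e}) := le_normalizer_inf h.nm <| by
  rw [← centralizer_zpowers]; exact le_normalizer_centralizer (le_normalizer_of_le_centralizer (h.ab.trans
    (centralizer_le (zpowers_le.2 he))))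

theorem big (he : e ∈ E) (e1 : e ≠ 1) (k : ¬ W ⊓ centralizer {e} ≤ 𝐂 E) :
    p = 3 ∧ ∃ x y, H9.QData (W ⊓ centralizer {e}) 2 x y := by
  obtain ⟨g, hg, g1⟩ := SetLike.not_le_iff_exists.1 fun k1 : E ≤ _ => k (le_centralizer_iff.1 k1)
  obtain ⟨n, hn⟩ := IsPGroup.iff_orderOf.1 h.hE ⟨g, hg⟩
  rw [← orderOf_coe] at hn
  have := H16.commute_of_two_group (h.hW.to_le inf_le_left) (H9.isCyclic_or_qData (h.hW.to_le inf_le_left) (h.fx e he e1))
    (h.nC he hg) (hn ▸ (hp.out.odd_of_ne_two h.p2).pow)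
  obtain ⟨k1, k2⟩ := this.resolve_left g1
  exact ⟨((Nat.prime_dvd_prime_iff_eq Nat.prime_three hp.out).1 (Nat.prime_three.dvd_of_dvd_pow (hn ▸ k1))).symm, k2⟩

theorem exists_big : ∃ e ∈ E, e ≠ 1 ∧ ¬ W ⊓ centralizer {e} ≤ 𝐂 E := by
  by_contra! k
  have : E = ⊥ := h.fa ▸ (inf_eq_left.2 (le_centralizer_iff.1 (h.gen le_rfl h.nm k))).symm
  exact h.nc (this ▸ inferInstance)

theorem p3 : p = 3 := h.exists_big.elim fun _ k => (h.big k.1 k.2.1 k.2.2).1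

theorem c8 (he : e ∈ E) (e1 : e ≠ 1) (k : ¬ W ⊓ centralizer {e} ≤ 𝐂 E) : Nat.card ↥(W ⊓ centralizer {e}) = 8 :=
  (h.big he e1 k).2.elim fun _ k => k.elim fun _ k => k.card_eq

omit h in
theorem div8 {n : ℕ} (h1 : n ∣ 8) (h2 : n ≡ 2 [MOD 3]) : n = 2 ∨ n = 8 := by
  have := Nat.le_of_dvd (by norm_num) h1
  interval_cases n <;> simp_all [Nat.ModEq]

theorem md {A : Subgroup G} (hA : A ≤ E) (h2 : A ≤ 𝐍 D) : Nat.card D ≡ Nat.card ↥(D ⊓ 𝐂 A) [MOD 3] :=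
  h.p3 ▸ H20.G3.card_mod (h.hE.to_le hA) h2

theorem cZ : Nat.card ↥(W ⊓ 𝐂 E) = 2 := by
  obtain ⟨e, he, e1, k⟩ := h.exists_big
  have k1 := h.md le_rfl (h.nC he)
  have k2 := card_dvd_of_le (inf_le_left : W ⊓ centralizer {e} ⊓ 𝐂 E ≤ _)
  rw [h.c8 he e1 k] at k1 k2
  rw [← inf_eq_right.2 (ce_le he), ← inf_assoc]
  exact (div8 k2 k1.symm).resolve_right fun e => k
    ((eq_of_le_of_card_ge inf_le_left (e.trans (h.c8 he e1 k).symm).ge).ge.trans inf_le_right)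

theorem irr (he : e ∈ E) (e1 : e ≠ 1) (h1 : D ≤ W) (h2 : E ≤ 𝐍 D) (h3 : W ⊓ 𝐂 E ≤ D) (k : ¬ D ⊓ centralizer {e} ≤ W ⊓ 𝐂 E) :
    W ⊓ centralizer {e} ≤ D := by
  have k0 : ¬ W ⊓ centralizer {e} ≤ 𝐂 E := fun k1 => k (le_inf (inf_le_left.trans h1) ((inf_le_inf_right _ h1).trans k1))
  have k1 := h.md le_rfl (le_normalizer_inf h2 (h.nC he))
  have k2 := card_dvd_of_le (inf_le_right : D ⊓ (W ⊓ centralizer {e}) ≤ _)
  rw [show D ⊓ (W ⊓ centralizer {e}) ⊓ 𝐂 E = W ⊓ 𝐂 E from le_antisymm (inf_le_inf_right _ (inf_le_left.trans h1))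
    (le_inf (le_inf h3 (inf_le_inf_left _ (ce_le he))) inf_le_right), h.cZ] at k1
  rw [h.c8 he e1 k0] at k2
  rcases div8 k2 k1 with e | e
  · exact absurd ((le_inf inf_le_left (inf_le_inf_right _ h1)).trans (eq_of_le_of_card_ge
      (le_inf h3 (inf_le_inf_left _ (ce_le he))) (e.trans h.cZ.symm).le).ge) k
  · exact (eq_of_le_of_card_ge inf_le_right (e.trans (h.c8 he e1 k0).symm).ge).ge.trans inf_le_left

theorem nab (he : e ∈ E) (e1 : e ≠ 1) (k : ¬ W ⊓ centralizer {e} ≤ 𝐂 E) : ¬ W ⊓ centralizer {e} ≤ 𝐂 (W ⊓ centralizer {e}) :=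
  fun k1 => by
    obtain ⟨-, x, y, q⟩ := h.big he e1 k
    have := q.inv
    rw [k1 q.xmem y q.ymem, mul_inv_cancel_right, eq_inv_iff_mul_eq_one] at this
    exact q.x_mul_x_ne_one le_rfl this

theorem ZW : W ≤ 𝐂 (W ⊓ 𝐂 E) := by
  haveI : Fact (Nat.Prime 2) := ⟨Nat.prime_two⟩
  obtain ⟨z, hz⟩ := exists_zpowers_eq_of_card h.cZ
  have z2 : orderOf z = 2 := by rw [← Nat.card_zpowers, hz, h.cZ]
  have zm : z ∈ W ⊓ 𝐂 E := hz ▸ mem_zpowers z
  rw [← hz, centralizer_zpowers]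
  refine h.gen le_rfl h.nm fun e he e1 w hw => ?_
  have k : z ∈ W ⊓ centralizer {e} := ⟨zm.1, ce_le he zm.2⟩
  have := h.fx e he e1 _ (mul_mem (mul_mem hw k) (inv_mem hw)) _ k (((MulAut.conj w).orderOf_eq z).trans z2) z2
  exact mem_centralizer_singleton_iff.2 (mul_inv_eq_iff_eq_mul.1 this)

theorem der : ⁅W, W⁆ ≤ W ⊓ 𝐂 E := by
  haveI : Fact (Nat.Prime 2) := ⟨Nat.prime_two⟩
  by_contra k
  have U1 : ⁅W, W⁆ ⊔ W ⊓ 𝐂 E ≤ W := sup_le (commutator_le_of_le_normalizer le_normalizer) inf_le_left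
  have nZ : W ≤ 𝐍 (W ⊓ 𝐂 E) := le_normalizer_of_le_centralizer h.ZW
  have eZ : E ≤ 𝐍 (W ⊓ 𝐂 E) := le_normalizer_inf h.nm (le_normalizer_centralizer le_normalizer)
  obtain ⟨w, w1, w2, w3⟩ := exists_fix_mod (h.hW.to_le U1) h.hW
    (le_normalizer_sup (le_normalizer_commutator_left _ _) nZ) nZ (U1.trans nZ) fun e => k (le_sup_left.trans e)
  set D := (⁅W, W⁆ ⊔ W ⊓ 𝐂 E) ⊓ commStab (W : Set G) (W ⊓ 𝐂 E)
  have d1 : ⁅D, W⁆ ≤ 𝐂 W := (le_commStab_iff.1 inf_le_right).2.trans (le_centralizer_iff.1 h.ZW)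
  have d2 : D ≤ 𝐂 D := by
    have := three_subgroups_centralizer (A := W) (B := W) (C := D) (commutator_comm D W ▸ d1) d1
    exact (le_inf (le_centralizer_iff.1 this) ((inf_le_left.trans U1).trans h.ZW)).trans
      ((centralizer_sup' _ _).ge.trans (centralizer_le inf_le_left))
  have d3 : E ≤ 𝐍 D := le_normalizer_inf (le_normalizer_sup (le_normalizer_commutator h.nm h.nm) eZ)
    (le_normalizer_commStab h.nm eZ)
  have d4 : W ⊓ 𝐂 E ≤ D := le_inf le_sup_right (le_commStab_iff.2 ⟨le_normalizer, (commutator_eq_bot_iff'.2 h.ZW).le.trans bot_le⟩)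
  refine w2 (h.gen (D := D) (inf_le_left.trans U1) d3 (fun e he e1 => by_contra fun k1 => ?_) ⟨w1, nZ (U1 w1), w3⟩)
  have := h.irr he e1 (inf_le_left.trans U1) d3 d4 k1
  exact h.nab he e1 (fun k2 => k1 (le_inf (inf_le_left.trans (inf_le_left.trans U1))
    ((inf_le_inf_right _ (inf_le_left.trans U1)).trans k2))) (this.trans (d2.trans (centralizer_le this)))

theorem cen : W ⊓ 𝐂 W = W ⊓ 𝐂 E := by
  have d3 : E ≤ 𝐍 (W ⊓ 𝐂 W) := le_normalizer_inf h.nm (le_normalizer_centralizer h.nm)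
  have d4 : W ⊓ 𝐂 E ≤ W ⊓ 𝐂 W := le_inf inf_le_left (le_centralizer_iff.1 h.ZW)
  refine le_antisymm (h.gen inf_le_left d3 fun e he e1 => by_contra fun k1 => ?_) d4
  exact h.nab he e1 (fun k2 => k1 (le_inf (inf_le_left.trans inf_le_left) ((inf_le_inf_right _ inf_le_left).trans k2)))
    ((h.irr he e1 inf_le_left d3 d4 k1).trans (inf_le_right.trans (centralizer_le inf_le_left)))

theorem nW (he : e ∈ E) (e1 : e ≠ 1) : ¬ W ≤ centralizer {e} := fun k =>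
  e1 (mem_bot.1 (h.fa ▸ (⟨he, fun w hw => mem_centralizer_singleton_iff.1 (k hw)⟩ : e ∈ E ⊓ 𝐂 W)))

theorem idx (he : e ∈ E) (e1 : e ≠ 1) (k : ¬ W ⊓ centralizer {e} ≤ 𝐂 E) : (𝐂 (W ⊓ centralizer {e})).relIndex E ≤ 3 := by
  obtain ⟨p3, x, y, q⟩ := h.big he e1 k
  have k1 : (centralizer {x}).relIndex E ≤ Nat.card ↥(W ⊓ centralizer {e}) := by
    classical
    refine rel_le_card (fun a => if ha : a ∈ E then ⟨_, conj_mem_of_mem_normalizer (h.nC he ha) q.xmem⟩ else 1)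
      fun a ha b hb e => mem_centralizer_singleton_iff.2 ?_
    simp only [dif_pos ha, dif_pos hb, Subtype.mk.injEq] at e
    calc a⁻¹ * b * x = a⁻¹ * (b * x * b⁻¹) * b := by group
      _ = x * (a⁻¹ * b) := by rw [← e]; group
  obtain ⟨n, hn⟩ := h.hE.index ((centralizer {x}).subgroupOf E)
  have k2 : E ⊓ centralizer {x} ≤ 𝐂 (W ⊓ centralizer {e}) := by
    have m1 := h.md (A := E ⊓ centralizer {x}) inf_le_left (inf_le_left.trans (h.nC he))
    have m2 := card_dvd_of_le (inf_le_left : W ⊓ centralizer {e} ⊓ 𝐂 (E ⊓ centralizer {x}) ≤ _)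
    have m3 := orderOf_dvd_card_of_mem (show x ∈ W ⊓ centralizer {e} ⊓ 𝐂 (E ⊓ centralizer {x}) from
      ⟨q.xmem, fun a ha => mem_centralizer_singleton_iff.1 ha.2⟩)
    rw [h.c8 he e1 k] at m1 m2
    rcases div8 m2 m1.symm with e | e
    · rw [e, q.ordx] at m3; omega
    · exact le_centralizer_iff.1 ((eq_of_le_of_card_ge inf_le_left (e.trans (h.c8 he e1 k).symm).ge).ge.trans inf_le_right)
  refine (relIndex_le_of_le_left k2 (index_ne_zero_of_finite)).trans ?_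
  rw [inf_relIndex_left]
  rw [h.c8 he e1 k, relIndex, hn, p3] at k1
  rw [relIndex, hn, p3]
  rcases n with _ | _ | n
  · norm_num
  · norm_num
  · have := pow_pos (show 0 < 3 by norm_num) n
    rw [pow_succ, pow_succ] at k1; omega

theorem c9 : Nat.card E = 9 := by
  obtain ⟨e, he, e1, k⟩ := h.exists_big
  obtain ⟨f, hf, f1, k1⟩ : ∃ f ∈ E, f ≠ 1 ∧ ¬ W ⊓ centralizer {f} ≤ W ⊓ centralizer {e} := by
    by_contra! k1
    exact h.nW he e1 ((h.gen le_rfl h.nm k1).trans inf_le_right)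
  have k2 : ¬ W ⊓ centralizer {f} ≤ 𝐂 E := fun k2 => k1 (le_inf inf_le_left (k2.trans (ce_le he)))
  have k3 : 𝐂 (W ⊓ centralizer {e}) ⊓ 𝐂 (W ⊓ centralizer {f}) ⊓ E = ⊥ := eq_bot_iff.2 fun g hg => by_contra fun g1 => by
    have m : ∀ a ∈ E, a ≠ 1 → ¬ W ⊓ centralizer {a} ≤ 𝐂 E → g ∈ 𝐂 (W ⊓ centralizer {a}) →
        W ⊓ centralizer {a} = W ⊓ centralizer {g} := fun a ha a1 m1 m2 => by
      have m3 : W ⊓ centralizer {a} ≤ W ⊓ centralizer {g} := fun w hw => ⟨hw.1, mem_centralizer_singleton_iff.2 (m2 w hw)⟩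
      exact eq_of_le_of_card_ge m3 ((h.c8 hg.2 g1 fun m4 => m1 (m3.trans m4)).trans (h.c8 ha a1 m1).symm).le
    exact k1 ((m f hf f1 k2 hg.1.2).trans (m e he e1 k hg.1.1).symm).le
  have k4 := card_mul_relIndex (𝐂 (W ⊓ centralizer {e}) ⊓ 𝐂 (W ⊓ centralizer {f})) E
  have k5 := (relIndex_inf_le (H := 𝐂 (W ⊓ centralizer {e})) (K := 𝐂 (W ⊓ centralizer {f})) (L := E)).trans
    (Nat.mul_le_mul (h.idx he e1 k) (h.idx hf f1 k2))
  rw [k3, card_bot, one_mul] at k4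
  obtain ⟨n, hn⟩ := h.hE.exists_card_eq
  rw [k4, hn, h.p3] at k5
  rcases n with _ | _ | _ | n
  · exact absurd (isCyclic_of_card_dvd_prime (p := p) (by simp [hn])) h.nc
  · exact absurd (isCyclic_of_card_dvd_prime (p := p) (by simp [hn])) h.nc
  · rw [hn, h.p3]; rfl
  · have := pow_pos (show 0 < 3 by norm_num) n
    rw [pow_succ, pow_succ, pow_succ] at k5; omega

theorem cW : Nat.card W ≤ 2 ^ 9 := by
  classical
  let s : Finset G := (Set.toFinite (E : Set G)).toFinset.erase 1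
  have ms : ∀ e, e ∈ s ↔ e ≠ 1 ∧ e ∈ E := fun e => by simp [s]
  have cs : s.card = 8 := by
    rw [Finset.card_erase_of_mem (by simp), ← Set.ncard_eq_toFinset_card, ← Nat.card_coe_set_eq]
    exact congrArg (· - 1) h.c9
  have k1 := Finset.mul_card_image_le_card (f := fun e => W ⊓ centralizer {e}) s 2 fun X hX => by
    obtain ⟨e, he, rfl⟩ := Finset.mem_image.1 hX
    have := (ms e).1 he
    refine Finset.one_lt_card.2 ⟨e, by simp [he], e⁻¹, ?_, fun k => this.1 ?_⟩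
    · rw [Finset.mem_filter, ms, ← centralizer_zpowers, zpowers_inv, centralizer_zpowers]
      exact ⟨⟨inv_ne_one.2 this.1, inv_mem this.2⟩, rfl⟩
    · have m1 := orderOf_dvd_card_of_mem this.2
      have m2 : orderOf e ∣ 2 := orderOf_dvd_of_pow_eq_one (by rw [pow_two, ← eq_inv_iff_mul_eq_one, ← k])
      rw [h.c9] at m1
      exact orderOf_eq_one_iff.1 (Nat.eq_one_of_dvd_coprimes (by norm_num) m1 m2)
  have k2 := card_sup_le h.cZ h.der inf_le_left (s.image fun e => W ⊓ centralizer {e}) fun X hX => by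
    obtain ⟨e, he, rfl⟩ := Finset.mem_image.1 hX
    have := (ms e).1 he
    refine ⟨inf_le_inf_left _ (ce_le this.2), inf_le_left, ?_⟩
    by_cases k : W ⊓ centralizer {e} ≤ 𝐂 E
    · exact (card_le_of_le (le_inf inf_le_left k)).trans (by rw [h.cZ]; norm_num)
    · exact (h.c8 this.2 this.1 k).le
  have k3 := card_le_of_le (h.gen le_rfl h.nm fun e he e1 => le_sup_of_le_left (b := W ⊓ 𝐂 E)
    (Finset.le_sup (f := id) (Finset.mem_image_of_mem (fun e => W ⊓ centralizer {e}) ((ms e).2 ⟨e1, he⟩))))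
  have k4 := Nat.pow_le_pow_right (show 0 < 4 by norm_num) (show (s.image fun e => W ⊓ centralizer {e}).card ≤ 4 by omega)
  omega

theorem main : IsExtraspecial 2 W ∧ (Nat.card W = 2 ^ 5 ∨ Nat.card W = 2 ^ 7 ∨ Nat.card W = 2 ^ 9) := by
  obtain ⟨e, he, e1, k⟩ := h.exists_big
  have es : H21.ES 2 W := ⟨h.cen ▸ h.cZ, h.der.trans (le_centralizer_iff.1 h.ZW)⟩
  refine ⟨(H21.isExtraspecial_iff Nat.prime_two).2 ⟨es, fun a => h.nab he e1 k
    (inf_le_left.trans (a.trans (centralizer_le inf_le_left)))⟩, ?_⟩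
  obtain ⟨n, hn⟩ := es.exists_card Nat.prime_two
  have k1 := card_lt_of_lt (lt_of_le_of_ne (inf_le_left : W ⊓ centralizer {e} ≤ W) fun m => h.nW he e1 (m.ge.trans inf_le_right))
  have k2 := h.cW
  rw [h.c8 he e1 k, hn] at k1
  rw [hn] at k2 ⊢
  have k3 := (Nat.pow_le_pow_iff_right (by norm_num)).1 k2
  have k4 := (Nat.pow_lt_pow_iff_right (a := 2) (n := 3) (by norm_num)).1 k1
  have : n = 2 ∨ n = 3 ∨ n = 4 := by omega
  rcases this with rfl | rfl | rfl <;> simp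

end HH
end H118.TQ
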